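import Mathlib.RingTheory.Unramified.Finite
import Mathlib.RingTheory.Flat.Stability
import Mathlib.RingTheory.Etale.Basic
import Mathlib.RingTheory.Smooth.Flat

set_option autoImplicit false

namespace Groth.Agent.H7

open TensorProduct

section

variable {R T : Type*} [CommRing R] [CommRing T] [Algebra R T]
variable (M : Type*) [AddCommGroup M] [Module R M] [Module T M] [IsScalarTower R T M]

/-- `a ⊗ b ↦ (m ↦ a ⊗ b • m)`. -/
noncomputable def tensorAct : T ⊗[R] T →ₗ[R] (M →ₗ[R] T ⊗[R] M) :=
  TensorProduct.lift
    { toFun := fun a =>
        { toFun := fun b =>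
            { toFun := fun m => a ⊗ₜ[R] (b • m)
              map_add' := fun m m' => by rw [smul_add, tmul_add]
              map_smul' := fun r m => by
                simp only [RingHom.id_apply]
                rw [smul_comm, tmul_smul] }
          map_add' := fun b b' => by
            ext m
            simp only [LinearMap.coe_mk, AddHom.coe_mk, LinearMap.add_apply]
            rw [add_smul, tmul_add]
          map_smul' := fun r b => by
            ext m
            simp only [LinearMap.coe_mk, AddHom.coe_mk, RingHom.id_apply, LinearMap.smul_apply]
            rw [smul_assoc, tmul_smul] }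
      map_add' := fun a a' => by
        ext b m
        simp only [LinearMap.coe_mk, AddHom.coe_mk, LinearMap.add_apply]
        rw [add_tmul]
      map_smul' := fun r a => by
        ext b m
        simp only [LinearMap.coe_mk, AddHom.coe_mk, RingHom.id_apply, LinearMap.smul_apply]
        rw [smul_tmul'] }

@[simp]
lemma tensorAct_tmul (a b : T) (m : M) : tensorAct (R := R) M (a ⊗ₜ b) m = a ⊗ₜ[R] (b • m) := rfl

lemma tensorAct_mul_one_tmul (x : T ⊗[R] T) (s : T) (m : M) :
    tensorAct M (x * (1 ⊗ₜ s)) m = tensorAct M x (s • m) := by
  induction x using TensorProduct.induction_on with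
  | zero => simp
  | tmul a b =>
    simp only [Algebra.TensorProduct.tmul_mul_tmul, mul_one, tensorAct_tmul, mul_smul]
  | add x y hx hy => simp only [add_mul, map_add, LinearMap.add_apply, hx, hy]

lemma tensorAct_mul_tmul_one (x : T ⊗[R] T) (s : T) (m : M) :
    tensorAct M (x * (s ⊗ₜ 1)) m = s • tensorAct M x m := by
  induction x using TensorProduct.induction_on with
  | zero => simp
  | tmul a b =>
    simp only [Algebra.TensorProduct.tmul_mul_tmul, mul_one, tensorAct_tmul]
    rw [TensorProduct.smul_tmul', smul_eq_mul, mul_comm]
  | add x y hx hy => simp only [add_mul, map_add, LinearMap.add_apply, hx, hy, smul_add]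

lemma liftBaseChange_tensorAct (x : T ⊗[R] T) (m : M) :
    LinearMap.liftBaseChange T (LinearMap.id (R := R) (M := M)) (tensorAct M x m) =
      Algebra.TensorProduct.lmul' R x • m := by
  induction x using TensorProduct.induction_on with
  | zero => simp
  | tmul a b =>
    simp only [tensorAct_tmul, LinearMap.liftBaseChange_tmul, LinearMap.id_coe, id_eq,
      Algebra.TensorProduct.lmul'_apply_tmul, mul_smul]
  | add x y hx hy => simp only [map_add, LinearMap.add_apply, hx, hy, add_smul]

/-- A module over an unramified algebra (essentially of finite type) which is flat over the base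
is flat over the algebra. -/
theorem flat_of_flat_of_formallyUnramified [Algebra.FormallyUnramified R T]
    [Algebra.EssFiniteType R T] [Module.Flat R M] : Module.Flat T M := by
  let t := Algebra.FormallyUnramified.elem R T
  let i : M →ₗ[T] T ⊗[R] M :=
    { toFun := fun m => tensorAct M t m
      map_add' := fun m m' => map_add _ _ _
      map_smul' := fun s m => by
        simp only [RingHom.id_apply]
        rw [← tensorAct_mul_one_tmul, mul_comm, Algebra.FormallyUnramified.one_tmul_mul_elem,
          mul_comm, tensorAct_mul_tmul_one] }
  refine Module.Flat.of_retract (R := T) (M := T ⊗[R] M) i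
    (LinearMap.liftBaseChange T (LinearMap.id (R := R) (M := M))) ?_
  ext m
  simp only [LinearMap.coe_comp, Function.comp_apply, LinearMap.id_coe, id_eq]
  change LinearMap.liftBaseChange T LinearMap.id (tensorAct M t m) = m
  rw [liftBaseChange_tensorAct, Algebra.FormallyUnramified.lmul_elem, one_smul]

end

end Groth.Agent.H7
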