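import Mathlib

/-!
# Smooth / étale near a point versus standard smooth / standard étale charts over a given affine
-/

set_option autoImplicit false
universe u
open AlgebraicGeometry CategoryTheory Limits

namespace Groth.Agent.H7

/-- Sections of `U.ι ≫ f` over the whole of `U`, in terms of `f.appLE`. -/
theorem ι_comp_appLE_top {X S : Scheme.{u}} (f : X ⟶ S) (U : X.Opens) (V : S.Opens)
    (e : U ≤ f ⁻¹ᵁ V) (e' : (⊤ : U.toScheme.Opens) ≤ (U.ι ≫ f) ⁻¹ᵁ V) :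
    (U.ι ≫ f).appLE V ⊤ e' = f.appLE V U e ≫ U.topIso.inv := by
  rw [← Scheme.Hom.appLE_comp_appLE U.ι f V U ⊤ e (by simp), Scheme.Opens.ι_appLE]
  rfl

theorem mem_basicOpen_iff_notMem_primeIdealOf {X : Scheme.{u}} {U : X.Opens} (hU : IsAffineOpen U)
    (x : X) (hx : x ∈ U) (g : Γ(X, U)) :
    x ∈ X.basicOpen g ↔ g ∉ (hU.primeIdealOf ⟨x, hx⟩).asIdeal := by
  have h1 : hU.fromSpec (hU.primeIdealOf ⟨x, hx⟩) = x := hU.fromSpec_primeIdealOf ⟨x, hx⟩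
  have h2 := hU.fromSpec_preimage_basicOpen g
  constructor
  · intro h
    have h3 : hU.primeIdealOf ⟨x, hx⟩ ∈ hU.fromSpec ⁻¹ᵁ X.basicOpen g := by
      change hU.fromSpec (hU.primeIdealOf ⟨x, hx⟩) ∈ X.basicOpen g
      rw [h1]; exact h
    rw [h2] at h3
    exact h3
  · intro h
    have h3 : hU.primeIdealOf ⟨x, hx⟩ ∈ hU.fromSpec ⁻¹ᵁ X.basicOpen g := by
      rw [h2]; exact h
    have h4 : hU.fromSpec (hU.primeIdealOf ⟨x, hx⟩) ∈ X.basicOpen g := h3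
    rwa [h1] at h4


theorem exists_isStandardSmooth_appLE_of_smooth_nhd {X S : Scheme.{u}} (f : X ⟶ S) (x : X)
    (V : S.Opens) (hV : IsAffineOpen V) (hxV : f x ∈ V) (W : X.Opens) (hxW : x ∈ W)
    [Smooth (W.ι ≫ f)] :
    ∃ (U : X.Opens) (_ : IsAffineOpen U) (_ : x ∈ U) (e : U ≤ f ⁻¹ᵁ V),
      (f.appLE V U e).hom.IsStandardSmooth := by
  obtain ⟨_, ⟨U₀', hU₀', rfl⟩, hxU₀', hU₀W'⟩ := X.isBasis_affineOpens.exists_subset_of_mem_open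
    (show x ∈ W ⊓ f ⁻¹ᵁ V from ⟨hxW, hxV⟩) (W ⊓ f ⁻¹ᵁ V).2
  obtain ⟨U₀, hU₀, hxU₀, hU₀W⟩ : ∃ U₀ : X.Opens, IsAffineOpen U₀ ∧ x ∈ U₀ ∧ U₀ ≤ W ⊓ f ⁻¹ᵁ V :=
    ⟨U₀', hU₀', hxU₀', hU₀W'⟩
  clear hxU₀' hU₀W' hU₀'
  have hW : U₀ ≤ W := fun y hy ↦ (hU₀W hy).1
  have e₀ : U₀ ≤ f ⁻¹ᵁ V := fun y hy ↦ (hU₀W hy).2
  have hsm : Smooth (U₀.ι ≫ f) := by
    rw [← X.homOfLE_ι hW, Category.assoc]
    infer_instance
  have : IsAffine U₀.toScheme := hU₀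
  have hQ := HasRingHomProperty.appLE @Smooth (U₀.ι ≫ f) hsm ⟨V, hV⟩ ⟨⊤, isAffineOpen_top _⟩
    (by rw [Scheme.Hom.comp_preimage]; intro y _; exact e₀ y.2)
  rw [ι_comp_appLE_top f U₀ V e₀, CommRingCat.hom_comp,
    RingHom.Smooth.respectsIso.cancel_right_isIso] at hQ
  let _ : Algebra Γ(S, V) Γ(X, U₀) := (f.appLE V U₀ e₀).hom.toAlgebra
  have hsmA : Algebra.Smooth Γ(S, V) Γ(X, U₀) := hQ
  have : Algebra.IsSmoothAt Γ(S, V) (hU₀.primeIdealOf ⟨x, hxU₀⟩).asIdeal := inferInstance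
  obtain ⟨g, hg, hstd⟩ := Algebra.IsSmoothAt.exists_notMem_isStandardSmooth Γ(S, V)
    (hU₀.primeIdealOf ⟨x, hxU₀⟩).asIdeal
  refine ⟨X.basicOpen g, hU₀.basicOpen g,
    (mem_basicOpen_iff_notMem_primeIdealOf hU₀ x hxU₀ g).mpr hg, (X.basicOpen_le g).trans e₀, ?_⟩
  have hloc : IsLocalization.Away g Γ(X, X.basicOpen g) := hU₀.isLocalization_basicOpen g
  let ε : Localization.Away g ≃ₐ[Γ(X, U₀)] Γ(X, X.basicOpen g) :=
    IsLocalization.algEquiv (Submonoid.powers g) _ _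
  have h1 : (algebraMap Γ(S, V) (Localization.Away g)).IsStandardSmooth :=
    RingHom.isStandardSmooth_algebraMap.mpr hstd
  have h2 := RingHom.isStandardSmooth_respectsIso.1 _ ε.toRingEquiv h1
  convert h2 using 1
  rw [← Scheme.Hom.appLE_map f e₀ (homOfLE (X.basicOpen_le g)).op, CommRingCat.hom_comp]
  ext a
  simp only [RingHom.comp_apply]
  change _ = ε (algebraMap Γ(X, U₀) (Localization.Away g) (algebraMap Γ(S, V) Γ(X, U₀) a))
  rw [ε.commutes]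
  rfl


theorem smooth_ι_comp_of_isStandardSmooth_appLE {X S : Scheme.{u}} (f : X ⟶ S)
    (V : S.Opens) (hV : IsAffineOpen V) (U : X.Opens) (hU : IsAffineOpen U) (e : U ≤ f ⁻¹ᵁ V)
    (h : (f.appLE V U e).hom.IsStandardSmooth) : Smooth (U.ι ≫ f) := by
  rw [Smooth.iff_forall_exists_isStandardSmooth]
  intro x'
  have : IsAffine U.toScheme := hU
  have e' : (⊤ : U.toScheme.Opens) ≤ (U.ι ≫ f) ⁻¹ᵁ V := by
    rw [Scheme.Hom.comp_preimage]; intro y _; exact e y.2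
  refine ⟨V, hV, ⊤, isAffineOpen_top _, trivial, e', ?_⟩
  rw [ι_comp_appLE_top f U V e, CommRingCat.hom_comp,
    RingHom.isStandardSmooth_respectsIso.cancel_right_isIso]
  exact h


theorem etale_stableUnderCompositionWithLocalizationAwaySource :
    RingHom.StableUnderCompositionWithLocalizationAwaySource @RingHom.Etale := by
  intro R S T _ _ _ _ r _ f hf
  have : Algebra.Etale R S := Algebra.Etale.of_isLocalizationAway r
  exact RingHom.Etale.stableUnderComposition _ _ (RingHom.etale_algebraMap.mpr inferInstance) hf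

theorem etale_ι_comp_of_etale_appLE {X S : Scheme.{u}} (f : X ⟶ S)
    (V : S.Opens) (hV : IsAffineOpen V) (U : X.Opens) (hU : IsAffineOpen U) (e : U ≤ f ⁻¹ᵁ V)
    (h : (f.appLE V U e).hom.Etale) : Etale (U.ι ≫ f) := by
  rw [HasRingHomProperty.iff_exists_appLE (P := @Etale)
    etale_stableUnderCompositionWithLocalizationAwaySource]
  intro x'
  have : IsAffine U.toScheme := hU
  have e' : (⊤ : U.toScheme.Opens) ≤ (U.ι ≫ f) ⁻¹ᵁ V := by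
    rw [Scheme.Hom.comp_preimage]; intro y _; exact e y.2
  refine ⟨⟨V, hV⟩, ⟨⊤, isAffineOpen_top _⟩, trivial, e', ?_⟩
  rw [ι_comp_appLE_top f U V e, CommRingCat.hom_comp,
    RingHom.Etale.respectsIso.cancel_right_isIso]
  exact h

theorem exists_isStandardEtale_appLE_of_etale_nhd {X S : Scheme.{u}} (f : X ⟶ S) (x : X)
    (V : S.Opens) (hV : IsAffineOpen V) (hxV : f x ∈ V) (W : X.Opens) (hxW : x ∈ W)
    [Etale (W.ι ≫ f)] :
    ∃ (U : X.Opens) (_ : IsAffineOpen U) (_ : x ∈ U) (e : U ≤ f ⁻¹ᵁ V),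
      letI := (f.appLE V U e).hom.toAlgebra
      Algebra.IsStandardEtale Γ(S, V) Γ(X, U) := by
  obtain ⟨_, ⟨U₀', hU₀', rfl⟩, hxU₀', hU₀W'⟩ := X.isBasis_affineOpens.exists_subset_of_mem_open
    (show x ∈ W ⊓ f ⁻¹ᵁ V from ⟨hxW, hxV⟩) (W ⊓ f ⁻¹ᵁ V).2
  obtain ⟨U₀, hU₀, hxU₀, hU₀W⟩ : ∃ U₀ : X.Opens, IsAffineOpen U₀ ∧ x ∈ U₀ ∧ U₀ ≤ W ⊓ f ⁻¹ᵁ V :=
    ⟨U₀', hU₀', hxU₀', hU₀W'⟩
  clear hxU₀' hU₀W' hU₀'
  have hW : U₀ ≤ W := fun y hy ↦ (hU₀W hy).1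
  have e₀ : U₀ ≤ f ⁻¹ᵁ V := fun y hy ↦ (hU₀W hy).2
  have hsm : Etale (U₀.ι ≫ f) := by
    rw [← X.homOfLE_ι hW, Category.assoc]
    infer_instance
  have : IsAffine U₀.toScheme := hU₀
  have hQ := HasRingHomProperty.appLE @Etale (U₀.ι ≫ f) hsm ⟨V, hV⟩ ⟨⊤, isAffineOpen_top _⟩
    (by rw [Scheme.Hom.comp_preimage]; intro y _; exact e₀ y.2)
  rw [ι_comp_appLE_top f U₀ V e₀, CommRingCat.hom_comp,
    RingHom.Etale.respectsIso.cancel_right_isIso] at hQ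
  let _ : Algebra Γ(S, V) Γ(X, U₀) := (f.appLE V U₀ e₀).hom.toAlgebra
  have hsmA : Algebra.Etale Γ(S, V) Γ(X, U₀) := hQ
  have : Algebra.IsEtaleAt Γ(S, V) (hU₀.primeIdealOf ⟨x, hxU₀⟩).asIdeal := inferInstance
  obtain ⟨g, hg, hstd⟩ := Algebra.IsEtaleAt.exists_isStandardEtale (R := Γ(S, V))
    (hU₀.primeIdealOf ⟨x, hxU₀⟩).asIdeal
  refine ⟨X.basicOpen g, hU₀.basicOpen g,
    (mem_basicOpen_iff_notMem_primeIdealOf hU₀ x hxU₀ g).mpr hg, (X.basicOpen_le g).trans e₀, ?_⟩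
  have hloc : IsLocalization.Away g Γ(X, X.basicOpen g) := hU₀.isLocalization_basicOpen g
  let ε : Localization.Away g ≃ₐ[Γ(X, U₀)] Γ(X, X.basicOpen g) :=
    IsLocalization.algEquiv (Submonoid.powers g) _ _
  let _ : Algebra Γ(S, V) Γ(X, X.basicOpen g) :=
    (f.appLE V (X.basicOpen g) ((X.basicOpen_le g).trans e₀)).hom.toAlgebra
  have : IsScalarTower Γ(S, V) Γ(X, U₀) Γ(X, X.basicOpen g) := by
    refine .of_algebraMap_eq fun a ↦ ?_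
    change (f.appLE V (X.basicOpen g) _).hom a = _
    rw [← Scheme.Hom.appLE_map f e₀ (homOfLE (X.basicOpen_le g)).op, CommRingCat.hom_comp]
    rfl
  exact Algebra.IsStandardEtale.of_equiv (ε.restrictScalars Γ(S, V))

end Groth.Agent.H7
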