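import Mathlib

set_option autoImplicit false
universe u

namespace Groth.Agent.H7

open TensorProduct

/-- Finiteness of the clopen piece cut out by an idempotent can be tested on the quotient. -/
theorem finite_away_iff_finite_quotient {R' T : Type*} [CommRing R'] [CommRing T] [Algebra R' T]
    {e : T} (he : IsIdempotentElem e) :
    Module.Finite R' (Localization.Away e) ↔ Module.Finite R' (T ⧸ Ideal.span {1 - e}) := by
  have := IsLocalization.Away.quotient_of_isIdempotentElem he
  let f : Localization.Away e ≃ₐ[T] (T ⧸ Ideal.span {1 - e}) :=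
    IsLocalization.algEquiv (.powers e) _ _
  exact ⟨fun h ↦ Module.Finite.equiv (f.restrictScalars R').toLinearEquiv,
    fun h ↦ Module.Finite.equiv (f.symm.restrictScalars R').toLinearEquiv⟩

/-- `(R', P)` splits off from `R' ⊗[R] S` a finite clopen piece containing exactly one prime over
`P`, and this prime lies over `q`. -/
def SplitsAt {R : Type u} [CommRing R] {S : Type u} [CommRing S] [Algebra R S]
    (R' : Type u) [CommRing R'] [Algebra R R'] (P : Ideal R') (q : Ideal S) : Prop :=
  ∃ (e : R' ⊗[R] S) (P' : Ideal (R' ⊗[R] S)), IsIdempotentElem e ∧ P'.IsPrime ∧ P'.LiesOver P ∧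
    P'.comap Algebra.TensorProduct.includeRight.toRingHom = q ∧ e ∉ P' ∧
    Module.Finite R' (Localization.Away e) ∧
    ∀ P'' : Ideal (R' ⊗[R] S), P''.IsPrime → P''.LiesOver P → e ∉ P'' → P'' = P'

section

variable {R : Type u} [CommRing R] {S : Type u} [CommRing S] [Algebra R S]
  {p : Ideal R} [p.IsPrime] {R' : Type u} [CommRing R'] [Algebra R R'] {P : Ideal R'} [P.IsPrime]
  [P.LiesOver p]

theorem bijective_residueField_comp
    (hpP : Function.Bijective (Ideal.ResidueField.mapₐ p P (Algebra.ofId _ _) (P.over_def p)))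
    {R'' : Type u} [CommRing R''] [Algebra R' R''] [Algebra R R''] [IsScalarTower R R' R'']
    {Q : Ideal R''} [Q.IsPrime] [Q.LiesOver P] [Q.LiesOver p]
    (hPQ : Function.Bijective (Ideal.ResidueField.mapₐ P Q (Algebra.ofId _ _) (Q.over_def P))) :
    Function.Bijective (Ideal.ResidueField.mapₐ p Q (Algebra.ofId _ _) (Q.over_def p)) := by
  convert hPQ.comp hpP
  rw [← @AlgHom.coe_restrictScalars' R R', ← AlgHom.coe_comp]; congr 1; ext

/-- Finiteness of the clopen piece persists under base change. -/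
theorem finite_quotient_baseChange {R'' : Type u} [CommRing R''] [Algebra R' R''] [Algebra R R'']
    [IsScalarTower R R' R''] (e : R' ⊗[R] S)
    (h : Module.Finite R' ((R' ⊗[R] S) ⧸ Ideal.span {1 - e})) :
    Module.Finite R'' ((R'' ⊗[R] S) ⧸ Ideal.span
      {1 - Algebra.TensorProduct.map (Algebra.ofId R' R'') (AlgHom.id R S) e}) := by
  set φ := Algebra.TensorProduct.map (Algebra.ofId R' R'') (AlgHom.id R S) with hφ
  let I' : Ideal (R' ⊗[R] S) := Ideal.span {1 - e}
  let I'' : Ideal (R'' ⊗[R] S) := Ideal.span {1 - φ e}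
  -- the `R'`-algebra map on quotients
  have hle : I' ≤ I''.comap φ.toRingHom := by
    rw [Ideal.span_le]
    rintro _ rfl
    change φ (1 - e) ∈ I''
    rw [map_sub, map_one]
    exact Ideal.subset_span rfl
  let φq : ((R' ⊗[R] S) ⧸ I') →ₐ[R'] ((R'' ⊗[R] S) ⧸ I'') :=
    Ideal.quotientMapₐ I'' (φ.restrictScalars R') hle
  let Φ : R'' ⊗[R'] ((R' ⊗[R] S) ⧸ I') →ₐ[R''] ((R'' ⊗[R] S) ⧸ I'') :=
    Algebra.TensorProduct.productLeftAlgHom (Algebra.ofId R'' _) φq
  have hΦ : Function.Surjective Φ := by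
    intro y
    obtain ⟨t, rfl⟩ := Ideal.Quotient.mk_surjective y
    induction t using TensorProduct.induction_on with
    | zero => exact ⟨0, by simp⟩
    | tmul a s =>
      refine ⟨a ⊗ₜ Ideal.Quotient.mk I' (1 ⊗ₜ s), ?_⟩
      simp only [Φ, Algebra.TensorProduct.lift_tmul, φq]
      rw [Ideal.quotient_map_mkₐ, Ideal.Quotient.mkₐ_eq_mk]
      have h1 : (Algebra.ofId R'' (R'' ⊗[R] S ⧸ I'')) a = Ideal.Quotient.mk I'' (a ⊗ₜ[R] 1) := rfl
      have h2 : (AlgHom.restrictScalars R' φ) (1 ⊗ₜ[R] s) = (1 : R'') ⊗ₜ[R] s := by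
        change φ (1 ⊗ₜ[R] s) = _
        rw [hφ, Algebra.TensorProduct.map_tmul, map_one]
        rfl
      rw [h1, h2, ← map_mul, Algebra.TensorProduct.tmul_mul_tmul, mul_one, one_mul]
    | add x y hx hy =>
      obtain ⟨x', hx'⟩ := hx
      obtain ⟨y', hy'⟩ := hy
      exact ⟨x' + y', by rw [map_add, hx', hy', map_add]⟩
  exact Module.Finite.of_surjective Φ.toLinearMap hΦ

/-- Splitting persists along residually trivial extensions of the neighbourhood. -/
theorem SplitsAt.baseChange
    (hpP : Function.Bijective (Ideal.ResidueField.mapₐ p P (Algebra.ofId _ _) (P.over_def p)))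
    {R'' : Type u} [CommRing R''] [Algebra R' R''] [Algebra R R''] [IsScalarTower R R' R'']
    {Q : Ideal R''} [Q.IsPrime] [Q.LiesOver P] [Q.LiesOver p]
    (hPQ : Function.Bijective (Ideal.ResidueField.mapₐ P Q (Algebra.ofId _ _) (Q.over_def P)))
    {q : Ideal S} [q.IsPrime] [q.LiesOver p] (h : SplitsAt (R := R) R' P q) :
    SplitsAt (R := R) R'' Q q := by
  obtain ⟨e, P', he, hP'prime, hP'P, hP'q, heP', hfin, huniq⟩ := h
  have hpQ := bijective_residueField_comp hpP hPQ
  let φ := Algebra.TensorProduct.map (Algebra.ofId R' R'') (AlgHom.id R S)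
  let P'φ := (Ideal.fiberIsoOfBijectiveResidueField hpQ).symm
    (Ideal.fiberIsoOfBijectiveResidueField hpP ⟨P', ‹_›, ‹_›⟩)
  have : P'φ.1.IsPrime := P'φ.2.1
  have : P'φ.1.LiesOver Q := P'φ.2.2
  have : P'φ.1.LiesOver P := .trans _ Q _
  have : (P'φ.1.comap φ.toRingHom).LiesOver P := inferInstanceAs ((P'φ.1.comap φ).LiesOver P)
  have hincl : (φ.restrictScalars R).comp Algebra.TensorProduct.includeRight =
      Algebra.TensorProduct.includeRight := by ext; simp [φ]
  have hP'φ : P'φ.1.comap φ.toRingHom = P' := by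
    apply Ideal.eq_of_comap_eq_comap_of_bijective_residueFieldMap hpP
    rw [Ideal.comap_comap]
    convert Ideal.comap_fiberIsoOfBijectiveResidueField_symm hpQ _
    · ext; simp [φ]
    · simp; rfl
  have hP'φq : P'φ.1.comap Algebra.TensorProduct.includeRight.toRingHom = q := by
    rw [← hP'q, ← hP'φ, ← hincl]
    rfl
  refine ⟨φ e, P'φ.1, he.map φ, inferInstance, inferInstance, hP'φq, ?_, ?_, ?_⟩
  · intro h
    apply heP'
    rw [← hP'φ]
    exact h
  · rw [finite_away_iff_finite_quotient (he.map φ)]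
    exact finite_quotient_baseChange e ((finite_away_iff_finite_quotient he).mp hfin)
  · intro P'' _ _ heP''
    have : P''.LiesOver P := .trans _ Q _
    have : (P''.comap φ.toRingHom).LiesOver P := inferInstanceAs ((P''.comap φ).LiesOver P)
    have h1 : P''.comap φ.toRingHom = P' := huniq _ inferInstance inferInstance heP''
    apply Ideal.eq_of_comap_eq_comap_of_bijective_residueFieldMap hpQ
    rw [hP'φq, ← hP'q, ← h1, ← hincl]
    rfl

/-- One more point can be split off after a further residually trivial étale extension. -/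
theorem exists_etale_splitsAt
    (hpP : Function.Bijective (Ideal.ResidueField.mapₐ p P (Algebra.ofId _ _) (P.over_def p)))
    [Algebra.FiniteType R S] (q : Ideal S) [q.IsPrime] [q.LiesOver p] [Algebra.QuasiFiniteAt R q] :
    ∃ (R'' : Type u) (_ : CommRing R'') (_ : Algebra R' R'') (_ : Algebra R R'')
      (_ : IsScalarTower R R' R'') (_ : Algebra.Etale R' R'') (Q : Ideal R'') (_ : Q.IsPrime)
      (_ : Q.LiesOver P),
      Function.Bijective (Ideal.ResidueField.mapₐ P Q (Algebra.ofId _ _) (Q.over_def P)) ∧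
      SplitsAt (R := R) R'' Q q := by
  -- the prime of `R' ⊗ S` over `P` and `q`
  let Q₀ := (Ideal.fiberIsoOfBijectiveResidueField hpP).symm ⟨q, ‹_›, ‹_›⟩
  have : Q₀.1.IsPrime := Q₀.2.1
  have : Q₀.1.LiesOver P := Q₀.2.2
  have hQ₀q : Q₀.1.comap (RingHomClass.toRingHom Algebra.TensorProduct.includeRight) = q :=
    Ideal.comap_fiberIsoOfBijectiveResidueField_symm hpP ⟨q, ‹_›, ‹_›⟩
  have : Algebra.QuasiFiniteAt R' Q₀.1 := Algebra.QuasiFiniteAt.baseChange q Q₀.1 hQ₀q.symm
  obtain ⟨R'', _, _, _, Q, _, _, e, he, P₃, _, _, hP₃, heP₃, hPQ, hfin, huniq⟩ :=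
    Algebra.exists_etale_isIdempotentElem_forall_liesOver_eq P Q₀.1
  let _ : Algebra R R'' := .compHom _ (algebraMap R R')
  have : IsScalarTower R R' R'' := .of_algebraMap_eq' rfl
  refine ⟨R'', inferInstance, inferInstance, inferInstance, inferInstance, inferInstance, Q,
    inferInstance, inferInstance, hPQ, ?_⟩
  let ψ := Algebra.TensorProduct.cancelBaseChange R R' R'' R'' S
  have hψsymm : ∀ x, ψ.symm (ψ x) = x := ψ.symm_apply_apply
  have hψ : ∀ x, ψ (ψ.symm x) = x := ψ.apply_symm_apply
  have : (P₃.comap ψ.symm.toAlgHom).LiesOver Q := inferInstance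
  refine ⟨ψ e, P₃.comap ψ.symm.toAlgHom, he.map ψ, inferInstance, inferInstance, ?_, ?_, ?_, ?_⟩
  · rw [← hQ₀q, ← hP₃]
    ext s
    simp only [Ideal.mem_comap]
    have : ψ.symm.toAlgHom (Algebra.TensorProduct.includeRight.toRingHom s) =
        Algebra.TensorProduct.includeRight.toRingHom
          ((RingHomClass.toRingHom Algebra.TensorProduct.includeRight) s) := by
      change ψ.symm ((1 : R'') ⊗ₜ[R] s) = (1 : R'') ⊗ₜ[R'] ((1 : R') ⊗ₜ[R] s)
      exact Algebra.TensorProduct.cancelBaseChange_symm_tmul R R' R'' R'' S (1 : R'') s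
    rw [this]
  · intro h
    apply heP₃
    have h' : ψ.symm (ψ e) ∈ P₃ := h
    rwa [hψsymm] at h'
  · rw [finite_away_iff_finite_quotient (he.map ψ)]
    have h1 := (finite_away_iff_finite_quotient he).mp hfin
    have hIJ : Ideal.span {1 - ψ e} = (Ideal.span {1 - e}).map (ψ : _ →ₐ[R''] _) := by
      rw [Ideal.map_span, Set.image_singleton]
      congr 2
      simp
    let χ := Ideal.quotientEquivAlg (Ideal.span {1 - e}) (Ideal.span {1 - ψ e}) ψ hIJ
    exact Module.Finite.equiv χ.toLinearEquiv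
  · intro P'' _ _ heP''
    have : (P''.comap ψ.toAlgHom).LiesOver Q := inferInstance
    have h1 : P''.comap ψ.toAlgHom = P₃ := huniq _ inferInstance inferInstance heP''
    ext x
    rw [← h1]
    simp only [Ideal.mem_comap]
    change x ∈ P'' ↔ ψ (ψ.symm x) ∈ P''
    rw [hψ]

end

/-- Simultaneous étale localization at finitely many quasi-finite points of finite type algebras
over the same prime. -/
theorem exists_etale_forall_splitsAt {R : Type u} [CommRing R] (p : Ideal R) [p.IsPrime]
    {ι : Type*} [Finite ι] (S : ι → Type u) [∀ i, CommRing (S i)] [∀ i, Algebra R (S i)]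
    [∀ i, Algebra.FiniteType R (S i)] (q : ∀ i, Ideal (S i)) [∀ i, (q i).IsPrime]
    [∀ i, (q i).LiesOver p] [∀ i, Algebra.QuasiFiniteAt R (q i)] :
    ∃ (R' : Type u) (_ : CommRing R') (_ : Algebra R R') (_ : Algebra.Etale R R') (P : Ideal R')
      (_ : P.IsPrime) (_ : P.LiesOver p),
      Function.Bijective (Ideal.ResidueField.mapₐ p P (Algebra.ofId _ _) (P.over_def p)) ∧
      ∀ i, SplitsAt (R := R) R' P (q i) := by
  classical
  have := Fintype.ofFinite ι
  suffices H : ∀ s : Finset ι, ∃ (R' : Type u) (_ : CommRing R') (_ : Algebra R R')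
      (_ : Algebra.Etale R R') (P : Ideal R') (_ : P.IsPrime) (_ : P.LiesOver p),
      Function.Bijective (Ideal.ResidueField.mapₐ p P (Algebra.ofId _ _) (P.over_def p)) ∧
      ∀ i ∈ s, SplitsAt (R := R) R' P (q i) by
    obtain ⟨R', _, _, _, P, _, _, hpP, h⟩ := H Finset.univ
    exact ⟨R', _, _, ‹_›, P, ‹_›, ‹_›, hpP, fun i ↦ h i (Finset.mem_univ i)⟩
  intro s
  induction s using Finset.induction_on with
  | empty =>
    refine ⟨R, inferInstance, inferInstance, inferInstance, p, inferInstance, ⟨rfl⟩, ?_, ?_⟩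
    · rw! [Algebra.ofId_self, Ideal.ResidueField.mapₐ_id]; exact Function.bijective_id
    · intro i hi
      exact absurd hi (Finset.notMem_empty i)
  | insert a s ha IH =>
    obtain ⟨R', _, _, _, P, _, _, hpP, h⟩ := IH
    obtain ⟨R'', _, _, _, _, _, Q, _, _, hPQ, hQ⟩ := exists_etale_splitsAt hpP (q a)
    have : Q.LiesOver p := .trans _ P _
    refine ⟨R'', inferInstance, inferInstance, .comp R R' R'', Q, inferInstance, inferInstance,
      bijective_residueField_comp hpP hPQ, ?_⟩
    intro i hi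
    rcases Finset.mem_insert.mp hi with rfl | hi
    · exact hQ
    · exact (h i hi).baseChange hpP hPQ

end Groth.Agent.H7
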