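import Mathlib
import Groth.Agent.H7.EtaleLocalAlg

set_option autoImplicit false
universe u

namespace Groth.Agent.H7

open AlgebraicGeometry CategoryTheory Limits TensorProduct

/-- Affine chart of a base change: for affine opens `V₀ ⊆ f⁻¹ U₀` and a `Γ(S, U₀)`-algebra `R'`,
the spectrum of `R' ⊗ Γ(X, V₀)` is an open subscheme of `X ×_S Spec R'`. -/
theorem exists_chart_pullback {X S : Scheme.{u}} (f : X ⟶ S) {U₀ : S.Opens} (hU₀ : IsAffineOpen U₀)
    {V₀ : X.Opens} (hV₀ : IsAffineOpen V₀) (hUV : V₀ ≤ f ⁻¹ᵁ U₀)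
    [Algebra Γ(S, U₀) Γ(X, V₀)] (halg : algebraMap Γ(S, U₀) Γ(X, V₀) = (f.appLE U₀ V₀ hUV).hom)
    (R' : Type u) [CommRing R'] [Algebra Γ(S, U₀) R'] :
    ∃ j : Spec (.of (R' ⊗[Γ(S, U₀)] Γ(X, V₀))) ⟶
        pullback f (Spec.map (CommRingCat.ofHom (algebraMap Γ(S, U₀) R')) ≫ hU₀.fromSpec),
      IsOpenImmersion j ∧
      j ≫ pullback.fst _ _ = Spec.map (CommRingCat.ofHom
        (Algebra.TensorProduct.includeRight (R := Γ(S, U₀)) (A := R') (B := Γ(X, V₀))).toRingHom) ≫
          hV₀.fromSpec ∧
      j ≫ pullback.snd _ _ = Spec.map (CommRingCat.ofHom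
        (algebraMap R' (R' ⊗[Γ(S, U₀)] Γ(X, V₀)))) := by
  let φ : Γ(S, U₀) ⟶ .of R' := CommRingCat.ofHom <| algebraMap Γ(S, U₀) R'
  have hf : f.appLE U₀ V₀ hUV = CommRingCat.ofHom (algebraMap Γ(S, U₀) Γ(X, V₀)) := by
    ext1; exact halg.symm
  let e₁ : Spec (.of (R' ⊗[Γ(S, U₀)] Γ(X, V₀))) ≅
      pullback (Spec.map (f.appLE U₀ V₀ hUV)) (Spec.map φ) :=
    (pullbackSpecIso _ _ _).symm ≪≫ pullbackSymmetry _ _ ≪≫
      pullback.congrHom (by rw [hf]) rfl
  have he₁fst : e₁.hom ≫ pullback.fst _ _ = Spec.map (CommRingCat.ofHom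
      (Algebra.TensorProduct.includeRight (R := Γ(S, U₀)) (A := R') (B := Γ(X, V₀))).toRingHom) := by
    dsimp [e₁]
    rw [Category.assoc, Category.assoc, pullback.congrHom_hom, pullback.lift_fst, Category.comp_id,
      pullbackSymmetry_hom_comp_fst]
    exact pullbackSpecIso_inv_snd ..
  have he₁snd : e₁.hom ≫ pullback.snd _ _ = Spec.map (CommRingCat.ofHom
      (algebraMap R' (R' ⊗[Γ(S, U₀)] Γ(X, V₀)))) := by
    dsimp [e₁]
    rw [Category.assoc, Category.assoc, pullback.congrHom_hom, pullback.lift_snd, Category.comp_id,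
      pullbackSymmetry_hom_comp_snd]
    exact pullbackSpecIso_inv_fst' ..
  refine ⟨e₁.hom ≫ pullback.map _ _ _ _ hV₀.fromSpec (𝟙 _) hU₀.fromSpec
      (IsAffineOpen.SpecMap_appLE_fromSpec ..) (by simp [φ]), inferInstance, ?_, ?_⟩
  · rw [Category.assoc, pullback.lift_fst, reassoc_of% he₁fst]
  · rw [Category.assoc, pullback.lift_snd, Category.comp_id, he₁snd]

/-- The image of a basic open with finite coordinate ring under an affine chart is finite over the
base. -/
theorem isFinite_image_basicOpen_of_finite {Y : Scheme.{u}} {T R' : Type u} [CommRing T]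
    [CommRing R'] [Algebra R' T] (j : Spec (.of T) ⟶ Y) [IsOpenImmersion j]
    (π : Y ⟶ Spec (.of R')) (hπ : j ≫ π = Spec.map (CommRingCat.ofHom (algebraMap R' T))) (e : T)
    (hfin : Module.Finite R' (Localization.Away e)) :
    IsFinite ((j ''ᵁ PrimeSpectrum.basicOpen e).ι ≫ π) := by
  have hfin' : (algebraMap R' (Localization.Away e)).Finite := RingHom.finite_algebraMap.mpr hfin
  let ι : Spec (.of (Localization.Away e)) ⟶ Y :=
    Spec.map (CommRingCat.ofHom <| algebraMap T (Localization.Away e)) ≫ j
  have : ι.opensRange = j ''ᵁ PrimeSpectrum.basicOpen e := by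
    simp only [Scheme.Hom.opensRange_comp, ι]
    congr 1
    exact TopologicalSpace.Opens.ext <| PrimeSpectrum.localization_away_comap_range _ _
  rw [← this, ← MorphismProperty.cancel_left_of_respectsIso @IsFinite
    (Scheme.Hom.isoOpensRange _).hom]
  have h2 : (Scheme.Hom.isoOpensRange ι).hom ≫ ι.opensRange.ι ≫ π =
      Spec.map (CommRingCat.ofHom (algebraMap R' (Localization.Away e))) := by
    rw [← Category.assoc, Scheme.Hom.isoOpensRange_hom_ι]
    simp only [ι, Category.assoc, hπ, ← Spec.map_comp]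
    congr 1
  rw [h2, IsFinite.SpecMap_iff]
  exact hfin'


/-- The residue field map of `Spec.map φ` at a prime is bijective as soon as the algebraic residue
field map is. -/
theorem bijective_residueFieldMap_SpecMap {R R' : CommRingCat.{u}} (φ : R ⟶ R')
    (P : PrimeSpectrum R') (p : Ideal R) [p.IsPrime] (hp : p = P.asIdeal.comap φ.hom)
    (h : Function.Bijective (Ideal.ResidueField.map p P.asIdeal φ.hom hp)) :
    Function.Bijective ((Spec.map φ).residueFieldMap P).hom := by
  subst hp
  have key := Scheme.localRingHom_comp_stalkIso φ P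
  have h1 : ((Spec.map φ).residueFieldMap P).hom =
      IsLocalRing.ResidueField.map ((Spec.map φ).stalkMap P).hom := rfl
  rw [h1]
  have h2 : ((Spec.map φ).stalkMap P).hom =
      ((Spec.stalkIso R' P).inv.hom.comp
        (Localization.localRingHom (PrimeSpectrum.comap φ.hom P).asIdeal P.asIdeal φ.hom rfl)).comp
        (Spec.stalkIso R (P.comap φ.hom)).hom.hom := by
    rw [← key]
    rfl
  have i1 : IsLocalHom (Spec.stalkIso R' P).inv.hom := isLocalHom_of_isIso _
  have i2 : IsLocalHom (Spec.stalkIso R (P.comap φ.hom)).hom.hom := isLocalHom_of_isIso _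
  have h3 : IsLocalRing.ResidueField.map ((Spec.map φ).stalkMap P).hom =
      ((IsLocalRing.ResidueField.map (Spec.stalkIso R' P).inv.hom).comp
        (Ideal.ResidueField.map (PrimeSpectrum.comap φ.hom P).asIdeal P.asIdeal φ.hom rfl)).comp
        (IsLocalRing.ResidueField.map (Spec.stalkIso R (P.comap φ.hom)).hom.hom) := by
    rw [← IsLocalRing.ResidueField.map_comp, ← IsLocalRing.ResidueField.map_comp]
    congr 1
  rw [h3]
  have b1 : Function.Bijective (IsLocalRing.ResidueField.map (Spec.stalkIso R' P).inv.hom) :=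
    (IsLocalRing.ResidueField.mapEquiv
      (Spec.stalkIso R' P).symm.commRingCatIsoToRingEquiv).bijective
  have b2 : Function.Bijective
      (IsLocalRing.ResidueField.map (Spec.stalkIso R (P.comap φ.hom)).hom.hom) :=
    (IsLocalRing.ResidueField.mapEquiv
      (Spec.stalkIso R (P.comap φ.hom)).commRingCatIsoToRingEquiv).bijective
  exact (b1.comp h).comp b2



/-- An epimorphism of commutative rings between fields is surjective. -/
theorem surjective_of_epi_of_field {K L : Type u} [Field K] [CommRing L] [Nontrivial L]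
    [Algebra K L] [Algebra.IsEpi K L] : Function.Surjective (algebraMap K L) := by
  intro a
  by_contra ha
  have h1 : (1 : L) ∉ Submodule.span K {a} := by
    intro h
    obtain ⟨c, hc⟩ := Submodule.mem_span_singleton.mp h
    have hc0 : c ≠ 0 := by
      rintro rfl
      simp at hc
    apply ha
    refine ⟨c⁻¹, ?_⟩
    have : a = c⁻¹ • (c • a) := by rw [smul_smul, inv_mul_cancel₀ hc0, one_smul]
    rw [this, hc, Algebra.algebraMap_eq_smul_one]
  obtain ⟨ψ, hψ1, hψ⟩ := Submodule.exists_dual_map_eq_bot_of_notMem h1 inferInstance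
  have hψa : ψ a = 0 := by
    have : ψ a ∈ (Submodule.span K {a}).map ψ := ⟨a, Submodule.mem_span_singleton_self a, rfl⟩
    rw [hψ] at this
    exact this
  have hepi := (Algebra.isEpi_iff_forall_one_tmul_eq K L).mp inferInstance a
  let F : L ⊗[K] L →ₗ[K] L := (TensorProduct.lid K L).toLinearMap ∘ₗ (LinearMap.rTensor L ψ)
  have h2 := congr(F $hepi)
  simp only [F, LinearMap.comp_apply, LinearMap.rTensor_tmul, LinearEquiv.coe_coe,
    TensorProduct.lid_tmul, hψa, zero_smul] at h2
  apply ha
  refine ⟨0, ?_⟩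
  rw [map_zero]
  have := (smul_eq_zero.mp h2).resolve_left hψ1
  exact this.symm



/-- An epimorphism of commutative rings between fields is surjective (categorical form). -/
theorem surjective_of_epi_of_field' {K : Type u} [Field K] {L : CommRingCat.{u}} [Nontrivial L]
    (φ : CommRingCat.of K ⟶ L) [Epi φ] : Function.Surjective φ.hom := by
  algebraize [φ.hom]
  have : Epi (CommRingCat.ofHom (algebraMap K L)) := by
    have : CommRingCat.ofHom (algebraMap K L) = φ := rfl
    rw [this]; infer_instance
  have := CommRingCat.epi_iff_epi.mp this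
  exact surjective_of_epi_of_field

/-- If the base change is along a morphism which is residually trivial at the image of `w`, then
the first projection is residually trivial at `w`. -/
theorem surjective_residueFieldMap_fst {X S U : Scheme.{u}} (f : X ⟶ S) (g : U ⟶ S)
    (w : ↑(pullback f g))
    (h : Function.Surjective (g.residueFieldMap (pullback.snd f g w)).hom) :
    Function.Surjective ((pullback.fst f g).residueFieldMap w).hom := by
  let T := Scheme.Pullback.Triplet.ofPoint w
  have e1 : Epi (g.residueFieldMap T.y) := ConcreteCategory.epi_of_surjective _ h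
  have e2 : Epi ((S.residueFieldCongr T.hy).inv ≫ g.residueFieldMap T.y) := inferInstance
  have e3 : Epi T.tensorInl := pushout.inl_of_epi
  have m1 : Mono (Spec.map (Scheme.Pullback.ofPointTensor w) ≫ T.SpecTensorTo) := by
    rw [Scheme.Pullback.ofPointTensor_SpecTensorTo]
    infer_instance
  have m2 : Mono (Spec.map (Scheme.Pullback.ofPointTensor w)) := mono_of_mono _ T.SpecTensorTo
  have e4 : Epi (Scheme.Pullback.ofPointTensor w) := by
    have : Mono (Scheme.Pullback.ofPointTensor w).op :=
      Scheme.Spec.mono_of_mono_map m2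
    exact unop_epi_of_mono (Scheme.Pullback.ofPointTensor w).op
  have h5 : (pullback.fst f g).residueFieldMap w =
      T.tensorInl ≫ Scheme.Pullback.ofPointTensor w :=
    (pushout.inl_desc _ _ _).symm
  have e6 : Epi ((pullback.fst f g).residueFieldMap w) := by
    rw [h5]; exact @epi_comp _ _ _ _ _ _ e3 _ e4
  exact @surjective_of_epi_of_field' (IsLocalRing.ResidueField _) _ _ _ _ e6


end Groth.Agent.H7
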