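import Mathlib
import Groth.Agent.H7.EtaleLocalAlg
import Groth.Agent.H7.EtaleLocalChart

set_option autoImplicit false
universe u

namespace Groth.Agent.H7

open AlgebraicGeometry CategoryTheory Limits TensorProduct

/-- Simultaneous étale localization at finitely many quasi-finite points of a fibre. -/
theorem exists_etale_nbhd_finite_parts {X S : Scheme.{u}} (f : X ⟶ S) [LocallyOfFiniteType f]
    (s : S) {ι : Type*} [Finite ι] (x : ι → X) (hs : ∀ i, f (x i) = s)
    (hx : ∀ i, f.QuasiFiniteAt (x i)) :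
    ∃ (U : Scheme.{u}) (g : U ⟶ S) (u : U), IsAffine U ∧ Etale g ∧ g u = s ∧
      Function.Bijective (g.residueFieldMap u).hom ∧
      ∃ (V : ι → (pullback f g).Opens) (v : ι → ↑(pullback f g)), ∀ i, v i ∈ V i ∧
        IsFinite ((V i).ι ≫ pullback.snd f g) ∧ pullback.snd f g (v i) = u ∧
        (∀ w : ↑(pullback f g), w ∈ V i → pullback.snd f g w = u → w = v i) ∧
        pullback.fst f g (v i) = x i := by
  obtain ⟨_, ⟨U₀, hU₀, rfl⟩, hsU, -⟩ := S.isBasis_affineOpens.exists_subset_of_mem_open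
    (Set.mem_univ s) isOpen_univ
  have hxU : ∀ i, f (x i) ∈ U₀ := fun i ↦ (hs i) ▸ hsU
  have hex : ∀ i, ∃ V₀ : X.Opens, IsAffineOpen V₀ ∧ x i ∈ V₀ ∧ V₀ ≤ f ⁻¹ᵁ U₀ := by
    intro i
    obtain ⟨_, ⟨V, hV, rfl⟩, hxV, hUV⟩ :=
      X.isBasis_affineOpens.exists_subset_of_mem_open (hxU i) (f ⁻¹ᵁ U₀).2
    exact ⟨V, hV, hxV, hUV⟩
  choose V₀ hV₀ hxV hUV using hex
  let alg : ∀ i, Algebra Γ(S, U₀) Γ(X, V₀ i) := fun i ↦ (f.appLE U₀ (V₀ i) (hUV i)).hom.toAlgebra
  have hft : ∀ i, Algebra.FiniteType Γ(S, U₀) Γ(X, V₀ i) :=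
    fun i ↦ f.finiteType_appLE hU₀ (hV₀ i) (hUV i)
  let p : Ideal Γ(S, U₀) := (hU₀.primeIdealOf ⟨s, hsU⟩).asIdeal
  let q : ∀ i, Ideal Γ(X, V₀ i) := fun i ↦ ((hV₀ i).primeIdealOf ⟨x i, hxV i⟩).asIdeal
  have hlo : ∀ i, (q i).LiesOver p := by
    intro i
    suffices hU₀.primeIdealOf ⟨s, hsU⟩ =
        Spec.map (f.appLE U₀ (V₀ i) (hUV i)) ((hV₀ i).primeIdealOf ⟨x i, hxV i⟩) from
      ⟨congr(($this).1)⟩
    have h1 : hU₀.primeIdealOf ⟨s, hsU⟩ = hU₀.primeIdealOf ⟨f (x i), hxU i⟩ := by
      congr 1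
      exact Subtype.ext (hs i).symm
    rw [h1]
    apply hU₀.isoSpec.inv.homeomorph.injective
    apply Subtype.ext
    simp only [IsAffineOpen.primeIdealOf, Scheme.Hom.homeomorph_apply,
      ← Scheme.Hom.comp_apply, ← Scheme.Opens.ι_apply, IsAffineOpen.isoSpec_hom]
    simp
  have hqf : ∀ i, Algebra.QuasiFiniteAt Γ(S, U₀) (q i) :=
    fun i ↦ (hx i).quasiFiniteAt (hV₀ i) hU₀ (hUV i) (hxV i)
  obtain ⟨R', _, _, _, P, _, _, hpP, hsplit⟩ :=
    exists_etale_forall_splitsAt p (fun i ↦ Γ(X, V₀ i)) q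
  let φ : Γ(S, U₀) ⟶ .of R' := CommRingCat.ofHom <| algebraMap Γ(S, U₀) R'
  have hφ : φ.hom.Etale := RingHom.etale_algebraMap.mpr ‹_›
  have : Etale (Spec.map φ) := HasRingHomProperty.Spec_iff.mpr hφ
  let g : Spec (.of R') ⟶ S := Spec.map φ ≫ hU₀.fromSpec
  let u : Spec (.of R') := ⟨P, ‹_›⟩
  have hgu : g u = s := by
    dsimp [g, u, Spec.map_apply]
    convert! hU₀.fromSpec_primeIdealOf ⟨s, hsU⟩
    exact PrimeSpectrum.ext (Ideal.over_def _ _).symm
  have hres : Function.Bijective (g.residueFieldMap u).hom := by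
    have h1 : g.residueFieldMap u =
        hU₀.fromSpec.residueFieldMap (Spec.map φ u) ≫ (Spec.map φ).residueFieldMap u :=
      Scheme.residueFieldMap_comp _ _ _
    rw [h1]
    change Function.Bijective (((Spec.map φ).residueFieldMap u).hom ∘
      (hU₀.fromSpec.residueFieldMap (Spec.map φ u)).hom)
    refine Function.Bijective.comp ?_ ?_
    · exact bijective_residueFieldMap_SpecMap φ u p (P.over_def p) hpP
    · exact ConcreteCategory.bijective_of_isIso _
  have hchart := fun i ↦ exists_chart_pullback f hU₀ (hV₀ i) (hUV i) rfl R'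
  choose j hjo hjfst hjsnd using hchart
  choose e P' he hP'prime hP'P hP'q heP' hfin huniq using hsplit
  refine ⟨Spec (.of R'), g, u, inferInstance, inferInstance, hgu, hres,
    fun i ↦ (j i) ''ᵁ PrimeSpectrum.basicOpen (e i), fun i ↦ j i ⟨P' i, hP'prime i⟩, fun i ↦ ?_⟩
  have hsnd : ∀ P'' : PrimeSpectrum (R' ⊗[Γ(S, U₀)] Γ(X, V₀ i)), pullback.snd f g (j i P'') =
      (⟨P''.asIdeal.comap (algebraMap R' _), inferInstance⟩ : PrimeSpectrum R') := by
    intro P''
    rw [← Scheme.Hom.comp_apply, hjsnd i]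
    rfl
  refine ⟨⟨⟨P' i, hP'prime i⟩, heP' i, rfl⟩, ?_, ?_, ?_, ?_⟩
  · exact isFinite_image_basicOpen_of_finite (j i) (pullback.snd f g) (hjsnd i) (e i) (hfin i)
  · rw [hsnd]
    exact PrimeSpectrum.ext ((hP'P i).over.symm)
  · rintro w ⟨P'', hP''e, rfl⟩ hw
    replace hw := (hsnd P'').symm.trans hw
    have h1 : P''.asIdeal.LiesOver P := ⟨congr(($hw).asIdeal).symm⟩
    have h2 := huniq i P''.asIdeal P''.isPrime h1 hP''e
    congr 1
    exact PrimeSpectrum.ext h2
  · rw [← Scheme.Hom.comp_apply, hjfst i, Scheme.Hom.comp_apply]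
    have h1 : Spec.map (CommRingCat.ofHom (Algebra.TensorProduct.includeRight
        (R := Γ(S, U₀)) (A := R') (B := Γ(X, V₀ i))).toRingHom) ⟨P' i, hP'prime i⟩ =
        (hV₀ i).primeIdealOf ⟨x i, hxV i⟩ := PrimeSpectrum.ext (hP'q i)
    rw [h1]
    exact (hV₀ i).fromSpec_primeIdealOf ⟨x i, hxV i⟩


/-- Points of a fibre product lying over the same points are equal as soon as one of the two
morphisms is residually trivial there. -/
theorem eq_of_fst_eq_of_snd_eq {X S U : Scheme.{u}} (f : X ⟶ S) (g : U ⟶ S)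
    (w w' : ↑(pullback f g)) (h1 : pullback.fst f g w = pullback.fst f g w')
    (h2 : pullback.snd f g w = pullback.snd f g w')
    (h : Function.Surjective (g.residueFieldMap (pullback.snd f g w')).hom) : w = w' := by
  apply Scheme.Pullback.carrierEquiv.injective
  rw [Scheme.Pullback.carrierEquiv_eq_iff]
  have e : Scheme.Pullback.Triplet.ofPoint w = Scheme.Pullback.Triplet.ofPoint w' :=
    Scheme.Pullback.Triplet.ext h1 h2
  refine ⟨e, ?_⟩
  let T := Scheme.Pullback.Triplet.ofPoint w'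
  have hb : Function.Bijective (g.residueFieldMap T.y).hom :=
    ⟨(g.residueFieldMap T.y).hom.injective, h⟩
  have i1 : IsIso (g.residueFieldMap T.y) :=
    (ConcreteCategory.isIso_iff_bijective _).mpr hb
  have i2 : IsIso ((S.residueFieldCongr T.hy).inv ≫ g.residueFieldMap T.y) := inferInstance
  have i3 : IsIso T.tensorInl := pushout_inl_iso_of_right_iso _ _
  have hfield : IsField T.tensor :=
    MulEquiv.isField (Field.toIsField (X.residueField T.x))
      (asIso T.tensorInl).commRingCatIsoToRingEquiv.symm.toMulEquiv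
  have : Subsingleton (PrimeSpectrum T.tensor) := by
    let _ := hfield.toField
    infer_instance
  exact Subsingleton.elim (α := PrimeSpectrum T.tensor) _ _


/-- An open subscheme which is finite over the base of a separated morphism is closed. -/
theorem isClosed_of_isFinite_ι_comp {Y U : Scheme.{u}} (π : Y ⟶ U) [IsSeparated π] (V : Y.Opens)
    (h : IsFinite (V.ι ≫ π)) : IsClosed (V : Set Y) := by
  have : IsFinite V.ι := .of_comp _ π
  have := V.ι.isClosedMap.isClosed_range
  rwa [Scheme.Opens.range_ι] at this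


/-- The union of two open subschemes finite over the base of a separated morphism is finite over
the base. -/
theorem isFinite_sup_ι_comp {Y U : Scheme.{u}} (π : Y ⟶ U) [IsSeparated π] [LocallyOfFiniteType π]
    (W V : Y.Opens) (hW : IsFinite (W.ι ≫ π)) (hV : IsFinite (V.ι ≫ π)) :
    IsFinite ((W ⊔ V).ι ≫ π) := by
  let d : (W : Scheme.{u}) ⨿ (V : Scheme.{u}) ⟶ ((W ⊔ V : Y.Opens) : Scheme.{u}) :=
    coprod.desc (Y.homOfLE le_sup_left) (Y.homOfLE le_sup_right)
  have hd : d ≫ ((W ⊔ V).ι ≫ π) = coprod.desc (W.ι ≫ π) (V.ι ≫ π) := by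
    apply coprod.hom_ext
    · simp [d]
    · simp [d]
  have hds : Surjective d := by
    constructor
    rintro ⟨y, hy⟩
    rcases hy with hy | hy
    · refine ⟨(coprod.inl : (W : Scheme.{u}) ⟶ _) ⟨y, hy⟩, ?_⟩
      rw [← Scheme.Hom.comp_apply]
      simp only [d, coprod.inl_desc]
      apply Subtype.ext
      rw [← Scheme.Opens.ι_apply, ← Scheme.Hom.comp_apply, Scheme.homOfLE_ι]
      rfl
    · refine ⟨(coprod.inr : (V : Scheme.{u}) ⟶ _) ⟨y, hy⟩, ?_⟩
      rw [← Scheme.Hom.comp_apply]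
      simp only [d, coprod.inr_desc]
      apply Subtype.ext
      rw [← Scheme.Opens.ι_apply, ← Scheme.Hom.comp_apply, Scheme.homOfLE_ι]
      rfl
  have hc : IsFinite (d ≫ ((W ⊔ V).ι ≫ π)) := by rw [hd]; infer_instance
  have huc : UniversallyClosed ((W ⊔ V).ι ≫ π) := UniversallyClosed.of_comp_surjective d _
  have hlqf : LocallyQuasiFinite ((W ⊔ V).ι ≫ π) := by
    apply LocallyQuasiFinite.of_finite_preimage_singleton
    intro x
    have h1 := (d ≫ ((W ⊔ V).ι ≫ π)).finite_preimage_singleton x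
    refine (h1.image d).subset ?_
    intro z hz
    obtain ⟨z', rfl⟩ := hds.surj z
    exact ⟨z', by simpa [Scheme.Hom.comp_apply] using hz, rfl⟩
  have : IsProper ((W ⊔ V).ι ≫ π) := {}
  exact IsFinite.of_isProper_of_locallyQuasiFinite _


/-- A morphism locally of finite type is quasi-finite at every point of a finite fibre. -/
theorem quasiFiniteAt_of_finite_fiber {X S : Scheme.{u}} (f : X ⟶ S) [LocallyOfFiniteType f]
    (x : X) (h : (f ⁻¹' {f x}).Finite) : f.QuasiFiniteAt x := by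
  rw [Scheme.Hom.quasiFiniteAt_iff_isOpen_singleton_asFiber]
  have hfin : Finite (f.fiber (f x)) := by
    have : Finite (f ⁻¹' {f x}) := h.to_subtype
    exact Finite.of_equiv _ (f.fiberHomeo (f x)).symm.toEquiv
  have hlft : LocallyOfFiniteType (f.fiberToSpecResidueField (f x)) :=
    MorphismProperty.pullback_snd _ _ inferInstance
  have hlqf : LocallyQuasiFinite (f.fiberToSpecResidueField (f x)) :=
    LocallyQuasiFinite.of_finite_preimage_singleton _ fun _ ↦ Set.toFinite _
  have hd := (f.fiberToSpecResidueField (f x)).isDiscrete_preimage_singleton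
    (IsLocalRing.closedPoint (S.residueField (f x)))
  have huniv : (f.fiberToSpecResidueField (f x)) ⁻¹'
      {IsLocalRing.closedPoint (S.residueField (f x))} = Set.univ := by
    ext z
    simp only [Set.mem_preimage, Scheme.Hom.fiberToSpecResidueField_apply, Set.mem_univ, iff_true]
    exact Set.mem_singleton _
  have hd' : DiscreteTopology (f.fiber (f x)) := by
    rw [← isDiscrete_univ_iff, ← huniv]
    exact hd
  exact isOpen_discrete _


/-- A finite union of open subschemes finite over the base of a separated morphism is finite over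
the base. -/
theorem isFinite_finsetSup_ι_comp {Y U : Scheme.{u}} (π : Y ⟶ U) [IsSeparated π]
    [LocallyOfFiniteType π] {ι : Type*} (s : Finset ι) (V : ι → Y.Opens)
    (hV : ∀ i, IsFinite ((V i).ι ≫ π)) : IsFinite ((s.sup V).ι ≫ π) := by
  classical
  induction s using Finset.induction_on with
  | empty =>
    rw [Finset.sup_empty]
    have : IsEmpty ((⊥ : Y.Opens) : Scheme.{u}) := by
      constructor
      rintro ⟨y, hy⟩
      exact hy
    infer_instance
  | insert a s _ IH =>
    rw [Finset.sup_insert]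
    exact isFinite_sup_ι_comp π _ _ (hV a) IH

end Groth.Agent.H7
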