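import Mathlib

set_option autoImplicit false
universe u

namespace Groth.Agent.H7

open Polynomial

/-- Two ring homomorphisms out of a field extension `k = κ(θ)` agree as soon as they agree on `κ`
and on `θ`. -/
theorem ringHom_ext_of_adjoin_simple {κ k T : Type*} [Field κ] [Field k] [Algebra κ k] [CommRing T]
    [Algebra.IsAlgebraic κ k] (θ : k) (hθ : IntermediateField.adjoin κ {θ} = ⊤)
    (f₁ f₂ : k →+* T) (hκ : ∀ c : κ, f₁ (algebraMap κ k c) = f₂ (algebraMap κ k c))
    (h : f₁ θ = f₂ θ) : f₁ = f₂ := by
  let E : Subalgebra κ k :=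
    { (RingHom.eqLocus f₁ f₂).toSubsemiring with
      algebraMap_mem' := fun c ↦ hκ c }
  have h1 : Algebra.adjoin κ {θ} ≤ E := by
    rw [Algebra.adjoin_le_iff]
    rintro _ rfl
    exact h
  have h2 : Algebra.adjoin κ {θ} = ⊤ := by
    have hint : IsAlgebraic κ θ := Algebra.IsAlgebraic.isAlgebraic θ
    rw [← IntermediateField.adjoin_simple_toSubalgebra_of_isAlgebraic hint, hθ]
    rfl
  ext z
  have : z ∈ E := h1 (h2 ▸ Algebra.mem_top)
  exact this

/-- Realizing a finite separable extension of a "residue field" of `R` by an étale `R`-algebra: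
the map `ψ` is an epimorphism of rings onto `k`. -/
theorem exists_etale_algHom_epi (R : Type u) [CommRing R] (κ k : Type u) [Field κ] [Field k]
    [Algebra R κ] [Algebra κ k] [Algebra R k] [IsScalarTower R κ k] [FiniteDimensional κ k]
    [Algebra.IsSeparable κ k]
    (hκ : ∀ c : κ, ∃ a b : R, algebraMap R κ b ≠ 0 ∧ c * algebraMap R κ b = algebraMap R κ a) :
    ∃ (R' : Type u) (_ : CommRing R') (_ : Algebra R R') (_ : Algebra.Etale R R')
      (ψ : R' →ₐ[R] k), ∀ (T : Type u) [CommRing T] (f₁ f₂ : k →+* T),
        f₁.comp ψ.toRingHom = f₂.comp ψ.toRingHom → f₁ = f₂ := by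
  classical
  obtain ⟨θ, hθ⟩ := Field.exists_primitive_element κ k
  set m := minpoly κ θ with hm
  choose a b hb hab using hκ
  -- common denominator
  let d : R := ∏ i ∈ Finset.range (m.natDegree + 1), b (m.coeff i)
  have hd : algebraMap R κ d ≠ 0 := by
    rw [map_prod]
    exact Finset.prod_ne_zero_iff.mpr fun i _ ↦ hb _
  let A := Localization.Away d
  let ρA : A →ₐ[R] κ := IsLocalization.liftAlgHom (M := Submonoid.powers d) (f := Algebra.ofId R κ)
    (by
      rintro ⟨_, n, rfl⟩
      change IsUnit (algebraMap R κ (d ^ n))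
      rw [map_pow]
      exact (IsUnit.mk0 _ hd).pow n)
  let _ : Algebra A κ := ρA.toRingHom.toAlgebra
  have : IsScalarTower R A κ := .of_algebraMap_eq fun x ↦ (ρA.commutes x).symm
  let _ : Algebra A k := ((algebraMap κ k).comp (algebraMap A κ)).toAlgebra
  have : IsScalarTower A κ k := .of_algebraMap_eq fun x ↦ rfl
  have : IsScalarTower R A k := .of_algebraMap_eq fun x ↦ by
    rw [IsScalarTower.algebraMap_apply A κ k, ← IsScalarTower.algebraMap_apply R A κ,
      ← IsScalarTower.algebraMap_apply R κ k]
  have hrange : ∀ i, m.coeff i ∈ (algebraMap A κ).range := by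
    intro i
    by_cases hi : i ∈ Finset.range (m.natDegree + 1)
    · set c := m.coeff i with hc
      have hdvd : b c ∣ d := Finset.dvd_prod_of_mem (fun i ↦ b (m.coeff i)) hi
      obtain ⟨r, hr⟩ := hdvd
      have hu : IsUnit (algebraMap R A (b c)) := by
        have h1 : IsUnit (algebraMap R A d) := IsLocalization.Away.algebraMap_isUnit d
        have h1' : IsUnit (algebraMap R A (b c) * algebraMap R A r) := by
          rw [← map_mul, ← hr]; exact h1
        exact isUnit_of_mul_isUnit_left h1'
      obtain ⟨u, hu⟩ := hu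
      refine ⟨algebraMap R A (a c) * ↑u⁻¹, ?_⟩
      have h2 : algebraMap A κ (↑u) = algebraMap R κ (b c) := by
        rw [hu, ← IsScalarTower.algebraMap_apply]
      apply mul_right_cancel₀ (hb c)
      rw [hab c, ← h2, ← map_mul, mul_assoc, Units.inv_mul, mul_one,
        ← IsScalarTower.algebraMap_apply]
    · have : m.coeff i = 0 := by
        apply Polynomial.coeff_eq_zero_of_natDegree_lt
        simpa [Finset.mem_range, Nat.lt_succ_iff, not_le] using hi
      rw [this]
      exact zero_mem _
  have hlifts : m ∈ Polynomial.lifts (algebraMap A κ) := by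
    rw [Polynomial.lifts_iff_coeff_lifts]
    exact hrange
  have hmonic : m.Monic := minpoly.monic (Algebra.IsIntegral.isIntegral θ)
  obtain ⟨F, hFm, -, hFmonic⟩ := Polynomial.lifts_and_natDegree_eq_and_monic hlifts hmonic
  let P : StandardEtalePair A := ⟨F, hFmonic, derivative F, ⟨1, 0, 1, by simp⟩⟩
  have hsep : m.Separable := Algebra.IsSeparable.isSeparable κ θ
  have hmap : P.HasMap θ := by
    constructor
    · change aeval θ F = 0
      rw [← Polynomial.aeval_map_algebraMap κ, hFm]
      exact minpoly.aeval κ θ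
    · change IsUnit (aeval θ (derivative F))
      rw [← Polynomial.aeval_map_algebraMap κ, ← Polynomial.derivative_map, hFm]
      exact IsUnit.mk0 _ (hsep.aeval_derivative_ne_zero (minpoly.aeval κ θ))
  let ψA : P.Ring →ₐ[A] k := P.lift θ hmap
  let _ : Algebra R P.Ring := Algebra.compHom _ (algebraMap R A)
  have : IsScalarTower R A P.Ring := .of_algebraMap_eq' rfl
  have : Algebra.Etale R P.Ring := .comp R A P.Ring
  refine ⟨P.Ring, inferInstance, inferInstance, inferInstance, ψA.restrictScalars R, ?_⟩
  intro T _ f₁ f₂ hf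
  have hf' : ∀ x : P.Ring, f₁ (ψA x) = f₂ (ψA x) := fun x ↦ congr($hf x)
  have hfA : ∀ x : A, f₁ (algebraMap A k x) = f₂ (algebraMap A k x) := by
    intro x
    have := hf' (algebraMap A P.Ring x)
    rwa [ψA.commutes] at this
  have hfR : ∀ x : R, f₁ (algebraMap R k x) = f₂ (algebraMap R k x) := by
    intro x
    rw [IsScalarTower.algebraMap_apply R A k]
    exact hfA _
  apply ringHom_ext_of_adjoin_simple θ hθ f₁ f₂
  · intro c
    -- `c = ρ(a)/ρ(b)`
    have h1 : algebraMap κ k c * algebraMap R k (b c) = algebraMap R k (a c) := by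
      rw [IsScalarTower.algebraMap_apply R κ k, IsScalarTower.algebraMap_apply R κ k, ← map_mul,
        hab c]
    have hbk : algebraMap R k (b c) ≠ 0 := by
      rw [IsScalarTower.algebraMap_apply R κ k]
      exact (_root_.map_ne_zero _).mpr (hb c)
    have hu : IsUnit (f₁ (algebraMap R k (b c))) := (IsUnit.mk0 _ hbk).map f₁
    apply hu.mul_left_injective
    change f₁ (algebraMap κ k c) * f₁ (algebraMap R k (b c)) =
      f₂ (algebraMap κ k c) * f₁ (algebraMap R k (b c))
    conv_rhs => rw [hfR (b c)]
    rw [← map_mul, ← map_mul, h1, hfR]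
  · have := hf' P.X
    rwa [StandardEtalePair.lift_X] at this

end Groth.Agent.H7
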