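import Mathlib
import Groth.Agent.H7.EtaleResidue
import Groth.Agent.H7.EtaleLocalChart

set_option autoImplicit false
universe u

namespace Groth.Agent.H7

open AlgebraicGeometry CategoryTheory Limits

/-- Every finite separable extension of a residue field of a scheme is the residue field of an
étale neighbourhood. Categorical form: a morphism `t : Spec k ⟶ U` with `U` étale over `S`. -/
theorem exists_etale_nbhd_Spec_field (S : Scheme.{u}) (s : S) (k : Type u) [Field k]
    [Algebra (S.residueField s) k] [FiniteDimensional (S.residueField s) k]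
    [Algebra.IsSeparable (S.residueField s) k] :
    ∃ (U : Scheme.{u}) (g : U ⟶ S) (t : Spec (.of k) ⟶ U), IsAffine U ∧ Etale g ∧ Mono t ∧
      t ≫ g = Spec.map (CommRingCat.ofHom (algebraMap (S.residueField s) k)) ≫
        S.fromSpecResidueField s := by
  obtain ⟨_, ⟨U₀, hU₀, rfl⟩, hsU, -⟩ := S.isBasis_affineOpens.exists_subset_of_mem_open
    (Set.mem_univ s) isOpen_univ
  let ρ : Γ(S, U₀) ⟶ S.residueField s := S.presheaf.germ U₀ s hsU ≫ S.residue s
  let _ : Algebra Γ(S, U₀) (S.residueField s) := ρ.hom.toAlgebra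
  let _ : Algebra Γ(S, U₀) k :=
    ((algebraMap (S.residueField s) k).comp (algebraMap Γ(S, U₀) (S.residueField s))).toAlgebra
  have : IsScalarTower Γ(S, U₀) (S.residueField s) k := .of_algebraMap_eq fun x ↦ rfl
  have hκ : ∀ c : S.residueField s, ∃ a b : Γ(S, U₀),
      algebraMap Γ(S, U₀) (S.residueField s) b ≠ 0 ∧
      c * algebraMap Γ(S, U₀) (S.residueField s) b =
        algebraMap Γ(S, U₀) (S.residueField s) a := by
    intro c
    obtain ⟨z, rfl⟩ := IsLocalRing.residue_surjective (R := S.presheaf.stalk s) c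
    let _ : Algebra Γ(S, U₀) (S.presheaf.stalk s) := (S.presheaf.germ U₀ s hsU).hom.toAlgebra
    have hloc := hU₀.isLocalization_stalk ⟨s, hsU⟩
    obtain ⟨⟨a, b⟩, hab⟩ := IsLocalization.surj (hU₀.primeIdealOf ⟨s, hsU⟩).asIdeal.primeCompl z
    refine ⟨a, b, ?_, ?_⟩
    · have hu : IsUnit (algebraMap Γ(S, U₀) (S.presheaf.stalk s) b) :=
        IsLocalization.map_units _ b
      change IsLocalRing.residue _ (algebraMap Γ(S, U₀) (S.presheaf.stalk s) b) ≠ 0
      exact (hu.map (IsLocalRing.residue _)).ne_zero
    · change IsLocalRing.residue _ z * IsLocalRing.residue _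
        (algebraMap Γ(S, U₀) (S.presheaf.stalk s) b) =
        IsLocalRing.residue _ (algebraMap Γ(S, U₀) (S.presheaf.stalk s) a)
      rw [← map_mul, hab]
  obtain ⟨R', _, _, _, ψ, hψ⟩ := exists_etale_algHom_epi Γ(S, U₀) (S.residueField s) k hκ
  let φ : Γ(S, U₀) ⟶ .of R' := CommRingCat.ofHom <| algebraMap Γ(S, U₀) R'
  have hφ : φ.hom.Etale := RingHom.etale_algebraMap.mpr ‹_›
  have : Etale (Spec.map φ) := HasRingHomProperty.Spec_iff.mpr hφ
  let ψ' : CommRingCat.of R' ⟶ CommRingCat.of k := CommRingCat.ofHom ψ.toRingHom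
  have hepi : Epi ψ' := by
    constructor
    intro T f₁ f₂ h
    ext1
    apply hψ T f₁.hom f₂.hom
    exact congr($(h).hom)
  have hmono : Mono (Spec.map ψ') := by
    have : Mono ψ'.op := inferInstance
    exact Scheme.Spec.map_mono ψ'.op
  refine ⟨Spec (.of R'), Spec.map φ ≫ hU₀.fromSpec, Spec.map ψ', inferInstance, inferInstance,
    hmono, ?_⟩
  have h1 : φ ≫ ψ' = ρ ≫ CommRingCat.ofHom (algebraMap (S.residueField s) k) := by
    ext x
    exact ψ.commutes x
  rw [← Category.assoc, ← Spec.map_comp, h1, Spec.map_comp, Category.assoc]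
  congr 1
  rw [Scheme.fromSpecResidueField, ← hU₀.fromSpecStalk_eq_fromSpecStalk hsU,
    IsAffineOpen.fromSpecStalk, ← Category.assoc, ← Spec.map_comp]


/-- Every finite separable extension of a residue field of a scheme is the residue field of an
étale neighbourhood. -/
theorem exists_etale_nbhd_residueField_algEquiv (S : Scheme.{u}) (s : S) (k : Type u) [Field k]
    [Algebra (S.residueField s) k] [FiniteDimensional (S.residueField s) k]
    [Algebra.IsSeparable (S.residueField s) k] :
    ∃ (U : Scheme.{u}) (g : U ⟶ S) (u : U) (hu : g u = s), IsAffine U ∧ Etale g ∧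
      letI := ((S.residueFieldCongr hu).inv ≫ g.residueFieldMap u).hom.toAlgebra
      Nonempty (k ≃ₐ[S.residueField s] U.residueField u) := by
  obtain ⟨U, g, t, hUaff, hget, hmono, ht⟩ := exists_etale_nbhd_Spec_field S s k
  let pt : Spec (.of k) := IsLocalRing.closedPoint k
  let u : U := t pt
  have hu : g u = s := by
    have h1 : (t ≫ g) pt = g u := Scheme.Hom.comp_apply _ _ _
    rw [← h1, ht, Scheme.Hom.comp_apply, Scheme.fromSpecResidueField_apply]
  let δ : U.residueField u ⟶ .of k := U.descResidueField (Scheme.stalkClosedPointTo t)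
  have hδ : Spec.map δ ≫ U.fromSpecResidueField u = t :=
    Scheme.descResidueField_stalkClosedPointTo_fromSpecResidueField k U t
  have hδmono : Mono (Spec.map δ) := by
    have : Mono (Spec.map δ ≫ U.fromSpecResidueField u) := hδ ▸ hmono
    exact mono_of_mono _ (U.fromSpecResidueField u)
  have hδepi : Epi δ := by
    have : Mono δ.op := Scheme.Spec.mono_of_mono_map hδmono
    exact unop_epi_of_mono δ.op
  have hδsurj : Function.Surjective δ.hom :=
    @surjective_of_epi_of_field' (IsLocalRing.ResidueField _) _ _ _ δ hδepi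
  refine ⟨U, g, u, hu, hUaff, hget, ?_⟩
  let _ := ((S.residueFieldCongr hu).inv ≫ g.residueFieldMap u).hom.toAlgebra
  have hcompat : ((S.residueFieldCongr hu).inv ≫ g.residueFieldMap u) ≫ δ =
      CommRingCat.ofHom (algebraMap (S.residueField s) k) := by
    apply Spec.map_injective
    rw [← cancel_mono (S.fromSpecResidueField s), ← ht, ← hδ]
    simp only [Spec.map_comp, Category.assoc]
    have hcongr : Spec.map (S.residueFieldCongr hu).inv ≫ S.fromSpecResidueField s =
        S.fromSpecResidueField (g u) := by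
      rw [← Scheme.residueFieldCongr_fromSpecResidueField hu, ← Category.assoc, ← Spec.map_comp,
        Iso.hom_inv_id, Spec.map_id, Category.id_comp]
    rw [hcongr, Scheme.Hom.SpecMap_residueFieldMap_fromSpecResidueField]
  let δa : U.residueField u →ₐ[S.residueField s] k :=
    { δ.hom with
      commutes' := fun c ↦ congr($(hcompat).hom c) }
  exact ⟨(AlgEquiv.ofBijective δa ⟨δ.hom.injective, hδsurj⟩).symm⟩

end Groth.Agent.H7
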