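import Mathlib

set_option autoImplicit false
universe u

namespace Groth.Agent.H7

open Polynomial IntermediateField

/-- All conjugates (in any field) of the elements of `K` separable over `k` lie in `k''`. -/
def SepConjIn {k K k'' : Type u} [Field k] [Field K] [Field k''] (a : k →+* K) (b : k →+* k'') :
    Prop :=
  ∀ (Ω : Type u) [Field Ω] (φ : K →+* Ω) (ψ : k'' →+* Ω), φ.comp a = ψ.comp b →
    ∀ e : K, (∃ p : k[X], p.Separable ∧ p.eval₂ a e = 0) → φ e ∈ ψ.range

theorem SepConjIn.comp {k K k'' k''' : Type u} [Field k] [Field K] [Field k''] [Field k''']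
    {a : k →+* K} {b : k →+* k''} (h : SepConjIn a b) (c : k'' →+* k''') :
    SepConjIn a (c.comp b) := by
  intro Ω _ φ ψ hφψ e he
  obtain ⟨z, hz⟩ := h Ω φ (ψ.comp c) (by rw [hφψ, RingHom.comp_assoc]) e he
  exact ⟨c z, hz⟩

theorem sepConjIn_of_normal (k K k'' : Type u) [Field k] [Field K] [Field k''] [Algebra k K]
    [Algebra k k''] [Normal k k''] (ι : separableClosure k K →ₐ[k] k'') :
    SepConjIn (algebraMap k K) (algebraMap k k'') := by
  intro Ω _ φ ψ hφψ e ⟨p, hp, hpe⟩
  have hp0 : p ≠ 0 := hp.ne_zero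
  have hpe' : aeval e p = 0 := by rwa [aeval_def]
  have hint : IsIntegral k e := (IsAlgebraic.isIntegral ⟨p, hp0, hpe'⟩)
  have hsep : IsSeparable k e := hp.of_dvd (minpoly.dvd k e hpe')
  have heE : e ∈ separableClosure k K := mem_separableClosure_iff.mpr hsep
  let e' : separableClosure k K := ⟨e, heE⟩
  have hm : minpoly k (ι e') = minpoly k e := by
    rw [minpoly.algHom_eq ι ι.injective]
    exact IntermediateField.minpoly_eq e'
  have hsplit : ((minpoly k e).map (algebraMap k k'')).Splits :=
    hm ▸ Normal.splits inferInstance (ι e')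
  let _ : Algebra k Ω := (ψ.comp (algebraMap k k'')).toAlgebra
  let ψa : k'' →ₐ[k] Ω := { ψ with commutes' := fun _ ↦ rfl }
  have himg := hsplit.image_rootSet ψa
  have hroot : φ e ∈ (minpoly k e).rootSet Ω := by
    rw [mem_rootSet]
    refine ⟨minpoly.ne_zero hint, ?_⟩
    have h1 : aeval (φ e) (minpoly k e) = φ (aeval e (minpoly k e)) := by
      rw [aeval_def, aeval_def, hom_eval₂]
      congr 1
      exact hφψ.symm
    rw [h1, minpoly.aeval, map_zero]
  rw [← himg] at hroot
  obtain ⟨z, -, hz⟩ := hroot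
  exact ⟨z, hz⟩

theorem isPurelyInseparable_of_sepConjIn {k K k'' L : Type u} [Field k] [Field K] [Field k'']
    [Field L] (a : k →+* K) (b : k →+* k'') (α : K →+* L) (β : k'' →+* L)
    (hcomm : α.comp a = β.comp b) (halg : a.IsIntegral) (hR : SepConjIn a b)
    (hepi : ∀ (φ₁ φ₂ : L →+* AlgebraicClosure L), φ₁.comp α = φ₂.comp α →
      φ₁.comp β = φ₂.comp β → φ₁ = φ₂) :
    letI := β.toAlgebra
    IsPurelyInseparable k'' L := by
  let _ := β.toAlgebra
  have : Nonempty (L →+* AlgebraicClosure L) := ⟨algebraMap _ _⟩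
  apply IsPurelyInseparable.of_injective_comp_algebraMap k'' L (AlgebraicClosure L)
  intro φ₁ φ₂ h
  apply hepi φ₁ φ₂ ?_ h
  algebraize [a]
  have : Algebra.IsAlgebraic k K := ⟨fun x ↦ IsIntegral.isAlgebraic (halg x)⟩
  apply IsPurelyInseparable.injective_comp_algebraMap (separableClosure k K) K (AlgebraicClosure L)
  ext ⟨e, he⟩
  have hsep : IsSeparable k e := mem_separableClosure_iff.mp he
  obtain ⟨z, hz⟩ := hR L α β hcomm e ⟨minpoly k e, hsep, by
    rw [← RingHom.algebraMap_toAlgebra a, ← aeval_def, minpoly.aeval]⟩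
  change φ₁ (α e) = φ₂ (α e)
  rw [← hz]
  exact congr($h z)

/-- A finite Galois extension into which all separable closures of a finite family of finite
extensions embed. -/
theorem exists_galois_of_family (k : Type u) [Field k] {ι : Type} [Finite ι] (K : ι → Type u)
    [∀ i, Field (K i)] [∀ i, Algebra k (K i)] [∀ i, FiniteDimensional k (K i)] :
    ∃ (k' : Type u) (_ : Field k') (_ : Algebra k k'), FiniteDimensional k k' ∧ IsGalois k k' ∧
      ∀ i, Nonempty (separableClosure k (K i) →ₐ[k] k') := by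
  let Ω := SeparableClosure k
  let N : ι → IntermediateField k Ω := fun i ↦ normalClosure k (separableClosure k (K i)) Ω
  let L : IntermediateField k Ω := ⨆ i, N i
  have hfin : FiniteDimensional k L := IntermediateField.finiteDimensional_iSup_of_finite
  have hnorm : Normal k L := IntermediateField.normal_iSup k Ω N
  have hsep : Algebra.IsSeparable k L := Algebra.isSeparable_tower_bot_of_isSeparable k L Ω
  refine ⟨L, inferInstance, inferInstance, hfin, ⟨⟩, fun i ↦ ?_⟩
  let j : separableClosure k (K i) →ₐ[k] Ω := IsSepClosed.lift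
  refine ⟨j.codRestrict L.toSubalgebra fun x ↦ ?_⟩
  exact (le_iSup N i) (j.fieldRange_le_normalClosure ⟨x, rfl⟩)

end Groth.Agent.H7
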