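import Mathlib
import Groth.Agent.H7.SepSplit
import Groth.Agent.H7.EtaleLocal
import Groth.Agent.H7.EtaleNbhdResidue

set_option autoImplicit false
universe u

namespace Groth.Agent.H7

open AlgebraicGeometry CategoryTheory Limits

/-- A quasi-finite local homomorphism of local rings induces a finite residue field extension. -/
theorem finite_residueField_of_quasiFinite {R S : Type*} [CommRing R] [CommRing S] [IsLocalRing R]
    [IsLocalRing S] [Algebra R S] [IsLocalHom (algebraMap R S)] [Algebra.QuasiFinite R S] :
    Module.Finite (IsLocalRing.ResidueField R) (IsLocalRing.ResidueField S) := by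
  have h1 : Algebra.QuasiFinite R (IsLocalRing.ResidueField S) :=
    inferInstanceAs (Algebra.QuasiFinite R (S ⧸ IsLocalRing.maximalIdeal S))
  have h2 : Algebra.QuasiFinite (IsLocalRing.ResidueField R) (IsLocalRing.ResidueField S) :=
    .of_restrictScalars R _ _
  exact Module.Finite.of_quasiFinite

/-- A quasi-finite local homomorphism of local rings induces a finite residue field extension. -/
theorem finite_residueField_map_of_quasiFinite {R S : Type*} [CommRing R] [CommRing S]
    [IsLocalRing R] [IsLocalRing S] (φ : R →+* S) [IsLocalHom φ] (h : φ.QuasiFinite) :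
    (IsLocalRing.ResidueField.map φ).Finite := by
  algebraize [φ]
  have : IsLocalHom (algebraMap R S) := ‹IsLocalHom φ›
  have := finite_residueField_of_quasiFinite (R := R) (S := S)
  have heq : IsLocalRing.ResidueField.map φ =
      algebraMap (IsLocalRing.ResidueField R) (IsLocalRing.ResidueField S) := by
    ext x
    obtain ⟨x, rfl⟩ := IsLocalRing.residue_surjective x
    rw [IsLocalRing.ResidueField.algebraMap_residue]
    rfl
  rw [heq]
  exact RingHom.finite_algebraMap.mpr this

/-- The residue field extension at a quasi-finite point is finite. -/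
theorem finite_residueFieldMap_of_quasiFiniteAt {X S : Scheme.{u}} (f : X ⟶ S) (x : X)
    (h : f.QuasiFiniteAt x) : (f.residueFieldMap x).hom.Finite :=
  finite_residueField_map_of_quasiFinite (f.stalkMap x).hom h

/-- Quasi-finiteness at a point is stable under base change. -/
theorem quasiFiniteAt_snd {X S U : Scheme.{u}} (f : X ⟶ S) [LocallyOfFiniteType f] (g : U ⟶ S)
    (w : ↑(pullback f g)) (h : f.QuasiFiniteAt (pullback.fst f g w)) :
    (pullback.snd f g).QuasiFiniteAt w := by
  let W := f.quasiFiniteLocus
  let W' := (pullback.fst f g) ⁻¹ᵁ W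
  have hw : w ∈ W' := h
  have hpb : IsPullback (pullback.fst f g ∣_ W) W'.ι W.ι (pullback.fst f g) :=
    isPullback_morphismRestrict _ _
  have hpb2 : IsPullback (pullback.fst f g ∣_ W) (W'.ι ≫ pullback.snd f g) (W.ι ≫ f) g :=
    hpb.paste_vert (IsPullback.of_hasPullback f g)
  have : LocallyQuasiFinite (W'.ι ≫ pullback.snd f g) :=
    MorphismProperty.of_isPullback hpb2 (inferInstance : LocallyQuasiFinite (W.ι ≫ f))
  have := (W'.ι ≫ pullback.snd f g).quasiFiniteAt ⟨w, hw⟩
  rwa [Scheme.Hom.quasiFiniteAt_comp_iff_of_isOpenImmersion] at this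


open Scheme.Pullback in
/-- There are only finitely many points of a fibre product over a given pair of points, if one of
the residue field extensions is finite. -/
theorem finite_setOf_fst_eq_snd_eq {X S U : Scheme.{u}} (f : X ⟶ S) (g : U ⟶ S) (x : X) (u : U)
    (hg : (g.residueFieldMap u).hom.Finite) :
    {w : ↑(pullback f g) | pullback.fst f g w = x ∧ pullback.snd f g w = u}.Finite := by
  by_cases h : f x = g u
  · let T : Triplet f g := .mk' x u h
    have h1 : IsFinite (Spec.map ((S.residueFieldCongr T.hy).inv ≫ g.residueFieldMap T.y)) := by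
      rw [IsFinite.SpecMap_iff, CommRingCat.hom_comp]
      refine RingHom.Finite.comp hg ?_
      exact RingHom.Finite.of_surjective _
        (ConcreteCategory.bijective_of_isIso (S.residueFieldCongr T.hy).inv).2
    have h2 : IsFinite (Spec.map T.tensorInl) :=
      MorphismProperty.of_isPullback T.isPullback_SpecMap_tensor.flip h1
    have hfin : Finite (Spec T.tensor) := by
      have h3 := (Spec.map T.tensorInl).finite_preimage_singleton
        (IsLocalRing.closedPoint (X.residueField T.x))
      have h4 : (Spec.map T.tensorInl) ⁻¹' {IsLocalRing.closedPoint (X.residueField T.x)} =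
          Set.univ := by
        ext z
        simp only [Set.mem_preimage, Set.mem_univ, iff_true]
        exact Subsingleton.elim (α := PrimeSpectrum (X.residueField T.x)) _ _
      exact Set.finite_univ_iff.mp (h4 ▸ h3)
    refine (Set.finite_range T.SpecTensorTo).subset ?_
    rintro w ⟨hw1, hw2⟩
    have e : Triplet.ofPoint w = T := Triplet.ext hw1 hw2
    have key : ∀ (T' : Triplet f g), Triplet.ofPoint w = T' → w ∈ Set.range T'.SpecTensorTo := by
      rintro _ rfl
      exact ⟨SpecOfPoint w, SpecTensorTo_SpecOfPoint w⟩
    exact key T e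
  · convert Set.finite_empty
    ext w
    simp only [Set.mem_ofPred_eq, Set.mem_empty_iff_false, iff_false, not_and]
    rintro rfl rfl
    apply h
    exact congr($(pullback.condition (f := f) (g := g)) w)

open Scheme.Pullback in
/-- The residue field of a point of a fibre product is generated (in the epi sense) by the residue
fields of its projections. -/
theorem epi_ofPointTensor {X S U : Scheme.{u}} (f : X ⟶ S) (g : U ⟶ S) (w : ↑(pullback f g)) :
    Epi (ofPointTensor w) := by
  let T := Triplet.ofPoint w
  have m1 : Mono (Spec.map (ofPointTensor w) ≫ T.SpecTensorTo) := by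
    rw [ofPointTensor_SpecTensorTo]
    infer_instance
  have m2 : Mono (Spec.map (ofPointTensor w)) := mono_of_mono _ T.SpecTensorTo
  have : Mono (ofPointTensor w).op := Scheme.Spec.mono_of_mono_map m2
  exact unop_epi_of_mono (ofPointTensor w).op

open Scheme.Pullback in
/-- If `U → S` at `u` contains all conjugates of the separable part of `κ(x)/κ(s)`, then the
residue field of any point of the fibre product over `(x, u)` is purely inseparable over
`κ(u)`. -/
theorem isPurelyInseparable_residueFieldMap_snd {X S U : Scheme.{u}} (f : X ⟶ S) (g : U ⟶ S)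
    (v : ↑(pullback f g)) (x : X) (u : U) (s : S) (hx : pullback.fst f g v = x)
    (hu : pullback.snd f g v = u) (hxs : f x = s) (hus : g u = s)
    (hint : ((S.residueFieldCongr hxs).inv ≫ f.residueFieldMap x).hom.IsIntegral)
    (hR : SepConjIn ((S.residueFieldCongr hxs).inv ≫ f.residueFieldMap x).hom
      ((S.residueFieldCongr hus).inv ≫ g.residueFieldMap u).hom) :
    letI := ((pullback.snd f g).residueFieldMap v).hom.toAlgebra
    IsPurelyInseparable (U.residueField (pullback.snd f g v)) ((pullback f g).residueField v) := by
  subst hx hu hxs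
  have hcomm := residueFieldCongr_inv_residueFieldMap_ofPoint v
  have hepi := epi_ofPointTensor f g v
  refine isPurelyInseparable_of_sepConjIn _ _ ((pullback.fst f g).residueFieldMap v).hom
    ((pullback.snd f g).residueFieldMap v).hom ?_ hint hR ?_
  · exact congr($(hcomm).hom)
  · intro φ₁ φ₂ h1 h2
    let T := Triplet.ofPoint v
    have hl : T.tensorInl ≫ ofPointTensor v = (pullback.fst f g).residueFieldMap v :=
      pushout.inl_desc _ _ _
    have hr : T.tensorInr ≫ ofPointTensor v = (pullback.snd f g).residueFieldMap v :=
      pushout.inr_desc _ _ _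
    have : CommRingCat.ofHom φ₁ = CommRingCat.ofHom φ₂ := by
      rw [← cancel_epi (ofPointTensor v)]
      apply pushout.hom_ext
      · change T.tensorInl ≫ ofPointTensor v ≫ _ = T.tensorInl ≫ ofPointTensor v ≫ _
        rw [reassoc_of% hl, reassoc_of% hl]
        ext1
        exact h1
      · change T.tensorInr ≫ ofPointTensor v ≫ _ = T.tensorInr ≫ ofPointTensor v ≫ _
        rw [reassoc_of% hr, reassoc_of% hr]
        ext1
        exact h2
    exact congr($(this).hom)


/-- Compatibility of residue field maps with composition, with propositional equalities of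
points. -/
theorem residueFieldCongr_inv_residueFieldMap_comp {U₂ U₁ S : Scheme.{u}} (g₂ : U₂ ⟶ U₁)
    (g₁ : U₁ ⟶ S) (u₂ : U₂) (u₁ : U₁) (s : S) (hu₂ : g₂ u₂ = u₁) (hu₁ : g₁ u₁ = s)
    (hus : (g₂ ≫ g₁) u₂ = s) :
    (S.residueFieldCongr hus).inv ≫ (g₂ ≫ g₁).residueFieldMap u₂ =
      ((S.residueFieldCongr hu₁).inv ≫ g₁.residueFieldMap u₁) ≫
        (U₁.residueFieldCongr hu₂).inv ≫ g₂.residueFieldMap u₂ := by
  subst hu₂ hu₁
  simp [Scheme.residueFieldMap_comp]

end Groth.Agent.H7
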