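import Mathlib
import Groth.Prelude.Def_MoreMor
import Groth.Agent.H7.PurelyInsepSplit

set_option autoImplicit false
universe u

namespace Groth.Agent.H7

open AlgebraicGeometry CategoryTheory Limits IsLocalRing

/-- The number of extensions of an embedding into an algebraically closed field along an algebraic
field extension is the separable degree. -/
theorem card_ringHom_extension_eq_finSepDegree {F E Ω : Type*} [Field F] [Field E] [Field Ω]
    [IsAlgClosed Ω] (φ : F →+* E) (hφ : φ.IsIntegral) (ι : F →+* Ω) :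
    Nat.card {σ : E →+* Ω // σ.comp φ = ι} =
      (letI := φ.toAlgebra; Field.finSepDegree F E) := by
  algebraize [φ]
  let _ : Algebra F Ω := ι.toAlgebra
  have : Algebra.IsAlgebraic F E := ⟨fun x ↦ IsIntegral.isAlgebraic (hφ x)⟩
  rw [Field.finSepDegree_eq_of_isAlgClosed F E Ω]
  apply Nat.card_congr
  exact
    { toFun := fun σ ↦ { σ.1 with commutes' := fun r ↦ congr($(σ.2) r) }
      invFun := fun a ↦ ⟨a.toRingHom, by ext r; exact a.commutes r⟩
      left_inv := fun σ ↦ rfl
      right_inv := fun a ↦ rfl }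

/-- The separable degree is invariant under replacing the top field by an isomorphic one. -/
theorem finSepDegree_comp_ringEquiv {F E E' : Type*} [Field F] [Field E] [Field E']
    (φ : F →+* E) (e : E ≃+* E') :
    (letI := (e.toRingHom.comp φ).toAlgebra; Field.finSepDegree F E') =
      (letI := φ.toAlgebra; Field.finSepDegree F E) := by
  let _ := φ.toAlgebra
  let _ := (e.toRingHom.comp φ).toAlgebra
  let e' : E ≃ₐ[F] E' := { e with commutes' := fun r ↦ rfl }
  exact (Field.finSepDegree_eq_of_equiv F E E' e').symm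

/-- The separable degree of the residue field extension of `π` at `p`. -/
noncomputable def sepDeg {U V : Scheme.{u}} (π : U ⟶ V) (p : U) : ℕ :=
  letI := (π.residueFieldMap p).hom.toAlgebra
  Field.finSepDegree (V.residueField (π p)) (U.residueField p)

theorem fibreIntegral_eq_finsum_subtype {U V : Scheme.{u}} (π : U ⟶ V) (w : U → ℤ) (v : V) :
    MoreMor.fibreIntegral π w v = ∑ᶠ p : {p : U // π p = v}, w p.1 * (sepDeg π p.1 : ℤ) := rfl

theorem fibreIntegral_eq_finsum_mem {U V : Scheme.{u}} (π : U ⟶ V) (w : U → ℤ) (v : V) :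
    MoreMor.fibreIntegral π w v = ∑ᶠ p ∈ π ⁻¹' {v}, w p * (sepDeg π p : ℤ) := by
  rw [fibreIntegral_eq_finsum_subtype]
  exact finsum_set_coe_eq_finsum_mem (π ⁻¹' {v}) (f := fun p ↦ w p * (sepDeg π p : ℤ))

theorem sepDeg_comp_of_bijective {U' U V : Scheme.{u}} (j : U' ⟶ U) (π : U ⟶ V) (p : U')
    (hj : Function.Bijective (j.residueFieldMap p).hom) : sepDeg (j ≫ π) p = sepDeg π (j p) := by
  have h1 : (j ≫ π).residueFieldMap p = π.residueFieldMap (j p) ≫ j.residueFieldMap p :=
    Scheme.residueFieldMap_comp _ _ _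
  unfold sepDeg
  rw [h1]
  exact finSepDegree_comp_ringEquiv (π.residueFieldMap (j p)).hom (RingEquiv.ofBijective _ hj)

theorem sepDeg_comp_of_isOpenImmersion {U' U V : Scheme.{u}} (j : U' ⟶ U) [IsOpenImmersion j]
    (π : U ⟶ V) (p : U') : sepDeg (j ≫ π) p = sepDeg π (j p) :=
  sepDeg_comp_of_bijective j π p (ConcreteCategory.bijective_of_isIso _)

theorem sepDeg_pos_of_finite {U V : Scheme.{u}} (π : U ⟶ V) (p : U)
    (h : (π.residueFieldMap p).hom.Finite) : 0 < sepDeg π p := by
  let _ := (π.residueFieldMap p).hom.toAlgebra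
  have : FiniteDimensional (V.residueField (π p)) (U.residueField p) := h
  exact Nat.pos_of_ne_zero
    (NeZero.ne (Field.finSepDegree (V.residueField (π p)) (U.residueField p)))

theorem sepDeg_eq_one_of_isPurelyInseparable {U V : Scheme.{u}} (π : U ⟶ V) (p : U)
    (h : letI := (π.residueFieldMap p).hom.toAlgebra
      IsPurelyInseparable (V.residueField (π p)) (U.residueField p)) : sepDeg π p = 1 := by
  let _ := (π.residueFieldMap p).hom.toAlgebra
  exact IsPurelyInseparable.finSepDegree_eq_one _ _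


section GeomPoints

/-- The closed point of the spectrum of a field, as a point of the scheme. -/
noncomputable def geomPt (Ω : Type u) [Field Ω] : ↥(Spec (CommRingCat.of Ω)) := closedPoint Ω

/-- The embedding of the residue field at the image point of a geometric point. -/
noncomputable def geomPointEmb {V : Scheme.{u}} (Ω : Type u) [Field Ω] (c : Spec (.of Ω) ⟶ V) :
    V.residueField (c (geomPt Ω)) ⟶ .of Ω :=
  (V.descResidueField (Scheme.stalkClosedPointTo c) :
    V.residueField (c (closedPoint Ω)) ⟶ .of Ω)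

theorem SpecMap_geomPointEmb {V : Scheme.{u}} (Ω : Type u) [Field Ω] (c : Spec (.of Ω) ⟶ V) :
    Spec.map (geomPointEmb Ω c) ≫ V.fromSpecResidueField (c (geomPt Ω)) = c :=
  Scheme.descResidueField_stalkClosedPointTo_fromSpecResidueField Ω V c

theorem geomPointEmb_congr {V : Scheme.{u}} (Ω : Type u) [Field Ω] (c c' : Spec (.of Ω) ⟶ V)
    (h : c' = c) (hp : c' (geomPt Ω) = c (geomPt Ω)) :
    geomPointEmb Ω c' = (V.residueFieldCongr hp).hom ≫ geomPointEmb Ω c := by
  subst h
  simp

theorem geomPointEmb_comp {U V : Scheme.{u}} (π : U ⟶ V) (Ω : Type u) [Field Ω]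
    (t : Spec (.of Ω) ⟶ U) :
    geomPointEmb Ω (t ≫ π) = π.residueFieldMap (t (geomPt Ω)) ≫ geomPointEmb Ω t :=
  Scheme.descResidueField_stalkClosedPointTo_comp π t

variable {U V : Scheme.{u}} (π : U ⟶ V) (Ω : Type u) [Field Ω] (c : Spec (.of Ω) ⟶ V)

/-- The data describing a lift of a geometric point: a point of the fibre and an extension of the
embedding of residue fields. -/
def GeomLiftData : Type u :=
  Σ p : {p : U // π p = c (geomPt Ω)}, {σ : U.residueField p.1 ⟶ .of Ω //
    π.residueFieldMap p.1 ≫ σ = (V.residueFieldCongr p.2).hom ≫ geomPointEmb Ω c}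

/-- The lift of a geometric point associated with lifting data. -/
noncomputable def geomLiftOfData (x : GeomLiftData π Ω c) :
    {t : Spec (.of Ω) ⟶ U // t ≫ π = c} :=
  ⟨Spec.map x.2.1 ≫ U.fromSpecResidueField x.1.1, by
    rw [Category.assoc, ← Scheme.Hom.SpecMap_residueFieldMap_fromSpecResidueField,
      ← Category.assoc, ← Spec.map_comp, x.2.2, Spec.map_comp, Category.assoc,
      Scheme.residueFieldCongr_fromSpecResidueField, SpecMap_geomPointEmb]⟩

theorem geomLiftOfData_apply (x : GeomLiftData π Ω c) :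
    (geomLiftOfData π Ω c x).1 (geomPt Ω) = x.1.1 := by
  simp [geomLiftOfData]

theorem geomLiftOfData_bijective : Function.Bijective (geomLiftOfData π Ω c) := by
  constructor
  · rintro ⟨⟨p, hp⟩, ⟨σ, hσ⟩⟩ ⟨⟨p', hp'⟩, ⟨σ', hσ'⟩⟩ h
    have h1 : (Scheme.SpecToEquivOfField Ω U).symm ⟨p, σ⟩ =
        (Scheme.SpecToEquivOfField Ω U).symm ⟨p', σ'⟩ := congr($(h).1)
    have h2 := (Scheme.SpecToEquivOfField Ω U).symm.injective h1
    obtain ⟨rfl, h3⟩ := Sigma.mk.inj_iff.mp h2
    obtain rfl := eq_of_heq h3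
    rfl
  · rintro ⟨t, ht⟩
    have h1 : π (t (geomPt Ω)) = c (geomPt Ω) := by
      rw [← Scheme.Hom.comp_apply, ht]
    have h2 : π.residueFieldMap (t (geomPt Ω)) ≫ geomPointEmb Ω t =
        (V.residueFieldCongr h1).hom ≫ geomPointEmb Ω c := by
      have h3 := geomPointEmb_congr Ω c (t ≫ π) ht h1
      have h4 := geomPointEmb_comp π Ω t
      exact h4.symm.trans h3
    refine ⟨⟨⟨t (geomPt Ω), h1⟩, ⟨geomPointEmb Ω t, h2⟩⟩, ?_⟩
    apply Subtype.ext
    exact SpecMap_geomPointEmb Ω t

variable [IsAlgClosed Ω]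

theorem card_geomLiftData_fiber (p : {p : U // π p = c (geomPt Ω)})
    (hres : (π.residueFieldMap p.1).hom.Finite) :
    Nat.card {σ : U.residueField p.1 ⟶ .of Ω //
      π.residueFieldMap p.1 ≫ σ = (V.residueFieldCongr p.2).hom ≫ geomPointEmb Ω c} =
      sepDeg π p.1 := by
  rw [sepDeg, ← card_ringHom_extension_eq_finSepDegree (π.residueFieldMap p.1).hom
    hres.to_isIntegral ((V.residueFieldCongr p.2).hom ≫ geomPointEmb Ω c).hom]
  apply Nat.card_congr
  exact
    { toFun := fun σ ↦ ⟨σ.1.hom, by rw [← CommRingCat.hom_comp, σ.2]⟩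
      invFun := fun σ ↦ ⟨CommRingCat.ofHom σ.1, by ext1; exact σ.2⟩
      left_inv := fun σ ↦ rfl
      right_inv := fun σ ↦ rfl }

theorem finite_geomLiftData_fiber (p : {p : U // π p = c (geomPt Ω)})
    (hres : (π.residueFieldMap p.1).hom.Finite) :
    Finite {σ : U.residueField p.1 ⟶ .of Ω //
      π.residueFieldMap p.1 ≫ σ = (V.residueFieldCongr p.2).hom ≫ geomPointEmb Ω c} := by
  apply Nat.finite_of_card_ne_zero
  rw [card_geomLiftData_fiber π Ω c p hres]
  exact (sepDeg_pos_of_finite π p.1 hres).ne'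

theorem nonempty_geomLiftData_fiber (p : {p : U // π p = c (geomPt Ω)})
    (hres : (π.residueFieldMap p.1).hom.Finite) :
    Nonempty {σ : U.residueField p.1 ⟶ .of Ω //
      π.residueFieldMap p.1 ≫ σ = (V.residueFieldCongr p.2).hom ≫ geomPointEmb Ω c} := by
  have := finite_geomLiftData_fiber π Ω c p hres
  apply Finite.card_pos_iff.mp
  rw [card_geomLiftData_fiber π Ω c p hres]
  exact sepDeg_pos_of_finite π p.1 hres

theorem finite_geomLift_of_finite_fibre
    (hres : ∀ p, π p = c (geomPt Ω) → (π.residueFieldMap p).hom.Finite)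
    (hfib : (π ⁻¹' {c (geomPt Ω)}).Finite) :
    Finite {t : Spec (.of Ω) ⟶ U // t ≫ π = c} := by
  have h1 : Finite {p : U // π p = c (geomPt Ω)} := hfib.to_subtype
  have h2 := fun p : {p : U // π p = c (geomPt Ω)} ↦
    finite_geomLiftData_fiber π Ω c p (hres p.1 p.2)
  have h3 : Finite (GeomLiftData π Ω c) := by
    unfold GeomLiftData
    infer_instance
  exact Finite.of_surjective _ (geomLiftOfData_bijective π Ω c).2

theorem finite_fibre_of_finite_geomLift
    (hres : ∀ p, π p = c (geomPt Ω) → (π.residueFieldMap p).hom.Finite)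
    (h : Finite {t : Spec (.of Ω) ⟶ U // t ≫ π = c}) :
    (π ⁻¹' {c (geomPt Ω)}).Finite := by
  have h3 : Finite (GeomLiftData π Ω c) := Finite.of_injective _ (geomLiftOfData_bijective π Ω c).1
  have h4 : Function.Surjective (fun x : GeomLiftData π Ω c ↦ x.1) := by
    intro p
    obtain ⟨σ⟩ := nonempty_geomLiftData_fiber π Ω c p (hres p.1 p.2)
    exact ⟨⟨p, σ⟩, rfl⟩
  have h5 : Finite {p : U // π p = c (geomPt Ω)} := Finite.of_surjective _ h4
  exact (Set.finite_coe_iff (s := π ⁻¹' {c (geomPt Ω)})).mp h5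

theorem finsum_geomLift_eq_fibreIntegral (W : U → ℤ)
    (hres : ∀ p, π p = c (geomPt Ω) → (π.residueFieldMap p).hom.Finite)
    (hfib : (π ⁻¹' {c (geomPt Ω)}).Finite) :
    ∑ᶠ t : {t : Spec (.of Ω) ⟶ U // t ≫ π = c}, W (t.1 (geomPt Ω)) =
      MoreMor.fibreIntegral π W (c (geomPt Ω)) := by
  classical
  rw [← finsum_comp_equiv (Equiv.ofBijective _ (geomLiftOfData_bijective π Ω c))]
  simp only [Equiv.ofBijective_apply, geomLiftOfData_apply]
  have h1 : Finite {p : U // π p = c (geomPt Ω)} := hfib.to_subtype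
  have h2 := fun p : {p : U // π p = c (geomPt Ω)} ↦
    finite_geomLiftData_fiber π Ω c p (hres p.1 p.2)
  let _ : Fintype {p : U // π p = c (geomPt Ω)} := Fintype.ofFinite _
  let _ : ∀ p : {p : U // π p = c (geomPt Ω)}, Fintype {σ : U.residueField p.1 ⟶ .of Ω //
      π.residueFieldMap p.1 ≫ σ = (V.residueFieldCongr p.2).hom ≫ geomPointEmb Ω c} :=
    fun p ↦ Fintype.ofFinite _
  have key : ∑ᶠ x : GeomLiftData π Ω c, W x.1.1 =
      ∑ p : {p : U // π p = c (geomPt Ω)}, W p.1 * (sepDeg π p.1 : ℤ) := by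
    unfold GeomLiftData
    rw [finsum_eq_sum_of_fintype, Fintype.sum_sigma]
    refine Finset.sum_congr rfl fun p _ ↦ ?_
    simp only [Finset.sum_const, Finset.card_univ, nsmul_eq_mul]
    rw [← Nat.card_eq_fintype_card, card_geomLiftData_fiber π Ω c p (hres p.1 p.2), mul_comm]
  rw [key, fibreIntegral_eq_finsum_subtype, finsum_eq_sum_of_fintype]

theorem exists_geomPoint (V : Scheme.{u}) (v : V) :
    ∃ (Ω : Type u) (_ : Field Ω) (_ : IsAlgClosed Ω) (c : Spec (.of Ω) ⟶ V),
      c (geomPt Ω) = v := by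
  refine ⟨AlgebraicClosure (V.residueField v), inferInstance, inferInstance,
    Spec.map (CommRingCat.ofHom (algebraMap (V.residueField v)
      (AlgebraicClosure (V.residueField v)))) ≫ V.fromSpecResidueField v, ?_⟩
  rw [Scheme.Hom.comp_apply, Scheme.fromSpecResidueField_apply]

/-- Lifts of a geometric point through a cartesian square. -/
noncomputable def geomLiftEquivOfIsPullback {U V U' V' : Scheme.{u}} {π : U ⟶ V} {π' : U' ⟶ V'}
    {h : U' ⟶ U} {g : V' ⟶ V} (hc : IsPullback h π' π g) (Ω : Type u) [Field Ω]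
    (c' : Spec (.of Ω) ⟶ V') :
    {t' : Spec (.of Ω) ⟶ U' // t' ≫ π' = c'} ≃ {t : Spec (.of Ω) ⟶ U // t ≫ π = c' ≫ g} where
  toFun t' := ⟨t'.1 ≫ h, by rw [Category.assoc, hc.w, ← Category.assoc, t'.2]⟩
  invFun t := ⟨hc.lift t.1 c' t.2, hc.lift_snd _ _ _⟩
  left_inv t' := by
    apply Subtype.ext
    apply hc.hom_ext
    · simp
    · simp [t'.2]
  right_inv t := by
    apply Subtype.ext
    simp

end GeomPoints

end Groth.Agent.H7
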