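import Mathlib
import Groth.Agent.H7.WeightingBasic

set_option autoImplicit false
universe u

namespace Groth.Agent.H7

open AlgebraicGeometry CategoryTheory Limits IsLocalRing

/-- Each nonnegative term bounds the fibre integral of a nonnegative function from below, when
the fibre is finite. -/
theorem le_fibreIntegral {U V : Scheme.{u}} (π : U ⟶ V) (W : U → ℤ) (hW : ∀ p, 0 ≤ W p) (p : U)
    (hfib : (π ⁻¹' {π p}).Finite) : W p * (sepDeg π p : ℤ) ≤ MoreMor.fibreIntegral π W (π p) := by
  rw [fibreIntegral_eq_finsum_subtype]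
  have : Finite {q : U // π q = π p} := hfib.to_subtype
  exact single_le_finsum (f := fun q : {q : U // π q = π p} ↦ W q.1 * (sepDeg π q.1 : ℤ))
    ⟨p, rfl⟩ (Set.toFinite _) fun q ↦ mul_nonneg (hW q.1) (Nat.cast_nonneg _)

/-- The fibre integral over a point with exactly one preimage. -/
theorem fibreIntegral_eq_of_unique {U V : Scheme.{u}} (π : U ⟶ V) (W : U → ℤ) (v : V) (p₀ : U)
    (h₀ : π p₀ = v) (huniq : ∀ p, π p = v → p = p₀) :
    MoreMor.fibreIntegral π W v = W p₀ * (sepDeg π p₀ : ℤ) := by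
  rw [fibreIntegral_eq_finsum_mem]
  have : π ⁻¹' {v} = {p₀} := by
    ext p
    simp only [Set.mem_preimage, Set.mem_singleton_iff]
    exact ⟨huniq p, fun h ↦ h ▸ h₀⟩
  rw [this, finsum_mem_singleton]

end Groth.Agent.H7
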