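import Mathlib
import Groth.Agent.H7.WeightingLocal

set_option autoImplicit false
universe u

namespace Groth.Agent.H7

open AlgebraicGeometry CategoryTheory Limits IsLocalRing

theorem locallyQuasiFinite_of_etale {X Y : Scheme.{u}} (f : X ⟶ Y) [Etale f] :
    LocallyQuasiFinite f := by
  rw [HasRingHomProperty.iff_appLE (P := @LocallyQuasiFinite)]
  intro U V e
  have h := HasRingHomProperty.appLE (P := @Etale) f ‹_› U V e
  algebraize [(f.appLE U.1 V.1 e).hom]
  have : Algebra.FiniteType Γ(Y, U.1) Γ(X, V.1) := inferInstance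
  exact RingHom.quasiFinite_algebraMap.mpr inferInstance

theorem finite_residueFieldMap_of_etale {X Y : Scheme.{u}} (f : X ⟶ Y) [Etale f] (x : X) :
    (f.residueFieldMap x).hom.Finite := by
  have := locallyQuasiFinite_of_etale f
  exact finite_residueFieldMap_of_quasiFiniteAt f x (f.quasiFiniteAt x)

/-- The spectrum of a purely inseparable field extension is universally injective. -/
theorem universallyInjective_SpecMap_of_isPurelyInseparable {k K : Type u} [Field k]
    [Field K] (φ : k →+* K) (h : letI := φ.toAlgebra; IsPurelyInseparable k K) :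
    UniversallyInjective (Spec.map (CommRingCat.ofHom φ)) := by
  apply ((tfae_universallyInjective (Spec.map (CommRingCat.ofHom φ))).out 0 1).mpr
  intro K' _ g₁ g₂ hg
  obtain ⟨ψ₁, rfl⟩ := Spec.map_surjective g₁
  obtain ⟨ψ₂, rfl⟩ := Spec.map_surjective g₂
  simp only [← Spec.map_comp] at hg
  have h1 := Spec.map_injective hg
  let _ := φ.toAlgebra
  have h2 := IsPurelyInseparable.injective_comp_algebraMap k K K' (a₁ := ψ₁.hom) (a₂ := ψ₂.hom)
    congr($(h1).hom)
  congr 1
  ext1
  exact h2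

open Scheme.Pullback in
/-- Points of a fibre product lying over the same points are equal as soon as one of the two
residue field extensions is purely inseparable. -/
theorem eq_of_fst_eq_of_snd_eq_of_isPurelyInseparable {X S U : Scheme.{u}} (f : X ⟶ S)
    (g : U ⟶ S) (w w' : ↑(pullback f g)) (h1 : pullback.fst f g w = pullback.fst f g w')
    (h2 : pullback.snd f g w = pullback.snd f g w')
    (h : letI := (f.residueFieldMap (pullback.fst f g w')).hom.toAlgebra
      IsPurelyInseparable (S.residueField (f (pullback.fst f g w')))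
        (X.residueField (pullback.fst f g w'))) : w = w' := by
  apply carrierEquiv.injective
  rw [carrierEquiv_eq_iff]
  have e : Triplet.ofPoint w = Triplet.ofPoint w' := Triplet.ext h1 h2
  refine ⟨e, ?_⟩
  let T := Triplet.ofPoint w'
  have i1 : UniversallyInjective (Spec.map (f.residueFieldMap T.x)) :=
    universallyInjective_SpecMap_of_isPurelyInseparable (f.residueFieldMap T.x).hom h
  have i2 : UniversallyInjective
      (Spec.map ((S.residueFieldCongr T.hx).inv ≫ f.residueFieldMap T.x)) := by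
    rw [Spec.map_comp]
    exact MorphismProperty.comp_mem _ _ _ i1 inferInstance
  have i3 : UniversallyInjective (Spec.map T.tensorInr) :=
    MorphismProperty.of_isPullback T.isPullback_SpecMap_tensor i2
  have : Subsingleton (PrimeSpectrum T.tensor) := by
    constructor
    intro a b
    apply (Spec.map T.tensorInr).injective
    exact Subsingleton.elim (α := PrimeSpectrum (U.residueField T.y)) _ _
  exact Subsingleton.elim (α := PrimeSpectrum T.tensor) _ _

/-- Lifting a geometric point along a morphism with finite residue field extension. -/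
theorem exists_geomPoint_lift {V S : Scheme.{u}} (g : V ⟶ S) (Ω : Type u) [Field Ω] [IsAlgClosed Ω]
    (c : Spec (.of Ω) ⟶ S) (v : V) (hv : g v = c (geomPt Ω))
    (hres : (g.residueFieldMap v).hom.Finite) :
    ∃ η : Spec (.of Ω) ⟶ V, η ≫ g = c ∧ η (geomPt Ω) = v := by
  obtain ⟨σ⟩ := nonempty_geomLiftData_fiber g Ω c ⟨v, hv⟩ hres
  exact ⟨(geomLiftOfData g Ω c ⟨⟨v, hv⟩, σ⟩).1, (geomLiftOfData g Ω c ⟨⟨v, hv⟩, σ⟩).2,
    geomLiftOfData_apply g Ω c ⟨⟨v, hv⟩, σ⟩⟩


/-- The fibre integral along an open piece with a unique, residually purely inseparable point over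
`v`. -/
theorem fibreIntegral_ι_comp_eq_of_unique {P B : Scheme.{u}} (ρ : P ⟶ B) (Vo : P.Opens)
    (W : P → ℤ) (v : B) (u₀ : P) (hmem : u₀ ∈ Vo) (hsnd : ρ u₀ = v)
    (huniq : ∀ p : P, p ∈ Vo → ρ p = v → p = u₀)
    (hpi : letI := (ρ.residueFieldMap u₀).hom.toAlgebra
      IsPurelyInseparable (B.residueField (ρ u₀)) (P.residueField u₀)) :
    MoreMor.fibreIntegral (Vo.ι ≫ ρ) (fun u ↦ W (Vo.ι u)) v = W u₀ := by
  rw [fibreIntegral_eq_of_unique (Vo.ι ≫ ρ) _ v ⟨u₀, hmem⟩ hsnd]
  · have h1 : sepDeg (Vo.ι ≫ ρ) ⟨u₀, hmem⟩ = 1 := by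
      rw [sepDeg_comp_of_isOpenImmersion]
      exact sepDeg_eq_one_of_isPurelyInseparable _ _ hpi
    rw [h1]
    simp only [Scheme.Opens.ι_apply, Nat.cast_one, mul_one]
  · intro p hp
    apply Subtype.ext
    exact huniq p.1 p.2 hp

/-- A nonzero fibre integral has a nonempty fibre. -/
theorem exists_of_fibreIntegral_ne_zero {U V : Scheme.{u}} (π : U ⟶ V) (W : U → ℤ) (v : V)
    (h : MoreMor.fibreIntegral π W v ≠ 0) : ∃ p, π p = v := by
  by_contra hne
  push_neg at hne
  apply h
  rw [fibreIntegral_eq_finsum_mem]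
  have : π ⁻¹' {v} = ∅ := by
    ext p
    simp only [Set.mem_preimage, Set.mem_singleton_iff, Set.mem_empty_iff_false, iff_false]
    exact hne p
  rw [this, finsum_mem_empty]

/-- Base change formula for fibre integrals. -/
theorem fibreIntegral_baseChange {U V U' V' : Scheme.{u}} (π : U ⟶ V) [LocallyQuasiFinite π]
    (hfin : ∀ v : V, (π ⁻¹' {v}).Finite)
    (π' : U' ⟶ V') (h : U' ⟶ U) (g : V' ⟶ V) (hc : IsPullback h π' π g) (w : ↑U → ℤ) (v' : V') :
    MoreMor.fibreIntegral π' (w ∘ ⇑h) v' = MoreMor.fibreIntegral π w (g v') := by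
  obtain ⟨Ω, _, _, c', rfl⟩ := exists_geomPoint V' v'
  have hlqf' : LocallyQuasiFinite π' := MorphismProperty.of_isPullback hc ‹LocallyQuasiFinite π›
  have hres : ∀ p, (π.residueFieldMap p).hom.Finite := fun p ↦
    finite_residueFieldMap_of_quasiFiniteAt π p (π.quasiFiniteAt p)
  have hres' : ∀ p, (π'.residueFieldMap p).hom.Finite := fun p ↦
    finite_residueFieldMap_of_quasiFiniteAt π' p (π'.quasiFiniteAt p)
  have hfinA : Finite {t : Spec (.of Ω) ⟶ U // t ≫ π = c' ≫ g} :=
    finite_geomLift_of_finite_fibre π Ω (c' ≫ g) (fun p _ ↦ hres p) (hfin _)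
  let e := geomLiftEquivOfIsPullback hc Ω c'
  have hfinA' : Finite {t' : Spec (.of Ω) ⟶ U' // t' ≫ π' = c'} := Finite.of_equiv _ e.symm
  have hfib' := finite_fibre_of_finite_geomLift π' Ω c' (fun p _ ↦ hres' p) hfinA'
  rw [← finsum_geomLift_eq_fibreIntegral π' Ω c' (w ∘ ⇑h) (fun p _ ↦ hres' p) hfib']
  have h2 := finsum_geomLift_eq_fibreIntegral π Ω (c' ≫ g) w (fun p _ ↦ hres p) (hfin _)
  rw [Scheme.Hom.comp_apply] at h2
  rw [← h2, ← finsum_comp_equiv e]
  rfl

/-- Finite fibres are preserved by base change of locally quasi-finite morphisms. -/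
theorem finite_fibre_of_isPullback {U V U' V' : Scheme.{u}} (π : U ⟶ V) [LocallyQuasiFinite π]
    (hfin : ∀ v : V, (π ⁻¹' {v}).Finite)
    (π' : U' ⟶ V') (h : U' ⟶ U) (g : V' ⟶ V) (hc : IsPullback h π' π g) (v' : V') :
    (π' ⁻¹' {v'}).Finite := by
  obtain ⟨Ω, _, _, c', rfl⟩ := exists_geomPoint V' v'
  have hlqf' : LocallyQuasiFinite π' := MorphismProperty.of_isPullback hc ‹LocallyQuasiFinite π›
  have hres : ∀ p, (π.residueFieldMap p).hom.Finite := fun p ↦
    finite_residueFieldMap_of_quasiFiniteAt π p (π.quasiFiniteAt p)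
  have hres' : ∀ p, (π'.residueFieldMap p).hom.Finite := fun p ↦
    finite_residueFieldMap_of_quasiFiniteAt π' p (π'.quasiFiniteAt p)
  have hfinA : Finite {t : Spec (.of Ω) ⟶ U // t ≫ π = c' ≫ g} :=
    finite_geomLift_of_finite_fibre π Ω (c' ≫ g) (fun p _ ↦ hres p) (hfin _)
  let e := geomLiftEquivOfIsPullback hc Ω c'
  have hfinA' : Finite {t' : Spec (.of Ω) ⟶ U' // t' ≫ π' = c'} := Finite.of_equiv _ e.symm
  exact finite_fibre_of_finite_geomLift π' Ω c' (fun p _ ↦ hres' p) hfinA'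

section BaseChangePiece

variable {P B B' : Scheme.{u}} (ρ : P ⟶ B) (b : B' ⟶ B) (Vo : P.Opens)

theorem isPullback_preimage_piece :
    IsPullback (pullback.fst ρ b ∣_ Vo) (((pullback.fst ρ b) ⁻¹ᵁ Vo).ι ≫ pullback.snd ρ b)
      (Vo.ι ≫ ρ) b :=
  (isPullback_morphismRestrict _ _).paste_vert (IsPullback.of_hasPullback ρ b)

theorem isFinite_preimage_piece (h : IsFinite (Vo.ι ≫ ρ)) :
    IsFinite (((pullback.fst ρ b) ⁻¹ᵁ Vo).ι ≫ pullback.snd ρ b) :=
  MorphismProperty.of_isPullback (isPullback_preimage_piece ρ b Vo) h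

theorem fibreIntegral_preimage_piece (h : IsFinite (Vo.ι ≫ ρ)) (W : P → ℤ) (b' : B') :
    MoreMor.fibreIntegral (((pullback.fst ρ b) ⁻¹ᵁ Vo).ι ≫ pullback.snd ρ b)
      (fun u ↦ W (pullback.fst ρ b (((pullback.fst ρ b) ⁻¹ᵁ Vo).ι u))) b' =
    MoreMor.fibreIntegral (Vo.ι ≫ ρ) (fun u ↦ W (Vo.ι u)) (b b') := by
  rw [← fibreIntegral_baseChange (Vo.ι ≫ ρ) (fun v ↦ (Vo.ι ≫ ρ).finite_preimage_singleton v) _ _ b
    (isPullback_preimage_piece ρ b Vo) (fun u ↦ W (Vo.ι u)) b']
  congr 1
  funext u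
  simp only [Function.comp_apply, ← Scheme.Hom.comp_apply, morphismRestrict_ι]

end BaseChangePiece

end Groth.Agent.H7
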