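import Mathlib
import Groth.Agent.H7.WeightingOpen

set_option autoImplicit false
universe u

namespace Groth.Agent.H7

open AlgebraicGeometry CategoryTheory Limits IsLocalRing

/-- The fibre integral along an open piece, expressed in the ambient scheme. -/
theorem fibreIntegral_ι_comp_eq_finsum_mem {P B : Scheme.{u}} (ρ : P ⟶ B) (Vo : P.Opens)
    (W : P → ℤ) (b : B) :
    MoreMor.fibreIntegral (Vo.ι ≫ ρ) (fun u ↦ W (Vo.ι u)) b =
      ∑ᶠ p ∈ ρ ⁻¹' {b} ∩ (Vo : Set P), W p * (sepDeg ρ p : ℤ) := by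
  rw [fibreIntegral_eq_finsum_mem]
  have h1 : ρ ⁻¹' {b} ∩ (Vo : Set P) = Vo.ι '' ((Vo.ι ≫ ρ) ⁻¹' {b}) := by
    ext p
    constructor
    · rintro ⟨hp1, hp2⟩
      exact ⟨⟨p, hp2⟩, hp1, rfl⟩
    · rintro ⟨u, hu, rfl⟩
      exact ⟨hu, u.2⟩
  rw [h1, finsum_mem_image (Vo.ι.injective.injOn)]
  refine finsum_mem_congr rfl fun u _ ↦ ?_
  rw [sepDeg_comp_of_isOpenImmersion]

/-- The sum of the fibre integrals along finitely many pairwise disjoint open pieces is at most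
the total fibre integral, for a nonnegative function. -/
theorem sum_fibreIntegral_ι_comp_le {P B : Scheme.{u}} (ρ : P ⟶ B) {K : Type*} [Finite K]
    (Vo : K → P.Opens) (hdisj : ∀ k l, ((Vo k : Set P) ∩ Vo l).Nonempty → k = l)
    (W : P → ℤ) (hW : ∀ p, 0 ≤ W p) (b : B) (hfib : (ρ ⁻¹' {b}).Finite) :
    ∑ᶠ k, MoreMor.fibreIntegral ((Vo k).ι ≫ ρ) (fun u ↦ W ((Vo k).ι u)) b ≤
      MoreMor.fibreIntegral ρ W b := by
  simp only [fibreIntegral_ι_comp_eq_finsum_mem]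
  rw [fibreIntegral_eq_finsum_mem]
  have hpw : Pairwise (Function.onFun Disjoint fun k ↦ ρ ⁻¹' {b} ∩ (Vo k : Set P)) := by
    intro k l hkl
    rw [Function.onFun, Set.disjoint_iff]
    rintro p ⟨⟨-, hp1⟩, ⟨-, hp2⟩⟩
    exact hkl (hdisj k l ⟨p, hp1, hp2⟩)
  rw [← finsum_mem_iUnion hpw fun k ↦ hfib.inter_of_left _]
  have hsub : (⋃ k, ρ ⁻¹' {b} ∩ (Vo k : Set P)) ⊆ ρ ⁻¹' {b} :=
    Set.iUnion_subset fun k ↦ Set.inter_subset_left
  rw [← finsum_mem_add_sdiff hsub hfib]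
  have : 0 ≤ ∑ᶠ p ∈ ρ ⁻¹' {b} \ ⋃ k, ρ ⁻¹' {b} ∩ (Vo k : Set P), W p * (sepDeg ρ p : ℤ) :=
    finsum_nonneg fun p ↦ finsum_nonneg fun _ ↦ mul_nonneg (hW p) (Nat.cast_nonneg _)
  linarith

/-- The sum of the fibre integrals along finitely many pairwise disjoint open pieces covering the
fibre is the total fibre integral. -/
theorem sum_fibreIntegral_ι_comp_eq {P B : Scheme.{u}} (ρ : P ⟶ B) {K : Type*} [Finite K]
    (Vo : K → P.Opens) (hdisj : ∀ k l, ((Vo k : Set P) ∩ Vo l).Nonempty → k = l)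
    (W : P → ℤ) (b : B) (hfib : (ρ ⁻¹' {b}).Finite)
    (hcov : ∀ p, ρ p = b → ∃ k, p ∈ Vo k) :
    ∑ᶠ k, MoreMor.fibreIntegral ((Vo k).ι ≫ ρ) (fun u ↦ W ((Vo k).ι u)) b =
      MoreMor.fibreIntegral ρ W b := by
  simp only [fibreIntegral_ι_comp_eq_finsum_mem]
  rw [fibreIntegral_eq_finsum_mem]
  have hpw : Pairwise (Function.onFun Disjoint fun k ↦ ρ ⁻¹' {b} ∩ (Vo k : Set P)) := by
    intro k l hkl
    rw [Function.onFun, Set.disjoint_iff]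
    rintro p ⟨⟨-, hp1⟩, ⟨-, hp2⟩⟩
    exact hkl (hdisj k l ⟨p, hp1, hp2⟩)
  rw [← finsum_mem_iUnion hpw fun k ↦ hfib.inter_of_left _]
  have hU : (⋃ k, ρ ⁻¹' {b} ∩ (Vo k : Set P)) = ρ ⁻¹' {b} := by
    ext p
    simp only [Set.mem_iUnion, Set.mem_inter_iff, Set.mem_preimage, Set.mem_singleton_iff,
      SetLike.mem_coe]
    constructor
    · rintro ⟨k, hk1, -⟩
      exact hk1
    · intro hp
      obtain ⟨k, hk⟩ := hcov p hp
      exact ⟨k, hp, hk⟩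
  rw [hU]

end Groth.Agent.H7
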