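import Mathlib
import Groth.Agent.H7.WeightingAdd

set_option autoImplicit false
universe u

namespace Groth.Agent.H7

open AlgebraicGeometry CategoryTheory Limits MorphismProperty

/-- A Zariski-local property of the restriction over `U` can be checked on a family of smaller
opens covering `U`. -/
theorem morphismRestrict_of_forall_mem_exists_le {P : MorphismProperty Scheme.{u}}
    [IsZariskiLocalAtTarget P] {X Y : Scheme.{u}} (f : X ⟶ Y) (U : Y.Opens)
    (H : ∀ y ∈ U, ∃ O : Y.Opens, y ∈ O ∧ O ≤ U ∧ P (f ∣_ O)) : P (f ∣_ U) := by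
  apply IsZariskiLocalAtTarget.of_forall_exists_morphismRestrict
  rintro ⟨y, hy⟩
  obtain ⟨O, hyO, hOU, hP⟩ := H y hy
  refine ⟨U.ι ⁻¹ᵁ O, hyO, ?_⟩
  rw [P.arrow_mk_iso_iff (morphismRestrictRestrict f U _)]
  have : U.ι ''ᵁ (U.ι ⁻¹ᵁ O) = O := by
    rw [Scheme.Hom.image_preimage_eq_opensRange_inf, Scheme.Opens.opensRange_ι]
    exact inf_eq_right.mpr hOU
  rw [P.arrow_mk_iso_iff (morphismRestrictEq f this)]
  exact hP

/-- Finiteness of a separated locally quasi-finite morphism descends along a surjective étale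
morphism onto an open of the target. -/
theorem isFinite_morphismRestrict_of_isFinite_snd {X Y N : Scheme.{u}} (f : X ⟶ Y)
    [IsSeparated f] [LocallyOfFiniteType f] [LocallyQuasiFinite f] (g : N ⟶ Y) [Etale g]
    (h : IsFinite (pullback.snd f g)) (O : Y.Opens) (hO : (O : Set Y) = Set.range g) :
    IsFinite (f ∣_ O) := by
  have hr : Set.range g ⊆ Set.range O.ι := by
    rw [Scheme.Opens.range_ι, hO]
  let q : N ⟶ O := IsOpenImmersion.lift O.ι g hr
  have hq : q ≫ O.ι = g := IsOpenImmersion.lift_fac _ _ _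
  have hqet : Etale q := MorphismProperty.of_postcomp (W := @Etale) (W' := @Etale) q O.ι
    inferInstance (hq ▸ inferInstance)
  have hqsurj : Surjective q := by
    constructor
    rintro ⟨o, ho⟩
    have : o ∈ Set.range g := hO ▸ ho
    obtain ⟨n, rfl⟩ := this
    refine ⟨n, ?_⟩
    apply O.ι.injective
    rw [← Scheme.Hom.comp_apply, hq]
    rfl
  have hr2 : Set.range (pullback.fst f g) ⊆ Set.range (f ⁻¹ᵁ O).ι := by
    rw [Scheme.Opens.range_ι]
    rintro _ ⟨z, rfl⟩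
    change f (pullback.fst f g z) ∈ O
    rw [← Scheme.Hom.comp_apply, pullback.condition, Scheme.Hom.comp_apply]
    have : g (pullback.snd f g z) ∈ Set.range g := ⟨_, rfl⟩
    rw [← hO] at this
    exact this
  let ℓ : pullback f g ⟶ (f ⁻¹ᵁ O : Scheme.{u}) :=
    IsOpenImmersion.lift (f ⁻¹ᵁ O).ι (pullback.fst f g) hr2
  have hℓ : ℓ ≫ (f ⁻¹ᵁ O).ι = pullback.fst f g := IsOpenImmersion.lift_fac _ _ _
  have hpb : IsPullback ℓ (pullback.snd f g) (f ∣_ O) q := by
    apply IsPullback.of_right (h₁₂ := (f ⁻¹ᵁ O).ι) (v₁₃ := f) (h₂₂ := O.ι)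
    · rw [hℓ, hq]
      exact IsPullback.of_hasPullback f g
    · rw [← cancel_mono O.ι, Category.assoc, morphismRestrict_ι, ← Category.assoc, hℓ,
        Category.assoc, hq, pullback.condition]
    · exact (isPullback_morphismRestrict f O).flip
  have huc : UniversallyClosed (f ∣_ O) :=
    MorphismProperty.of_isPullback_of_descendsAlong (P := @UniversallyClosed)
      (Q := @Surjective ⊓ @Flat ⊓ @LocallyOfFinitePresentation) hpb.flip
      ⟨⟨hqsurj, inferInstance⟩, inferInstance⟩ inferInstance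
  have : IsProper (f ∣_ O) := {}
  exact IsFinite.of_isProper_of_locallyQuasiFinite _


/-- Refinement of `sum_fibreIntegral_ι_comp_le`: a point of the fibre outside all pieces
contributes an additional term. -/
theorem sum_fibreIntegral_ι_comp_add_le {P B : Scheme.{u}} (ρ : P ⟶ B) {K : Type*} [Finite K]
    (Vo : K → P.Opens) (hdisj : ∀ k l, ((Vo k : Set P) ∩ Vo l).Nonempty → k = l)
    (W : P → ℤ) (hW : ∀ p, 0 ≤ W p) (b : B) (hfib : (ρ ⁻¹' {b}).Finite) (p : P) (hp : ρ p = b)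
    (hpV : ∀ k, p ∉ Vo k) :
    (∑ᶠ k, MoreMor.fibreIntegral ((Vo k).ι ≫ ρ) (fun u ↦ W ((Vo k).ι u)) b) +
      W p * (sepDeg ρ p : ℤ) ≤ MoreMor.fibreIntegral ρ W b := by
  simp only [fibreIntegral_ι_comp_eq_finsum_mem]
  rw [fibreIntegral_eq_finsum_mem]
  have hpw : Pairwise (Function.onFun Disjoint fun k ↦ ρ ⁻¹' {b} ∩ (Vo k : Set P)) := by
    intro k l hkl
    rw [Function.onFun, Set.disjoint_iff]
    rintro p ⟨⟨-, hp1⟩, ⟨-, hp2⟩⟩
    exact hkl (hdisj k l ⟨p, hp1, hp2⟩)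
  rw [← finsum_mem_iUnion hpw fun k ↦ hfib.inter_of_left _]
  have hsub : (⋃ k, ρ ⁻¹' {b} ∩ (Vo k : Set P)) ⊆ ρ ⁻¹' {b} :=
    Set.iUnion_subset fun k ↦ Set.inter_subset_left
  rw [← finsum_mem_add_sdiff hsub hfib]
  have hpmem : p ∈ ρ ⁻¹' {b} \ ⋃ k, ρ ⁻¹' {b} ∩ (Vo k : Set P) := by
    refine ⟨hp, ?_⟩
    simp only [Set.mem_iUnion, Set.mem_inter_iff, not_exists, not_and]
    exact fun k _ ↦ hpV k
  have hfin2 : (ρ ⁻¹' {b} \ ⋃ k, ρ ⁻¹' {b} ∩ (Vo k : Set P)).Finite := hfib.sdiff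
  have : W p * (sepDeg ρ p : ℤ) ≤
      ∑ᶠ p ∈ ρ ⁻¹' {b} \ ⋃ k, ρ ⁻¹' {b} ∩ (Vo k : Set P), W p * (sepDeg ρ p : ℤ) := by
    rw [finsum_mem_eq_finite_toFinset_sum _ hfin2]
    exact Finset.single_le_sum (f := fun p ↦ W p * (sepDeg ρ p : ℤ))
      (fun q _ ↦ mul_nonneg (hW q) (Nat.cast_nonneg _)) (hfin2.mem_toFinset.mpr hpmem)
  linarith

/-- A morphism is finite as soon as its restriction to an open equal to the whole space is. -/
theorem isFinite_of_ι_comp_of_eq_top {P B : Scheme.{u}} (π : P ⟶ B) (U : P.Opens) (hU : U = ⊤)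
    (h : IsFinite (U.ι ≫ π)) : IsFinite π := by
  subst hU
  have : IsIso (⊤ : P.Opens).ι := P.topIso_hom ▸ inferInstance
  exact (MorphismProperty.cancel_left_of_respectsIso @IsFinite (⊤ : P.Opens).ι π).mp h

end Groth.Agent.H7
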