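import Mathlib
import Groth.Prelude.Def_MoreMor

/-!
# Counting points of field-valued fibres (helper for S1415)
-/

namespace Groth.Agent.H7

open AlgebraicGeometry CategoryTheory Limits

universe u

/-- `PtBdd g d`: every fibre of `g` over a field-valued point has at most `d` points. -/
def PtBdd {T Y : Scheme.{u}} (g : T ⟶ Y) (d : ℕ) : Prop :=
  ∀ (K : Type u) [Field K] (yb : Spec (.of K) ⟶ Y) (P : Scheme.{u}) (a : P ⟶ T)
    (b : P ⟶ Spec (.of K)), IsPullback a b g yb → ENat.card ↥P ≤ d

/-- B2: precomposition with an open immersion. -/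
theorem PtBdd.comp_left {T' T Y : Scheme.{u}} (j : T' ⟶ T) [IsOpenImmersion j] {g : T ⟶ Y} {d : ℕ}
    (h : PtBdd g d) : PtBdd (j ≫ g) d := by
  intro K _ yb P a b hP
  have hQ := IsPullback.of_hasPullback g yb
  let c : P ⟶ pullback g yb := pullback.lift (a ≫ j) b (by rw [Category.assoc]; exact hP.w)
  have hc : IsPullback a c j (pullback.fst g yb) := by
    have e1 : c ≫ pullback.fst g yb = a ≫ j := pullback.lift_fst _ _ _
    have e2 : c ≫ pullback.snd g yb = b := pullback.lift_snd _ _ _
    refine IsPullback.of_bot ?_ e1.symm hQ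
    rw [e2]; exact hP
  have : IsOpenImmersion c := MorphismProperty.of_isPullback hc inferInstance
  refine le_trans ?_ (h K yb _ _ _ hQ)
  exact ENat.card_le_card_of_injective c.injective

/-- for a mono `i`, the graph square is a pullback. -/
theorem isPullback_graph_of_mono {Z V Y : Scheme.{u}} (y' : Z ⟶ V) (i : V ⟶ Y) [Mono i] :
    IsPullback y' (𝟙 Z) i (y' ≫ i) := by
  have ha : IsPullback y' (𝟙 Z) (𝟙 V) y' := IsPullback.of_vert_isIso ⟨by simp⟩
  have hb : IsPullback (𝟙 V) (𝟙 V) i i := IsKernelPair.id_of_mono i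
  simpa using ha.paste_horiz hb

/-- B4': postcomposition with an open immersion. -/
theorem PtBdd.comp_right {T V Y : Scheme.{u}} {g : T ⟶ V} (i : V ⟶ Y) [IsOpenImmersion i] {d : ℕ}
    (h : PtBdd g d) : PtBdd (g ≫ i) d := by
  intro K _ yb P a b hP
  by_cases hne : Nonempty ↥P
  · obtain ⟨p⟩ := hne
    have hrange : Set.range yb ⊆ Set.range i := by
      rintro _ ⟨z, rfl⟩
      have hz : z = b p := Subsingleton.elim _ _
      refine ⟨g (a p), ?_⟩
      have := congr($(hP.w) p)
      simp only [Scheme.Hom.comp_apply] at this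
      rw [hz, this]
    let y' : Spec (.of K) ⟶ V := IsOpenImmersion.lift i yb hrange
    have hy' : y' ≫ i = yb := IsOpenImmersion.lift_fac _ _ _
    have hbot : IsPullback y' (𝟙 _) i yb := by
      have := isPullback_graph_of_mono y' i
      rwa [hy'] at this
    refine h K y' P a b ?_
    have hw : a ≫ g = b ≫ y' := by
      rw [← cancel_mono i, Category.assoc, Category.assoc, hy', hP.w]
    refine IsPullback.of_bot ?_ hw hbot
    rw [Category.comp_id]; exact hP
  · rw [not_nonempty_iff] at hne
    rw [(ENat.card_eq_zero_iff_empty _).mpr hne]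
    exact zero_le

/-- B3: finite open covers of the source. -/
theorem PtBdd.of_openCover {X Y : Scheme.{u}} (f : X ⟶ Y) {J : Type*} [Fintype J]
    (U : J → X.Opens) (hU : ∀ x : X, ∃ j, x ∈ U j) (d : J → ℕ)
    (h : ∀ j, PtBdd ((U j).ι ≫ f) (d j)) : PtBdd f (∑ j, d j) := by
  intro K _ yb P a b hP
  have hj : ∀ j, ENat.card ↥(a ⁻¹ᵁ U j : P.Opens) ≤ d j := fun j ↦
    h j K yb _ _ _ ((isPullback_morphismRestrict a (U j)).paste_vert hP)
  have hcov : (Set.univ : Set ↥P) = ⋃ j, ((a ⁻¹ᵁ U j : P.Opens) : Set ↥P) := by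
    ext p
    simp only [Set.mem_univ, Set.mem_iUnion, true_iff]
    obtain ⟨j, hj⟩ := hU (a p)
    exact ⟨j, hj⟩
  rw [← Set.encard_univ, hcov, Nat.cast_sum]
  refine (Set.encard_iUnion_le_of_fintype _).trans ?_
  exact Finset.sum_le_sum fun j _ ↦ hj j

/-- alg1: a finite-dimensional algebra over a field has at most `finrank` many primes. -/
theorem card_primeSpectrum_le_finrank (K F : Type*) [Field K] [CommRing F] [Algebra K F]
    [Module.Finite K F] : ENat.card (PrimeSpectrum F) ≤ Module.finrank K F := by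
  have : IsArtinianRing F := IsArtinianRing.of_finite K F
  have : Fintype (PrimeSpectrum F) := Fintype.ofFinite _
  rw [ENat.card_eq_coe_fintype_card, Nat.cast_le, IsArtinianRing.finrank_eq_sum_primeSpectrum (R := F) K,
    Fintype.card_eq_sum_ones]
  refine Finset.sum_le_sum fun p _ ↦ ?_
  have : Module.Finite K (Localization.AtPrime p.asIdeal) :=
    Module.Finite.of_surjective (Algebra.algHom K F (Localization.AtPrime p.asIdeal)).toLinearMap
      (IsArtinianRing.localization_surjective p.asIdeal.primeCompl (Localization.AtPrime p.asIdeal))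
  exact Module.finrank_pos

open TensorProduct in
/-- alg2: base change of a module spanned by a finset. -/
theorem finrank_baseChange_le_card {A : Type*} (K S' : Type*) [CommRing A] [Field K] [Algebra A K]
    [AddCommGroup S'] [Module A S'] (s : Finset S') (hs : Submodule.span A (s : Set S') = ⊤) :
    Module.Finite K (K ⊗[A] S') ∧ Module.finrank K (K ⊗[A] S') ≤ s.card := by
  classical
  have h1 : Submodule.span K ((s.image (TensorProduct.mk A K S' 1) : Finset (K ⊗[A] S')) :
      Set (K ⊗[A] S')) = ⊤ := by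
    rw [Finset.coe_image, ← Submodule.baseChange_span, hs, Submodule.baseChange_top]
  have hfin : Module.Finite K (K ⊗[A] S') := ⟨⟨_, h1⟩⟩
  refine ⟨hfin, ?_⟩
  calc Module.finrank K (K ⊗[A] S')
      = Module.finrank K (⊤ : Submodule K (K ⊗[A] S')) := (finrank_top K _).symm
    _ = Module.finrank K (Submodule.span K
          ((s.image (TensorProduct.mk A K S' 1) : Finset (K ⊗[A] S')) : Set (K ⊗[A] S'))) := by
        rw [h1]
    _ ≤ (s.image (TensorProduct.mk A K S' 1)).card := finrank_span_finset_le_card _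
    _ ≤ s.card := Finset.card_image_le

open TensorProduct in
/-- B5: `Spec` of a module-finite algebra spanned by `s` has fibres with at most `s.card` points. -/
theorem PtBdd.of_span_finset {A S' : Type u} [CommRing A] [CommRing S'] [Algebra A S']
    (s : Finset S') (hs : Submodule.span A (s : Set S') = ⊤) :
    PtBdd (Spec.map (CommRingCat.ofHom (algebraMap A S'))) s.card := by
  intro K _ yb P a b hP
  obtain ⟨ψ, rfl⟩ := Spec.map_surjective yb
  let : Algebra A K := ψ.hom.toAlgebra
  have hψ : ψ = CommRingCat.ofHom (algebraMap A K) := rfl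
  rw [hψ] at hP
  let e : P ≅ Spec (.of (K ⊗[A] S')) := hP.flip.isoPullback ≪≫ pullbackSpecIso A K S'
  obtain ⟨hfin, hrank⟩ := finrank_baseChange_le_card (A := A) K S' s hs
  have h1 : ENat.card ↥P = ENat.card (PrimeSpectrum (K ⊗[A] S')) :=
    ENat.card_congr (Scheme.homeoOfIso e).toEquiv
  rw [h1]
  refine (card_primeSpectrum_le_finrank K (K ⊗[A] S')).trans ?_
  exact_mod_cast hrank

/-- LOC: if `S'_r → B_r` is bijective then a localization of `B` away from `r` is one of `S'`. -/
theorem isLocalization_away_of_awayMap_bijective {S' B B' : Type*} [CommRing S'] [CommRing B]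
    [CommRing B'] [Algebra S' B] [Algebra B B'] [Algebra S' B'] [IsScalarTower S' B B'] (r : S')
    [IsLocalization.Away (algebraMap S' B r) B']
    (h : Function.Bijective (Localization.awayMap (algebraMap S' B) r)) :
    IsLocalization.Away r B' := by
  let e₁ : Localization.Away r ≃+* Localization.Away (algebraMap S' B r) :=
    RingEquiv.ofBijective _ h
  let e₂ : Localization.Away (algebraMap S' B r) ≃ₐ[B] B' :=
    IsLocalization.algEquiv (Submonoid.powers (algebraMap S' B r)) _ _
  let E : Localization.Away r ≃ₐ[S'] B' :=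
    { (e₁.trans e₂.toRingEquiv) with
      commutes' := fun s ↦ by
        change e₂ (e₁ (algebraMap S' (Localization.Away r) s)) = _
        have : e₁ (algebraMap S' (Localization.Away r) s) =
            algebraMap B (Localization.Away (algebraMap S' B r)) (algebraMap S' B s) := by
          change Localization.awayMap (algebraMap S' B) r _ = _
          simp [Localization.awayMap, IsLocalization.Away.map]
        rw [this, e₂.commutes, ← IsScalarTower.algebraMap_apply] }
  exact IsLocalization.isLocalization_of_algEquiv (Submonoid.powers r) E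

theorem ptBdd_basicOpen_of_awayMap_bijective {X Y : Scheme.{u}} (f : X ⟶ Y) {V : Y.Opens}
    (hV : IsAffineOpen V) {U : X.Opens} (hU : IsAffineOpen U) (hUV : U ≤ f ⁻¹ᵁ V) :
    letI := (f.appLE V U hUV).hom.toAlgebra
    ∀ (S' : Subalgebra Γ(Y, V) Γ(X, U)) (s : Finset S')
      (_ : Submodule.span Γ(Y, V) (s : Set S') = ⊤) (r : S')
      (_ : Function.Bijective (Localization.awayMap S'.val.toRingHom r)),
      PtBdd ((X.basicOpen (r.1 : Γ(X, U))).ι ≫ f) s.card := by
  let := (f.appLE V U hUV).hom.toAlgebra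
  intro S' s hs r hbij
  have hU' : IsAffineOpen (X.basicOpen (r.1 : Γ(X, U))) := hU.basicOpen r.1
  have hloc : IsLocalization.Away (algebraMap S' Γ(X, U) r)
      Γ(X, X.basicOpen (r.1 : Γ(X, U))) := hU.isLocalization_basicOpen r.1
  have hloc' : IsLocalization.Away r Γ(X, X.basicOpen (r.1 : Γ(X, U))) :=
    isLocalization_away_of_awayMap_bijective (B := Γ(X, U)) r hbij
  have hopen : IsOpenImmersion (Spec.map (CommRingCat.ofHom
      (algebraMap S' Γ(X, X.basicOpen (r.1 : Γ(X, U)))))) :=
    IsOpenImmersion.of_isLocalization r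
  have h5 := PtBdd.of_span_finset (A := Γ(Y, V)) (S' := S') s hs
  have h2 := h5.comp_left
    (hU'.isoSpec.hom ≫ Spec.map (CommRingCat.ofHom
      (algebraMap S' Γ(X, X.basicOpen (r.1 : Γ(X, U))))))
  have h4 := h2.comp_right hV.fromSpec
  have e' : X.basicOpen (r.1 : Γ(X, U)) ≤ f ⁻¹ᵁ V := (X.basicOpen_le _).trans hUV
  have h1 : CommRingCat.ofHom (algebraMap Γ(Y, V) S') ≫ CommRingCat.ofHom
      (algebraMap S' Γ(X, X.basicOpen (r.1 : Γ(X, U)))) =
      f.appLE V (X.basicOpen (r.1 : Γ(X, U))) e' := by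
    rw [← Scheme.Hom.appLE_map f hUV (homOfLE (X.basicOpen_le (r.1 : Γ(X, U)))).op]
    rfl
  have heq : ((hU'.isoSpec.hom ≫ Spec.map (CommRingCat.ofHom
      (algebraMap S' Γ(X, X.basicOpen (r.1 : Γ(X, U)))))) ≫
      Spec.map (CommRingCat.ofHom (algebraMap Γ(Y, V) S'))) ≫ hV.fromSpec =
      (X.basicOpen (r.1 : Γ(X, U))).ι ≫ f := by
    rw [Category.assoc, Category.assoc, ← Spec.map_comp_assoc, h1,
      IsAffineOpen.SpecMap_appLE_fromSpec f hV hU' e', hU'.isoSpec_hom_fromSpec_assoc]
  rw [← heq]; exact h4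

/-- local bound around a point of a locally quasi-finite morphism. -/
theorem exists_open_ptBdd {X Y : Scheme.{u}} (f : X ⟶ Y) [LocallyQuasiFinite f]
    [LocallyOfFiniteType f] (x : X) : ∃ (U : X.Opens) (d : ℕ), x ∈ U ∧ PtBdd (U.ι ≫ f) d := by
  obtain ⟨_, ⟨V, hV, rfl⟩, hxV, -⟩ := Y.isBasis_affineOpens.exists_subset_of_mem_open
    (Set.mem_univ (f x)) isOpen_univ
  obtain ⟨_, ⟨U, hU, rfl⟩, hxU, hUV : U ≤ f ⁻¹ᵁ V⟩ :=
    X.isBasis_affineOpens.exists_subset_of_mem_open (a := x) hxV (f ⁻¹ᵁ V).2
  have hV' : IsAffineOpen V := hV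
  have hU' : IsAffineOpen U := hU
  let φ := f.appLE V U hUV
  have hft : φ.hom.FiniteType := f.finiteType_appLE hV hU hUV
  have hqf : φ.hom.QuasiFinite :=
    HasRingHomProperty.appLE (P := @LocallyQuasiFinite) f inferInstance ⟨V, hV⟩ ⟨U, hU⟩ hUV
  algebraize [φ.hom]
  let q := hU'.primeIdealOf ⟨x, hxU⟩
  obtain ⟨S', hS', r, hrq, hbij⟩ :=
    Algebra.QuasiFiniteAt.exists_fg_and_exists_notMem_and_awayMap_bijective (R := Γ(Y, V))
      q.asIdeal
  have : Module.Finite Γ(Y, V) S' := ⟨(Submodule.fg_top _).mpr hS'⟩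
  obtain ⟨s, hs⟩ := (Module.Finite.fg_top : (⊤ : Submodule Γ(Y, V) S').FG)
  have hxU' : x ∈ X.basicOpen (r.1 : Γ(X, U)) := by
    have h1 : q ∈ PrimeSpectrum.basicOpen (r.1 : Γ(X, U)) := hrq
    rw [← hU'.fromSpec_preimage_basicOpen] at h1
    have h2 : hU'.fromSpec q = x := hU'.fromSpec_primeIdealOf ⟨x, hxU⟩
    rw [← h2]; exact h1
  exact ⟨_, s.card, hxU', ptBdd_basicOpen_of_awayMap_bijective f hV' hU' hUV S' s hs r hbij⟩

/-- global bound for quasi-compact source. -/
theorem exists_ptBdd_of_compactSpace {X Y : Scheme.{u}} (f : X ⟶ Y) [LocallyQuasiFinite f]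
    [LocallyOfFiniteType f] [CompactSpace X] : ∃ d : ℕ, PtBdd f d := by
  choose U d hxU hd using exists_open_ptBdd f
  obtain ⟨t, ht⟩ := isCompact_univ.elim_finite_subcover (fun x ↦ (U x : Set X))
    (fun x ↦ (U x).2) (fun x _ ↦ Set.mem_iUnion.mpr ⟨x, hxU x⟩)
  refine ⟨∑ j : t, d j.1, PtBdd.of_openCover f (fun j : t ↦ U j.1) (fun x ↦ ?_) (fun j ↦ d j.1)
    (fun j ↦ hd j.1)⟩
  obtain ⟨j, hj⟩ := Set.mem_iUnion.mp (ht (Set.mem_univ x))
  obtain ⟨hjt, hxj⟩ := Set.mem_iUnion.mp hj
  exact ⟨⟨j, hjt⟩, hxj⟩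

theorem nGeomConnComp_le_of_ptBdd {X Y : Scheme.{u}} (f : X ⟶ Y) {d : ℕ} (h : PtBdd f d) (y : Y) :
    MoreMor.nGeomConnComp f y ≤ d := by
  unfold MoreMor.nGeomConnComp
  have hS1 := IsPullback.of_hasPullback (f.fiberToSpecResidueField y)
    (Spec.map (CommRingCat.ofHom (algebraMap (Y.residueField y)
      (SeparableClosure (Y.residueField y)))))
  have hS2 : IsPullback (f.fiberι y) (f.fiberToSpecResidueField y) f
      (Y.fromSpecResidueField y) := IsPullback.of_hasPullback _ _
  have hP := (hS1.flip.paste_vert hS2.flip).flip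
  have hcard := h _ _ _ _ _ hP
  refine le_trans ?_ hcard
  exact ENat.card_le_card_of_injective
    (Function.injective_surjInv ConnectedComponents.surjective_coe)

theorem encard_irreducibleComponents_eq_card_connectedComponents (T : Type*) [TopologicalSpace T]
    [DiscreteTopology T] : (irreducibleComponents T).encard = ENat.card (ConnectedComponents T) := by
  have h1 : irreducibleComponents T = Set.range (fun x : T ↦ ({x} : Set T)) := by
    ext s
    simp only [irreducibleComponents, Set.mem_ofPred_eq, Set.mem_range]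
    constructor
    · intro hs
      obtain ⟨x, rfl⟩ := isIrreducible_iff_singleton.mp hs.1
      exact ⟨x, rfl⟩
    · rintro ⟨x, rfl⟩
      refine ⟨isIrreducible_singleton, fun t ht hxt ↦ ?_⟩
      obtain ⟨z, rfl⟩ := isIrreducible_iff_singleton.mp ht
      rw [Set.singleton_subset_iff, Set.mem_singleton_iff] at hxt
      rw [hxt]
  have h2 : (irreducibleComponents T).encard = ENat.card T := by
    rw [h1, ← Set.image_univ, Set.InjOn.encard_image (Set.singleton_injective.injOn),
      Set.encard_univ]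
  have h3 : ENat.card (ConnectedComponents T) = ENat.card T := by
    refine (ENat.card_congr (Equiv.ofBijective (ConnectedComponents.mk : T → _)
      ⟨fun x y hxy ↦ ?_, ConnectedComponents.surjective_coe⟩)).symm
    rw [ConnectedComponents.coe_eq_coe', connectedComponent_eq_singleton] at hxy
    exact hxy
  rw [h2, h3]

theorem nGeomIrredComp_eq_nGeomConnComp {X Y : Scheme.{u}} (f : X ⟶ Y) [LocallyQuasiFinite f]
    (y : Y) : MoreMor.nGeomIrredComp f y = MoreMor.nGeomConnComp f y := by
  unfold MoreMor.nGeomIrredComp MoreMor.nGeomConnComp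
  have : IsLocallyArtinian (MoreMor.geomFiber f y) := by
    unfold MoreMor.geomFiber
    have : LocallyQuasiFinite (f.fiberToSpecResidueField y) :=
      MorphismProperty.pullback_snd _ _ inferInstance
    exact IsLocallyArtinian.of_locallyQuasiFinite (pullback.snd _ _)
  exact encard_irreducibleComponents_eq_card_connectedComponents _

end Groth.Agent.H7
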