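import Mathlib

set_option autoImplicit false
universe u

namespace Groth.Agent.H7

open AlgebraicGeometry CategoryTheory Limits MorphismProperty Topology

/-- The complement of the image of a section of a finite type morphism of affine schemes is
quasi-compact (the section is a closed immersion of finite presentation). -/
theorem isCompact_compl_range_of_section {T D : Scheme.{u}} [IsAffine T] [IsAffine D]
    (Δ : T ⟶ D) (pr : D ⟶ T) [IsClosedImmersion Δ] [LocallyOfFiniteType pr] (h : Δ ≫ pr = 𝟙 T) :
    IsCompact (Set.range Δ)ᶜ := by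
  have h1 : pr.appTop.hom.FiniteType :=
    HasRingHomProperty.appTop (P := @LocallyOfFiniteType) _ inferInstance
  have h2 : (Δ.appTop.hom.comp pr.appTop.hom).FinitePresentation := by
    have : Δ.appTop.hom.comp pr.appTop.hom = RingHom.id _ := by
      rw [← CommRingCat.hom_comp, ← Scheme.Hom.comp_appTop, h]
      rfl
    rw [this]
    exact RingHom.FinitePresentation.id _
  have h3 : Δ.appTop.hom.FinitePresentation :=
    RingHom.FinitePresentation.of_comp_finiteType pr.appTop.hom h2 h1
  have hsurj : Function.Surjective Δ.appTop.hom :=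
    (IsClosedImmersion.isAffine_surjective_of_isAffine Δ).2
  have hfg : (RingHom.ker Δ.appTop.hom).FG := by
    algebraize [Δ.appTop.hom]
    have := Algebra.FinitePresentation.ker_fG_of_surjective (Algebra.ofId Γ(D, ⊤) Γ(T, ⊤)) hsurj
    exact this
  have hrange : (Set.range Δ)ᶜ =
      D.toSpecΓ ⁻¹' (PrimeSpectrum.zeroLocus (RingHom.ker Δ.appTop.hom : Set Γ(D, ⊤)))ᶜ := by
    have hnat : Δ ≫ D.toSpecΓ = T.toSpecΓ ≫ Spec.map Δ.appTop := Scheme.toSpecΓ_naturality Δ
    have hr : Set.range (Spec.map Δ.appTop) =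
        PrimeSpectrum.zeroLocus (RingHom.ker Δ.appTop.hom : Set Γ(D, ⊤)) :=
      _root_.range_comap_of_surjective _ _ hsurj
    ext p
    simp only [Set.mem_compl_iff, Set.mem_preimage, not_iff_not, ← hr]
    constructor
    · rintro ⟨t, rfl⟩
      refine ⟨T.toSpecΓ t, ?_⟩
      have := congr($hnat t)
      simp only [Scheme.Hom.comp_apply] at this
      exact this.symm
    · rintro ⟨s, hs⟩
      obtain ⟨t, rfl⟩ := T.toSpecΓ.homeomorph.surjective s
      refine ⟨t, D.toSpecΓ.homeomorph.injective ?_⟩
      have := congr($hnat t)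
      simp only [Scheme.Hom.comp_apply] at this
      rw [Scheme.Hom.homeomorph_apply, Scheme.Hom.homeomorph_apply, this]
      exact hs
  rw [hrange]
  have hc : IsCompact (PrimeSpectrum.zeroLocus (RingHom.ker Δ.appTop.hom : Set Γ(D, ⊤)))ᶜ :=
    (PrimeSpectrum.isCompact_isOpen_iff_ideal.mpr ⟨_, hfg, rfl⟩).1
  exact (D.toSpecΓ.homeomorph.isCompact_preimage).mpr hc

end Groth.Agent.H7
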