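import Mathlib

set_option autoImplicit false

namespace Groth.Agent.H7

open Topology

section

variable {S : Type*} [TopologicalSpace S]

/-- Constructible sets of a quasi-compact space are clopen in the constructible topology. -/
theorem isOpen_constructibleTopology_of_isConstructible [CompactSpace S] {s : Set S}
    (hs : IsConstructible s) :
    IsOpen[constructibleTopology S] s ∧ IsOpen[constructibleTopology S] sᶜ := by
  induction hs using IsConstructible.empty_union_induction with
  | open_retrocompact U hUo hUc =>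
    have hc : IsCompact U := hUc.isCompact
    refine ⟨hc.isOpen_constructibleTopology_of_isOpen hUo, ?_⟩
    exact IsCompact.isOpen_constructibleTopology_of_isClosed (by rwa [compl_compl])
      hUo.isClosed_compl
  | union s hs t ht hs' ht' =>
    let _ := constructibleTopology S
    refine ⟨IsOpen.union hs'.1 ht'.1, ?_⟩
    rw [Set.compl_union]
    exact IsOpen.inter hs'.2 ht'.2
  | compl s hs hs' => exact ⟨hs'.2, by rw [compl_compl]; exact hs'.1⟩

theorem isOpen_preimage_ofTopology_of_isConstructible [CompactSpace S] {s : Set S}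
    (hs : IsConstructible s) :
    IsOpen (WithTopology.ofTopology ⁻¹' s : Set (WithConstructibleTopology S)) :=
  (isOpen_constructibleTopology_of_isConstructible hs).1

/-- If every point has a constructible "neighbourhood" on which `w` is constant, the level sets of
`w` are constructible (spectral spaces). -/
theorem isConstructible_setOf_eq_of_forall_exists [CompactSpace S] [QuasiSober S]
    [PrespectralSpace S] [QuasiSeparatedSpace S] {α : Type*} (w : S → α)
    (h : ∀ x, ∃ C : Set S, IsConstructible C ∧ x ∈ C ∧ ∀ x' ∈ C, w x' = w x) (n : α) :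
    IsConstructible {x | w x = n} := by
  choose C hC hxC hCw using h
  let K := WithConstructibleTopology S
  let o : K → S := WithTopology.ofTopology
  let L : Set K := o ⁻¹' {x | w x = n}
  have hCo : ∀ x, IsOpen (o ⁻¹' C x) := fun x ↦ isOpen_preimage_ofTopology_of_isConstructible (hC x)
  have hLc : IsClosed L := by
    rw [← isOpen_compl_iff]
    have : Lᶜ = ⋃ x : {x : S // w x ≠ n}, o ⁻¹' C x.1 := by
      ext k
      simp only [L, Set.mem_compl_iff, Set.mem_preimage, Set.mem_ofPred_eq, Set.mem_iUnion]
      constructor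
      · intro hk
        exact ⟨⟨o k, hk⟩, hxC (o k)⟩
      · rintro ⟨⟨x, hx⟩, hk⟩ hk'
        exact hx ((hCw x (o k) hk).symm.trans hk')
    rw [this]
    exact isOpen_iUnion fun x ↦ hCo x.1
  have hLk : IsCompact L := hLc.isCompact
  obtain ⟨t, ht⟩ := hLk.elim_finite_subcover (fun x : {x : S // w x = n} ↦ o ⁻¹' C x.1)
    (fun x ↦ hCo x.1) (fun k hk ↦ Set.mem_iUnion.mpr ⟨⟨o k, hk⟩, hxC (o k)⟩)
  have heq : {x | w x = n} = ⋃ x ∈ t, C x.1 := by
    ext x
    simp only [Set.mem_ofPred_eq, Set.mem_iUnion, exists_prop]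
    constructor
    · intro hx
      have := ht (show WithTopology.toTopology _ x ∈ L from hx)
      simp only [Set.mem_iUnion, exists_prop] at this
      obtain ⟨y, hy, hxy⟩ := this
      exact ⟨y, hy, hxy⟩
    · rintro ⟨y, _, hxy⟩
      exact (hCw y.1 x hxy).trans y.2
  rw [heq]
  exact IsConstructible.biUnion t.finite_toSet fun x _ ↦ hC x.1

/-- Under the same hypothesis, the function takes only finitely many values. -/
theorem finite_range_of_forall_exists [CompactSpace S] [QuasiSober S]
    [PrespectralSpace S] [QuasiSeparatedSpace S] {α : Type*} (w : S → α)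
    (h : ∀ x, ∃ C : Set S, IsConstructible C ∧ x ∈ C ∧ ∀ x' ∈ C, w x' = w x) :
    (Set.range w).Finite := by
  choose C hC hxC hCw using h
  let K := WithConstructibleTopology S
  let o : K → S := WithTopology.ofTopology
  have hCo : ∀ x, IsOpen (o ⁻¹' C x) := fun x ↦ isOpen_preimage_ofTopology_of_isConstructible (hC x)
  obtain ⟨t, ht⟩ := (isCompact_univ (X := K)).elim_finite_subcover (fun x : S ↦ o ⁻¹' C x)
    hCo (fun k _ ↦ Set.mem_iUnion.mpr ⟨o k, hxC (o k)⟩)
  refine (t.finite_toSet.image w).subset ?_
  rintro _ ⟨x, rfl⟩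
  have := ht (Set.mem_univ (WithTopology.toTopology _ x))
  simp only [Set.mem_iUnion, exists_prop] at this
  obtain ⟨y, hy, hxy⟩ := this
  exact ⟨y, hy, (hCw y x hxy).symm⟩

end

section

variable {A B : Type*} [TopologicalSpace A] [TopologicalSpace B]

/-- The image of a spectral map of spectral spaces is pro-constructible: a point outside it is
separated from it by a constructible set. -/
theorem exists_isConstructible_range_subset [CompactSpace A] [QuasiSober A] [PrespectralSpace A]
    [QuasiSeparatedSpace A] [T0Space B] [PrespectralSpace B] [QuasiSeparatedSpace B]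
    (φ : A → B) (hφ : IsSpectralMap φ) (y : B) (hy : y ∉ Set.range φ) :
    ∃ K : Set B, IsConstructible K ∧ Set.range φ ⊆ K ∧ y ∉ K := by
  have key : ∀ x : A, ∃ K : Set B, IsConstructible K ∧ φ x ∈ K ∧ y ∉ K ∧
      IsConstructible (φ ⁻¹' K) := by
    intro x
    have hne : φ x ≠ y := fun h ↦ hy ⟨x, h⟩
    obtain ⟨O, hO, hxor⟩ := exists_isOpen_xor_mem hne
    rcases hxor with ⟨h1, h2⟩ | ⟨h1, h2⟩
    · obtain ⟨O', ⟨hO'o, hO'c⟩, hxO', hO'O⟩ :=
        (PrespectralSpace.isTopologicalBasis (X := B)).exists_subset_of_mem_open h1 hO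
      refine ⟨O', hO'c.isConstructible hO'o, hxO', fun h ↦ h2 (hO'O h), ?_⟩
      exact (hφ.isCompact_preimage_of_isOpen hO'o hO'c).isConstructible
        (hO'o.preimage hφ.continuous)
    · obtain ⟨O', ⟨hO'o, hO'c⟩, hyO', hO'O⟩ :=
        (PrespectralSpace.isTopologicalBasis (X := B)).exists_subset_of_mem_open h1 hO
      refine ⟨O'ᶜ, (hO'c.isConstructible hO'o).compl, fun h ↦ h2 (hO'O h), fun h ↦ h hyO', ?_⟩
      rw [Set.preimage_compl]
      exact ((hφ.isCompact_preimage_of_isOpen hO'o hO'c).isConstructible
        (hO'o.preimage hφ.continuous)).compl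
  choose K hK hxK hyK hKpre using key
  let o : WithConstructibleTopology A → A := WithTopology.ofTopology
  obtain ⟨t, ht⟩ := (isCompact_univ (X := WithConstructibleTopology A)).elim_finite_subcover
    (fun x : A ↦ o ⁻¹' (φ ⁻¹' K x))
    (fun x ↦ isOpen_preimage_ofTopology_of_isConstructible (hKpre x))
    (fun k _ ↦ Set.mem_iUnion.mpr ⟨o k, hxK (o k)⟩)
  refine ⟨⋃ x ∈ t, K x, IsConstructible.biUnion t.finite_toSet fun x _ ↦ hK x, ?_, ?_⟩
  · rintro _ ⟨x, rfl⟩
    have := ht (Set.mem_univ (WithTopology.toTopology _ x))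
    simp only [Set.mem_iUnion, exists_prop] at this ⊢
    obtain ⟨z, hz, hxz⟩ := this
    exact ⟨z, hz, hxz⟩
  · simp only [Set.mem_iUnion, exists_prop, not_exists, not_and]
    exact fun x _ ↦ hyK x

end

end Groth.Agent.H7
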