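import Mathlib
import Groth.Agent.H7.FiniteDescent

set_option autoImplicit false
universe u

namespace Groth.Agent.H7

open AlgebraicGeometry CategoryTheory Limits MorphismProperty

/-- Germ uniqueness: two open pieces finite over the base with the same unique point over `b₀`
coincide over a neighbourhood of `b₀`. -/
theorem exists_nhds_forall_mem_iff {P B : Scheme.{u}} (ρ : P ⟶ B) (U T : P.Opens)
    (hU : IsFinite (U.ι ≫ ρ)) (hT : IsFinite (T.ι ≫ ρ)) (b₀ : B) (z : P) (hzU : z ∈ U)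
    (hzT : z ∈ T) (huU : ∀ p ∈ U, ρ p = b₀ → p = z) (huT : ∀ p ∈ T, ρ p = b₀ → p = z) :
    ∃ N : Set B, IsOpen N ∧ b₀ ∈ N ∧ ∀ p, ρ p ∈ N → (p ∈ U ↔ p ∈ T) := by
  let C₁ : Set ↥U := {u | U.ι u ∉ T}
  have hC₁ : IsClosed C₁ := (T.2.preimage U.ι.continuous).isClosed_compl
  have hI₁ : IsClosed ((U.ι ≫ ρ) '' C₁) := (U.ι ≫ ρ).isClosedMap _ hC₁
  let C₂ : Set ↥T := {t | T.ι t ∉ U}
  have hC₂ : IsClosed C₂ := (U.2.preimage T.ι.continuous).isClosed_compl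
  have hI₂ : IsClosed ((T.ι ≫ ρ) '' C₂) := (T.ι ≫ ρ).isClosedMap _ hC₂
  refine ⟨((U.ι ≫ ρ) '' C₁)ᶜ ∩ ((T.ι ≫ ρ) '' C₂)ᶜ, hI₁.isOpen_compl.inter hI₂.isOpen_compl,
    ⟨?_, ?_⟩, ?_⟩
  · rintro ⟨u, hu, hub⟩
    have : U.ι u = z := huU _ u.2 hub
    exact hu (this ▸ hzT)
  · rintro ⟨t, ht, htb⟩
    have : T.ι t = z := huT _ t.2 htb
    exact ht (this ▸ hzU)
  · rintro p ⟨hp1, hp2⟩
    constructor
    · intro hpU
      by_contra hpT
      exact hp1 ⟨⟨p, hpU⟩, hpT, rfl⟩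
    · intro hpT
      by_contra hpU
      exact hp2 ⟨⟨p, hpT⟩, hpU, rfl⟩

/-- Pieces which agree over a point have the same fibre integral there. -/
theorem fibreIntegral_ι_comp_congr {P B : Scheme.{u}} (ρ : P ⟶ B) (U T : P.Opens) (W : P → ℤ)
    (b : B) (h : ∀ p, ρ p = b → (p ∈ U ↔ p ∈ T)) :
    MoreMor.fibreIntegral (U.ι ≫ ρ) (fun u ↦ W (U.ι u)) b =
      MoreMor.fibreIntegral (T.ι ≫ ρ) (fun u ↦ W (T.ι u)) b := by
  rw [fibreIntegral_ι_comp_eq_finsum_mem, fibreIntegral_ι_comp_eq_finsum_mem]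
  have : ρ ⁻¹' {b} ∩ (U : Set P) = ρ ⁻¹' {b} ∩ (T : Set P) := by
    ext p
    simp only [Set.mem_inter_iff, Set.mem_preimage, Set.mem_singleton_iff, SetLike.mem_coe]
    exact ⟨fun ⟨h1, h2⟩ ↦ ⟨h1, (h p h1).mp h2⟩, fun ⟨h1, h2⟩ ↦ ⟨h1, (h p h1).mpr h2⟩⟩
  rw [this]


/-- Uniqueness of points of a cartesian square over a pair of points, for a residually purely
inseparable point. -/
theorem eq_of_isPullback_of_isPurelyInseparable {P X U S : Scheme.{u}} {fst' : P ⟶ X}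
    {snd' : P ⟶ U} {f : X ⟶ S} {g : U ⟶ S} (hsq : IsPullback fst' snd' f g) (w w' : P)
    (h1 : fst' w = fst' w') (h2 : snd' w = snd' w')
    (h : letI := (f.residueFieldMap (fst' w')).hom.toAlgebra
      IsPurelyInseparable (S.residueField (f (fst' w'))) (X.residueField (fst' w'))) : w = w' := by
  let e := hsq.isoPullback
  have hfst : ∀ p, pullback.fst f g (e.hom p) = fst' p := fun p ↦ by
    rw [← Scheme.Hom.comp_apply, hsq.isoPullback_hom_fst]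
  have hsnd : ∀ p, pullback.snd f g (e.hom p) = snd' p := fun p ↦ by
    rw [← Scheme.Hom.comp_apply, hsq.isoPullback_hom_snd]
  have key : e.hom w = e.hom w' := by
    apply eq_of_fst_eq_of_snd_eq_of_isPurelyInseparable f g
    · rw [hfst, hfst, h1]
    · rw [hsnd, hsnd, h2]
    · rw [hfst]
      exact h
  have := congr(e.inv $key)
  rwa [Scheme.hom_inv_apply, Scheme.hom_inv_apply] at this

section Piece

variable {P' P B' B : Scheme.{u}} {m : P' ⟶ P} {ρ' : P' ⟶ B'} {ρ : P ⟶ B} {b : B' ⟶ B}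

theorem isPullback_preimage_piece' (hsq : IsPullback m ρ' ρ b) (Vo : P.Opens) :
    IsPullback (m ∣_ Vo) ((m ⁻¹ᵁ Vo).ι ≫ ρ') (Vo.ι ≫ ρ) b :=
  (isPullback_morphismRestrict _ _).paste_vert hsq

theorem isFinite_preimage_piece' (hsq : IsPullback m ρ' ρ b) (Vo : P.Opens)
    (h : IsFinite (Vo.ι ≫ ρ)) : IsFinite ((m ⁻¹ᵁ Vo).ι ≫ ρ') :=
  MorphismProperty.of_isPullback (isPullback_preimage_piece' hsq Vo) h

theorem fibreIntegral_preimage_piece' (hsq : IsPullback m ρ' ρ b) (Vo : P.Opens)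
    (h : IsFinite (Vo.ι ≫ ρ)) (W : P → ℤ) (b' : B') :
    MoreMor.fibreIntegral ((m ⁻¹ᵁ Vo).ι ≫ ρ') (fun u ↦ W (m ((m ⁻¹ᵁ Vo).ι u))) b' =
    MoreMor.fibreIntegral (Vo.ι ≫ ρ) (fun u ↦ W (Vo.ι u)) (b b') := by
  rw [← fibreIntegral_baseChange (Vo.ι ≫ ρ) (fun v ↦ (Vo.ι ≫ ρ).finite_preimage_singleton v) _ _ b
    (isPullback_preimage_piece' hsq Vo) (fun u ↦ W (Vo.ι u)) b']
  congr 1
  funext u
  simp only [Function.comp_apply, ← Scheme.Hom.comp_apply, morphismRestrict_ι]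

end Piece

end Groth.Agent.H7
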