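import Mathlib
import Groth.Agent.H7.WeightingCriterion
import Groth.Agent.S1482

set_option autoImplicit false
universe u

namespace Groth.Agent.H7

open AlgebraicGeometry CategoryTheory Limits MorphismProperty

/-- The pulled back function is "locally a weighting" at open pieces with a unique, residually
purely inseparable point over the base point. -/
theorem exists_nhds_fibreIntegral_const_of_isPullback {X Y X' Y' : Scheme.{u}} (f : X ⟶ Y)
    [LocallyQuasiFinite f] [LocallyOfFiniteType f] (w : X → ℤ) (hw : MoreMor.IsWeighting f w)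
    (f' : X' ⟶ Y') (h : X' ⟶ X) (g₀ : Y' ⟶ Y) (hsq : IsPullback h f' f g₀)
    (V' : Scheme.{u}) (g' : V' ⟶ Y') [Etale g'] (U' : (pullback f' g').Opens)
    (hU' : IsFinite (U'.ι ≫ pullback.snd f' g')) (v'₀ : V') (u'₀ : ↑(pullback f' g'))
    (hu'₀ : u'₀ ∈ U') (hu'₀v : pullback.snd f' g' u'₀ = v'₀)
    (huniq : ∀ p ∈ U', pullback.snd f' g' p = v'₀ → p = u'₀)
    (hpi : letI := ((pullback.snd f' g').residueFieldMap u'₀).hom.toAlgebra
      IsPurelyInseparable (V'.residueField (pullback.snd f' g' u'₀))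
        ((pullback f' g').residueField u'₀)) :
    ∃ N : Set V', IsOpen N ∧ v'₀ ∈ N ∧ ∀ v' ∈ N,
      MoreMor.fibreIntegral (U'.ι ≫ pullback.snd f' g')
        (fun u ↦ w (h (pullback.fst f' g' (U'.ι u)))) v' =
      MoreMor.fibreIntegral (U'.ι ≫ pullback.snd f' g')
        (fun u ↦ w (h (pullback.fst f' g' (U'.ι u)))) v'₀ := by
  let ρ' := pullback.snd f' g'
  let x := h (pullback.fst f' g' u'₀)
  obtain ⟨V, g₁, v₀, hget, hgv, J, hJ, Vo, vo, hVo, hinj, hcov⟩ :=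
    Groth.Agent.S1482.result f (f x) (fun _ : Unit ↦ x) (fun _ _ _ ↦ rfl) (fun _ ↦ rfl)
      (fun _ ↦ f.quasiFiniteAt _)
  let ρ := pullback.snd f g₁
  let a := pullback.fst (g' ≫ g₀) g₁
  let b := pullback.snd (g' ≫ g₀) g₁
  have hab : a ≫ g' ≫ g₀ = b ≫ g₁ := pullback.condition
  have hCD : IsPullback (pullback.fst f' g' ≫ h) ρ' f (g' ≫ g₀) :=
    (IsPullback.of_hasPullback f' g').paste_horiz hsq
  have hAB : IsPullback (pullback.fst ρ b ≫ pullback.fst f g₁) (pullback.snd ρ b) f (b ≫ g₁) :=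
    (IsPullback.of_hasPullback ρ b).paste_horiz (IsPullback.of_hasPullback f g₁)
  have hm0 : (pullback.fst ρ b ≫ pullback.fst f g₁) ≫ f =
      (pullback.snd ρ b ≫ a) ≫ (g' ≫ g₀) := by
    rw [Category.assoc (pullback.snd ρ b), hab, hAB.w]
  obtain ⟨m, hm1, hm2⟩ : ∃ m : pullback ρ b ⟶ pullback f' g',
      m ≫ (pullback.fst f' g' ≫ h) = pullback.fst ρ b ≫ pullback.fst f g₁ ∧
      m ≫ ρ' = pullback.snd ρ b ≫ a :=
    ⟨hCD.lift _ _ hm0, hCD.lift_fst _ _ _, hCD.lift_snd _ _ _⟩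
  have hleft : IsPullback m (pullback.snd ρ b) ρ' a := by
    apply IsPullback.of_right (h₁₂ := pullback.fst f' g' ≫ h) (v₁₃ := f) (h₂₂ := g' ≫ g₀)
    · rw [hm1, hab]
      exact hAB
    · exact hm2
    · exact hCD
  -- points
  have hx0 : (g' ≫ g₀) v'₀ = g₁ v₀ := by
    rw [hgv, ← hu'₀v]
    have h0 : pullback.snd f' g' ≫ g' ≫ g₀ = pullback.fst f' g' ≫ h ≫ f := by
      rw [← pullback.condition_assoc, hsq.w]
    have := congr($h0 u'₀)
    simpa only [Scheme.Hom.comp_apply] using this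
  obtain ⟨v''₀, hv''a, hv''b⟩ := Scheme.Pullback.exists_preimage_pullback v'₀ v₀ hx0
  obtain ⟨z, hz1, hz2⟩ := Scheme.exists_preimage_of_isPullback hleft u'₀ v''₀
    (by rw [hu'₀v, hv''a])
  have ht1 : pullback.fst f g₁ (pullback.fst ρ b z) = x := by
    have := congr($hm1 z)
    simp only [Scheme.Hom.comp_apply] at this
    rw [← this, hz1]
  have ht2 : ρ (pullback.fst ρ b z) = v₀ := by
    rw [← Scheme.Hom.comp_apply, pullback.condition, Scheme.Hom.comp_apply, hz2, hv''b]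
  obtain ⟨j, htj⟩ := hcov _ () ht2 ht1
  obtain ⟨hmem, hfin, hsnd, huniqV, ⟨hresfin, hpiV⟩, hfst⟩ := hVo () j
  let U'' := m ⁻¹ᵁ U'
  let T := (pullback.fst ρ b) ⁻¹ᵁ (Vo () j)
  have hzU : z ∈ U'' := by
    change m z ∈ U'
    rw [hz1]
    exact hu'₀
  have hzT : z ∈ T := by
    change pullback.fst ρ b z ∈ Vo () j
    rw [htj]
    exact hmem
  have hfinU : IsFinite (U''.ι ≫ pullback.snd ρ b) := isFinite_preimage_piece' hleft U' hU'
  have hfinT : IsFinite (T.ι ≫ pullback.snd ρ b) := isFinite_preimage_piece ρ b (Vo () j) hfin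
  have huU : ∀ p ∈ U'', pullback.snd ρ b p = v''₀ → p = z := by
    intro p hp hpv
    refine eq_of_isPullback_of_isPurelyInseparable hleft p z ?_ (hpv.trans hz2.symm) ?_
    · have : m p = u'₀ := huniq _ hp (by
        change ρ' (m p) = v'₀
        rw [← Scheme.Hom.comp_apply, hm2, Scheme.Hom.comp_apply, hpv, hv''a])
      rw [this, hz1]
    · rw [hz1]
      exact hpi
  have huT : ∀ p ∈ T, pullback.snd ρ b p = v''₀ → p = z := by
    intro p hp hpv
    refine eq_of_fst_eq_of_snd_eq_of_isPurelyInseparable ρ b p z ?_ (hpv.trans hz2.symm) ?_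
    · have : pullback.fst ρ b p = vo () j := huniqV _ hp (by
        change ρ (pullback.fst ρ b p) = v₀
        rw [← Scheme.Hom.comp_apply, pullback.condition, Scheme.Hom.comp_apply, hpv, hv''b])
      rw [this, htj]
    · rw [htj]
      exact hpiV
  obtain ⟨N₁, hN₁o, hN₁v, hN₁⟩ := exists_nhds_forall_mem_iff (pullback.snd ρ b) U'' T hfinU hfinT
    v''₀ z hzU hzT huU huT
  -- integrals
  let Wx : ↑(pullback f g₁) → ℤ := fun p ↦ w (pullback.fst f g₁ p)
  let I := MoreMor.fibreIntegral ((Vo () j).ι ≫ ρ) (fun u ↦ Wx ((Vo () j).ι u))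
  have hI : IsLocallyConstant I := hw V g₁ (Vo () j) hfin
  let W' : ↑(pullback f' g') → ℤ := fun p ↦ w (h (pullback.fst f' g' p))
  have hW : ∀ p : ↑(pullback ρ b), W' (m p) = Wx (pullback.fst ρ b p) := by
    intro p
    have := congr($hm1 p)
    simp only [Scheme.Hom.comp_apply] at this
    simp only [W', Wx, this]
  have hIU := fibreIntegral_preimage_piece' hleft U' hU' W'
  have hIT := fibreIntegral_preimage_piece ρ b (Vo () j) hfin Wx
  have hUT : ∀ v'' ∈ N₁, MoreMor.fibreIntegral (U''.ι ≫ pullback.snd ρ b)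
      (fun u ↦ W' (m (U''.ι u))) v'' = MoreMor.fibreIntegral (T.ι ≫ pullback.snd ρ b)
      (fun u ↦ Wx (pullback.fst ρ b (T.ι u))) v'' := by
    intro v'' hv''
    have := fibreIntegral_ι_comp_congr (pullback.snd ρ b) U'' T (fun p ↦ W' (m p)) v''
      (fun p hp ↦ hN₁ p (hp ▸ hv''))
    simpa only [hW] using this
  have key : ∀ v'' ∈ N₁ ∩ b ⁻¹' (I ⁻¹' {I v₀}), MoreMor.fibreIntegral (U'.ι ≫ ρ')
      (fun u ↦ W' (U'.ι u)) (a v'') = I v₀ := by
    rintro v'' ⟨hv1, hv2⟩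
    rw [← hIU, hUT v'' hv1, hIT]
    exact hv2
  have hv''N : v''₀ ∈ N₁ ∩ b ⁻¹' (I ⁻¹' {I v₀}) := ⟨hN₁v, by
    change I (b v''₀) = I v₀
    rw [hv''b]⟩
  refine ⟨a '' (N₁ ∩ b ⁻¹' (I ⁻¹' {I v₀})),
    a.isOpenMap _ (hN₁o.inter ((hI.isOpen_fiber _).preimage b.continuous)),
    ⟨v''₀, hv''N, hv''a⟩, ?_⟩
  rintro _ ⟨v'', hv'', rfl⟩
  change MoreMor.fibreIntegral (U'.ι ≫ ρ') (fun u ↦ W' (U'.ι u)) (a v'') =
    MoreMor.fibreIntegral (U'.ι ≫ ρ') (fun u ↦ W' (U'.ι u)) v'₀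
  rw [key v'' hv'', ← hv''a, key v''₀ hv''N]

end Groth.Agent.H7
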