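import Mathlib
import Groth.Agent.H7.EtaleLocal

set_option autoImplicit false
universe u

namespace Groth.Agent.H7

open AlgebraicGeometry CategoryTheory Limits

/-- A closed open subscheme of an open subscheme finite over the base is finite over the base. -/
theorem isFinite_ι_comp_of_le_of_isClosed {Y U : Scheme.{u}} (π : Y ⟶ U) {V' V : Y.Opens}
    (hle : V' ≤ V) (hcl : IsClosed (V' : Set Y)) (h : IsFinite (V.ι ≫ π)) :
    IsFinite (V'.ι ≫ π) := by
  have hr : IsClosed (Set.range (Y.homOfLE hle)) := by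
    have h1 : Set.range (Y.homOfLE hle) = V.ι ⁻¹' (V' : Set Y) := by
      have h0 := Scheme.opensRange_homOfLE hle
      rw [← Scheme.Hom.coe_opensRange, h0]
      rfl
    rw [h1]
    exact hcl.preimage V.ι.continuous
  have : IsClosedImmersion (Y.homOfLE hle) := .of_isPreimmersion _ hr
  rw [← Scheme.homOfLE_ι Y hle, Category.assoc]
  infer_instance

/-- Finitely many open subschemes finite over the base of a separated morphism, each containing
exactly one point over `u`, these points being pairwise distinct, can be shrunk to pairwise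
disjoint open and closed subschemes with the same properties. -/
theorem exists_disjoint_clopen_refinement {Y U : Scheme.{u}} (π : Y ⟶ U) [IsSeparated π]
    {K : Type*} [Finite K] (V : K → Y.Opens) (v : K → Y) (u : U)
    (hfin : ∀ k, IsFinite ((V k).ι ≫ π)) (hv : ∀ k, v k ∈ V k) (hvu : ∀ k, π (v k) = u)
    (huniq : ∀ k w, w ∈ V k → π w = u → w = v k) (hinj : Function.Injective v) :
    ∃ V' : K → Y.Opens, (∀ k, V' k ≤ V k) ∧ (∀ k, IsClopen (V' k : Set Y)) ∧
      (∀ k l, ((V' k : Set Y) ∩ V' l).Nonempty → k = l) ∧ (∀ k, v k ∈ V' k) ∧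
      (∀ k, IsFinite ((V' k).ι ≫ π)) := by
  classical
  have hclV : ∀ k, IsClosed (V k : Set Y) := fun k ↦ isClosed_of_isFinite_ι_comp π (V k) (hfin k)
  let C : K → Set Y := fun k ↦ ⋃ l ∈ {l : K | l ≠ k}, (V l : Set Y)
  have hCcl : ∀ k, IsClosed (C k) := fun k ↦
    (Set.toFinite {l : K | l ≠ k}).isClosed_biUnion fun l _ ↦ hclV l
  have hCop : ∀ k, IsOpen (C k) := fun k ↦ isOpen_biUnion fun l _ ↦ (V l).2
  let V' : K → Y.Opens := fun k ↦ ⟨(V k : Set Y) ∩ (C k)ᶜ, (V k).2.inter (hCcl k).isOpen_compl⟩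
  have hle : ∀ k, V' k ≤ V k := fun k ↦ Set.inter_subset_left
  have hcl' : ∀ k, IsClosed (V' k : Set Y) := fun k ↦ (hclV k).inter (hCop k).isClosed_compl
  refine ⟨V', hle, fun k ↦ ⟨hcl' k, (V' k).2⟩, ?_, ?_, fun k ↦
    isFinite_ι_comp_of_le_of_isClosed π (hle k) (hcl' k) (hfin k)⟩
  · rintro k l ⟨z, ⟨hz1, hz2⟩, ⟨hz3, hz4⟩⟩
    by_contra hkl
    apply hz2
    exact Set.mem_biUnion (x := l) (fun h ↦ hkl h.symm) hz3
  · intro k
    refine ⟨hv k, ?_⟩
    intro hmem
    obtain ⟨l, hl, hvl⟩ := Set.mem_iUnion₂.mp hmem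
    exact hl (hinj (huniq l (v k) hvl (hvu k))).symm

end Groth.Agent.H7
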