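import Mathlib
import Groth.Agent.H7.WeightingBaseChange
import Groth.Agent.S9778

set_option autoImplicit false
universe u

namespace Groth.Agent.H7

open AlgebraicGeometry CategoryTheory Limits MorphismProperty

theorem isPurelyInseparable_of_sepDeg_eq_one {U V : Scheme.{u}} (π : U ⟶ V) (p : U)
    (h : sepDeg π p = 1) :
    letI := (π.residueFieldMap p).hom.toAlgebra
    IsPurelyInseparable (V.residueField (π p)) (U.residueField p) := by
  let _ := (π.residueFieldMap p).hom.toAlgebra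
  exact isPurelyInseparable_of_finSepDegree_eq_one h

section Transport

variable {S P B : Scheme.{u}} (j : S ⟶ P) [IsOpenImmersion j] (ρ : P ⟶ B) (Q : S.Opens)

theorem isFinite_image_ι_comp (h : IsFinite (Q.ι ≫ j ≫ ρ)) : IsFinite ((j ''ᵁ Q).ι ≫ ρ) := by
  rw [← MorphismProperty.cancel_left_of_respectsIso @IsFinite (j.isoImage Q).hom,
    ← Category.assoc, Scheme.Hom.isoImage_hom_ι, Category.assoc]
  exact h

theorem fibreIntegral_image_ι_comp (W : P → ℤ) (b : B) :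
    MoreMor.fibreIntegral ((j ''ᵁ Q).ι ≫ ρ) (fun u ↦ W ((j ''ᵁ Q).ι u)) b =
      MoreMor.fibreIntegral (Q.ι ≫ j ≫ ρ) (fun u ↦ W (j (Q.ι u))) b := by
  rw [fibreIntegral_ι_comp_eq_finsum_mem ρ (j ''ᵁ Q) W b,
    fibreIntegral_ι_comp_eq_finsum_mem (j ≫ ρ) Q (fun s ↦ W (j s)) b]
  have h1 : ρ ⁻¹' {b} ∩ ((j ''ᵁ Q : P.Opens) : Set P) = j '' ((j ≫ ρ) ⁻¹' {b} ∩ (Q : Set S)) := by
    ext p
    simp only [Set.mem_inter_iff, Set.mem_preimage, Set.mem_singleton_iff, SetLike.mem_coe,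
      Set.mem_image]
    constructor
    · rintro ⟨hp1, s, hs, rfl⟩
      exact ⟨s, ⟨hp1, hs⟩, rfl⟩
    · rintro ⟨s, ⟨hs1, hs2⟩, rfl⟩
      exact ⟨hs1, s, hs2, rfl⟩
  rw [h1, finsum_mem_image (j.injective.injOn)]
  refine finsum_mem_congr rfl fun s _ ↦ ?_
  rw [sepDeg_comp_of_isOpenImmersion]

end Transport


/-- Criterion for a function to be a weighting: it suffices to consider open pieces having a
unique, residually purely inseparable point over the base point. -/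
theorem isWeighting_of_local_criterion {X Y : Scheme.{u}} (f : X ⟶ Y) (w : X → ℤ)
    (H : ∀ (V : Scheme.{u}) (g : V ⟶ Y) [Etale g] (U : (pullback f g).Opens),
      IsFinite (U.ι ≫ pullback.snd f g) → ∀ (v : V) (u₀ : ↑(pullback f g)), u₀ ∈ U →
      pullback.snd f g u₀ = v → (∀ p ∈ U, pullback.snd f g p = v → p = u₀) →
      (letI := ((pullback.snd f g).residueFieldMap u₀).hom.toAlgebra
       IsPurelyInseparable (V.residueField (pullback.snd f g u₀))
          ((pullback f g).residueField u₀)) →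
      ∃ N : Set V, IsOpen N ∧ v ∈ N ∧ ∀ v' ∈ N,
        MoreMor.fibreIntegral (U.ι ≫ pullback.snd f g)
          (fun u ↦ w (pullback.fst f g (U.ι u))) v' =
        MoreMor.fibreIntegral (U.ι ≫ pullback.snd f g)
          (fun u ↦ w (pullback.fst f g (U.ι u))) v) :
    MoreMor.IsWeighting f w := by
  intro V g _ U hU
  rw [IsLocallyConstant.iff_exists_open]
  intro v₀
  let ρ := pullback.snd f g
  let π := U.ι ≫ ρ
  have hπ : IsFinite π := hU
  let WU : ↥U → ℤ := fun u ↦ w (pullback.fst f g (U.ι u))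
  have hπfib : ∀ v, (π ⁻¹' {v}).Finite := fun v ↦ π.finite_preimage_singleton v
  have hF : Finite (π ⁻¹' {v₀}) := (hπfib v₀).to_subtype
  let e := Finite.equivFin (π ⁻¹' {v₀})
  let xs : Fin (Nat.card (π ⁻¹' {v₀})) → ↥U := fun i ↦ (e.symm i).1
  have hxinj : Function.Injective xs := fun i i' h ↦ e.symm.injective (Subtype.ext h)
  have hxs : ∀ i, π (xs i) = v₀ := fun i ↦ (e.symm i).2
  obtain ⟨V₁, c₁, v₁, hc₁et, hc₁v, J, hJ, Q, q, hclopen, hdisj, hQ, hcov⟩ :=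
    Groth.Agent.S9778.result π v₀ xs hxinj hxs (fun i ↦ π.quasiFiniteAt _)
  have : ∀ i, Finite (J i) := hJ
  let σ := pullback.snd π c₁
  let W₁ : ↑(pullback π c₁) → ℤ := fun s ↦ WU (pullback.fst π c₁ s)
  have hbc : ∀ v', MoreMor.fibreIntegral σ W₁ v' = MoreMor.fibreIntegral π WU (c₁ v') :=
    fun v' ↦ fibreIntegral_baseChange π hπfib σ (pullback.fst π c₁) c₁
      (IsPullback.of_hasPullback π c₁) WU v'
  have hσfin : IsFinite σ := inferInstance
  have hσfib : ∀ v', (σ ⁻¹' {v'}).Finite := fun v' ↦ σ.finite_preimage_singleton v'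
  let Qk : (Σ i, J i) → (pullback π c₁).Opens := fun k ↦ Q k.1 k.2
  have hdisj' : ∀ k l, ((Qk k : Set ↑(pullback π c₁)) ∩ Qk l).Nonempty → k = l := by
    rintro ⟨i, j⟩ ⟨i', j'⟩ h
    obtain ⟨rfl, h2⟩ := hdisj i j i' j' h
    rw [eq_of_heq h2]
  have hcovv : ∀ s, σ s = v₁ → ∃ k, s ∈ Qk k := by
    intro s hs
    have h1 : π (pullback.fst π c₁ s) = v₀ := by
      rw [← Scheme.Hom.comp_apply, pullback.condition, Scheme.Hom.comp_apply, hs, hc₁v]
    have h2 : xs (e ⟨pullback.fst π c₁ s, h1⟩) = pullback.fst π c₁ s := by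
      simp only [xs, Equiv.symm_apply_apply]
    obtain ⟨j, hj⟩ := hcov s (e ⟨pullback.fst π c₁ s, h1⟩) hs h2.symm
    exact ⟨⟨_, j⟩, hj⟩
  let R : Set ↑(pullback π c₁) := (⋃ k, (Qk k : Set ↑(pullback π c₁)))ᶜ
  have hR : IsClosed R := (isOpen_iUnion fun k ↦ (Qk k).2).isClosed_compl
  have hσR : IsClosed (σ '' R) := σ.isClosedMap _ hR
  have hv₁R : v₁ ∉ σ '' R := by
    rintro ⟨s, hs, hsv⟩
    obtain ⟨k, hk⟩ := hcovv s hsv
    exact hs (Set.mem_iUnion.mpr ⟨k, hk⟩)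
  -- transport to `pullback f (c₁ ≫ g)`
  have hp := isPullback_preimage_piece ρ c₁ U
  let ε := hp.isoPullback
  have hε1 : ε.hom ≫ pullback.fst π c₁ = pullback.fst ρ c₁ ∣_ U := hp.isoPullback_hom_fst
  have hε2 : ε.hom ≫ pullback.snd π c₁ = ((pullback.fst ρ c₁) ⁻¹ᵁ U).ι ≫ pullback.snd ρ c₁ :=
    hp.isoPullback_hom_snd
  let E := pullbackLeftPullbackSndIso f g c₁
  let j : pullback π c₁ ⟶ pullback f (c₁ ≫ g) :=
    ε.inv ≫ ((pullback.fst ρ c₁) ⁻¹ᵁ U).ι ≫ E.hom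
  have hjo : IsOpenImmersion j := inferInstance
  have hj1 : j ≫ pullback.snd f (c₁ ≫ g) = σ := by
    simp only [j, Category.assoc, E]
    rw [pullbackLeftPullbackSndIso_hom_snd, ← hε2, Iso.inv_hom_id_assoc]
  have hj2 : j ≫ pullback.fst f (c₁ ≫ g) = pullback.fst π c₁ ≫ U.ι ≫ pullback.fst f g := by
    simp only [j, Category.assoc, E]
    rw [pullbackLeftPullbackSndIso_hom_fst, ← morphismRestrict_ι_assoc, ← hε1, Category.assoc,
      Iso.inv_hom_id_assoc]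
  let Ik : (Σ i, J i) → V₁ → ℤ := fun k ↦
    MoreMor.fibreIntegral ((Qk k).ι ≫ σ) (fun u ↦ W₁ ((Qk k).ι u))
  have hpiece : ∀ k, ∃ N : Set V₁, IsOpen N ∧ v₁ ∈ N ∧ ∀ v' ∈ N, Ik k v' = Ik k v₁ := by
    intro k
    obtain ⟨hmem, hfin, hsnd, huniq, hpi, hfst⟩ := hQ k.1 k.2
    have hfin' : IsFinite ((j ''ᵁ Qk k).ι ≫ pullback.snd f (c₁ ≫ g)) := by
      apply isFinite_image_ι_comp
      rw [hj1]
      exact hfin
    have hsnd' : pullback.snd f (c₁ ≫ g) (j (q k.1 k.2)) = v₁ := by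
      rw [← Scheme.Hom.comp_apply, hj1]
      exact hsnd
    have huniq' : ∀ p ∈ j ''ᵁ Qk k, pullback.snd f (c₁ ≫ g) p = v₁ → p = j (q k.1 k.2) := by
      rintro _ ⟨s, hs, rfl⟩ hp
      have h5 : σ s = v₁ := by
        have := congr($hj1 s)
        simp only [Scheme.Hom.comp_apply] at this
        rw [← this]
        exact hp
      have h6 := huniq s hs h5
      exact congrArg j h6
    have hpi' : letI := ((pullback.snd f (c₁ ≫ g)).residueFieldMap (j (q k.1 k.2))).hom.toAlgebra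
        IsPurelyInseparable (V₁.residueField (pullback.snd f (c₁ ≫ g) (j (q k.1 k.2))))
          ((pullback f (c₁ ≫ g)).residueField (j (q k.1 k.2))) := by
      apply isPurelyInseparable_of_sepDeg_eq_one
      rw [← sepDeg_comp_of_isOpenImmersion, hj1]
      exact sepDeg_eq_one_of_isPurelyInseparable _ _ hpi
    obtain ⟨N, hNo, hNv, hN⟩ := H V₁ (c₁ ≫ g) (j ''ᵁ Qk k) hfin' v₁ (j (q k.1 k.2))
      ⟨_, hmem, rfl⟩ hsnd' huniq' hpi'
    refine ⟨N, hNo, hNv, fun v' hv' ↦ ?_⟩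
    have h3 := hN v' hv'
    rw [fibreIntegral_image_ι_comp j (pullback.snd f (c₁ ≫ g)) (Qk k)
      (fun p ↦ w (pullback.fst f (c₁ ≫ g) p)),
      fibreIntegral_image_ι_comp j (pullback.snd f (c₁ ≫ g)) (Qk k)
      (fun p ↦ w (pullback.fst f (c₁ ≫ g) p))] at h3
    have h4 : ∀ s, w (pullback.fst f (c₁ ≫ g) (j s)) = W₁ s := by
      intro s
      have := congr($hj2 s)
      simp only [Scheme.Hom.comp_apply] at this
      simp only [W₁, WU, this]
    simp only [h4, hj1] at h3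
    exact h3
  choose Nk hNko hNkv hNk using hpiece
  refine ⟨c₁ '' ((σ '' R)ᶜ ∩ ⋂ k, Nk k), c₁.isOpenMap _
    (hσR.isOpen_compl.inter (isOpen_iInter_of_finite hNko)),
    ⟨v₁, ⟨hv₁R, Set.mem_iInter.mpr hNkv⟩, hc₁v⟩, ?_⟩
  rintro _ ⟨v', ⟨hv'R, hv'N⟩, rfl⟩
  have hcovv' : ∀ s, σ s = v' → ∃ k, s ∈ Qk k := by
    intro s hs
    by_contra hne
    push Not at hne
    apply hv'R
    refine ⟨s, ?_, hs⟩
    simp only [R, Set.mem_compl_iff, Set.mem_iUnion, not_exists]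
    exact hne
  change MoreMor.fibreIntegral π WU (c₁ v') = MoreMor.fibreIntegral π WU v₀
  rw [← hc₁v, ← hbc, ← hbc,
    ← sum_fibreIntegral_ι_comp_eq σ Qk hdisj' W₁ v' (hσfib v') hcovv',
    ← sum_fibreIntegral_ι_comp_eq σ Qk hdisj' W₁ v₁ (hσfib v₁) hcovv]
  exact finsum_congr fun k ↦ hNk k v' (Set.mem_iInter.mp hv'N k)

end Groth.Agent.H7
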