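import Mathlib
import Groth.Agent.H7.WeightingTransport

set_option autoImplicit false
universe u

namespace Groth.Agent.H7

open AlgebraicGeometry CategoryTheory Limits MorphismProperty

theorem finSepDegree_comp_ringHom {F E K : Type*} [Field F] [Field E] [Field K]
    (φ : F →+* E) (ψ : E →+* K) (hψ : ψ.IsIntegral) :
    (letI := (ψ.comp φ).toAlgebra; Field.finSepDegree F K) =
      (letI := φ.toAlgebra; Field.finSepDegree F E) *
        (letI := ψ.toAlgebra; Field.finSepDegree E K) := by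
  let _ := φ.toAlgebra
  let _ := ψ.toAlgebra
  let _ := (ψ.comp φ).toAlgebra
  have : IsScalarTower F E K := IsScalarTower.of_algebraMap_eq (fun _ ↦ rfl)
  have : Algebra.IsAlgebraic E K := ⟨fun x ↦ IsIntegral.isAlgebraic (hψ x)⟩
  exact (Field.finSepDegree_mul_finSepDegree_of_isAlgebraic F E K).symm

theorem sepDeg_comp {A B C : Scheme.{u}} (α : A ⟶ B) (β : B ⟶ C) (a : A)
    (halg : (α.residueFieldMap a).hom.IsIntegral) :
    sepDeg (α ≫ β) a = sepDeg β (α a) * sepDeg α a := by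
  have h1 : (α ≫ β).residueFieldMap a = β.residueFieldMap (α a) ≫ α.residueFieldMap a :=
    Scheme.residueFieldMap_comp _ _ _
  unfold sepDeg
  rw [h1]
  exact finSepDegree_comp_ringHom (β.residueFieldMap (α a)).hom (α.residueFieldMap a).hom halg

theorem fibreIntegral_comp {A B C : Scheme.{u}} (α : A ⟶ B) (β : B ⟶ C) (wa : A → ℤ)
    (wb : B → ℤ) (c : C) (hβ : (β ⁻¹' {c}).Finite) (hα : ∀ b, β b = c → (α ⁻¹' {b}).Finite)
    (halg : ∀ a, β (α a) = c → (α.residueFieldMap a).hom.IsIntegral) :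
    MoreMor.fibreIntegral (α ≫ β) (fun a ↦ wa a * wb (α a)) c =
      MoreMor.fibreIntegral β (fun b ↦ wb b * MoreMor.fibreIntegral α wa b) c := by
  rw [fibreIntegral_eq_finsum_mem, fibreIntegral_eq_finsum_mem]
  have h1 : (α ≫ β) ⁻¹' {c} = ⋃ b ∈ β ⁻¹' {c}, α ⁻¹' {b} := by
    ext a
    simp only [Set.mem_preimage, Set.mem_singleton_iff, Scheme.Hom.comp_apply, Set.mem_iUnion,
      exists_prop, exists_eq_right']
  have hdisj : (β ⁻¹' {c}).PairwiseDisjoint (fun b ↦ α ⁻¹' {b}) := by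
    intro b _ b' _ hne
    refine Set.disjoint_left.mpr fun a ha ha' ↦ hne ?_
    simp only [Set.mem_preimage, Set.mem_singleton_iff] at ha ha'
    rw [← ha, ← ha']
  rw [h1, finsum_mem_biUnion hdisj hβ (fun b hb ↦ hα b hb)]
  refine finsum_mem_congr rfl fun b hb ↦ ?_
  rw [fibreIntegral_eq_finsum_mem, mul_assoc, mul_comm (wb b), mul_assoc,
    finsum_mem_mul]
  refine finsum_mem_congr rfl fun a ha ↦ ?_
  simp only [Set.mem_preimage, Set.mem_singleton_iff] at ha hb
  have h2 : β (α a) = c := by rw [ha, hb]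
  rw [sepDeg_comp α β a (halg a h2), ha]
  push_cast
  ring

theorem fibreIntegral_mul_eq_of_forall {U V : Scheme.{u}} (π : U ⟶ V) (A B : U → ℤ) (v : V)
    (c₀ : ℤ) (h : ∀ u, π u = v → B u = c₀) :
    MoreMor.fibreIntegral π (fun u ↦ A u * B u) v = c₀ * MoreMor.fibreIntegral π A v := by
  rw [fibreIntegral_eq_finsum_mem, fibreIntegral_eq_finsum_mem,
    mul_finsum_mem]
  refine finsum_mem_congr rfl fun u hu ↦ ?_
  rw [h u hu]
  ring

theorem fibreIntegral_congr_of_forall {U V : Scheme.{u}} (π : U ⟶ V) (A B : U → ℤ) (v : V)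
    (h : ∀ u, π u = v → A u = B u) :
    MoreMor.fibreIntegral π A v = MoreMor.fibreIntegral π B v := by
  rw [fibreIntegral_eq_finsum_mem, fibreIntegral_eq_finsum_mem]
  refine finsum_mem_congr rfl fun u hu ↦ ?_
  rw [h u hu]

/-- Transport of a fibre integral along an open immersion with full range. -/
theorem fibreIntegral_opensRange_ι_comp {S P B : Scheme.{u}} (j : S ⟶ P) [IsOpenImmersion j]
    (ρ : P ⟶ B) (W : P → ℤ) (b : B) :
    MoreMor.fibreIntegral (j.opensRange.ι ≫ ρ) (fun u ↦ W (j.opensRange.ι u)) b =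
      MoreMor.fibreIntegral (j ≫ ρ) (fun s ↦ W (j s)) b := by
  rw [fibreIntegral_ι_comp_eq_finsum_mem ρ j.opensRange W b, fibreIntegral_eq_finsum_mem]
  have h1 : ρ ⁻¹' {b} ∩ ((j.opensRange : P.Opens) : Set P) = j '' ((j ≫ ρ) ⁻¹' {b}) := by
    ext p
    simp only [Set.mem_inter_iff, Set.mem_preimage, Set.mem_singleton_iff, SetLike.mem_coe,
      Set.mem_image, Scheme.Hom.comp_apply]
    constructor
    · rintro ⟨hp1, s, rfl⟩
      exact ⟨s, hp1, rfl⟩
    · rintro ⟨s, hs1, rfl⟩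
      exact ⟨hs1, s, rfl⟩
  rw [h1, finsum_mem_image (j.injective.injOn)]
  refine finsum_mem_congr rfl fun s _ ↦ ?_
  rw [sepDeg_comp_of_isOpenImmersion]

theorem isFinite_opensRange_ι_comp {S P B : Scheme.{u}} (j : S ⟶ P) [IsOpenImmersion j]
    (ρ : P ⟶ B) (h : IsFinite (j ≫ ρ)) : IsFinite (j.opensRange.ι ≫ ρ) := by
  rw [← MorphismProperty.cancel_left_of_respectsIso @IsFinite (j.isoOpensRange).hom,
    ← Category.assoc, Scheme.Hom.isoOpensRange_hom_ι]
  exact h

/-- The weighting condition for an arbitrary model of the fibre product. -/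
theorem isLocallyConstant_fibreIntegral_of_isPullback {X Y : Scheme.{u}} (f : X ⟶ Y) (w : X → ℤ)
    (hw : MoreMor.IsWeighting f w) {P V : Scheme.{u}} (p₁ : P ⟶ X) (p₂ : P ⟶ V) (g : V ⟶ Y)
    [Etale g] (sq : IsPullback p₁ p₂ f g) {T : Scheme.{u}} (j : T ⟶ P) [IsOpenImmersion j]
    (hT : IsFinite (j ≫ p₂)) :
    IsLocallyConstant (MoreMor.fibreIntegral (j ≫ p₂) (fun t ↦ w (p₁ (j t)))) := by
  let e := sq.isoPullback
  have he1 : e.hom ≫ pullback.fst f g = p₁ := sq.isoPullback_hom_fst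
  have he2 : e.hom ≫ pullback.snd f g = p₂ := sq.isoPullback_hom_snd
  let j' : T ⟶ pullback f g := j ≫ e.hom
  have hj'2 : j' ≫ pullback.snd f g = j ≫ p₂ := by
    simp only [j', Category.assoc, he2]
  have hfin : IsFinite (j'.opensRange.ι ≫ pullback.snd f g) := by
    apply isFinite_opensRange_ι_comp
    rw [hj'2]
    exact hT
  have h1 := hw V g j'.opensRange hfin
  have h2 : MoreMor.fibreIntegral (j'.opensRange.ι ≫ pullback.snd f g)
      (fun u ↦ w (pullback.fst f g (j'.opensRange.ι u))) =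
      MoreMor.fibreIntegral (j ≫ p₂) (fun t ↦ w (p₁ (j t))) := by
    funext b
    rw [fibreIntegral_opensRange_ι_comp j' (pullback.snd f g) (fun p ↦ w (pullback.fst f g p)) b,
      hj'2]
    congr 1
    funext t
    have := congr($he1 (j t))
    simp only [Scheme.Hom.comp_apply] at this
    simp only [j', Scheme.Hom.comp_apply, this]
  rw [← h2]
  exact h1

end Groth.Agent.H7
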