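import Mathlib
import Groth.Agent.H7.WeightingFubini
import Groth.Agent.H7.ConstructibleCompact
import Groth.Agent.H7.CompactComplSection

set_option autoImplicit false
universe u

namespace Groth.Agent.H7

open AlgebraicGeometry CategoryTheory Limits MorphismProperty Topology

theorem finSepDegree_ringEquiv_comp {F' F E : Type*} [Field F'] [Field F] [Field E]
    (e : F' ≃+* F) (φ : F →+* E) :
    (letI := (φ.comp e.toRingHom).toAlgebra; Field.finSepDegree F' E) =
      (letI := φ.toAlgebra; Field.finSepDegree F E) := by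
  let _ := φ.toAlgebra
  let _ := (φ.comp e.toRingHom).toAlgebra
  unfold Field.finSepDegree Field.Emb
  apply Nat.card_congr
  exact
    { toFun := fun σ ↦ { σ.toRingHom with
        commutes' := fun r ↦ by
          obtain ⟨r', rfl⟩ := e.surjective r
          exact σ.commutes r' }
      invFun := fun σ ↦ { σ.toRingHom with
        commutes' := fun r ↦ σ.commutes (e r) }
      left_inv := fun σ ↦ rfl
      right_inv := fun σ ↦ rfl }

theorem sepDeg_comp_of_isOpenImmersion_right {U V V' : Scheme.{u}} (π : U ⟶ V) (i : V ⟶ V')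
    [IsOpenImmersion i] (p : U) : sepDeg (π ≫ i) p = sepDeg π p := by
  have h1 : (π ≫ i).residueFieldMap p = i.residueFieldMap (π p) ≫ π.residueFieldMap p :=
    Scheme.residueFieldMap_comp _ _ _
  unfold sepDeg
  rw [h1]
  exact finSepDegree_ringEquiv_comp
    (RingEquiv.ofBijective (i.residueFieldMap (π p)).hom (ConcreteCategory.bijective_of_isIso _))
    (π.residueFieldMap p).hom


/-- A finite sum of positive naturals equal to one has a single term. -/
theorem eq_of_finsum_mem_eq_one {α : Type*} (S : Set α) (hS : S.Finite) (d : α → ℕ)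
    (hd : ∀ a ∈ S, 0 < d a) (h : ∑ᶠ a ∈ S, (d a : ℤ) = 1) (a : α) (ha : a ∈ S) :
    (∀ b ∈ S, b = a) ∧ d a = 1 := by
  classical
  rw [finsum_mem_eq_finite_toFinset_sum _ hS] at h
  have h' : ∑ b ∈ hS.toFinset, d b = 1 := by exact_mod_cast h
  have ha' : a ∈ hS.toFinset := hS.mem_toFinset.mpr ha
  have h1 : d a ≤ 1 := by
    rw [← h']
    exact Finset.single_le_sum (f := d) (fun _ _ ↦ Nat.zero_le _) ha'
  have hda : d a = 1 := le_antisymm h1 (hd a ha)
  refine ⟨fun b hb ↦ ?_, hda⟩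
  by_contra hne
  have hb' : b ∈ hS.toFinset := hS.mem_toFinset.mpr hb
  have h2 : d a + d b ≤ ∑ c ∈ hS.toFinset, d c := by
    rw [← Finset.sum_pair (f := d) (Ne.symm hne)]
    apply Finset.sum_le_sum_of_subset
    intro c hc
    rcases Finset.mem_insert.mp hc with rfl | hc
    · exact ha'
    · rw [Finset.mem_singleton.mp hc]; exact hb'
  have := hd b hb
  omega

/-- The radicial locus of a finite morphism of affine schemes contains a constructible
neighbourhood of each of its points. -/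
theorem exists_isConstructible_radicial {T B : Scheme.{u}} [IsAffine T] [IsAffine B] (π : T ⟶ B)
    [IsFinite π] (t₀ : T) (huniq : ∀ t, π t = π t₀ → t = t₀)
    (hpi : letI := (π.residueFieldMap t₀).hom.toAlgebra
      IsPurelyInseparable (B.residueField (π t₀)) (T.residueField t₀)) :
    ∃ C : Set T, IsConstructible C ∧ t₀ ∈ C ∧
      ∀ t ∈ C, (∀ t', π t' = π t → t' = t) ∧ sepDeg π t = 1 := by
  let pr₁ := pullback.fst π π
  let pr₂ := pullback.snd π π
  let Δ := pullback.diagonal π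
  have hΔ1 : Δ ≫ pr₁ = 𝟙 T := pullback.diagonal_fst π
  have hΔ2 : Δ ≫ pr₂ = 𝟙 T := pullback.diagonal_snd π
  have hΔ1' : ∀ t, pr₁ (Δ t) = t := fun t ↦ by
    have := congr($hΔ1 t)
    simp only [Scheme.Hom.comp_apply] at this
    exact this
  have hΔ2' : ∀ t, pr₂ (Δ t) = t := fun t ↦ by
    have := congr($hΔ2 t)
    simp only [Scheme.Hom.comp_apply] at this
    exact this
  have hcl : IsClosed (Set.range Δ) := Δ.isClosedEmbedding.isClosed_range
  let Wd : (pullback π π).Opens := ⟨(Set.range Δ)ᶜ, hcl.isOpen_compl⟩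
  have hWdc : IsCompact (Wd : Set ↥(pullback π π)) := isCompact_compl_range_of_section Δ pr₁ hΔ1
  have : CompactSpace ↥(Wd : Scheme.{u}) := isCompact_iff_compactSpace.mp hWdc
  have : QuasiSeparatedSpace ↥(Wd : Scheme.{u}) :=
    QuasiSeparatedSpace.of_isOpenEmbedding Wd.ι.isOpenEmbedding
  let φ := Wd.ι ≫ pr₁
  have hφ : IsSpectralMap φ := quasiCompact_iff_isSpectralMap.mp inferInstance
  have hcond : ∀ d, π (pr₁ d) = π (pr₂ d) := fun d ↦ by
    have := congr($(pullback.condition (f := π) (g := π)) d)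
    simpa only [Scheme.Hom.comp_apply] using this
  have ht₀ : t₀ ∉ Set.range φ := by
    rintro ⟨d, hd⟩
    have hd1 : pr₁ (Wd.ι d) = t₀ := by simpa only [φ, Scheme.Hom.comp_apply] using hd
    have hd2 : pr₂ (Wd.ι d) = t₀ := huniq _ (by rw [← hcond, hd1])
    obtain ⟨d₀, hd₀⟩ : ∃ d₀, d₀ = Δ t₀ := ⟨_, rfl⟩
    have h1 : pr₁ d₀ = t₀ := by rw [hd₀, hΔ1']
    have h2 : pr₂ d₀ = t₀ := by rw [hd₀, hΔ2']
    subst h1
    have : Wd.ι d = d₀ := eq_of_fst_eq_of_snd_eq_of_isPurelyInseparable π π (Wd.ι d) d₀ hd1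
      (hd2.trans h2.symm) hpi
    exact d.2 ⟨_, (this.trans hd₀).symm⟩
  obtain ⟨K, hK, hφK, ht₀K⟩ := exists_isConstructible_range_subset φ hφ t₀ ht₀
  refine ⟨Kᶜ, hK.compl, ht₀K, fun t ht ↦ ?_⟩
  have hfin : ∀ b : B, (π ⁻¹' {b}).Finite := fun b ↦ π.finite_preimage_singleton b
  -- the fibre of `pr₁` over `t` is the diagonal point
  have hfib : ∀ d, pr₁ d = t → d = Δ t := by
    intro d hd
    by_cases hdW : d ∈ Wd
    · exfalso
      apply ht
      apply hφK
      refine ⟨⟨d, hdW⟩, ?_⟩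
      simp only [φ, Scheme.Hom.comp_apply]
      exact hd
    · have : d ∈ Set.range Δ := not_not.mp hdW
      obtain ⟨t', rfl⟩ := this
      rw [hΔ1'] at hd
      rw [hd]
  have h1 : MoreMor.fibreIntegral pr₁ (fun _ ↦ (1 : ℤ)) t = (sepDeg pr₁ (Δ t) : ℤ) := by
    rw [fibreIntegral_eq_of_unique pr₁ _ t (Δ t) (hΔ1' t) hfib, one_mul]
  have h2 : sepDeg pr₁ (Δ t) = 1 := by
    have h3 : sepDeg (Δ ≫ pr₁) t = sepDeg pr₁ (Δ t) * sepDeg Δ t :=
      sepDeg_comp Δ pr₁ t
        (finite_residueFieldMap_of_quasiFiniteAt Δ t (Δ.quasiFiniteAt t)).to_isIntegral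
    have h4 : sepDeg (Δ ≫ pr₁) t = 1 := by
      rw [hΔ1]
      have h5 : sepDeg (𝟙 T) t = sepDeg (𝟙 T) t * sepDeg (𝟙 T) t := by
        have := sepDeg_comp (𝟙 T) (𝟙 T) t
          (finite_residueFieldMap_of_quasiFiniteAt (𝟙 T) t
            (Scheme.Hom.quasiFiniteAt (𝟙 T) t)).to_isIntegral
        rw [Category.comp_id] at this
        exact this
      have h6 : 0 < sepDeg (𝟙 T) t := sepDeg_pos_of_finite (𝟙 T) t
        (finite_residueFieldMap_of_quasiFiniteAt (𝟙 T) t (Scheme.Hom.quasiFiniteAt (𝟙 T) t))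
      nlinarith
    rw [h4] at h3
    exact Nat.eq_one_of_mul_eq_one_right h3.symm
  have h3 : MoreMor.fibreIntegral pr₁ (fun _ ↦ (1 : ℤ)) t =
      MoreMor.fibreIntegral π (fun _ ↦ (1 : ℤ)) (π t) :=
    fibreIntegral_baseChange π hfin pr₁ pr₂ π (IsPullback.of_hasPullback π π).flip
      (fun _ ↦ (1 : ℤ)) t
  rw [h1, h2, fibreIntegral_eq_finsum_mem] at h3
  simp only [one_mul] at h3
  exact eq_of_finsum_mem_eq_one (π ⁻¹' {π t}) (hfin _) (sepDeg π)
    (fun a _ ↦ sepDeg_pos_of_finite π a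
      (finite_residueFieldMap_of_quasiFiniteAt π a (π.quasiFiniteAt a))) h3.symm t rfl

end Groth.Agent.H7
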