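import Mathlib
import Groth.Agent.H7.WeightingFubini

set_option autoImplicit false
universe u

namespace Groth.Agent.H7

open AlgebraicGeometry CategoryTheory Limits MorphismProperty

/-- The restriction of a weighting along an open immersion of the source is a weighting. -/
theorem isWeighting_openImmersion_comp {X' X Y : Scheme.{u}} (i : X' ⟶ X) [IsOpenImmersion i]
    (f : X ⟶ Y) (w : X → ℤ) (hw : MoreMor.IsWeighting f w) :
    MoreMor.IsWeighting (i ≫ f) (fun x ↦ w (i x)) := by
  intro V g _ U hU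
  let j : pullback (i ≫ f) g ⟶ pullback f g :=
    pullback.map (i ≫ f) g f g i (𝟙 V) (𝟙 Y) (by simp) (by simp)
  have hj1 : j ≫ pullback.fst f g = pullback.fst (i ≫ f) g ≫ i := pullback.lift_fst _ _ _
  have hj2 : j ≫ pullback.snd f g = pullback.snd (i ≫ f) g := by
    simp only [j, pullback.map]
    rw [pullback.lift_snd, Category.comp_id]
  have hmor : (U.ι ≫ j) ≫ pullback.snd f g = U.ι ≫ pullback.snd (i ≫ f) g := by
    rw [Category.assoc, hj2]
  have h1 := isLocallyConstant_fibreIntegral_of_isPullback f w hw (pullback.fst f g)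
    (pullback.snd f g) g (IsPullback.of_hasPullback f g) (U.ι ≫ j) (by rw [hmor]; exact hU)
  have h2 : MoreMor.fibreIntegral ((U.ι ≫ j) ≫ pullback.snd f g)
      (fun t ↦ w (pullback.fst f g ((U.ι ≫ j) t))) =
      MoreMor.fibreIntegral (U.ι ≫ pullback.snd (i ≫ f) g)
        (fun u ↦ w (i (pullback.fst (i ≫ f) g (U.ι u)))) := by
    rw [hmor]
    congr 1
    funext t
    have := congr($hj1 (U.ι t))
    simp only [Scheme.Hom.comp_apply] at this
    rw [Scheme.Hom.comp_apply, this]
  rw [← h2]
  exact h1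

theorem isWeighting_ι_comp {X Y : Scheme.{u}} (f : X ⟶ Y) (w : X → ℤ)
    (hw : MoreMor.IsWeighting f w) (X' : X.Opens) :
    MoreMor.IsWeighting (X'.ι ≫ f) (fun x ↦ w (X'.ι x)) :=
  isWeighting_openImmersion_comp X'.ι f w hw

end Groth.Agent.H7
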