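import Mathlib
import Groth.Agent.H7.RadicialLocus
import Groth.Agent.H7.WeightingRestrict

set_option autoImplicit false
universe u

namespace Groth.Agent.H7

open AlgebraicGeometry CategoryTheory Limits MorphismProperty Topology

/-- Every point has a constructible "neighbourhood" on which a weighting is constant. -/
theorem exists_isConstructible_weighting_const {X Y : Scheme.{u}} (f : X ⟶ Y)
    [LocallyQuasiFinite f] [LocallyOfFiniteType f] [CompactSpace X] [QuasiSeparatedSpace X]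
    (w : X → ℤ) (hw : MoreMor.IsWeighting f w) (x : X) :
    ∃ C : Set X, IsConstructible C ∧ x ∈ C ∧ ∀ x' ∈ C, w x' = w x := by
  obtain ⟨V, g, v, hget, hgv, J, hJ, Vo, vo, hVo, -, hcov⟩ :=
    Groth.Agent.S1482.result f (f x) (fun _ : Unit ↦ x) (fun _ _ _ ↦ rfl) (fun _ ↦ rfl)
      (fun _ ↦ f.quasiFiniteAt _)
  obtain ⟨z, hz1, hz2⟩ := Scheme.Pullback.exists_preimage_pullback (f := f) (g := g) x v hgv.symm
  obtain ⟨j, rfl⟩ := hcov z () hz2 hz1
  obtain ⟨hmem, hfin, hsnd, huniq, ⟨-, hpi⟩, hfst⟩ := hVo () j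
  let U := Vo () j
  let u := vo () j
  let ρ := pullback.snd f g
  let WU : ↥(U : Scheme.{u}) → ℤ := fun p ↦ w (pullback.fst f g (U.ι p))
  let I := MoreMor.fibreIntegral (U.ι ≫ ρ) WU
  have hI : IsLocallyConstant I := hw V g U hfin
  let u' : ↥(U : Scheme.{u}) := ⟨u, hmem⟩
  have hu'v : (U.ι ≫ ρ) u' = v := hsnd
  have huniq' : ∀ p, (U.ι ≫ ρ) p = v → p = u' := fun p hp ↦
    Subtype.ext (huniq _ p.2 hp)
  have hsd : sepDeg (U.ι ≫ ρ) u' = 1 := by
    rw [sepDeg_comp_of_isOpenImmersion]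
    exact sepDeg_eq_one_of_isPurelyInseparable ρ u hpi
  have hIv : I v = w x := by
    simp only [I]
    rw [fibreIntegral_eq_of_unique (U.ι ≫ ρ) WU v u' hu'v huniq', hsd]
    simp only [WU, Nat.cast_one, mul_one]
    exact congrArg w hfst
  -- affine neighbourhood of `v` on which `I` is constant
  obtain ⟨V₀, hV₀, hvV₀, hV₀I⟩ := exists_isAffineOpen_mem_and_subset
    (U := (⟨{v' | I v' = I v}, hI.isOpen_fiber _⟩ : V.Opens)) (x := v) rfl
  have : IsAffine (V₀ : Scheme.{u}) := hV₀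
  have hfin' : IsFinite (U.ι ≫ ρ) := hfin
  let T := pullback (U.ι ≫ ρ) V₀.ι
  let π : T ⟶ V₀ := pullback.snd (U.ι ≫ ρ) V₀.ι
  let m : T ⟶ U := pullback.fst (U.ι ≫ ρ) V₀.ι
  have : IsAffine T := isAffine_of_isAffineHom π
  let k : T ⟶ X := m ≫ U.ι ≫ pullback.fst f g
  let v₀ : ↥(V₀ : Scheme.{u}) := ⟨v, hvV₀⟩
  obtain ⟨t₀, ht₀m, ht₀π⟩ := Scheme.Pullback.exists_preimage_pullback (f := U.ι ≫ ρ) (g := V₀.ι)
    u' v₀ hu'v
  have hcond : ∀ t, (U.ι ≫ ρ) (m t) = V₀.ι (π t) := fun t ↦ by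
    have := congr($(pullback.condition (f := U.ι ≫ ρ) (g := V₀.ι)) t)
    simpa only [Scheme.Hom.comp_apply] using this
  have huniqT : ∀ t, π t = π t₀ → t = t₀ := by
    intro t ht
    apply m.injective
    rw [ht₀m]
    apply huniq'
    rw [hcond, ht, ht₀π]
    rfl
  have hsdT : sepDeg π t₀ = 1 := by
    rw [← sepDeg_comp_of_isOpenImmersion_right π V₀.ι t₀,
      ← pullback.condition (f := U.ι ≫ ρ) (g := V₀.ι), sepDeg_comp_of_isOpenImmersion, ht₀m]
    exact hsd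
  obtain ⟨C, hC, ht₀C, hCprop⟩ := exists_isConstructible_radicial π t₀ huniqT
    (isPurelyInseparable_of_sepDeg_eq_one π t₀ hsdT)
  have hbc : ∀ v' : ↥(V₀ : Scheme.{u}),
      MoreMor.fibreIntegral π (fun t ↦ w (k t)) v' = I (V₀.ι v') := fun v' ↦
    fibreIntegral_baseChange (U.ι ≫ ρ) (fun b ↦ (U.ι ≫ ρ).finite_preimage_singleton b) π m V₀.ι
      (IsPullback.of_hasPullback _ _) WU v'
  have hkt₀ : k t₀ = x := by
    simp only [k, Scheme.Hom.comp_apply]
    rw [ht₀m]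
    exact hfst
  refine ⟨k '' C, k.isConstructible_image hC, ⟨t₀, ht₀C, hkt₀⟩, ?_⟩
  rintro _ ⟨t, ht, rfl⟩
  obtain ⟨h1, h2⟩ := hCprop t ht
  have h3 := hbc (π t)
  rw [fibreIntegral_eq_of_unique π _ (π t) t rfl h1, h2, Nat.cast_one, mul_one] at h3
  rw [h3, ← hIv]
  exact hV₀I (π t).2

/-- The level sets of a weighting are locally constructible. -/
theorem isLocallyConstructible_weighting_levelSet {X Y : Scheme.{u}} (f : X ⟶ Y)
    [LocallyQuasiFinite f] [LocallyOfFiniteType f] (w : X → ℤ) (hw : MoreMor.IsWeighting f w)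
    (n : ℤ) : IsLocallyConstructible {x : X | w x = n} := by
  intro x
  obtain ⟨X₀, hX₀, hxX₀, -⟩ := exists_isAffineOpen_mem_and_subset
    (U := (⊤ : X.Opens)) (x := x) trivial
  have : IsAffine (X₀ : Scheme.{u}) := hX₀
  refine ⟨X₀, X₀.2.mem_nhds hxX₀, X₀.2, ?_⟩
  have hw₀ := isWeighting_ι_comp f w hw X₀
  exact isConstructible_setOf_eq_of_forall_exists (S := ↥(X₀ : Scheme.{u}))
    (fun p ↦ w (X₀.ι p))
    (fun p ↦ exists_isConstructible_weighting_const (X₀.ι ≫ f) _ hw₀ p) n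

end Groth.Agent.H7
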