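import Mathlib
import Groth.Agent.H7.WeightingConstructible
import Groth.Agent.H7.GeomFibreCount

set_option autoImplicit false
universe u

namespace Groth.Agent.H7

open AlgebraicGeometry CategoryTheory Limits MorphismProperty Topology

theorem surjective_geomPointEmb_id (Ω : Type u) [Field Ω] :
    Function.Surjective (geomPointEmb Ω (𝟙 (Spec (.of Ω)))).hom := by
  let e := geomPointEmb Ω (𝟙 (Spec (.of Ω)))
  let j := (Spec (.of Ω)).fromSpecResidueField ((𝟙 (Spec (.of Ω)) : Spec (.of Ω) ⟶ Spec (.of Ω))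
    (geomPt Ω))
  have h1 : Spec.map e ≫ j = 𝟙 _ := SpecMap_geomPointEmb Ω (𝟙 (Spec (.of Ω)))
  have h2 : j.appTop ≫ (Spec.map e).appTop = 𝟙 _ := by
    rw [← Scheme.Hom.comp_appTop, h1]
    rfl
  have h3 : Function.Surjective (Spec.map e).appTop.hom := by
    intro a
    refine ⟨j.appTop.hom a, ?_⟩
    have := congr($(h2).hom a)
    simp only [CommRingCat.hom_comp, RingHom.coe_comp, Function.comp_apply,
      CommRingCat.hom_id, RingHom.id_apply] at this
    exact this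
  have h4 := Scheme.ΓSpecIso_naturality e
  intro a
  obtain ⟨b, hb⟩ := h3 ((Scheme.ΓSpecIso (.of Ω)).inv.hom a)
  refine ⟨(Scheme.ΓSpecIso _).hom.hom b, ?_⟩
  have := congr($(h4).hom b)
  simp only [CommRingCat.hom_comp, RingHom.coe_comp, Function.comp_apply] at this
  change e.hom _ = a
  rw [← this, hb]
  exact congr($((Scheme.ΓSpecIso (.of Ω)).inv_hom_id).hom a)

theorem sepDeg_eq_one_of_geomPoint {P : Scheme.{u}} (Ω : Type u) [Field Ω] [IsAlgClosed Ω]
    (π : P ⟶ Spec (.of Ω)) (p : P) (hres : (π.residueFieldMap p).hom.Finite) :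
    sepDeg π p = 1 := by
  have hp : π p = (𝟙 (Spec (.of Ω)) : Spec (.of Ω) ⟶ Spec (.of Ω)) (geomPt Ω) :=
    Subsingleton.elim _ _
  rw [← card_geomLiftData_fiber π Ω (𝟙 _) ⟨p, hp⟩ hres]
  have hne := nonempty_geomLiftData_fiber π Ω (𝟙 _) ⟨p, hp⟩ hres
  have hsub : Subsingleton {σ : P.residueField p ⟶ .of Ω //
      π.residueFieldMap p ≫ σ = ((Spec (.of Ω)).residueFieldCongr hp).hom ≫
        geomPointEmb Ω (𝟙 (Spec (.of Ω)))} := by
    constructor
    rintro ⟨σ, hσ⟩ ⟨σ', hσ'⟩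
    apply Subtype.ext
    have he : Function.Surjective (((Spec (.of Ω)).residueFieldCongr hp).hom ≫
        geomPointEmb Ω (𝟙 (Spec (.of Ω)))).hom := by
      rw [CommRingCat.hom_comp]
      exact (surjective_geomPointEmb_id Ω).comp (ConcreteCategory.bijective_of_isIso _).2
    have hσs : Function.Surjective σ.hom := by
      intro a
      obtain ⟨b, hb⟩ := he a
      refine ⟨(π.residueFieldMap p).hom b, ?_⟩
      rw [← hb, ← hσ]
      rfl
    have hσb : Function.Bijective σ.hom := ⟨σ.hom.injective, hσs⟩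
    have hι : Function.Surjective (π.residueFieldMap p).hom := by
      intro a
      obtain ⟨b, hb⟩ := he (σ.hom a)
      refine ⟨b, hσb.1 ?_⟩
      rw [← hb, ← hσ]
      rfl
    ext a
    obtain ⟨b, rfl⟩ := hι a
    have h1 := congr($(hσ).hom b)
    have h2 := congr($(hσ').hom b)
    simp only [CommRingCat.hom_comp, RingHom.coe_comp, Function.comp_apply] at h1 h2
    rw [h1, h2]
  exact Nat.card_eq_one_iff_unique.mpr ⟨hsub, hne⟩


theorem finite_of_ptBdd {X Y : Scheme.{u}} (f : X ⟶ Y) {d : ℕ} (h : PtBdd f d) (Ω : Type u)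
    [Field Ω] (c : Spec (.of Ω) ⟶ Y) : Finite ↥(pullback f c) ∧ Nat.card ↥(pullback f c) ≤ d := by
  have hP := h Ω c (pullback f c) (pullback.fst f c) (pullback.snd f c)
    (IsPullback.of_hasPullback f c)
  have hPfin : Finite ↥(pullback f c) := by
    by_contra hinf
    rw [not_finite_iff_infinite] at hinf
    rw [ENat.card_eq_top_of_infinite] at hP
    exact absurd hP (by simp)
  refine ⟨hPfin, ?_⟩
  rw [ENat.card_eq_coe_natCard] at hP
  exact_mod_cast hP

theorem finite_fibre_of_ptBdd {X Y : Scheme.{u}} (f : X ⟶ Y) {d : ℕ} (h : PtBdd f d) (y : Y) :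
    (f ⁻¹' {y}).Finite := by
  obtain ⟨Ω, _, _, c, rfl⟩ := exists_geomPoint Y y
  have := (finite_of_ptBdd f h Ω c).1
  refine (Set.finite_range (pullback.fst f c)).subset ?_
  intro x hx
  obtain ⟨p, hp1, -⟩ := Scheme.Pullback.exists_preimage_pullback (f := f) (g := c) x (geomPt Ω) hx
  exact ⟨p, hp1⟩

/-- A fibrewise bound on the number of geometric points bounds the fibre integral of `1`. -/
theorem fibreIntegral_one_le_of_ptBdd {X Y : Scheme.{u}} (f : X ⟶ Y) [LocallyQuasiFinite f]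
    {d : ℕ} (h : PtBdd f d) (y : Y) :
    MoreMor.fibreIntegral f (fun _ ↦ (1 : ℤ)) y ≤ d := by
  obtain ⟨Ω, _, _, c, rfl⟩ := exists_geomPoint Y y
  obtain ⟨hPfin, hPcard⟩ := finite_of_ptBdd f h Ω c
  have bc := fibreIntegral_baseChange f (finite_fibre_of_ptBdd f h) (pullback.snd f c)
    (pullback.fst f c) c (IsPullback.of_hasPullback f c) (fun _ ↦ (1 : ℤ)) (geomPt Ω)
  rw [← bc, fibreIntegral_eq_finsum_mem]
  have huniv : (pullback.snd f c) ⁻¹' {geomPt Ω} = Set.univ := by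
    ext p
    simp only [Set.mem_preimage, Set.mem_singleton_iff, Set.mem_univ, iff_true]
    exact Subsingleton.elim _ _
  rw [huniv, finsum_mem_univ]
  have h1 : ∀ p : ↥(pullback f c), ((fun _ ↦ (1 : ℤ)) ∘ ⇑(pullback.fst f c)) p *
      (sepDeg (pullback.snd f c) p : ℤ) = 1 := by
    intro p
    rw [sepDeg_eq_one_of_geomPoint Ω (pullback.snd f c) p
      (finite_residueFieldMap_of_quasiFiniteAt _ p ((pullback.snd f c).quasiFiniteAt p))]
    simp
  simp only [h1]
  have : Fintype ↥(pullback f c) := Fintype.ofFinite _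
  rw [finsum_eq_sum_of_fintype, Finset.sum_const, Finset.card_univ, ← Nat.card_eq_fintype_card]
  simpa using hPcard

/-- The fibre integral of a weighting on a quasi-compact source is bounded above. -/
theorem exists_forall_fibreIntegral_le {X Y : Scheme.{u}} (f : X ⟶ Y) [LocallyQuasiFinite f]
    [LocallyOfFiniteType f] [CompactSpace X] (w : X → ℤ) (hw : MoreMor.IsWeighting f w) :
    ∃ M : ℤ, ∀ y, MoreMor.fibreIntegral f w y ≤ M := by
  obtain ⟨d, hd⟩ := exists_ptBdd_of_compactSpace f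
  -- `w` is bounded
  have hwfin : (Set.range w).Finite := by
    have hloc : ∀ x : X, ∃ X₀ : X.Opens, x ∈ X₀ ∧ (w '' (X₀ : Set X)).Finite := by
      intro x
      obtain ⟨X₀, hX₀, hxX₀, -⟩ := exists_isAffineOpen_mem_and_subset
        (U := (⊤ : X.Opens)) (x := x) trivial
      have : IsAffine (X₀ : Scheme.{u}) := hX₀
      refine ⟨X₀, hxX₀, ?_⟩
      have hw₀ := isWeighting_ι_comp f w hw X₀
      have := finite_range_of_forall_exists (S := ↥(X₀ : Scheme.{u})) (fun p ↦ w (X₀.ι p))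
        (fun p ↦ exists_isConstructible_weighting_const (X₀.ι ≫ f) _ hw₀ p)
      refine this.subset ?_
      rintro _ ⟨x', hx', rfl⟩
      exact ⟨⟨x', hx'⟩, rfl⟩
    choose X₀ hxX₀ hX₀fin using hloc
    obtain ⟨t, ht⟩ := isCompact_univ.elim_finite_subcover (fun x ↦ (X₀ x : Set X))
      (fun x ↦ (X₀ x).2) (fun x _ ↦ Set.mem_iUnion.mpr ⟨x, hxX₀ x⟩)
    refine (t.finite_toSet.biUnion fun x _ ↦ hX₀fin x).subset ?_
    rintro _ ⟨x, rfl⟩
    have := ht (Set.mem_univ x)
    simp only [Set.mem_iUnion, exists_prop] at this ⊢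
    obtain ⟨x₀, hx₀, hx⟩ := this
    exact ⟨x₀, hx₀, x, hx, rfl⟩
  obtain ⟨M₀, hM₀⟩ := hwfin.bddAbove
  let M := max M₀ 0
  have hM : ∀ x, w x ≤ M := fun x ↦ (hM₀ ⟨x, rfl⟩).trans (le_max_left _ _)
  refine ⟨M * d, fun y ↦ ?_⟩
  have hfin := finite_fibre_of_ptBdd f hd y
  have h1 := fibreIntegral_one_le_of_ptBdd f hd y
  rw [fibreIntegral_eq_finsum_mem, finsum_mem_eq_finite_toFinset_sum _ hfin] at h1 ⊢
  calc ∑ x ∈ hfin.toFinset, w x * (sepDeg f x : ℤ)
      ≤ ∑ x ∈ hfin.toFinset, M * (1 * (sepDeg f x : ℤ)) := by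
        refine Finset.sum_le_sum fun x _ ↦ ?_
        rw [one_mul]
        exact mul_le_mul_of_nonneg_right (hM x) (Nat.cast_nonneg _)
    _ = M * ∑ x ∈ hfin.toFinset, (1 * (sepDeg f x : ℤ)) := by rw [Finset.mul_sum]
    _ ≤ M * d := mul_le_mul_of_nonneg_left h1 (le_max_right _ _)

theorem exists_forall_fibreIntegral_le_fibreIntegral {X Y : Scheme.{u}} (f : X ⟶ Y)
    [LocallyQuasiFinite f] [LocallyOfFiniteType f] [CompactSpace X] (w : X → ℤ)
    (hw : MoreMor.IsWeighting f w) [Nonempty Y] :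
    ∃ y₀ : Y, ∀ y : Y, MoreMor.fibreIntegral f w y ≤ MoreMor.fibreIntegral f w y₀ := by
  obtain ⟨M, hM⟩ := exists_forall_fibreIntegral_le f w hw
  obtain ⟨ub, ⟨y₀, hy₀⟩, hub⟩ := Int.exists_greatest_of_bdd
    (P := fun z ↦ ∃ y, MoreMor.fibreIntegral f w y = z)
    ⟨M, by rintro _ ⟨y, rfl⟩; exact hM y⟩
    ⟨_, Classical.arbitrary Y, rfl⟩
  exact ⟨y₀, fun y ↦ hy₀ ▸ hub _ ⟨y, rfl⟩⟩

end Groth.Agent.H7
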