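import Mathlib
import Groth.Agent.H7.WeightingMax
import Groth.Agent.H7.FiniteDescent
import Groth.Agent.S9778
import Groth.Agent.H7.EtaleLocal

set_option autoImplicit false
universe u

namespace Groth.Agent.H7

open AlgebraicGeometry CategoryTheory Limits MorphismProperty Topology

theorem sepDeg_eq_one_of_isSepClosed {P : Scheme.{u}} (K : Type u) [Field K] [IsSepClosed K]
    (π : P ⟶ Spec (.of K)) (p : P) (hres : (π.residueFieldMap p).hom.Finite) :
    sepDeg π p = 1 := by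
  have hp : π p = (𝟙 (Spec (.of K)) : Spec (.of K) ⟶ Spec (.of K)) (geomPt K) :=
    Subsingleton.elim _ _
  let e₀ := ((Spec (.of K)).residueFieldCongr hp).hom ≫ geomPointEmb K (𝟙 (Spec (.of K)))
  have he₀ : Function.Bijective e₀.hom := by
    refine ⟨e₀.hom.injective, ?_⟩
    simp only [e₀, CommRingCat.hom_comp]
    exact (surjective_geomPointEmb_id K).comp (ConcreteCategory.bijective_of_isIso _).2
  let e : K ≃+* (Spec (.of K)).residueField (π p) := (RingEquiv.ofBijective e₀.hom he₀).symm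
  let φ := (π.residueFieldMap p).hom
  unfold sepDeg
  rw [← finSepDegree_ringEquiv_comp e φ]
  let _ := (φ.comp e.toRingHom).toAlgebra
  have hfin : (φ.comp e.toRingHom).Finite :=
    hres.comp (RingHom.Finite.of_surjective _ e.surjective)
  have : Module.Finite K (P.residueField p) := hfin
  exact IsPurelyInseparable.finSepDegree_eq_one K (P.residueField p)

/-- The number of points of the base change to a separably closed field is the fibre integral
of `1`. -/
theorem natCard_eq_fibreIntegral_one_of_isSepClosed {X Y P : Scheme.{u}} (f : X ⟶ Y)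
    [LocallyQuasiFinite f] (hfin : ∀ y, (f ⁻¹' {y}).Finite) (K : Type u) [Field K]
    [IsSepClosed K] (c : Spec (.of K) ⟶ Y) (h : P ⟶ X) (π : P ⟶ Spec (.of K))
    (sq : IsPullback h π f c) :
    Finite ↥P ∧ (Nat.card ↥P : ℤ) = MoreMor.fibreIntegral f (fun _ ↦ (1 : ℤ)) (c (geomPt K)) := by
  have hlqf : LocallyQuasiFinite π := MorphismProperty.of_isPullback sq inferInstance
  have huniv : π ⁻¹' {geomPt K} = Set.univ := by
    ext p
    simp only [Set.mem_preimage, Set.mem_singleton_iff, Set.mem_univ, iff_true]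
    exact Subsingleton.elim _ _
  have hPfin : Finite ↥P := by
    have := finite_fibre_of_isPullback f hfin π h c sq (geomPt K)
    rw [huniv] at this
    exact Set.finite_univ_iff.mp this
  refine ⟨hPfin, ?_⟩
  have bc := fibreIntegral_baseChange f hfin π h c sq (fun _ ↦ (1 : ℤ)) (geomPt K)
  rw [← bc, fibreIntegral_eq_finsum_mem, huniv, finsum_mem_univ]
  have h1 : ∀ p : ↥P, ((fun _ ↦ (1 : ℤ)) ∘ ⇑h) p * (sepDeg π p : ℤ) = 1 := by
    intro p
    rw [sepDeg_eq_one_of_isSepClosed K π p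
      (finite_residueFieldMap_of_quasiFiniteAt _ p (π.quasiFiniteAt p))]
    simp
  simp only [h1]
  have : Fintype ↥P := Fintype.ofFinite _
  rw [finsum_eq_sum_of_fintype, Finset.sum_const, Finset.card_univ, ← Nat.card_eq_fintype_card]
  simp

theorem nGeomConnComp_eq_fibreIntegral_one {X Y : Scheme.{u}} (f : X ⟶ Y) [LocallyQuasiFinite f]
    (hfin : ∀ y, (f ⁻¹' {y}).Finite) (y : Y) :
    MoreMor.nGeomConnComp f y =
      ((MoreMor.fibreIntegral f (fun _ ↦ (1 : ℤ)) y).toNat : ℕ∞) := by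
  unfold MoreMor.nGeomConnComp
  have hS1 := IsPullback.of_hasPullback (f.fiberToSpecResidueField y)
    (Spec.map (CommRingCat.ofHom (algebraMap (Y.residueField y)
      (SeparableClosure (Y.residueField y)))))
  have hS2 : IsPullback (f.fiberι y) (f.fiberToSpecResidueField y) f
      (Y.fromSpecResidueField y) := IsPullback.of_hasPullback _ _
  have hP := (hS1.flip.paste_vert hS2.flip).flip
  obtain ⟨hfinP, hcard⟩ := natCard_eq_fibreIntegral_one_of_isSepClosed f hfin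
    (SeparableClosure (Y.residueField y)) _ _ _ hP
  have : IsLocallyArtinian (MoreMor.geomFiber f y) := by
    unfold MoreMor.geomFiber
    have : LocallyQuasiFinite (f.fiberToSpecResidueField y) :=
      MorphismProperty.pullback_snd _ _ inferInstance
    exact IsLocallyArtinian.of_locallyQuasiFinite (pullback.snd _ _)
  have h3 : ENat.card (_root_.ConnectedComponents ↥(MoreMor.geomFiber f y)) =
      ENat.card ↥(MoreMor.geomFiber f y) := by
    refine (ENat.card_congr (Equiv.ofBijective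
      (_root_.ConnectedComponents.mk : ↥(MoreMor.geomFiber f y) → _)
      ⟨fun x y hxy ↦ ?_, _root_.ConnectedComponents.surjective_coe⟩)).symm
    rw [_root_.ConnectedComponents.coe_eq_coe', connectedComponent_eq_singleton] at hxy
    exact hxy
  rw [h3]
  have hpt : (Spec.map (CommRingCat.ofHom (algebraMap (Y.residueField y)
      (SeparableClosure (Y.residueField y)))) ≫ Y.fromSpecResidueField y)
      (geomPt (SeparableClosure (Y.residueField y))) = y := by
    rw [Scheme.Hom.comp_apply, Scheme.fromSpecResidueField_apply]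
  have hcard' : (Nat.card ↥(MoreMor.geomFiber f y) : ℤ) =
      MoreMor.fibreIntegral f (fun _ ↦ (1 : ℤ)) y :=
    hcard.trans (congrArg (MoreMor.fibreIntegral f fun _ ↦ (1 : ℤ)) hpt)
  have : Finite ↥(MoreMor.geomFiber f y) := hfinP
  rw [ENat.card_eq_coe_natCard, ← hcard']
  simp


section UnivOpen

variable {X Y : Scheme.{u}} (f : X ⟶ Y) [LocallyQuasiFinite f] [LocallyOfFiniteType f]
  [IsSeparated f] [UniversallyOpen f]

/-- Étale-local structure used for counting geometric points of a universally open, separated,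
locally quasi-finite morphism: near `y`, the count is at least the count at `y`, and where the
count equals the count at `y` the morphism is finite. -/
theorem exists_nhds_count (hfin : ∀ y : Y, (f ⁻¹' {y}).Finite) (y : Y) :
    ∃ O : Y.Opens, y ∈ O ∧
      (∀ y' ∈ O, MoreMor.fibreIntegral f (fun _ ↦ (1 : ℤ)) y ≤
        MoreMor.fibreIntegral f (fun _ ↦ (1 : ℤ)) y') ∧
      ∀ A : Set Y, IsOpen A → y ∈ A →
        (∀ z ∈ A, MoreMor.fibreIntegral f (fun _ ↦ (1 : ℤ)) z =
          MoreMor.fibreIntegral f (fun _ ↦ (1 : ℤ)) y) →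
        ∃ U : Y.Opens, y ∈ U ∧ IsFinite (f ∣_ U) := by
  have hfy : Finite (f ⁻¹' {y}) := (hfin y).to_subtype
  let e := Finite.equivFin (f ⁻¹' {y})
  let x : Fin (Nat.card (f ⁻¹' {y})) → ↑X := fun i ↦ (e.symm i).1
  have hxinj : Function.Injective x := fun i i' h ↦ e.symm.injective (Subtype.ext h)
  have hxs : ∀ i, f (x i) = y := fun i ↦ (e.symm i).2
  obtain ⟨V, g, v, hget, hgv, J, hJ, Vo, vo, hclopen, hdisj, hVo, hcov⟩ :=
    Groth.Agent.S9778.result f y x hxinj hxs (fun i ↦ f.quasiFiniteAt _)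
  have : ∀ i, Finite (J i) := hJ
  let ρ := pullback.snd f g
  let W : ↑(pullback f g) → ℤ := fun _ ↦ 1
  have hbc : ∀ v' : V, MoreMor.fibreIntegral ρ W v' =
      MoreMor.fibreIntegral f (fun _ ↦ (1 : ℤ)) (g v') :=
    fun v' ↦ fibreIntegral_baseChange f hfin ρ (pullback.fst f g) g
      (IsPullback.of_hasPullback f g) (fun _ ↦ (1 : ℤ)) v'
  have hρfib : ∀ v' : V, (ρ ⁻¹' {v'}).Finite := fun v' ↦
    finite_fibre_of_isPullback f hfin ρ (pullback.fst f g) g (IsPullback.of_hasPullback f g) v'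
  let Vk : (Σ i, J i) → (pullback f g).Opens := fun k ↦ Vo k.1 k.2
  let Ik : (Σ i, J i) → V → ℤ := fun k ↦
    MoreMor.fibreIntegral ((Vk k).ι ≫ ρ) (fun u ↦ W ((Vk k).ι u))
  have hdisj' : ∀ k l, ((Vk k : Set ↑(pullback f g)) ∩ Vk l).Nonempty → k = l := by
    rintro ⟨i, j⟩ ⟨i', j'⟩ h
    obtain ⟨rfl, h2⟩ := hdisj i j i' j' h
    rw [eq_of_heq h2]
  have hcovv : ∀ p, ρ p = v → ∃ k, p ∈ Vk k := by
    intro p hp
    have h1 : f (pullback.fst f g p) = y := by
      rw [← Scheme.Hom.comp_apply, pullback.condition, Scheme.Hom.comp_apply, hp, hgv]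
    have h2 : x (e ⟨pullback.fst f g p, h1⟩) = pullback.fst f g p := by
      simp only [x, Equiv.symm_apply_apply]
    obtain ⟨j, hj⟩ := hcov p (e ⟨pullback.fst f g p, h1⟩) hp h2.symm
    exact ⟨⟨_, j⟩, hj⟩
  have hIkv : ∀ k, Ik k v = 1 := fun k ↦ by
    obtain ⟨hmem, -, hsnd, huniq, hpi, -⟩ := hVo k.1 k.2
    exact fibreIntegral_ι_comp_eq_of_unique ρ (Vk k) W v (vo k.1 k.2) hmem hsnd huniq hpi
  -- each piece has open image
  let Nk : (Σ i, J i) → Set V := fun k ↦ ρ '' (Vk k : Set ↑(pullback f g))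
  have hNko : ∀ k, IsOpen (Nk k) := fun k ↦ ρ.isOpenMap _ (Vk k).2
  have hvNk : ∀ k, v ∈ Nk k := fun k ↦ ⟨vo k.1 k.2, (hVo k.1 k.2).1, (hVo k.1 k.2).2.2.1⟩
  have hIkge : ∀ k, ∀ v' ∈ Nk k, 1 ≤ Ik k v' := by
    rintro k _ ⟨p, hp, rfl⟩
    have hfinπ : IsFinite ((Vk k).ι ≫ ρ) := (hVo k.1 k.2).2.1
    have h1 := le_fibreIntegral ((Vk k).ι ≫ ρ) (fun u ↦ W ((Vk k).ι u)) (fun _ ↦ zero_le_one)
      ⟨p, hp⟩ (((Vk k).ι ≫ ρ).finite_preimage_singleton _)
    have h2 : 0 < sepDeg ((Vk k).ι ≫ ρ) ⟨p, hp⟩ := sepDeg_pos_of_finite _ _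
      (finite_residueFieldMap_of_quasiFiniteAt _ _ (((Vk k).ι ≫ ρ).quasiFiniteAt _))
    have h3 : (1 : ℤ) ≤ W p * (sepDeg ((Vk k).ι ≫ ρ) ⟨p, hp⟩ : ℤ) := by
      simp only [W, one_mul]
      exact_mod_cast h2
    exact h3.trans h1
  let _ : Fintype (Σ i, J i) := Fintype.ofFinite _
  have hsumv : MoreMor.fibreIntegral ρ W v = ∑ _k : (Σ i, J i), (1 : ℤ) := by
    rw [← sum_fibreIntegral_ι_comp_eq ρ Vk hdisj' W v (hρfib v) hcovv, finsum_eq_sum_of_fintype]
    exact Finset.sum_congr rfl fun k _ ↦ hIkv k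
  have hsumle : ∀ v' ∈ ⋂ k, Nk k, ∑ _k : (Σ i, J i), (1 : ℤ) ≤
      ∑ᶠ k, MoreMor.fibreIntegral ((Vk k).ι ≫ ρ) (fun u ↦ W ((Vk k).ι u)) v' := by
    intro v' hv'
    rw [finsum_eq_sum_of_fintype]
    exact Finset.sum_le_sum fun k _ ↦ hIkge k v' (Set.mem_iInter.mp hv' k)
  have hNo : IsOpen (⋂ k, Nk k) := isOpen_iInter_of_finite hNko
  have hNy : MoreMor.fibreIntegral f (fun _ ↦ (1 : ℤ)) y = ∑ _k : (Σ i, J i), (1 : ℤ) := by
    rw [← hsumv, hbc, hgv]
  refine ⟨⟨g '' (⋂ k, Nk k), g.isOpenMap _ hNo⟩, ⟨v, Set.mem_iInter.mpr hvNk, hgv⟩, ?_, ?_⟩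
  · rintro _ ⟨v', hv', rfl⟩
    rw [hNy, ← hbc]
    exact (hsumle v' hv').trans
      (sum_fibreIntegral_ι_comp_le ρ Vk hdisj' W (fun _ ↦ zero_le_one) v' (hρfib v'))
  · intro A hA hyA hconst
    let N₀ : V.Opens := ⟨(⋂ k, Nk k) ∩ g ⁻¹' A, hNo.inter (hA.preimage g.continuous)⟩
    have hvN₀ : v ∈ N₀ := ⟨Set.mem_iInter.mpr hvNk, by
      change g v ∈ A
      rw [hgv]
      exact hyA⟩
    have hlqfρ : LocallyQuasiFinite ρ := inferInstance
    have hkey : ∀ p, ρ p ∈ N₀ → ∃ k, p ∈ Vk k := by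
      intro p hp
      by_contra hne
      push Not at hne
      have h1 := sum_fibreIntegral_ι_comp_add_le ρ Vk hdisj' W (fun _ ↦ zero_le_one) (ρ p)
        (hρfib _) p rfl hne
      have h2 : MoreMor.fibreIntegral ρ W (ρ p) = ∑ _k : (Σ i, J i), (1 : ℤ) := by
        rw [hbc, hconst _ hp.2, hNy]
      have h3 := hsumle (ρ p) hp.1
      have h6 : 0 < W p * (sepDeg ρ p : ℤ) := by
        simp only [W, one_mul]
        exact_mod_cast sepDeg_pos_of_finite ρ p
          (finite_residueFieldMap_of_quasiFiniteAt ρ p (ρ.quasiFiniteAt p))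
      linarith
    classical
    have hVt : IsFinite ((Finset.univ.sup Vk).ι ≫ ρ) :=
      isFinite_finsetSup_ι_comp ρ Finset.univ Vk fun k ↦ (hVo k.1 k.2).2.1
    have h7 := isFinite_preimage_piece ρ N₀.ι (Finset.univ.sup Vk) hVt
    have h8 : (pullback.fst ρ N₀.ι) ⁻¹ᵁ (Finset.univ.sup Vk) = ⊤ := by
      rw [eq_top_iff]
      intro z _
      have h9 : ρ (pullback.fst ρ N₀.ι z) ∈ N₀ := by
        rw [← Scheme.Hom.comp_apply, pullback.condition, Scheme.Hom.comp_apply]
        exact (pullback.snd ρ N₀.ι z).2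
      obtain ⟨k, hk⟩ := hkey _ h9
      exact (Finset.le_sup (f := Vk) (Finset.mem_univ k)) hk
    have h10 : IsFinite (pullback.snd ρ N₀.ι) := isFinite_of_ι_comp_of_eq_top _ _ h8 h7
    have h11 : IsFinite (pullback.snd f (N₀.ι ≫ g)) := by
      rw [← pullbackLeftPullbackSndIso_inv_snd_snd f g N₀.ι]
      infer_instance
    let O : Y.Opens := ⟨g '' N₀, g.isOpenMap _ N₀.2⟩
    have hO : (O : Set ↑Y) = Set.range (N₀.ι ≫ g) := by
      rw [Scheme.Hom.comp_base, TopCat.coe_comp, Set.range_comp, Scheme.Opens.range_ι]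
      rfl
    exact ⟨O, ⟨v, hvN₀, hgv⟩, isFinite_morphismRestrict_of_isFinite_snd f (N₀.ι ≫ g) h11 O hO⟩

end UnivOpen

theorem fibreIntegral_one_nonneg {X Y : Scheme.{u}} (f : X ⟶ Y) (y : Y) :
    0 ≤ MoreMor.fibreIntegral f (fun _ ↦ (1 : ℤ)) y := by
  rw [fibreIntegral_eq_finsum_mem]
  exact finsum_nonneg fun p ↦ finsum_nonneg fun _ ↦ by positivity

/-- EGA IV 15.5.1 for quasi-finite morphisms. -/
theorem nGeomConnComp_lowerSemicontinuous_and_proper {X Y : Scheme.{u}} (f : X ⟶ Y) [Flat f]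
    [LocallyOfFinitePresentation f] [IsSeparated f] [LocallyQuasiFinite f] [QuasiCompact f] :
    LowerSemicontinuous (fun z : Y => MoreMor.nGeomConnComp f z) ∧
      ∀ y₀ : Y, (∃ V ∈ nhds y₀, ∀ z ∈ V,
          MoreMor.nGeomConnComp f z = MoreMor.nGeomConnComp f y₀) →
        ∃ U : Y.Opens, y₀ ∈ U ∧ IsProper (f ∣_ U) := by
  have hfin : ∀ y : Y, (f ⁻¹' {y}).Finite := fun y ↦ f.finite_preimage_singleton y
  have hn := nGeomConnComp_eq_fibreIntegral_one f hfin
  have hmono : ∀ y y', MoreMor.fibreIntegral f (fun _ ↦ (1 : ℤ)) y ≤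
      MoreMor.fibreIntegral f (fun _ ↦ (1 : ℤ)) y' →
      MoreMor.nGeomConnComp f y ≤ MoreMor.nGeomConnComp f y' := by
    intro y y' h
    rw [hn, hn]
    exact_mod_cast Int.toNat_le_toNat h
  have hinj : ∀ y y', MoreMor.nGeomConnComp f y = MoreMor.nGeomConnComp f y' →
      MoreMor.fibreIntegral f (fun _ ↦ (1 : ℤ)) y =
      MoreMor.fibreIntegral f (fun _ ↦ (1 : ℤ)) y' := by
    intro y y' h
    rw [hn, hn] at h
    have h1 : (MoreMor.fibreIntegral f (fun _ ↦ (1 : ℤ)) y).toNat =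
        (MoreMor.fibreIntegral f (fun _ ↦ (1 : ℤ)) y').toNat := by exact_mod_cast h
    have h2 := fibreIntegral_one_nonneg f y
    have h3 := fibreIntegral_one_nonneg f y'
    omega
  constructor
  · intro y c hc
    obtain ⟨O, hyO, hle, -⟩ := exists_nhds_count f hfin y
    exact Filter.mem_of_superset (O.2.mem_nhds hyO) fun y' hy' ↦
      lt_of_lt_of_le hc (hmono _ _ (hle y' hy'))
  · rintro y₀ ⟨A, hA, hconst⟩
    obtain ⟨A', hA'A, hA'o, hyA'⟩ := mem_nhds_iff.mp hA
    obtain ⟨O, -, -, hfinite⟩ := exists_nhds_count f hfin y₀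
    obtain ⟨U, hyU, hU⟩ := hfinite A' hA'o hyA' fun z hz ↦ hinj _ _ (hconst z (hA'A hz))
    exact ⟨U, hyU, inferInstance⟩

end Groth.Agent.H7
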