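import Mathlib
import Groth.Prelude.Def_CurvBase
import Groth.Agent.H7.GeomPointsSemicont
import Groth.Agent.H7.RadicialLocus

set_option autoImplicit false
universe u

namespace Groth.Agent.H7

open AlgebraicGeometry CategoryTheory Limits MorphismProperty Topology

/-- The canonical map from a field `k` to the residue field of `Spec k` at a point. -/
noncomputable def fieldToResidue (k : Type u) [Field k] (q : ↥(Spec (CommRingCat.of k))) :
    CommRingCat.of k ⟶ (Spec (CommRingCat.of k)).residueField q :=
  (Scheme.ΓSpecIso (CommRingCat.of k)).inv ≫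
    (Spec (CommRingCat.of k)).presheaf.germ ⊤ q trivial ≫ (Spec (CommRingCat.of k)).residue q

theorem fieldToResidue_bijective (k : Type u) [Field k] (q : ↥(Spec (CommRingCat.of k))) :
    Function.Bijective (fieldToResidue k q).hom := by
  obtain rfl : q = (𝟙 (Spec (.of k)) : Spec (.of k) ⟶ Spec (.of k)) (geomPt k) :=
    Subsingleton.elim _ _
  let ε := geomPointEmb k (𝟙 (Spec (.of k)))
  have h1 : fieldToResidue k _ ≫ ε = 𝟙 _ := by
    have h3 : (Spec (CommRingCat.of k)).residue _ ≫ ε =
        Scheme.stalkClosedPointTo (R := CommRingCat.of k) (𝟙 (Spec (.of k))) :=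
      Scheme.residue_descResidueField (K := k)
        (Scheme.stalkClosedPointTo (R := CommRingCat.of k) (𝟙 (Spec (.of k))))
    have h2 := Scheme.germ_stalkClosedPointTo_Spec (R := CommRingCat.of k) (S := CommRingCat.of k)
      (𝟙 (CommRingCat.of k))
    rw [Spec.map_id, Category.comp_id] at h2
    have h4 : (Spec (CommRingCat.of k)).presheaf.germ ⊤ _ trivial ≫
        (Spec (CommRingCat.of k)).residue _ ≫ ε = (Scheme.ΓSpecIso (CommRingCat.of k)).hom := by
      rw [h3]
      exact h2
    unfold fieldToResidue
    rw [Category.assoc, Category.assoc]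
    exact (congrArg (fun t ↦ (Scheme.ΓSpecIso (CommRingCat.of k)).inv ≫ t) h4).trans
      (Iso.inv_hom_id _)
  have hε : Function.Injective ε.hom := ε.hom.injective
  refine ⟨(fieldToResidue k _).hom.injective, fun z ↦ ⟨ε.hom z, hε ?_⟩⟩
  exact congr($(h1).hom (ε.hom z))

theorem resMap_eq (k : Type u) [Field k] (X : Scheme.{u}) [X.Over (Spec (CommRingCat.of k))]
    (x : X) :
    Curv2.resMap k X x = ((X ↘ Spec (CommRingCat.of k)).residueFieldMap x).hom.comp
      (fieldToResidue k ((X ↘ Spec (CommRingCat.of k)) x)).hom := by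
  set f := X ↘ Spec (CommRingCat.of k) with hf
  have h1 : CommRingCat.ofHom (Curv2.resMap k X x) =
      fieldToResidue k (f x) ≫ f.residueFieldMap x := by
    unfold fieldToResidue
    simp only [Category.assoc]
    rw [Scheme.residue_residueFieldMap, Scheme.Hom.germ_stalkMap_assoc]
    rfl
  exact congr($(h1).hom)

theorem sepDeg_eq_finSepDegree_resAlgebra (k : Type u) [Field k] (X : Scheme.{u})
    [X.Over (Spec (CommRingCat.of k))] (x : X) :
    sepDeg (X ↘ Spec (CommRingCat.of k)) x =
      (letI := Curv2.resAlgebra k X x; Field.finSepDegree k (X.residueField x)) := by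
  set f := X ↘ Spec (CommRingCat.of k) with hf
  let e : k ≃+* (Spec (CommRingCat.of k)).residueField (f x) :=
    RingEquiv.ofBijective (fieldToResidue k (f x)).hom (fieldToResidue_bijective k (f x))
  have h := finSepDegree_ringEquiv_comp e (f.residueFieldMap x).hom
  unfold sepDeg
  rw [← h]
  have h2 : (f.residueFieldMap x).hom.comp e.toRingHom = Curv2.resMap k X x :=
    (resMap_eq k X x).symm
  unfold Curv2.resAlgebra
  rw [h2]

end Groth.Agent.H7
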