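import Mathlib
import Groth.Agent.H7.GeomPointsSemicont
import Groth.Agent.H48.GeomConn

set_option autoImplicit false
universe u

namespace Groth.Agent.H7

open AlgebraicGeometry CategoryTheory Limits MorphismProperty Topology

/-- Over a separably closed field `k`, any field extension `Spec K ⟶ Spec k` is
geometrically irreducible. -/
theorem geometricallyIrreducible_SpecMap_of_isSepClosed (k K : Type u) [Field k] [Field K]
    [Algebra k K] [IsSepClosed k] :
    GeometricallyIrreducible (Spec.map (CommRingCat.ofHom (algebraMap k K))) := by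
  constructor
  rw [geometrically_iff_of_commRing_of_isClosedUnderIsomorphisms]
  intro L _ _
  have := Groth.Agent.H48.irreducibleSpace_tensor_of_isSepClosed (k := k) (R := K) (S := L)
  exact ((pullbackSpecIso k K L).hom.homeomorph).irreducibleSpace_iff.mpr this


/-- Generic pasting: if `P` is the pullback of `f` along `c` and `P'` is the pullback of `f`
along `s ≫ c`, then `P'` is the pullback of `P ⟶ S` along `s`. -/
theorem isPullback_lift_of_isPullback_comp {C : Type*} [Category C] {P P' X Y S S' : C}
    {a : P ⟶ X} {b : P ⟶ S} {f : X ⟶ Y} {c : S ⟶ Y} (hR : IsPullback a b f c)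
    {a' : P' ⟶ X} {b' : P' ⟶ S'} {s : S' ⟶ S} (hL : IsPullback a' b' f (s ≫ c)) :
    IsPullback (hR.lift a' (b' ≫ s) (hL.w.trans (Category.assoc _ _ _).symm)) b' b s := by
  refine IsPullback.of_right (h₁₂ := a) (v₁₃ := f) (h₂₂ := c) ?_ (hR.lift_snd _ _ _) hR
  rw [hR.lift_fst]
  exact hL

/-- The geometric fibre of `f` over `y` is the pullback of `f` along
`Spec (κ(y)^sep) ⟶ Spec κ(y) ⟶ Y`. -/
theorem isPullback_geomFiber {X Y : Scheme.{u}} (f : X ⟶ Y) (y : Y) :
    IsPullback (pullback.fst (f.fiberToSpecResidueField y) (Spec.map (CommRingCat.ofHom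
        (algebraMap (Y.residueField y) (SeparableClosure (Y.residueField y))))) ≫ f.fiberι y)
      (pullback.snd (f.fiberToSpecResidueField y) (Spec.map (CommRingCat.ofHom
        (algebraMap (Y.residueField y) (SeparableClosure (Y.residueField y))))))
      f
      (Spec.map (CommRingCat.ofHom
        (algebraMap (Y.residueField y) (SeparableClosure (Y.residueField y)))) ≫
        Y.fromSpecResidueField y) :=
  IsPullback.paste_horiz (IsPullback.of_hasPullback _ _) (IsPullback.of_hasPullback _ _)

/-- Comparison of geometric fibres under base change: the geometric fibre of the base change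
`f'` over `y'` maps to the geometric fibre of `f` over `g y'` by a geometrically irreducible
universally open morphism. -/
theorem exists_hom_geomFiber_of_isPullback {X Y X' Y' : Scheme.{u}} (f : X ⟶ Y) (f' : X' ⟶ Y')
    (g' : X' ⟶ X) (g : Y' ⟶ Y) (hc : IsPullback g' f' f g) (y' : Y') :
    ∃ π : MoreMor.geomFiber f' y' ⟶ MoreMor.geomFiber f (g y'),
      GeometricallyIrreducible π ∧ UniversallyOpen π := by
  let κ := Y.residueField (g y')
  let κ' := Y'.residueField y'
  let φ : κ ⟶ κ' := g.residueFieldMap y'
  let Ω := SeparableClosure κ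
  let Ω' := SeparableClosure κ'
  let _ : Algebra κ Ω' := ((algebraMap κ' Ω').comp φ.hom).toAlgebra
  let ψ : Ω →ₐ[κ] Ω' := IsSepClosed.lift
  have hψ : (CommRingCat.ofHom (algebraMap κ Ω)) ≫ CommRingCat.ofHom ψ.toRingHom =
      φ ≫ CommRingCat.ofHom (algebraMap κ' Ω') := by
    apply CommRingCat.hom_ext
    apply RingHom.ext
    intro x
    exact ψ.commutes x
  let _ : Algebra Ω Ω' := ψ.toRingHom.toAlgebra
  have hirr : GeometricallyIrreducible (Spec.map (CommRingCat.ofHom ψ.toRingHom)) :=
    geometricallyIrreducible_SpecMap_of_isSepClosed Ω Ω'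
  have hR := isPullback_geomFiber f (g y')
  have hL := (isPullback_geomFiber f' y').paste_horiz hc
  -- the two bottom composites agree
  have hbot : (Spec.map (CommRingCat.ofHom (algebraMap κ' Ω')) ≫ Y'.fromSpecResidueField y') ≫ g =
      Spec.map (CommRingCat.ofHom ψ.toRingHom) ≫
        (Spec.map (CommRingCat.ofHom (algebraMap κ Ω)) ≫ Y.fromSpecResidueField (g y')) := by
    rw [Category.assoc, ← Scheme.Hom.SpecMap_residueFieldMap_fromSpecResidueField,
      ← Spec.map_comp_assoc, ← Spec.map_comp_assoc, hψ]
    rfl
  rw [hbot] at hL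
  have hsq := isPullback_lift_of_isPullback_comp hR hL
  refine ⟨hR.lift _ _ (hL.w.trans (Category.assoc _ _ _).symm), ?_, ?_⟩
  · exact MorphismProperty.of_isPullback (P := @GeometricallyIrreducible) hsq.flip hirr
  · have : UniversallyOpen (Spec.map (CommRingCat.ofHom ψ.toRingHom)) := inferInstance
    exact MorphismProperty.of_isPullback (P := @UniversallyOpen) hsq.flip this

theorem geometricallyConnected_of_geometricallyIrreducible {X Y : Scheme.{u}} (f : X ⟶ Y)
    [hf : GeometricallyIrreducible f] : GeometricallyConnected f := by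
  refine ⟨fun K _ y Z fst snd h ↦ ?_⟩
  have : IrreducibleSpace ↥Z := hf.1 y fst snd h
  infer_instance

/-- The number of geometric irreducible components of fibres is invariant under base change. -/
theorem nGeomIrredComp_eq_of_isPullback {X Y X' Y' : Scheme.{u}} (f : X ⟶ Y) (f' : X' ⟶ Y')
    (g' : X' ⟶ X) (g : Y' ⟶ Y) (hc : IsPullback g' f' f g) (y' : Y') :
    MoreMor.nGeomIrredComp f' y' = MoreMor.nGeomIrredComp f (g y') := by
  obtain ⟨π, hπ1, hπ2⟩ := exists_hom_geomFiber_of_isPullback f f' g' g hc y'
  unfold MoreMor.nGeomIrredComp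
  exact Set.encard_congr (π.irreducibleComponentsEquiv π.isOpenMap)

/-- The number of geometric connected components of fibres is invariant under base change. -/
theorem nGeomConnComp_eq_of_isPullback {X Y X' Y' : Scheme.{u}} (f : X ⟶ Y) (f' : X' ⟶ Y')
    (g' : X' ⟶ X) (g : Y' ⟶ Y) (hc : IsPullback g' f' f g) (y' : Y') :
    MoreMor.nGeomConnComp f' y' = MoreMor.nGeomConnComp f (g y') := by
  obtain ⟨π, hπ1, hπ2⟩ := exists_hom_geomFiber_of_isPullback f f' g' g hc y'
  have := geometricallyConnected_of_geometricallyIrreducible π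
  unfold MoreMor.nGeomConnComp
  exact ENat.card_congr (π.connectedComponentsHomeomorph π.isOpenMap).toEquiv

end Groth.Agent.H7
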