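import Mathlib
import Groth.Agent.H22.FinitePart

set_option autoImplicit false
universe u

namespace Groth.Agent.H7

open AlgebraicGeometry CategoryTheory Limits MorphismProperty Topology

/-- If `W` is an open of `X` finite over the spectrum of a local ring, every point of `W`
specializes to a point of `W` over the closed point. -/
theorem exists_specializes_closedPoint_of_isFinite (R : Type u) [CommRing R] [IsLocalRing R]
    {X : Scheme.{u}} (f : X ⟶ Spec (CommRingCat.of R)) (W : X.Opens) [IsFinite (W.ι ≫ f)]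
    (w : X) (hw : w ∈ W) :
    ∃ w₀ : X, w₀ ∈ W ∧ w ⤳ w₀ ∧ f w₀ = IsLocalRing.closedPoint R := by
  let w' : ↥W := ⟨w, hw⟩
  have hcl : IsClosed ((W.ι ≫ f) '' closure {w'}) :=
    (W.ι ≫ f).isClosedMap _ isClosed_closure
  have hne : ((W.ι ≫ f) '' closure {w'}).Nonempty := ⟨_, w', subset_closure rfl, rfl⟩
  obtain ⟨z, hz⟩ := hne
  have hm : IsLocalRing.closedPoint R ∈ (W.ι ≫ f) '' closure {w'} := by
    have hsp : z ⤳ IsLocalRing.closedPoint R := IsLocalRing.specializes_closedPoint z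
    exact hcl.closure_subset (closure_mono (Set.singleton_subset_iff.mpr hz) hsp.mem_closure)
  obtain ⟨w₀', hw₀', hw₀⟩ := hm
  refine ⟨W.ι w₀', ?_, ?_, ?_⟩
  · exact w₀'.2
  · have h1 : w' ⤳ w₀' := specializes_iff_mem_closure.mpr hw₀'
    exact h1.map W.ι.continuous
  · rw [← hw₀, Scheme.Hom.comp_apply]

/-- Over a henselian local ring, a quasi-finite separated scheme has a unique clopen finite part
containing the closed fibre. -/
theorem existsUnique_clopen_finite_part (R : Type u) [CommRing R] [HenselianLocalRing R]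
    {X : Scheme.{u}} (f : X ⟶ Spec (CommRingCat.of R))
    [LocallyQuasiFinite f] [LocallyOfFiniteType f] [QuasiCompact f] [IsSeparated f] :
    ∃! W : X.Opens, IsClosed (W : Set X) ∧ IsFinite (W.ι ≫ f) ∧
      ∀ x : X, f.base x = IsLocalRing.closedPoint R → x ∈ W := by
  obtain ⟨W, hWc, hWf, hW⟩ := Groth.Agent.H22.FinitePart.exists_finite_part R X f
  refine ⟨W, ⟨hWc, hWf, hW⟩, ?_⟩
  rintro W' ⟨hW'c, hW'f, hW'⟩
  have key : ∀ (W₁ W₂ : X.Opens), IsFinite (W₁.ι ≫ f) →
      (∀ x : X, f.base x = IsLocalRing.closedPoint R → x ∈ W₂) → W₁ ≤ W₂ := by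
    intro W₁ W₂ h₁ h₂ w hw
    obtain ⟨w₀, -, hsp, hw₀⟩ := exists_specializes_closedPoint_of_isFinite R f W₁ w hw
    exact hsp.mem_open W₂.2 (h₂ w₀ hw₀)
  exact le_antisymm (key W' W hW'f hW) (key W W' hWf hW')

end Groth.Agent.H7
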