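import Mathlib
import Groth.Agent.H7.EtaleLocal
import Groth.Agent.H7.GeomFibreBaseChange

set_option autoImplicit false
universe u

namespace Groth.Agent.H7

open AlgebraicGeometry CategoryTheory Limits MorphismProperty Topology

/-- A point of the scheme-theoretic fibre which is isolated gives a point at which the morphism
is quasi-finite. -/
theorem quasiFiniteAt_fiberι_of_isOpen_singleton {X S : Scheme.{u}} (f : X ⟶ S)
    [LocallyOfFiniteType f] (s : S) (z : ↑(f.fiber s)) (hz : IsOpen ({z} : Set ↑(f.fiber s))) :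
    f.QuasiFiniteAt (f.fiberι s z) := by
  have key : ∀ (x : X) (s : S) (hx : f x = s) (z : ↑(f.fiber s)), f.fiberι s z = x →
      IsOpen ({z} : Set ↑(f.fiber s)) → f.QuasiFiniteAt x := by
    intro x s hx z hzx hz
    subst hx
    have : z = f.asFiber x := by
      apply (f.fiberι (f x)).isEmbedding.injective
      rw [hzx, f.fiberι_asFiber]
    rw [Scheme.Hom.quasiFiniteAt_iff_isOpen_singleton_asFiber, ← this]
    exact hz
  have hx : f (f.fiberι s z) = s := by
    have := (f.range_fiberι s).le ⟨z, rfl⟩
    exact this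
  exact key _ s hx z rfl hz

/-- Comparison of fibres under base change. -/
theorem exists_hom_fiber_of_isPullback {X Y X' Y' : Scheme.{u}} (f : X ⟶ Y) (f' : X' ⟶ Y')
    (g' : X' ⟶ X) (g : Y' ⟶ Y) (hc : IsPullback g' f' f g) (y' : Y') :
    ∃ c : f'.fiber y' ⟶ f.fiber (g y'), c ≫ f.fiberι (g y') = f'.fiberι y' ≫ g' ∧
      IsPullback c (f'.fiberToSpecResidueField y') (f.fiberToSpecResidueField (g y'))
        (Spec.map (g.residueFieldMap y')) := by
  have hR : IsPullback (f.fiberι (g y')) (f.fiberToSpecResidueField (g y')) f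
      (Y.fromSpecResidueField (g y')) := IsPullback.of_hasPullback _ _
  have hL0 : IsPullback (f'.fiberι y') (f'.fiberToSpecResidueField y') f'
      (Y'.fromSpecResidueField y') := IsPullback.of_hasPullback _ _
  have hL := hL0.paste_horiz hc
  rw [← Scheme.Hom.SpecMap_residueFieldMap_fromSpecResidueField] at hL
  exact ⟨_, hR.lift_fst _ _ _, isPullback_lift_of_isPullback_comp hR hL⟩

/-- The comparison map of fibres under base change is open. -/
theorem exists_isOpenMap_fiber_of_isPullback {X Y X' Y' : Scheme.{u}} (f : X ⟶ Y) (f' : X' ⟶ Y')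
    (g' : X' ⟶ X) (g : Y' ⟶ Y) (hc : IsPullback g' f' f g) (y' : Y') (y : Y) (hy : g y' = y) :
    ∃ c : f'.fiber y' ⟶ f.fiber y, c ≫ f.fiberι y = f'.fiberι y' ≫ g' ∧ IsOpenMap c := by
  subst hy
  obtain ⟨c, hc1, hc2⟩ := exists_hom_fiber_of_isPullback f f' g' g hc y'
  refine ⟨c, hc1, ?_⟩
  have h1 : UniversallyOpen (Spec.map (g.residueFieldMap y')) := inferInstance
  have h2 : UniversallyOpen c := MorphismProperty.of_isPullback (P := @UniversallyOpen) hc2.flip h1
  exact c.isOpenMap

/-- Stacks 02LO-type statement: if only finitely many points of the fibre over `s` are isolated,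
then after passing to an elementary étale neighbourhood there is a clopen part finite over the
base containing all isolated points of the fibre. -/
theorem exists_etaleNbhd_clopen_finite_isolated {X S : Scheme.{u}} (f : X ⟶ S)
    [LocallyOfFiniteType f] [IsSeparated f] (s : S)
    (hfin : {x : ↑(f.fiber s) | IsOpen ({x} : Set ↑(f.fiber s))}.Finite) :
    ∃ (U : Scheme.{u}) (g : U ⟶ S) (u : U), Etale g ∧ g u = s ∧
      Function.Bijective (g.residueFieldMap u).hom ∧
      ∃ V : (pullback f g).Opens, IsClopen (V : Set ↑(pullback f g)) ∧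
        IsFinite (V.ι ≫ pullback.snd f g) ∧
        ∀ w : ↑((pullback.snd f g).fiber u), (pullback.snd f g).fiberι u w ∉ V →
          ¬ IsOpen ({w} : Set ↑((pullback.snd f g).fiber u)) := by
  classical
  let I := {x : ↑(f.fiber s) | IsOpen ({x} : Set ↑(f.fiber s))}
  have : Finite ↥I := hfin
  let x : ↥I → X := fun a => f.fiberι s a.1
  have hs : ∀ a, f (x a) = s := fun a => (f.range_fiberι s).le ⟨a.1, rfl⟩
  have hx : ∀ a, f.QuasiFiniteAt (x a) :=
    fun a => quasiFiniteAt_fiberι_of_isOpen_singleton f s a.1 a.2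
  obtain ⟨U, g, u, hUaff, hg, hgu, hres, V, v, hV⟩ := exists_etale_nbhd_finite_parts f s x hs hx
  have := Fintype.ofFinite ↥I
  have hVfin : IsFinite ((Finset.univ.sup V).ι ≫ pullback.snd f g) :=
    isFinite_finsetSup_ι_comp _ _ V fun i => (hV i).2.1
  refine ⟨U, g, u, hg, hgu, hres, Finset.univ.sup V, ?_, hVfin, ?_⟩
  · exact ⟨isClosed_of_isFinite_ι_comp (pullback.snd f g) _ hVfin, (Finset.univ.sup V).2⟩
  · intro w hw hopen
    obtain ⟨c, hc1, hcopen⟩ := exists_isOpenMap_fiber_of_isPullback f (pullback.snd f g)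
      (pullback.fst f g) g (IsPullback.of_hasPullback f g) u s hgu
    have h1 : IsOpen ({c w} : Set ↑(f.fiber s)) := by
      have := hcopen _ hopen
      rwa [Set.image_singleton] at this
    let a : ↥I := ⟨c w, h1⟩
    have h2 : x a = pullback.fst f g ((pullback.snd f g).fiberι u w) := by
      show f.fiberι s (c w) = _
      rw [← Scheme.Hom.comp_apply, hc1, Scheme.Hom.comp_apply]
    have h3 : pullback.snd f g ((pullback.snd f g).fiberι u w) = u :=
      ((pullback.snd f g).range_fiberι u).le ⟨w, rfl⟩
    have h4 : (pullback.snd f g).fiberι u w = v a := by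
      refine eq_of_fst_eq_of_snd_eq f g _ _ (h2.symm.trans (hV a).2.2.2.2.symm)
        (h3.trans (hV a).2.2.1.symm) ?_
      rw [(hV a).2.2.1]
      exact hres.2
    apply hw
    rw [h4]
    have h5 : V a ≤ Finset.univ.sup V := Finset.le_sup (Finset.mem_univ a)
    exact h5 (hV a).1

end Groth.Agent.H7
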