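import Mathlib
import Groth.Agent.S0501
import Groth.Agent.H25.Agree

set_option autoImplicit false
universe u

namespace Groth.Agent.H7

open AlgebraicGeometry CategoryTheory Limits MorphismProperty Topology

/-- Algebraic form: an étale algebra `A` over a henselian local ring `R` with an `R`-algebra map
`ψ : A → k` to the residue field admits an `R`-algebra retraction `A → R` lifting `ψ`. -/
theorem exists_algHom_lift_residue (R : Type u) [CommRing R] [HenselianLocalRing R]
    (A : Type u) [CommRing A] [Algebra R A] [Algebra.Etale R A]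
    (ψ : A →+* IsLocalRing.ResidueField R)
    (hψ : ψ.comp (algebraMap R A) = IsLocalRing.residue R) :
    ∃ φ : A →ₐ[R] R, (IsLocalRing.residue R).comp φ.toRingHom = ψ := by
  let q : Ideal A := RingHom.ker ψ
  have hq : q.IsPrime := RingHom.ker_isPrime ψ
  let τ : q.ResidueField →+* IsLocalRing.ResidueField R :=
    Ideal.ResidueField.lift q ψ le_rfl (by
      intro a ha
      simp only [Submonoid.mem_comap, IsUnit.mem_submonoid_iff]
      rw [isUnit_iff_ne_zero]
      exact fun h => ha (by simpa [q, RingHom.mem_ker] using h))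
  have hτ : τ.comp (algebraMap R q.ResidueField) =
      (IsLocalRing.residue R).comp (algebraMap R R) := by
    ext r
    simp only [RingHom.comp_apply]
    rw [IsScalarTower.algebraMap_apply R A q.ResidueField, Ideal.ResidueField.lift_algebraMap]
    have := congr($hψ r)
    simpa using this
  obtain ⟨φ, ⟨-, hφ⟩, -⟩ := Groth.Agent.S0501.result R R A q τ hτ
  refine ⟨φ, ?_⟩
  ext a
  simp only [RingHom.comp_apply]
  have := hφ a
  rw [Ideal.ResidueField.lift_algebraMap] at this
  exact this

/-- Sections of an étale morphism over a henselian local ring correspond bijectively to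
rational points of the special fibre. -/
theorem existsUnique_section_of_etale_of_henselian (R : Type u) [CommRing R]
    [HenselianLocalRing R] {X : Scheme.{u}} (f : X ⟶ Spec (CommRingCat.of R)) [Etale f]
    (t : Spec (CommRingCat.of (IsLocalRing.ResidueField R)) ⟶ X)
    (ht : t ≫ f = Spec.map (CommRingCat.ofHom (IsLocalRing.residue R))) :
    ∃! s : Spec (CommRingCat.of R) ⟶ X,
      s ≫ f = 𝟙 (Spec (CommRingCat.of R)) ∧
        Spec.map (CommRingCat.ofHom (IsLocalRing.residue R)) ≫ s = t := by
  classical
  -- existence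
  have hex : ∃ s : Spec (CommRingCat.of R) ⟶ X,
      s ≫ f = 𝟙 (Spec (CommRingCat.of R)) ∧
        Spec.map (CommRingCat.ofHom (IsLocalRing.residue R)) ≫ s = t := by
    let k := IsLocalRing.ResidueField R
    let y₀ : ↥(Spec (CommRingCat.of k)) := default
    let x : X := t y₀
    let 𝒰 := X.affineOpenCover
    obtain ⟨i, hi⟩ := 𝒰.openCover.exists_eq x
    have hrange : Set.range t ⊆ Set.range (𝒰.f i) := by
      rintro _ ⟨y, rfl⟩
      have : y = y₀ := Subsingleton.elim _ _
      rw [this]
      exact hi
    let t' : Spec (CommRingCat.of k) ⟶ Spec (𝒰.X i) := IsOpenImmersion.lift (𝒰.f i) t hrange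
    have ht' : t' ≫ 𝒰.f i = t := IsOpenImmersion.lift_fac _ _ _
    let g : Spec (𝒰.X i) ⟶ Spec (CommRingCat.of R) := 𝒰.f i ≫ f
    have hgE : Etale g := inferInstance
    let φ : CommRingCat.of R ⟶ 𝒰.X i := Spec.preimage g
    have hφ : Spec.map φ = g := Spec.map_preimage g
    have hφE : φ.hom.Etale := by
      rw [← hφ] at hgE
      exact (HasRingHomProperty.Spec_iff (P := @Etale)).mp hgE
    let ψ' : 𝒰.X i ⟶ CommRingCat.of k := Spec.preimage t'
    have hψ' : Spec.map ψ' = t' := Spec.map_preimage t'
    have hcomp : φ ≫ ψ' = CommRingCat.ofHom (IsLocalRing.residue R) := by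
      apply Spec.map_injective
      rw [Spec.map_comp, hφ, hψ', ← ht, ← ht', Category.assoc]
    algebraize [φ.hom]
    have hE : Algebra.Etale R (𝒰.X i) := hφE
    obtain ⟨φ', hφ'⟩ := exists_algHom_lift_residue R (𝒰.X i) ψ'.hom (by
      have := congr($(hcomp).hom)
      exact this)
    refine ⟨Spec.map (CommRingCat.ofHom φ'.toRingHom) ≫ 𝒰.f i, ?_, ?_⟩
    · rw [Category.assoc]
      change Spec.map _ ≫ g = _
      rw [← hφ, ← Spec.map_comp, ← Spec.map_id]
      congr 1
      ext r
      exact φ'.commutes r
    · rw [← Category.assoc, ← Spec.map_comp, ← ht', ← hψ']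
      congr 2
      ext a
      exact congr($hφ' a)
  obtain ⟨s, hs1, hs2⟩ := hex
  refine ⟨s, ⟨hs1, hs2⟩, ?_⟩
  rintro s' ⟨hs'1, hs'2⟩
  have : LocallyOfFiniteType f := inferInstance
  obtain ⟨W, hW, hW2, -⟩ := Groth.Agent.H25.exists_agreement_opens f s s' (by rw [hs1, hs'1])
  have hmem := hW2 _ (Spec.map (CommRingCat.ofHom (IsLocalRing.residue R))) (by rw [hs2, hs'2])
  have hcl : IsLocalRing.closedPoint R ∈ W := by
    apply hmem
    refine ⟨default, ?_⟩
    exact IsLocalRing.PrimeSpectrum.comap_residue _ _
  have hWtop : W = ⊤ := by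
    rw [eq_top_iff]
    intro z _
    exact (IsLocalRing.specializes_closedPoint z).mem_open W.2 hcl
  subst hWtop
  have : IsIso (⊤ : (Spec (CommRingCat.of R)).Opens).ι :=
    (Scheme.topIso (Spec (CommRingCat.of R))).isIso_hom
  exact ((cancel_epi _).mp hW).symm

end Groth.Agent.H7
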