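import Mathlib
import Groth.Agent.H7.HenselSection

set_option autoImplicit false
universe u

namespace Groth.Agent.H7

open AlgebraicGeometry CategoryTheory Limits MorphismProperty Topology IsLocalRing Polynomial

/-- Over a strictly henselian local ring, every prime of an étale algebra lying over the maximal
ideal is the pullback of the maximal ideal along an algebra retraction. -/
theorem exists_algHom_comap_eq_of_isSepClosed (A : Type u) [CommRing A] [HenselianLocalRing A]
    [IsSepClosed (ResidueField A)] (B : Type u) [CommRing B] [Algebra A B] [Algebra.Etale A B]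
    (q : Ideal B) [q.IsPrime] (hq : q.comap (algebraMap A B) = maximalIdeal A) :
    ∃ φ : B →ₐ[A] A, (maximalIdeal A).comap φ.toRingHom = q := by
  let k := ResidueField A
  let L := q.ResidueField
  have hloc : IsLocalHom (algebraMap A L) := by
    refine ⟨fun a ha => ?_⟩
    by_contra hna
    have hmem : a ∈ maximalIdeal A := hna
    rw [← hq, Ideal.mem_comap] at hmem
    have h0 : algebraMap A L a = 0 := by
      rw [IsScalarTower.algebraMap_apply A B L]
      exact (Ideal.algebraMap_residueField_eq_zero).mpr hmem
    rw [h0] at ha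
    exact not_isUnit_zero ha
  let τ : k →+* L := ResidueField.lift (algebraMap A L)
  have hτ : τ.comp (residue A) = algebraMap A L := ResidueField.lift_comp_residue _
  let _ : Algebra k L := τ.toAlgebra
  have htower : IsScalarTower A k L := IsScalarTower.of_algebraMap_eq fun a => by
    change algebraMap A L a = τ (residue A a)
    rw [← hτ]; rfl
  have hfu1 : Algebra.FormallyUnramified B (Localization.AtPrime q) :=
    .of_isLocalization q.primeCompl
  have hfu2 : Algebra.FormallyUnramified (Localization.AtPrime q) L :=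
    inferInstanceAs (Algebra.FormallyUnramified (Localization.AtPrime q)
      (ResidueField (Localization.AtPrime q)))
  have hfu0 : Algebra.FormallyUnramified B L := .comp B (Localization.AtPrime q) L
  have hfuA : Algebra.FormallyUnramified A L := .comp A B L
  have hfu : Algebra.FormallyUnramified k L := .of_restrictScalars A k L
  have heA : Algebra.EssFiniteType A L := .comp A B L
  have he : Algebra.EssFiniteType k L := .of_comp A k L
  have hsep : Algebra.IsSeparable k L := (Algebra.FormallyUnramified.iff_isSeparable k L).mp hfu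
  have hsurj : Function.Surjective τ := IsSepClosed.algebraMap_surjective k L
  let e : k ≃+* L := RingEquiv.ofBijective τ ⟨τ.injective, hsurj⟩
  let ψ : B →+* k := e.symm.toRingHom.comp (algebraMap B L)
  have hψ : ψ.comp (algebraMap A B) = residue A := by
    ext a
    simp only [ψ, RingHom.comp_apply]
    rw [← IsScalarTower.algebraMap_apply A B L, ← hτ]
    exact e.symm_apply_apply (residue A a)
  obtain ⟨φ, hφ⟩ := exists_algHom_lift_residue A B ψ hψ
  refine ⟨φ, ?_⟩
  ext b
  rw [Ideal.mem_comap, ← residue_eq_zero_iff]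
  have h1 : residue A (φ.toRingHom b) = ψ b := congr($hφ b)
  rw [h1]
  simp only [ψ, RingHom.comp_apply]
  rw [← Ideal.algebraMap_residueField_eq_zero (I := q)]
  exact (map_eq_zero_iff _ e.symm.injective)


/-- The algebraic form of "every point of an étale `A`-scheme over the closed point lies
on a section". -/
def EtaleSectionProp (A : Type u) [CommRing A] [IsLocalRing A] : Prop :=
  ∀ (B : Type u) [CommRing B] [Algebra A B] [Algebra.Etale A B] (q : Ideal B) [q.IsPrime],
    q.comap (algebraMap A B) = maximalIdeal A →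
      ∃ φ : B →ₐ[A] A, (maximalIdeal A).comap φ.toRingHom = q

theorem exists_root_of_etaleSectionProp (A : Type u) [CommRing A] [IsLocalRing A]
    (H : EtaleSectionProp A) (p : A[X]) (hp : p.Monic) (L : Type u) [Field L] [Algebra A L]
    (hker : RingHom.ker (algebraMap A L) = maximalIdeal A)
    (α : L) (h0 : aeval α p = 0) (h1 : aeval α (derivative p) ≠ 0) :
    ∃ a : A, p.IsRoot a ∧ ∀ c : A, algebraMap A L c = α → a - c ∈ maximalIdeal A := by
  let P : StandardEtalePair A := ⟨p, hp, derivative p, ⟨1, 0, 1, by simp⟩⟩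
  have hmap : P.HasMap α := ⟨h0, isUnit_iff_ne_zero.mpr h1⟩
  let ψ₀ : P.Ring →ₐ[A] L := P.lift α hmap
  let q : Ideal P.Ring := RingHom.ker ψ₀.toRingHom
  have hqp : q.IsPrime := RingHom.ker_isPrime _
  have hq : q.comap (algebraMap A P.Ring) = maximalIdeal A := by
    rw [← hker]
    ext a
    simp only [q, Ideal.mem_comap, RingHom.mem_ker]
    change ψ₀ (algebraMap A P.Ring a) = 0 ↔ _
    rw [ψ₀.commutes]
  obtain ⟨φ, hφ⟩ := H P.Ring q hq
  refine ⟨φ P.X, ?_, ?_⟩
  · have := (StandardEtalePair.hasMap_X.map φ).1
    change aeval (φ P.X) p = 0 at this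
    rwa [coe_aeval_eq_eval] at this
  · intro c hc
    have hz : P.X - algebraMap A P.Ring c ∈ q := by
      simp only [q, RingHom.mem_ker]
      change ψ₀ (P.X - algebraMap A P.Ring c) = 0
      rw [map_sub, ψ₀.commutes, hc, StandardEtalePair.lift_X, sub_self]
    rw [← hφ, Ideal.mem_comap] at hz
    change φ (P.X - algebraMap A P.Ring c) ∈ _ at hz
    rwa [map_sub, φ.commutes] at hz

theorem henselianLocalRing_of_etaleSectionProp (A : Type u) [CommRing A] [IsLocalRing A]
    (H : EtaleSectionProp A) : HenselianLocalRing A := by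
  refine ((HenselianLocalRing.TFAE A).out 0 1).mpr ?_
  intro f hf a₀ h0 h1
  have hker : RingHom.ker (algebraMap A (ResidueField A)) = maximalIdeal A := by
    rw [ResidueField.algebraMap_eq]
    exact IsLocalRing.ker_residue
  obtain ⟨a, ha, hac⟩ := exists_root_of_etaleSectionProp A H f hf (ResidueField A) hker a₀ h0 h1
  obtain ⟨c, hc⟩ := residue_surjective a₀
  refine ⟨a, ha, ?_⟩
  have := hac c hc
  rw [← residue_eq_zero_iff, map_sub, sub_eq_zero] at this
  rw [this, hc]

theorem isSepClosed_of_etaleSectionProp (A : Type u) [CommRing A] [IsLocalRing A]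
    (H : EtaleSectionProp A) : IsSepClosed (ResidueField A) := by
  refine IsSepClosed.of_exists_root _ ?_
  intro pbar hmonic hirr hsep
  obtain ⟨p, hpmap, -, hpmonic⟩ := Polynomial.lifts_and_degree_eq_and_monic
    (f := residue A) ((Polynomial.mem_lifts _).mpr
      (Polynomial.map_surjective _ residue_surjective pbar)) hmonic
  have : Fact (Irreducible pbar) := ⟨hirr⟩
  let L := AdjoinRoot pbar
  let α : L := AdjoinRoot.root pbar
  have hker : RingHom.ker (algebraMap A L) = maximalIdeal A := by
    rw [IsScalarTower.algebraMap_eq A (ResidueField A) L, ← RingHom.comap_ker,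
      (RingHom.injective_iff_ker_eq_bot _).mp (algebraMap (ResidueField A) L).injective,
      ← RingHom.ker_eq_comap_bot, ResidueField.algebraMap_eq]
    exact IsLocalRing.ker_residue
  have haev : ∀ r : A[X], aeval α r = aeval α (r.map (residue A)) := by
    intro r
    rw [← ResidueField.algebraMap_eq, aeval_map_algebraMap]
  have h0 : aeval α p = 0 := by
    rw [haev, hpmap, AdjoinRoot.aeval_eq, AdjoinRoot.mk_self]
  have h1 : aeval α (derivative p) ≠ 0 := by
    rw [haev, ← derivative_map, hpmap]
    intro h
    obtain ⟨a, b, hab⟩ := hsep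
    have := congr(aeval α $hab)
    rw [map_add, map_mul, map_mul, h, AdjoinRoot.aeval_eq pbar, AdjoinRoot.mk_self, mul_zero,
      mul_zero, add_zero, map_one] at this
    exact zero_ne_one this
  obtain ⟨a, ha, -⟩ := exists_root_of_etaleSectionProp A H p hpmonic L hker α h0 h1
  refine ⟨residue A a, ?_⟩
  rw [← hpmap, Polynomial.eval_map, eval₂_hom, ha.eq_zero, map_zero]

/-- The scheme-theoretic section property implies the algebraic one. -/
theorem etaleSectionProp_of_scheme (A : Type u) [CommRing A] [IsLocalRing A]
    (H : ∀ (X : Scheme.{u}) (f : X ⟶ Spec (CommRingCat.of A)), Etale f →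
        ∀ x : X, f.base x = IsLocalRing.closedPoint A →
          ∃ u : Spec (CommRingCat.of A) ⟶ X, u ≫ f = 𝟙 _ ∧
            u.base (IsLocalRing.closedPoint A) = x) : EtaleSectionProp A := by
  intro B _ _ _ q _ hq
  let f : Spec (CommRingCat.of B) ⟶ Spec (CommRingCat.of A) :=
    Spec.map (CommRingCat.ofHom (algebraMap A B))
  have hf : Etale f := by
    rw [HasRingHomProperty.Spec_iff (P := @Etale)]
    exact RingHom.etale_algebraMap.mpr inferInstance
  let x : ↥(Spec (CommRingCat.of B)) := ⟨q, inferInstance⟩
  have hx : f.base x = IsLocalRing.closedPoint A := by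
    apply PrimeSpectrum.ext
    exact hq
  obtain ⟨u, hu1, hu2⟩ := H _ f hf x hx
  let φ₀ : CommRingCat.of B ⟶ CommRingCat.of A := Spec.preimage u
  have hφ₀ : Spec.map φ₀ = u := Spec.map_preimage u
  have hcomp : CommRingCat.ofHom (algebraMap A B) ≫ φ₀ = 𝟙 _ := by
    apply Spec.map_injective
    rw [Spec.map_comp, hφ₀, Spec.map_id]
    exact hu1
  let φ : B →ₐ[A] A :=
    { φ₀.hom with
      commutes' := fun a => congr($(hcomp).hom a) }
  refine ⟨φ, ?_⟩
  have := congr(($hu2).asIdeal)
  rw [← hφ₀] at this
  exact this

/-- A local ring is strictly henselian iff every point over the closed point of an étale scheme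
lies on a section. -/
theorem henselian_and_isSepClosed_iff_etale_sections (A : Type u) [CommRing A] [IsLocalRing A] :
    (HenselianLocalRing A ∧ IsSepClosed (IsLocalRing.ResidueField A)) ↔
      ∀ (X : Scheme.{u}) (f : X ⟶ Spec (CommRingCat.of A)), Etale f →
        ∀ x : X, f.base x = IsLocalRing.closedPoint A →
          ∃ u : Spec (CommRingCat.of A) ⟶ X, u ≫ f = 𝟙 _ ∧
            u.base (IsLocalRing.closedPoint A) = x := by
  constructor
  · rintro ⟨hA, hk⟩ X f hf x hx
    let 𝒰 := X.affineOpenCover
    obtain ⟨i, q, hq⟩ : ∃ (i : 𝒰.I₀) (q : ↥(Spec (𝒰.X i))), (𝒰.f i).base q = x :=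
      𝒰.openCover.exists_eq x
    let g : Spec (𝒰.X i) ⟶ Spec (CommRingCat.of A) := 𝒰.f i ≫ f
    have hgE : Etale g := inferInstance
    let φ₀ : CommRingCat.of A ⟶ 𝒰.X i := Spec.preimage g
    have hφ₀ : Spec.map φ₀ = g := Spec.map_preimage g
    have hφE : φ₀.hom.Etale := by
      rw [← hφ₀] at hgE
      exact (HasRingHomProperty.Spec_iff (P := @Etale)).mp hgE
    algebraize [φ₀.hom]
    have hE : Algebra.Etale A (𝒰.X i) := hφE
    have hqm : q.asIdeal.comap (algebraMap A (𝒰.X i)) = maximalIdeal A := by
      have h1 : g.base q = IsLocalRing.closedPoint A := by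
        rw [Scheme.Hom.comp_apply, hq, hx]
      rw [← hφ₀] at h1
      exact congr(($h1).asIdeal)
    obtain ⟨φ, hφ⟩ := exists_algHom_comap_eq_of_isSepClosed A (𝒰.X i) q.asIdeal hqm
    refine ⟨Spec.map (CommRingCat.ofHom φ.toRingHom) ≫ 𝒰.f i, ?_, ?_⟩
    · rw [Category.assoc]
      change Spec.map _ ≫ g = _
      rw [← hφ₀, ← Spec.map_comp, ← Spec.map_id]
      congr 1
      ext r
      exact φ.commutes r
    · rw [Scheme.Hom.comp_apply, ← hq]
      congr 1
      apply PrimeSpectrum.ext
      exact hφ
  · intro H
    have H' := etaleSectionProp_of_scheme A H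
    exact ⟨henselianLocalRing_of_etaleSectionProp A H', isSepClosed_of_etaleSectionProp A H'⟩

end Groth.Agent.H7
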