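import Mathlib
import Groth.Agent.H7.GeomPointsSemicont
import Groth.Agent.H7.GeomFibreBaseChange

set_option autoImplicit false
universe u

namespace Groth.Agent.H7

open AlgebraicGeometry CategoryTheory Limits MorphismProperty Topology

/-- For a locally quasi-finite morphism, the geometric fibres are discrete: points and connected
components agree. -/
theorem card_geomFiber_eq_nGeomConnComp {X Y : Scheme.{u}} (f : X ⟶ Y) [LocallyQuasiFinite f]
    (y : Y) : ENat.card ↥(MoreMor.geomFiber f y) = MoreMor.nGeomConnComp f y := by
  unfold MoreMor.nGeomConnComp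
  have : IsLocallyArtinian (MoreMor.geomFiber f y) := by
    unfold MoreMor.geomFiber
    have : LocallyQuasiFinite (f.fiberToSpecResidueField y) :=
      MorphismProperty.pullback_snd _ _ inferInstance
    exact IsLocallyArtinian.of_locallyQuasiFinite (pullback.snd _ _)
  refine ENat.card_congr (Equiv.ofBijective
    (_root_.ConnectedComponents.mk : ↥(MoreMor.geomFiber f y) → _)
    ⟨fun x y hxy ↦ ?_, _root_.ConnectedComponents.surjective_coe⟩)
  rw [_root_.ConnectedComponents.coe_eq_coe', connectedComponent_eq_singleton] at hxy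
  exact hxy

/-- Over a separably closed field, the number of primes of an étale algebra is its dimension. -/
theorem natCard_primeSpectrum_eq_finrank_of_etale (K A : Type u) [Field K] [IsSepClosed K]
    [CommRing A] [Algebra K A] [Algebra.Etale K A] :
    Finite (PrimeSpectrum A) ∧ Nat.card (PrimeSpectrum A) = Module.finrank K A := by
  have := Algebra.FormallyUnramified.finite_of_free K A
  have : IsArtinianRing A := isArtinian_of_tower K inferInstance
  have hfin : Finite (PrimeSpectrum A) := inferInstance
  refine ⟨hfin, ?_⟩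
  have := Fintype.ofFinite (PrimeSpectrum A)
  let e := Algebra.FormallyEtale.equivPiOfIsSepClosed K A
  rw [e.toLinearEquiv.finrank_eq, Module.finrank_fintype_fun_eq_card, Nat.card_eq_fintype_card]

/-- A finite étale scheme over a separably closed field has as many points as its degree. -/
theorem natCard_eq_finrank_of_finite_etale {P : Scheme.{u}} (K : Type u) [Field K] [IsSepClosed K]
    (π : P ⟶ Spec (CommRingCat.of K)) [IsFinite π] [Etale π] (pt : ↥(Spec (CommRingCat.of K))) :
    Finite ↥P ∧ Nat.card ↥P = π.finrank pt := by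
  have : IsAffine P := isAffine_of_isAffineHom π
  let φ : CommRingCat.of K ⟶ Γ(P, ⊤) := (Scheme.ΓSpecIso (CommRingCat.of K)).inv ≫ π.appTop
  have hπ : π = P.isoSpec.hom ≫ Spec.map φ := by
    have h1 := Scheme.isoSpec_hom_naturality π
    rw [Scheme.isoSpec_Spec_hom] at h1
    simp only [φ, Spec.map_comp]
    rw [reassoc_of% h1, ← Spec.map_comp, Iso.inv_hom_id, Spec.map_id, Category.comp_id]
  have hφe : Etale (Spec.map φ) := by
    have : Spec.map φ = P.isoSpec.inv ≫ π := by rw [hπ, Iso.inv_hom_id_assoc]
    rw [this]
    infer_instance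
  have hφf : IsFinite (Spec.map φ) := by
    have : Spec.map φ = P.isoSpec.inv ≫ π := by rw [hπ, Iso.inv_hom_id_assoc]
    rw [this]
    infer_instance
  have hφe' : φ.hom.Etale := HasRingHomProperty.Spec_iff.mp hφe
  have hφf' : φ.hom.Finite := (IsFinite.SpecMap_iff φ).mp hφf
  algebraize [φ.hom]
  have hcount := natCard_primeSpectrum_eq_finrank_of_etale K Γ(P, ⊤)
  have hfinP : Finite ↥P := by
    have : Finite ↥(Spec Γ(P, ⊤)) := hcount.1
    exact Finite.of_equiv _ P.isoSpec.hom.homeomorph.toEquiv.symm
  refine ⟨hfinP, ?_⟩
  have h2 : Nat.card ↥P = Nat.card (PrimeSpectrum Γ(P, ⊤)) :=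
    Nat.card_congr P.isoSpec.hom.homeomorph.toEquiv
  rw [h2, hcount.2]
  conv_rhs => rw [hπ]
  rw [Scheme.Hom.finrank_comp_left_of_isIso, Scheme.Hom.finrank_SpecMap_eq_finrank hφf'
    (RingHom.Etale.iff_flat_and_formallyUnramified.mp hφe').1]
  unfold RingHom.finrank
  rw [Module.rankAtStalk_eq_finrank_of_free]
  rfl

/-- For a finite étale morphism, the number of geometric points of a fibre is the degree. -/
theorem nGeomConnComp_eq_finrank_of_finite_etale {X Y : Scheme.{u}} (f : X ⟶ Y) [IsFinite f]
    [Etale f] (y : Y) : MoreMor.nGeomConnComp f y = (f.finrank y : ℕ∞) := by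
  rw [← card_geomFiber_eq_nGeomConnComp]
  have hP := isPullback_geomFiber f y
  have h1 : IsFinite (pullback.snd (f.fiberToSpecResidueField y) (Spec.map (CommRingCat.ofHom
      (algebraMap (Y.residueField y) (SeparableClosure (Y.residueField y)))))) :=
    MorphismProperty.of_isPullback (P := @IsFinite) hP inferInstance
  have h2 : Etale (pullback.snd (f.fiberToSpecResidueField y) (Spec.map (CommRingCat.ofHom
      (algebraMap (Y.residueField y) (SeparableClosure (Y.residueField y)))))) :=
    MorphismProperty.of_isPullback (P := @Etale) hP inferInstance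
  obtain ⟨hfin, hcard⟩ := natCard_eq_finrank_of_finite_etale
    (SeparableClosure (Y.residueField y)) (pullback.snd (f.fiberToSpecResidueField y)
      (Spec.map (CommRingCat.ofHom
      (algebraMap (Y.residueField y) (SeparableClosure (Y.residueField y))))))
    (geomPt (SeparableClosure (Y.residueField y)))
  have h3 : ENat.card ↥(MoreMor.geomFiber f y) = (Nat.card ↥(MoreMor.geomFiber f y) : ℕ∞) := by
    have : Finite ↥(MoreMor.geomFiber f y) := hfin
    exact ENat.card_eq_coe_natCard _
  rw [h3]
  have h4 : Nat.card ↥(MoreMor.geomFiber f y) = f.finrank y := by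
    refine hcard.trans ?_
    rw [Scheme.Hom.finrank_of_isPullback _ _ _ _ hP, Scheme.Hom.comp_apply,
      Scheme.fromSpecResidueField_apply]
  rw [h4]

/-- For a finite étale morphism, the number of geometric points of the fibres is locally
constant. -/
theorem isLocallyConstant_nGeomConnComp_of_finite_etale {X Y : Scheme.{u}} (f : X ⟶ Y)
    [IsFinite f] [Etale f] : IsLocallyConstant (fun y : Y ↦ MoreMor.nGeomConnComp f y) := by
  have h : (fun y : Y ↦ MoreMor.nGeomConnComp f y) = (fun n : ℕ ↦ (n : ℕ∞)) ∘ f.finrank := by
    ext y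
    exact nGeomConnComp_eq_finrank_of_finite_etale f y
  rw [h]
  exact (Scheme.Hom.isLocallyConstant_finrank f).comp _

end Groth.Agent.H7
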