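import Mathlib
import Groth.Agent.S9778
import Groth.Agent.H7.FiniteEtaleCount
import Groth.Agent.H7.GeomPointsSemicont
import Groth.Agent.H7.WeightingFubini
import Groth.Agent.H7.PurelyInsepSplit
import Groth.Agent.H7.WeightingOpen
import Groth.Prelude.Def_BigSite

set_option autoImplicit false
universe u

namespace Groth.Agent.H7

open AlgebraicGeometry CategoryTheory Limits MorphismProperty Topology

/-- A finite étale morphism is an isomorphism over the clopen locus where its rank is one. -/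
theorem exists_clopen_section_of_finite_etale {T P : Scheme.{u}} (ψ : T ⟶ P) [IsFinite ψ]
    [Etale ψ] (t₀ : T) (h1 : ψ.finrank (ψ t₀) = 1) :
    ∃ (W : P.Opens) (σ : (W : Scheme.{u}) ⟶ T), IsClosed (W : Set P) ∧ σ ≫ ψ = W.ι ∧
      t₀ ∈ Set.range σ := by
  have hlc : IsLocallyConstant ψ.finrank := Scheme.Hom.isLocallyConstant_finrank ψ
  let W : P.Opens := ⟨ψ.finrank ⁻¹' {1}, hlc.isOpen_fiber 1⟩
  have hWc : IsClosed (W : Set P) := (hlc.isClosed_fiber 1)
  let ρ := ψ ∣_ W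
  have hρF : IsFinite ρ := inferInstance
  have hρE : Etale ρ := inferInstance
  have hρr : ρ.finrank = 1 := by
    ext z
    have hpb : IsPullback (ψ ⁻¹ᵁ W).ι ρ ψ W.ι := (isPullback_morphismRestrict ψ W).flip
    rw [Scheme.Hom.finrank_of_isPullback _ _ _ _ hpb]
    exact z.2
  have hiso : IsIso ρ := (Scheme.Hom.isIso_iff_finrank_eq ρ).mpr hρr
  refine ⟨W, inv ρ ≫ (ψ ⁻¹ᵁ W).ι, hWc, ?_, ?_⟩
  · rw [Category.assoc, ← morphismRestrict_ι, IsIso.inv_hom_id_assoc]
  · have ht₀ : t₀ ∈ ψ ⁻¹ᵁ W := h1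
    refine ⟨ρ ⟨t₀, ht₀⟩, ?_⟩
    rw [Scheme.Hom.comp_apply, ← Scheme.Hom.comp_apply ρ (inv ρ), IsIso.hom_inv_id]
    rfl

/-- A finite étale morphism with a point `t₀` that is the only point of its fibre and has purely
inseparable (hence trivial) residue field extension has rank one at the image of `t₀`. -/
theorem finrank_eq_one_of_unique_of_sepDeg {T P : Scheme.{u}} (ψ : T ⟶ P) [IsFinite ψ]
    [Etale ψ] (t₀ : T) (huniq : ∀ t : T, ψ t = ψ t₀ → t = t₀) (hsep : sepDeg ψ t₀ = 1) :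
    ψ.finrank (ψ t₀) = 1 := by
  have h1 := nGeomConnComp_eq_finrank_of_finite_etale ψ (ψ t₀)
  have hfin : ∀ y, (ψ ⁻¹' {y}).Finite := fun y ↦ Scheme.Hom.finite_preimage_singleton ψ y
  have h2 := nGeomConnComp_eq_fibreIntegral_one ψ hfin (ψ t₀)
  rw [fibreIntegral_eq_finsum_mem] at h2
  have hset : ψ ⁻¹' {ψ t₀} = {t₀} := by
    ext t
    simp only [Set.mem_preimage, Set.mem_singleton_iff]
    exact ⟨huniq t, fun h ↦ by rw [h]⟩
  rw [hset, finsum_mem_singleton, hsep] at h2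
  rw [h1] at h2
  simpa using h2

/-- Condition (A) for separated locally quasi-finite morphisms. -/
theorem propA_of_separated_locallyQuasiFinite {X Y : Scheme.{u}} (f : X ⟶ Y) [IsSeparated f]
    [LocallyQuasiFinite f] [LocallyOfFiniteType f] : BigSite.PropA f := by
  intro U g _ u
  obtain ⟨U₀, hU₀, hu⟩ : ∃ V : U.Opens, IsAffineOpen V ∧ u ∈ V := by
    obtain ⟨_, ⟨V, hV, rfl⟩, hxV, -⟩ :=
      U.isBasis_affineOpens.exists_subset_of_mem_open (Set.mem_univ u) isOpen_univ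
    exact ⟨V, hV, hxV⟩
  let u₀ : ↥(U₀ : Scheme.{u}) := ⟨u, hu⟩
  let g' : (U₀ : Scheme.{u}) ⟶ X := U₀.ι ≫ g
  let f' : (U₀ : Scheme.{u}) ⟶ Y := g' ≫ f
  have : IsAffine (U₀ : Scheme.{u}) := hU₀
  have hsep' : IsSeparated f' := by
    have : IsSeparated (f' ≫ terminal.from Y) := by
      rw [terminal.comp_from]; infer_instance
    exact IsSeparated.of_comp f' (terminal.from Y)
  have hlqfg : LocallyQuasiFinite g' := locallyQuasiFinite_of_etale g'
  have hlqf' : LocallyQuasiFinite f' := inferInstance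
  have hlft' : LocallyOfFiniteType f' := inferInstance
  obtain ⟨V, c, v₀, hc, hcv, J, hJ, Q, q, hclopen, -, hQ, hcov⟩ :=
    Groth.Agent.S9778.result f' (f' u₀) (fun _ : Unit => u₀) (fun _ _ _ => Subsingleton.elim _ _)
      (fun _ => rfl) (fun _ => f'.quasiFiniteAt _)
  obtain ⟨w, hw1, hw2⟩ := Scheme.Pullback.exists_preimage_pullback u₀ v₀ hcv.symm
  obtain ⟨j, hwj⟩ := hcov w () hw2 hw1
  obtain ⟨hqmem, hQfin, hqv, hquniq, hqpi, hqfst⟩ := hQ () j
  -- the étale comparison morphism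
  let φ : pullback f' c ⟶ pullback f c :=
    (pullbackRightPullbackFstIso f c g').inv ≫ pullback.snd g' (pullback.fst f c)
  have hφ1 : φ ≫ pullback.snd f c = pullback.snd f' c :=
    by simp only [φ, Category.assoc]; exact pullbackRightPullbackFstIso_inv_snd_snd f c g'
  have hφ2 : φ ≫ pullback.fst f c = pullback.fst f' c ≫ g' :=
    by simp only [φ, Category.assoc]; exact pullbackRightPullbackFstIso_inv_snd_fst f c g'
  have hφE : Etale φ := inferInstance
  let T : Scheme.{u} := (Q () j : Scheme.{u})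
  let ψ : T ⟶ pullback f c := (Q () j).ι ≫ φ
  have hψ1 : ψ ≫ pullback.snd f c = (Q () j).ι ≫ pullback.snd f' c := by
    simp only [ψ, Category.assoc, hφ1]
  have hψF : IsFinite ψ := by
    have : IsFinite (ψ ≫ pullback.snd f c) := by rw [hψ1]; exact hQfin
    exact IsFinite.of_comp ψ (pullback.snd f c)
  have hψE : Etale ψ := inferInstance
  let t₀ : T := ⟨q () j, hqmem⟩
  have hsnd : ∀ t : T, pullback.snd f c (ψ t) = pullback.snd f' c ((Q () j).ι t) := by
    intro t
    rw [← Scheme.Hom.comp_apply, hψ1, Scheme.Hom.comp_apply]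
  have huniq : ∀ t : T, ψ t = ψ t₀ → t = t₀ := by
    intro t ht
    have h3 : pullback.snd f' c ((Q () j).ι t) = v₀ := by
      rw [← hsnd t, ht, hsnd t₀]; exact hqv
    have h4 := hquniq ((Q () j).ι t) t.2 h3
    exact Subtype.ext h4
  have hsepD : sepDeg ψ t₀ = 1 := by
    have hint : (ψ.residueFieldMap t₀).hom.IsIntegral :=
      RingHom.IsIntegral.of_finite (finite_residueFieldMap_of_quasiFiniteAt ψ t₀ (ψ.quasiFiniteAt t₀))
    have h5 := sepDeg_comp ψ (pullback.snd f c) t₀ hint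
    have h6 : sepDeg (ψ ≫ pullback.snd f c) t₀ = 1 := by
      rw [hψ1, sepDeg_comp_of_isOpenImmersion]
      exact sepDeg_eq_one_of_isPurelyInseparable _ _ hqpi
    rw [h6] at h5
    exact Nat.eq_one_of_mul_eq_one_left h5.symm
  have hrank := finrank_eq_one_of_unique_of_sepDeg ψ t₀ huniq hsepD
  obtain ⟨W, σ, hWc, hσ, hσt⟩ := exists_clopen_section_of_finite_etale ψ t₀ hrank
  refine ⟨V, c, hc, W, hWc, σ ≫ (Q () j).ι ≫ pullback.fst f' c ≫ U₀.ι, ?_, ?_⟩
  · have : (Q () j).ι ≫ pullback.fst f' c ≫ U₀.ι ≫ g = ψ ≫ pullback.fst f c := by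
      simp only [ψ, Category.assoc, hφ2, g']
    rw [Category.assoc, Category.assoc, Category.assoc, this, ← Category.assoc, hσ]
  · obtain ⟨z, hz⟩ := hσt
    refine ⟨z, ?_⟩
    rw [Scheme.Hom.comp_apply, hz, Scheme.Hom.comp_apply, Scheme.Hom.comp_apply]
    have : (Q () j).ι t₀ = q () j := rfl
    rw [this, hqfst]
    rfl

end Groth.Agent.H7
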