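import Mathlib
import Groth.Agent.H7.PropA

set_option autoImplicit false
universe u

namespace Groth.Agent.H7

open AlgebraicGeometry CategoryTheory Limits MorphismProperty Topology

/-- Points of a pullback square surject onto the set-theoretic fibre product. -/
theorem exists_preimage_of_isPullback' {A X Y Z : Scheme.{u}} {fst : A ⟶ X} {snd : A ⟶ Y}
    {f : X ⟶ Z} {g : Y ⟶ Z} (h : IsPullback fst snd f g) (x : X) (y : Y)
    (hxy : f x = g y) : ∃ a : A, fst a = x ∧ snd a = y := by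
  have : HasPullback f g := h.hasPullback
  obtain ⟨z, hz1, hz2⟩ := Scheme.Pullback.exists_preimage_pullback (f := f) (g := g) x y hxy
  refine ⟨h.isoPullback.inv z, ?_, ?_⟩
  · rw [← Scheme.Hom.comp_apply, h.isoPullback_inv_fst]; exact hz1
  · rw [← Scheme.Hom.comp_apply, h.isoPullback_inv_snd]; exact hz2

/-- Transfer of condition (A) along a base change of an étale chart: if `f = π ≫ f₀`, `f₀`
satisfies (A), and `T = X ×_{X₀} U₀` for an étale `g₀ : U₀ ⟶ X₀`, then every point of `T` is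
reached by an `X`-morphism from a clopen of `X ×_Y V` for some étale `V ⟶ Y`. -/
theorem propA_transfer {X X₀ Y U₀ T : Scheme.{u}} (f : X ⟶ Y) (f₀ : X₀ ⟶ Y) (π : X ⟶ X₀)
    (hf : f = π ≫ f₀) (g₀ : U₀ ⟶ X₀) [Etale g₀] (a : T ⟶ X) (b : T ⟶ U₀)
    (hT : IsPullback a b π g₀) (hA : BigSite.PropA f₀) (t : T) :
    ∃ (V : Scheme.{u}) (v : V ⟶ Y) (_ : Etale v) (W : (pullback f v).Opens)
      (_ : IsClosed (W : Set ↥(pullback f v))) (h : (W : Scheme.{u}) ⟶ T),
      h ≫ a = W.ι ≫ pullback.fst f v ∧ t ∈ Set.range h := by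
  subst hf
  obtain ⟨V, v, hv, W₀, hW₀, h₀, hcomm₀, w₀, hw₀⟩ := hA U₀ g₀ (b t)
  let θ : pullback (π ≫ f₀) v ⟶ pullback f₀ v :=
    pullback.map (π ≫ f₀) v f₀ v π (𝟙 V) (𝟙 Y) (by simp) (by simp)
  have hθ1 : θ ≫ pullback.fst f₀ v = pullback.fst (π ≫ f₀) v ≫ π := pullback.lift_fst _ _ _
  have hθ2 : θ ≫ pullback.snd f₀ v = pullback.snd (π ≫ f₀) v := by
    simp only [θ, pullback.map, pullback.lift_snd, Category.comp_id]
  have S2 : IsPullback θ (pullback.fst (π ≫ f₀) v) (pullback.fst f₀ v) π := by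
    refine IsPullback.of_right ?_ hθ1 (IsPullback.of_hasPullback f₀ v).flip
    rw [hθ2]
    exact (IsPullback.of_hasPullback (π ≫ f₀) v).flip
  let W : (pullback (π ≫ f₀) v).Opens := θ ⁻¹ᵁ W₀
  have S3 : IsPullback (θ ∣_ W₀) W.ι W₀.ι θ := isPullback_morphismRestrict θ W₀
  have S4 : IsPullback (θ ∣_ W₀) (W.ι ≫ pullback.fst (π ≫ f₀) v) (h₀ ≫ g₀) π := by
    rw [hcomm₀]
    exact S3.paste_vert S2
  let h : (W : Scheme.{u}) ⟶ T := hT.lift (W.ι ≫ pullback.fst (π ≫ f₀) v) ((θ ∣_ W₀) ≫ h₀)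
    (by have := S4.w; simp only [Category.assoc] at this ⊢; exact this.symm)
  have hh1 : h ≫ a = W.ι ≫ pullback.fst (π ≫ f₀) v := hT.lift_fst _ _ _
  have hh2 : h ≫ b = (θ ∣_ W₀) ≫ h₀ := hT.lift_snd _ _ _
  have S5 : IsPullback (θ ∣_ W₀) h h₀ b := by
    refine IsPullback.of_bot ?_ hh2.symm hT.flip
    rw [hh1]
    exact S4
  obtain ⟨w, -, hw⟩ := exists_preimage_of_isPullback' S5 w₀ t hw₀
  exact ⟨V, v, hv, W, hW₀.preimage θ.continuous, h, hh1, w, hw⟩

/-- Condition (A) is local on the target (and invariant under isomorphism of arrows). -/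
theorem propA_of_local {X Y : Scheme.{u}} (f : X ⟶ Y)
    (H : ∀ y : Y, ∃ (Y' X' : Scheme.{u}) (ι : Y' ⟶ Y) (j : X' ⟶ X) (f' : X' ⟶ Y'),
      IsOpenImmersion ι ∧ y ∈ Set.range ι ∧ IsPullback j f' f ι ∧ BigSite.PropA f') :
    BigSite.PropA f := by
  intro U g _ u
  obtain ⟨Y', X', ι, j, f', hι, ⟨y', hy'⟩, hpb, hA⟩ := H (f (g u))
  obtain ⟨x', hx', -⟩ := exists_preimage_of_isPullback' hpb (g u) y' hy'.symm
  have hj : IsOpenImmersion j := MorphismProperty.of_isPullback hpb.flip hι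
  obtain ⟨u', hu'1, hu'2⟩ := Scheme.Pullback.exists_preimage_pullback (f := g) (g := j) u x' hx'.symm
  obtain ⟨V, v, hv, W, hW, h, hcomm, w, hw⟩ := hA (pullback g j) (pullback.snd g j) u'
  have hκ : IsPullback (pullback.fst f' v ≫ j) (pullback.snd f' v) f (v ≫ ι) :=
    ((IsPullback.of_hasPullback f' v).flip.paste_vert hpb.flip).flip
  let κ : pullback f' v ≅ pullback f (v ≫ ι) := hκ.isoPullback
  have hκ1 : κ.hom ≫ pullback.fst f (v ≫ ι) = pullback.fst f' v ≫ j := hκ.isoPullback_hom_fst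
  let W' : (pullback f (v ≫ ι)).Opens := κ.hom ''ᵁ W
  have hW' : IsClosed (W' : Set ↥(pullback f (v ≫ ι))) := by
    have : (W' : Set ↥(pullback f (v ≫ ι))) = κ.hom '' (W : Set ↥(pullback f' v)) := rfl
    rw [this]
    exact (κ.hom.homeomorph).isClosedMap _ hW
  refine ⟨V, v ≫ ι, inferInstance, W', hW', (κ.hom.isoImage W).inv ≫ h ≫ pullback.fst g j, ?_, ?_⟩
  · rw [Category.assoc, Category.assoc, pullback.condition, reassoc_of% hcomm, ← hκ1,
      ← Scheme.Hom.isoImage_inv_ι_assoc]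
  · refine ⟨(κ.hom.isoImage W).hom w, ?_⟩
    rw [← Scheme.Hom.comp_apply, Iso.hom_inv_id_assoc, Scheme.Hom.comp_apply, hw, hu'1]

open TensorProduct in
/-- Condition (A) for the spectrum of an integral ring map. -/
theorem propA_SpecMap_of_isIntegral {A B : CommRingCat.{u}} (φ : A ⟶ B) (hφ : φ.hom.IsIntegral) :
    BigSite.PropA (Spec.map φ) := by
  intro U g _ u
  obtain ⟨U₁, hU₁, hu⟩ : ∃ V : U.Opens, IsAffineOpen V ∧ u ∈ V := by
    obtain ⟨_, ⟨V, hV, rfl⟩, hxV, -⟩ :=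
      U.isBasis_affineOpens.exists_subset_of_mem_open (Set.mem_univ u) isOpen_univ
    exact ⟨V, hV, hxV⟩
  let γ : B ⟶ Γ(U, U₁) := Spec.preimage (hU₁.fromSpec ≫ g)
  have hγ : Spec.map γ = hU₁.fromSpec ≫ g := Spec.map_preimage _
  have hγE : γ.hom.Etale := by
    rw [← HasRingHomProperty.Spec_iff (P := @Etale), hγ]
    infer_instance
  algebraize [φ.hom, γ.hom]
  have : Algebra.IsIntegral A B := ⟨hφ⟩
  obtain ⟨B₀, C₀, _, _, hfg, het, ⟨e⟩⟩ := Algebra.Etale.exists_subalgebra_fg A B Γ(U, U₁)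
  have : Algebra.FiniteType A B₀ := (Subalgebra.fg_iff_finiteType B₀).mp hfg
  have : Algebra.IsIntegral A B₀ := Algebra.IsIntegral.of_injective B₀.val Subtype.val_injective
  have hfin : Module.Finite A B₀ := Algebra.IsIntegral.finite
  let f₀ : Spec (.of B₀) ⟶ Spec A := Spec.map (CommRingCat.ofHom (algebraMap A B₀))
  let π : Spec B ⟶ Spec (.of B₀) := Spec.map (CommRingCat.ofHom (algebraMap B₀ B))
  let g₀ : Spec (.of C₀) ⟶ Spec (.of B₀) := Spec.map (CommRingCat.ofHom (algebraMap B₀ C₀))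
  let a : Spec (.of (B ⊗[B₀] C₀)) ⟶ Spec B :=
    Spec.map (CommRingCat.ofHom (Algebra.TensorProduct.includeLeftRingHom))
  let b : Spec (.of (B ⊗[B₀] C₀)) ⟶ Spec (.of C₀) :=
    Spec.map (CommRingCat.ofHom (Algebra.TensorProduct.includeRight (R := B₀) (A := B) (B := C₀)).toRingHom)
  have hT : IsPullback a b π g₀ :=
    isPullback_SpecMap_of_isPushout _ _ _ _ (CommRingCat.isPushout_tensorProduct B₀ B C₀)
  have hf : Spec.map φ = π ≫ f₀ := by
    simp only [π, f₀, ← Spec.map_comp]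
    congr 1
  have hf₀F : IsFinite f₀ := by
    rw [IsFinite.SpecMap_iff]
    exact RingHom.finite_algebraMap.mpr hfin
  have hg₀E : Etale g₀ := by
    rw [HasRingHomProperty.Spec_iff (P := @Etale)]
    exact RingHom.etale_algebraMap.mpr het
  have hA₀ : BigSite.PropA f₀ := propA_of_separated_locallyQuasiFinite f₀
  let p : Spec Γ(U, U₁) := hU₁.primeIdealOf ⟨u, hu⟩
  have hp : hU₁.fromSpec p = u := hU₁.fromSpec_primeIdealOf ⟨u, hu⟩
  let k : Spec (.of (B ⊗[B₀] C₀)) ⟶ U := Spec.map (CommRingCat.ofHom e.toRingHom) ≫ hU₁.fromSpec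
  let t : Spec (.of (B ⊗[B₀] C₀)) := Spec.map (CommRingCat.ofHom e.symm.toRingHom) p
  have hkt : k t = u := by
    simp only [k, t, Scheme.Hom.comp_apply]
    rw [← Scheme.Hom.comp_apply (Spec.map _) (Spec.map _), ← Spec.map_comp]
    have : CommRingCat.ofHom e.toRingHom ≫ CommRingCat.ofHom e.symm.toRingHom = 𝟙 _ := by
      ext x
      exact e.symm_apply_apply x
    rw [this, Spec.map_id]
    exact hp
  have hka : k ≫ g = a := by
    simp only [k, Category.assoc, ← hγ, a, ← Spec.map_comp]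
    congr 1
    ext x
    exact e.commutes x
  obtain ⟨V, v, hv, W, hW, h, hcomm, hrange⟩ := propA_transfer (Spec.map φ) f₀ π hf g₀ a b hT hA₀ t
  refine ⟨V, v, hv, W, hW, h ≫ k, ?_, ?_⟩
  · rw [Category.assoc, hka, hcomm]
  · obtain ⟨w, hw⟩ := hrange
    exact ⟨w, by rw [Scheme.Hom.comp_apply, hw, hkt]⟩

/-- Condition (A) for integral morphisms between affine schemes. -/
theorem propA_of_isIntegralHom_of_isAffine {X Y : Scheme.{u}} (f : X ⟶ Y) [IsIntegralHom f]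
    [IsAffine X] [IsAffine Y] : BigSite.PropA f := by
  apply propA_of_local
  intro y
  have h1 : IsIntegralHom (Spec.map f.appTop) :=
    (MorphismProperty.arrow_mk_iso_iff @IsIntegralHom (arrowIsoSpecΓOfIsAffine f)).mp inferInstance
  refine ⟨Spec Γ(Y, ⊤), Spec Γ(X, ⊤), Y.isoSpec.inv, X.isoSpec.inv, Spec.map f.appTop, inferInstance,
    ⟨Y.isoSpec.hom y, by rw [← Scheme.Hom.comp_apply, Iso.hom_inv_id]; rfl⟩, ?_, ?_⟩
  · exact IsPullback.of_horiz_isIso ⟨(Scheme.isoSpec_inv_naturality f).symm⟩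
  · exact propA_SpecMap_of_isIntegral _ (IsIntegralHom.SpecMap_iff.mp h1)

/-- Condition (A) for integral morphisms. -/
theorem propA_of_isIntegralHom {X Y : Scheme.{u}} (f : X ⟶ Y) [IsIntegralHom f] :
    BigSite.PropA f := by
  apply propA_of_local
  intro y
  obtain ⟨Y₀, hY₀, hy⟩ : ∃ V : Y.Opens, IsAffineOpen V ∧ y ∈ V := by
    obtain ⟨_, ⟨V, hV, rfl⟩, hxV, -⟩ :=
      Y.isBasis_affineOpens.exists_subset_of_mem_open (Set.mem_univ y) isOpen_univ
    exact ⟨V, hV, hxV⟩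
  have : IsAffine (Y₀ : Scheme.{u}) := hY₀
  have : IsAffine ((f ⁻¹ᵁ Y₀ : X.Opens) : Scheme.{u}) := hY₀.preimage f
  refine ⟨Y₀, (f ⁻¹ᵁ Y₀ : X.Opens), Y₀.ι, (f ⁻¹ᵁ Y₀).ι, f ∣_ Y₀, inferInstance, ⟨⟨y, hy⟩, rfl⟩,
    (isPullback_morphismRestrict f Y₀).flip, propA_of_isIntegralHom_of_isAffine _⟩

end Groth.Agent.H7
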