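import Mathlib
import Groth.Prelude.Def_MoreMor

/-!
# fpqc descent of quasi-affineness (helpers for S1401)
-/

namespace Groth.Agent.H7

open AlgebraicGeometry CategoryTheory Limits TopologicalSpace MorphismProperty

universe u

/-- Quasi-separatedness descends along surjective quasi-compact morphisms. -/
theorem quasiSeparatedSpace_of_surjective_quasiCompact {P T : Scheme.{u}} (p : P ⟶ T)
    [Surjective p] [QuasiCompact p] [QuasiSeparatedSpace P] : QuasiSeparatedSpace T := by
  rw [quasiSeparatedSpace_iff_forall_affineOpens]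
  intro U V
  have hU : IsCompact ((p ⁻¹ᵁ U.1 : P.Opens) : Set P) :=
    QuasiCompact.isCompact_preimage (f := p) _ U.1.2 U.2.isCompact
  have hV : IsCompact ((p ⁻¹ᵁ V.1 : P.Opens) : Set P) :=
    QuasiCompact.isCompact_preimage (f := p) _ V.1.2 V.2.isCompact
  have hUV := QuasiSeparatedSpace.inter_isCompact _ _ (p ⁻¹ᵁ U.1).2 hU (p ⁻¹ᵁ V.1).2 hV
  have himg : (p : P → T) '' (((p ⁻¹ᵁ U.1 : P.Opens) : Set P) ∩ ((p ⁻¹ᵁ V.1 : P.Opens) : Set P)) =
      (U.1 : Set T) ∩ (V.1 : Set T) := by
    ext y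
    constructor
    · rintro ⟨x, ⟨hxU, hxV⟩, rfl⟩
      exact ⟨hxU, hxV⟩
    · rintro ⟨hyU, hyV⟩
      obtain ⟨x, rfl⟩ := p.surjective y
      exact ⟨x, ⟨hyU, hyV⟩, rfl⟩
  rw [← himg]
  exact hUV.image p.continuous

end Groth.Agent.H7

namespace Groth.Agent.H7

open AlgebraicGeometry CategoryTheory Limits TopologicalSpace MorphismProperty

universe u

/-- Quasi-affineness descends along a faithfully flat morphism of affine schemes. -/
theorem isQuasiAffine_of_isPullback_of_flat_surjective {S S' T P : Scheme.{u}} [IsAffine S]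
    [IsAffine S'] (g : S' ⟶ S) [Flat g] [Surjective g] (t : T ⟶ S) (p₁ : P ⟶ T) (p₂ : P ⟶ S')
    (H : IsPullback p₁ p₂ t g) [CompactSpace T] [P.IsQuasiAffine] : T.IsQuasiAffine := by
  have hqc : QuasiCompact g := inferInstance
  have hsurj : Surjective g := inferInstance
  have hflat : Flat g := inferInstance
  have : Surjective p₁ := MorphismProperty.of_isPullback H.flip hsurj
  have : QuasiCompact p₁ := MorphismProperty.of_isPullback H.flip hqc
  have : QuasiSeparatedSpace T := quasiSeparatedSpace_of_surjective_quasiCompact p₁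
  -- flat base change of global sections
  have hiso := isIso_pushoutSection_of_isQuasiSeparated_of_flat_right H
    (US := ⊤) (UT := ⊤) (UX := ⊤) (UY := ⊤) le_top le_top (by simp)
    (isAffineOpen_top S) (isAffineOpen_top S') isCompact_univ isQuasiSeparated_univ
  have hpo := (isIso_pushoutSection_iff H (US := ⊤) (UT := ⊤) (UX := ⊤) (UY := ⊤)
    le_top le_top (by simp)).mp hiso
  have e₁ : ∀ {X Y : Scheme.{u}} (f : X ⟶ Y) (e : (⊤ : X.Opens) ≤ f ⁻¹ᵁ ⊤),
      f.appLE ⊤ ⊤ e = f.appTop := fun f e ↦ by simp [Scheme.Hom.appLE, Scheme.Hom.appTop]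
  simp only [e₁] at hpo
  -- the right square of spectra
  have hright : IsPullback (Spec.map p₂.appTop) (Spec.map p₁.appTop) (Spec.map g.appTop)
      (Spec.map t.appTop) := hpo.op.map Scheme.Spec
  -- the outer rectangle
  have hiso' : IsPullback S'.toSpecΓ g (Spec.map g.appTop) S.toSpecΓ :=
    .of_horiz_isIso ⟨(Scheme.toSpecΓ_naturality g).symm⟩
  have houter := H.flip.paste_horiz hiso'
  rw [Scheme.toSpecΓ_naturality, Scheme.toSpecΓ_naturality] at houter
  have hleft : IsPullback P.toSpecΓ p₁ (Spec.map p₁.appTop) T.toSpecΓ :=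
    .of_right houter (Scheme.toSpecΓ_naturality p₁).symm hright
  -- `Spec Γ(P) ⟶ Spec Γ(T)` is fpqc
  have hQg : (@Surjective ⊓ @Flat ⊓ @QuasiCompact : MorphismProperty Scheme.{u})
      (Spec.map g.appTop) := by
    rw [← (@Surjective ⊓ @Flat ⊓ @QuasiCompact :
      MorphismProperty Scheme.{u}).cancel_left_of_respectsIso S'.toSpecΓ,
      ← Scheme.toSpecΓ_naturality,
      (@Surjective ⊓ @Flat ⊓ @QuasiCompact :
      MorphismProperty Scheme.{u}).cancel_right_of_respectsIso]
    exact ⟨⟨hsurj, hflat⟩, hqc⟩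
  have hQ : (@Surjective ⊓ @Flat ⊓ @QuasiCompact : MorphismProperty Scheme.{u})
      (Spec.map p₁.appTop) := MorphismProperty.of_isPullback hright hQg
  have hopen : IsOpenImmersion T.toSpecΓ :=
    MorphismProperty.of_isPullback_of_descendsAlong (P := @IsOpenImmersion)
      (Q := @Surjective ⊓ @Flat ⊓ @QuasiCompact) hleft hQ inferInstance
  exact ⟨⟩

end Groth.Agent.H7
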