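import Mathlib
import Groth.Prelude.Def_MoreMor

/-!
# Ind-quasi-affine morphisms (helpers for S1396–S1400)
-/

namespace Groth.Agent.H7

open AlgebraicGeometry CategoryTheory Limits TopologicalSpace

universe u

/-- A quasi-compact scheme covered by quasi-affine basic opens of global sections is
quasi-affine. -/
theorem isQuasiAffine_of_forall_exists_mem_basicOpen_isQuasiAffine (X : Scheme.{u}) [CompactSpace X]
    (H : ∀ x : X, ∃ s : Γ(X, ⊤), x ∈ X.basicOpen s ∧
      Scheme.IsQuasiAffine (X.basicOpen s : Scheme.{u})) : X.IsQuasiAffine := by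
  have hqs : QuasiSeparatedSpace X := by
    choose s hxs hs using H
    refine .of_isOpenCover (U := (X.basicOpen <| s ·))
      (eq_top_iff.mpr fun x _ ↦ Opens.mem_iSup.mpr ⟨x, hxs x⟩)
      (fun _ ↦ isRetrocompact_basicOpen _) (fun x ↦ ?_)
    have := hs x
    have hq : QuasiSeparatedSpace ↥(X.basicOpen (s x) : Scheme.{u}) := inferInstance
    exact (isQuasiSeparated_iff_quasiSeparatedSpace _ (X.basicOpen (s x)).2).mpr hq
  refine .of_forall_exists_mem_basicOpen X fun x ↦ ?_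
  obtain ⟨s, hxs, hs⟩ := H x
  obtain ⟨_, ⟨_, ⟨t, ht, rfl⟩, rfl⟩, hxt, -⟩ :=
    (Scheme.IsQuasiAffine.isBasis_basicOpen (X.basicOpen s : Scheme.{u})).exists_subset_of_mem_open
      (Set.mem_univ (⟨x, hxs⟩ : X.basicOpen s)) isOpen_univ
  obtain ⟨n, y, hy⟩ := exists_eq_pow_mul_of_isCompact_of_isQuasiSeparated X ⊤ isCompact_univ
    isQuasiSeparated_univ s ((X.basicOpen s).topIso.hom t)
  have himg : (X.basicOpen s).ι ''ᵁ (X.basicOpen s).toScheme.basicOpen t =
      X.basicOpen ((X.basicOpen s).topIso.hom t) := by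
    have h1 := Scheme.Opens.ι_image_basicOpen_topIso_inv (U := X.basicOpen s)
      ((X.basicOpen s).topIso.hom t)
    have h2 : (X.basicOpen s).topIso.inv ((X.basicOpen s).topIso.hom t) = t :=
      Iso.hom_inv_id_apply _ _
    rw [h2] at h1
    exact h1
  have hr : X.basicOpen (y * s) = X.basicOpen ((X.basicOpen s).topIso.hom t) := by
    have hunit : IsUnit ((s |_ X.basicOpen s) ^ n) :=
      (RingedSpace.isUnit_res_basicOpen _ s).pow n
    have h1 : X.basicOpen (y |_ X.basicOpen s) = X.basicOpen s ⊓ X.basicOpen y :=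
      Scheme.basicOpen_res _ _ _
    rw [hy, Scheme.basicOpen_mul, Scheme.basicOpen_of_isUnit _ hunit] at h1
    rw [Scheme.basicOpen_mul, inf_comm, ← h1]
    exact inf_eq_right.mpr (X.basicOpen_le _)
  refine ⟨y * s, ?_, ?_⟩
  · rw [hr, ← himg]
    exact ht.image_of_isOpenImmersion _
  · rw [hr, ← himg]
    exact ⟨⟨x, hxs⟩, hxt, rfl⟩

/-- The image in `Y` of a basic open of the open subscheme `V`. -/
theorem ι_image_basicOpen_eq {Y : Scheme.{u}} (V : Y.Opens) (t : Γ(V.toScheme, ⊤)) :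
    V.ι ''ᵁ V.toScheme.basicOpen t = Y.basicOpen (V.topIso.hom t) := by
  have h1 := Scheme.Opens.ι_image_basicOpen_topIso_inv (U := V) (V.topIso.hom t)
  have h2 : V.topIso.inv (V.topIso.hom t) = t := Iso.hom_inv_id_apply _ _
  rw [h2] at h1
  exact h1

/-- Quasi-affineness transports along isomorphisms. -/
theorem isQuasiAffine_of_iso {X Y : Scheme.{u}} (e : X ≅ Y) [Y.IsQuasiAffine] : X.IsQuasiAffine := by
  have : CompactSpace X := e.inv.homeomorph.compactSpace
  exact .of_isImmersion e.hom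

/-- Ind-quasi-affine schemes in terms of open immersions from quasi-compact schemes. -/
theorem isIndQuasiAffine_iff (X : Scheme.{u}) :
    MoreMor.IsIndQuasiAffine X ↔
      ∀ {T : Scheme.{u}} (j : T ⟶ X) [IsOpenImmersion j] [CompactSpace T], T.IsQuasiAffine := by
  constructor
  · intro H T j _ _
    have hc : IsCompact (j.opensRange : Set X) := by
      simpa using isCompact_range j.continuous
    have := H j.opensRange hc
    exact isQuasiAffine_of_iso j.isoOpensRange
  · intro H U hU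
    have : CompactSpace U := isCompact_iff_compactSpace.mp hU
    exact H U.ι

/-- Ind-quasi-affine morphisms in terms of open immersions from quasi-compact schemes. -/
theorem isIndQuasiAffineHom_iff {X Y : Scheme.{u}} (f : X ⟶ Y) :
    MoreMor.IsIndQuasiAffineHom f ↔
      ∀ {T : Scheme.{u}} (j : T ⟶ X) [IsOpenImmersion j] [CompactSpace T] (V : Y.Opens),
        IsAffineOpen V → (∀ x : T, f (j x) ∈ V) → T.IsQuasiAffine := by
  constructor
  · intro H T j _ _ V hV hj
    have hr : Set.range j ⊆ Set.range (f ⁻¹ᵁ V).ι := by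
      rintro _ ⟨x, rfl⟩
      simpa using hj x
    have : IsOpenImmersion (IsOpenImmersion.lift (f ⁻¹ᵁ V).ι j hr ≫ (f ⁻¹ᵁ V).ι) := by
      rw [IsOpenImmersion.lift_fac]; infer_instance
    have : IsOpenImmersion (IsOpenImmersion.lift (f ⁻¹ᵁ V).ι j hr) :=
      .of_comp _ (f ⁻¹ᵁ V).ι
    exact (isIndQuasiAffine_iff _).mp (H V hV) (IsOpenImmersion.lift (f ⁻¹ᵁ V).ι j hr)
  · intro H V hV
    rw [isIndQuasiAffine_iff]
    intro T j _ _
    refine H (j ≫ (f ⁻¹ᵁ V).ι) V hV fun x ↦ ?_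
    have h2 : ((f ⁻¹ᵁ V).ι (j x)) ∈ f ⁻¹ᵁ V := (j x).2
    rw [Scheme.Hom.comp_apply]
    exact h2

/-- A quasi-compact scheme mapping to `Y` inside an open `V`, covered by quasi-affine preimages of
basic opens of sections over `V`, is quasi-affine. -/
theorem isQuasiAffine_of_forall_exists_preimage_basicOpen {T Y : Scheme.{u}} [CompactSpace T]
    (h : T ⟶ Y) (V : Y.Opens) (hV : ∀ x : T, h x ∈ V)
    (H : ∀ x : T, ∃ r : Γ(Y, V), h x ∈ Y.basicOpen r ∧
      Scheme.IsQuasiAffine (h ⁻¹ᵁ Y.basicOpen r : Scheme.{u})) : T.IsQuasiAffine := by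
  have hle : (⊤ : T.Opens) ≤ h ⁻¹ᵁ V := fun x _ ↦ hV x
  refine isQuasiAffine_of_forall_exists_mem_basicOpen_isQuasiAffine T fun x ↦ ?_
  obtain ⟨r, hxr, hq⟩ := H x
  have e : T.basicOpen (h.appLE V ⊤ hle r) = h ⁻¹ᵁ Y.basicOpen r := by
    rw [Scheme.basicOpen_appLE, top_inf_eq]
  refine ⟨h.appLE V ⊤ hle r, ?_, ?_⟩
  · rw [e]; exact hxr
  · rw [e]; exact hq

/-- The preimage of a basic open under a morphism from a quasi-compact scheme is quasi-compact. -/
theorem compactSpace_preimage_basicOpen {T Y : Scheme.{u}} [CompactSpace T]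
    (h : T ⟶ Y) (V : Y.Opens) (hV : ∀ x : T, h x ∈ V) (r : Γ(Y, V)) :
    CompactSpace (h ⁻¹ᵁ Y.basicOpen r : Scheme.{u}) := by
  have hle : (⊤ : T.Opens) ≤ h ⁻¹ᵁ V := fun x _ ↦ hV x
  have e : T.basicOpen (h.appLE V ⊤ hle r) = h ⁻¹ᵁ Y.basicOpen r := by
    rw [Scheme.basicOpen_appLE, top_inf_eq]
  rw [← e]
  refine isCompact_iff_compactSpace.mp ?_
  have := isRetrocompact_basicOpen (h.appLE V ⊤ hle r) isCompact_univ isOpen_univ
  simpa using this

end Groth.Agent.H7

namespace Groth.Agent.H7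

open AlgebraicGeometry CategoryTheory Limits TopologicalSpace

universe u

/-- In a pullback square `X' = X ×_S S'`, a quasi-compact scheme immersed in `X'` that lands in a
quasi-affine open `U₀` of `X` and an affine open `D` of `S'`, both lying over an affine open `W` of
`S`, is quasi-affine. -/
theorem isQuasiAffine_of_isPullback_of_isImmersion {X S X' S' : Scheme.{u}} {f : X ⟶ S}
    {f' : X' ⟶ S'} {g' : X' ⟶ X} {g : S' ⟶ S} (hc : IsPullback g' f' f g)
    (U₀ : X.Opens) [U₀.toScheme.IsQuasiAffine] (W : S.Opens) (hW : IsAffineOpen W)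
    (D : S'.Opens) (hD : IsAffineOpen D) (hU₀W : U₀ ≤ f ⁻¹ᵁ W) (hDW : D ≤ g ⁻¹ᵁ W)
    {T : Scheme.{u}} [CompactSpace T] (i : T ⟶ X') [IsImmersion i]
    (h1 : ∀ y : T, g' (i y) ∈ U₀) (h2 : ∀ y : T, f' (i y) ∈ D) : T.IsQuasiAffine := by
  have : IsAffine W.toScheme := hW
  have : IsAffine D.toScheme := hD
  have hr1 : Set.range (i ≫ g') ⊆ Set.range U₀.ι := by
    rintro _ ⟨y, rfl⟩
    simpa using h1 y
  have hr2 : Set.range (i ≫ f') ⊆ Set.range D.ι := by
    rintro _ ⟨y, rfl⟩
    simpa using h2 y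
  have hab : IsOpenImmersion.lift U₀.ι (i ≫ g') hr1 ≫ f.resLE W U₀ hU₀W =
      IsOpenImmersion.lift D.ι (i ≫ f') hr2 ≫ g.resLE W D hDW := by
    rw [← cancel_mono W.ι]
    simp only [Category.assoc, Scheme.Hom.resLE_comp_ι, IsOpenImmersion.lift_fac_assoc]
    rw [hc.w]
  have hψ : (pullback.fst (f.resLE W U₀ hU₀W) (g.resLE W D hDW) ≫ U₀.ι) ≫ f =
      (pullback.snd (f.resLE W U₀ hU₀W) (g.resLE W D hDW) ≫ D.ι) ≫ g := by
    rw [Category.assoc, Category.assoc, ← Scheme.Hom.resLE_comp_ι f hU₀W,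
      ← Scheme.Hom.resLE_comp_ι g hDW, pullback.condition_assoc]
  have hφψ : pullback.lift _ _ hab ≫ hc.lift _ _ hψ = i := by
    apply hc.hom_ext
    · rw [Category.assoc, hc.lift_fst, pullback.lift_fst_assoc, IsOpenImmersion.lift_fac]
    · rw [Category.assoc, hc.lift_snd, pullback.lift_snd_assoc, IsOpenImmersion.lift_fac]
  have : IsImmersion (pullback.lift _ _ hab ≫ hc.lift _ _ hψ) := by
    rw [hφψ]; infer_instance
  have : IsImmersion (pullback.lift _ _ hab) := .of_comp _ (hc.lift _ _ hψ)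
  have hb : IsAffineHom (g.resLE W D hDW) := isAffineHom_of_isAffine _
  have : IsAffineHom (pullback.fst (f.resLE W U₀ hU₀W) (g.resLE W D hDW)) :=
    MorphismProperty.pullback_fst _ _ hb
  have : (pullback (f.resLE W U₀ hU₀W) (g.resLE W D hDW)).IsQuasiAffine :=
    .of_isAffineHom (pullback.fst (f.resLE W U₀ hU₀W) (g.resLE W D hDW))
  exact .of_isImmersion (pullback.lift _ _ hab)

end Groth.Agent.H7
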