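import Mathlib
import Groth.Agent.H7.PropAIntegral

set_option autoImplicit false
universe u

namespace Groth.Agent.H7

open AlgebraicGeometry CategoryTheory Limits MorphismProperty Topology

/-- Rank-one section: a clopen `Q` of an étale `P'` over `P`, finite over the base `V` with a
unique, residually purely inseparable point over its image, maps isomorphically onto a clopen
neighbourhood in `P` near that point. -/
theorem exists_clopen_section_of_unique_point {P' P V : Scheme.{u}} (φ : P' ⟶ P) [Etale φ]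
    (s : P ⟶ V) [IsSeparated s] (Q : P'.Opens) (hQ : IsFinite (Q.ι ≫ φ ≫ s)) (q : P')
    (hq : q ∈ Q) (huniq : ∀ w ∈ Q, (φ ≫ s) w = (φ ≫ s) q → w = q)
    (hsep : sepDeg (φ ≫ s) q = 1) :
    ∃ (W : P.Opens) (σ : (W : Scheme.{u}) ⟶ (Q : Scheme.{u})), IsClosed (W : Set P) ∧
      σ ≫ Q.ι ≫ φ = W.ι ∧ (⟨q, hq⟩ : ↥(Q : Scheme.{u})) ∈ Set.range σ := by
  let ψ : (Q : Scheme.{u}) ⟶ P := Q.ι ≫ φ
  have hψF : IsFinite ψ := by
    have : IsFinite (ψ ≫ s) := by simpa only [ψ, Category.assoc] using hQ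
    exact IsFinite.of_comp ψ s
  have hψE : Etale ψ := inferInstance
  let t₀ : ↥(Q : Scheme.{u}) := ⟨q, hq⟩
  have huniq' : ∀ t : ↥(Q : Scheme.{u}), ψ t = ψ t₀ → t = t₀ := by
    intro t ht
    have h3 : (φ ≫ s) (Q.ι t) = (φ ≫ s) q := by
      have := congrArg s ht
      simp only [ψ, Scheme.Hom.comp_apply] at this ⊢
      exact this
    exact Subtype.ext (huniq (Q.ι t) t.2 h3)
  have hsepD : sepDeg ψ t₀ = 1 := by
    have hint : (ψ.residueFieldMap t₀).hom.IsIntegral :=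
      RingHom.IsIntegral.of_finite
        (finite_residueFieldMap_of_quasiFiniteAt ψ t₀ (ψ.quasiFiniteAt t₀))
    have h5 := sepDeg_comp ψ s t₀ hint
    have h6 : sepDeg (ψ ≫ s) t₀ = 1 := by
      have : ψ ≫ s = Q.ι ≫ (φ ≫ s) := by simp only [ψ, Category.assoc]
      rw [this, sepDeg_comp_of_isOpenImmersion]
      exact hsep
    rw [h6] at h5
    exact Nat.eq_one_of_mul_eq_one_left h5.symm
  have hrank := finrank_eq_one_of_unique_of_sepDeg ψ t₀ huniq' hsepD
  obtain ⟨W, σ, hWc, hσ, hσt⟩ := exists_clopen_section_of_finite_etale ψ t₀ hrank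
  exact ⟨W, σ, hWc, hσ, hσt⟩

/-- Morphisms on a pairwise disjoint open cover glue. -/
theorem exists_glue_of_disjoint {X Y : Scheme.{u}} {K : Type*} (W : K → X.Opens)
    (hdisj : ∀ a b, a ≠ b → Disjoint (W a) (W b)) (hcov : (⨆ a, W a) = ⊤)
    (h : ∀ k, (W k : Scheme.{u}) ⟶ Y) : ∃ H : X ⟶ Y, ∀ k, (W k).ι ≫ H = h k := by
  classical
  let 𝒰 : X.OpenCover := X.openCoverOfIsOpenCover W hcov
  have compat : ∀ a b : K, pullback.fst (𝒰.f a) (𝒰.f b) ≫ h a = pullback.snd (𝒰.f a) (𝒰.f b) ≫ h b := by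
    intro a b
    by_cases hab : a = b
    · subst hab
      have : pullback.fst (𝒰.f a) (𝒰.f a) = pullback.snd (𝒰.f a) (𝒰.f a) := by
        rw [← cancel_mono (𝒰.f a)]
        exact pullback.condition
      rw [this]
    · have hE : IsEmpty ↥(pullback (𝒰.f a) (𝒰.f b)) := by
        refine ⟨fun z ↦ ?_⟩
        have h1 : (W a).ι (pullback.fst (𝒰.f a) (𝒰.f b) z) = (W b).ι (pullback.snd (𝒰.f a) (𝒰.f b) z) := by
          have := congr($(pullback.condition (f := 𝒰.f a) (g := 𝒰.f b)) z)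
          exact this
        have h2 : (W a).ι (pullback.fst (𝒰.f a) (𝒰.f b) z) ∈ W a := (pullback.fst (𝒰.f a) (𝒰.f b) z).2
        have h3 : (W a).ι (pullback.fst (𝒰.f a) (𝒰.f b) z) ∈ W b := by
          rw [h1]; exact (pullback.snd (𝒰.f a) (𝒰.f b) z).2
        exact (hdisj a b hab).le_bot ⟨h2, h3⟩
      exact (isInitialOfIsEmpty (X := pullback (𝒰.f a) (𝒰.f b))).hom_ext _ _
  exact ⟨𝒰.glueMorphisms h compat, fun k ↦ 𝒰.ι_glueMorphisms h compat k⟩

/-- Disjointification of a finite family of clopens, keeping a chosen member whole. -/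
theorem exists_disjointification {X : Type*} [TopologicalSpace X] {K : Type*} [Finite K]
    (W : K → TopologicalSpace.Opens X) (hcl : ∀ k, IsClosed (W k : Set X)) (k₀ : K) :
    ∃ W' : K → TopologicalSpace.Opens X, (∀ k, W' k ≤ W k) ∧ W' k₀ = W k₀ ∧
      (∀ a b, a ≠ b → Disjoint (W' a) (W' b)) ∧ (⨆ k, W' k) = ⨆ k, W k ∧
      ∀ k, IsClosed (W' k : Set X) := by
  classical
  let e := Finite.equivFin K
  let r : K → ℕ := fun k ↦ if k = k₀ then 0 else (e k : ℕ) + 1
  have hr : Function.Injective r := by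
    intro a b hab
    simp only [r] at hab
    by_cases ha : a = k₀ <;> by_cases hb : b = k₀
    · rw [ha, hb]
    · rw [if_pos ha, if_neg hb] at hab; omega
    · rw [if_neg ha, if_pos hb] at hab; omega
    · rw [if_neg ha, if_neg hb] at hab
      have : (e a : ℕ) = e b := by omega
      exact e.injective (Fin.ext this)
  let C : K → Set X := fun k ↦ ⋃ l ∈ {l : K | r l < r k}, (W l : Set X)
  have hCcl : ∀ k, IsClosed (C k) := fun k ↦
    (Set.toFinite {l : K | r l < r k}).isClosed_biUnion fun l _ ↦ hcl l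
  have hCop : ∀ k, IsOpen (C k) := fun k ↦ isOpen_biUnion fun l _ ↦ (W l).2
  let W' : K → TopologicalSpace.Opens X := fun k ↦
    ⟨(W k : Set X) ∩ (C k)ᶜ, (W k).2.inter (hCcl k).isOpen_compl⟩
  have hle : ∀ k, W' k ≤ W k := fun k ↦ Set.inter_subset_left
  refine ⟨W', hle, ?_, ?_, ?_, fun k ↦ (hcl k).inter (hCop k).isClosed_compl⟩
  · apply TopologicalSpace.Opens.ext
    change (W k₀ : Set X) ∩ (C k₀)ᶜ = W k₀
    have : C k₀ = ∅ := by
      simp only [C, r]
      simp
    rw [this, Set.compl_empty, Set.inter_univ]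
  · intro a b hab
    have hne : r a ≠ r b := fun h ↦ hab (hr h)
    intro T hTa hTb z hz
    have hza : z ∈ (W a : Set X) ∩ (C a)ᶜ := hTa hz
    have hzb : z ∈ (W b : Set X) ∩ (C b)ᶜ := hTb hz
    exfalso
    rcases lt_or_gt_of_ne hne with h | h
    · exact hzb.2 (Set.mem_biUnion (x := a) h hza.1)
    · exact hza.2 (Set.mem_biUnion (x := b) h hzb.1)
  · apply le_antisymm
    · exact iSup_mono hle
    · intro z hz
      rw [TopologicalSpace.Opens.mem_iSup] at hz ⊢
      obtain ⟨k, hk⟩ := hz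
      obtain ⟨m, hm, hmin⟩ := Set.exists_min_image {l : K | z ∈ W l} r (Set.toFinite _) ⟨k, hk⟩
      refine ⟨m, hm, ?_⟩
      intro hmem
      obtain ⟨l, hl, hzl⟩ := Set.mem_iUnion₂.mp hmem
      have := hmin l hzl
      have hl' : r l < r m := hl
      omega


/-- Pointwise condition (C) for a finite morphism at a point whose fibre is a singleton. -/
theorem propC_point_of_finite {X Y : Scheme.{u}} (f : X ⟶ Y) [IsFinite f] {U : Scheme.{u}}
    (g : U ⟶ X) [Etale g] (u : U) (hfib : ∀ x' : X, f x' = f (g u) → x' = g u) :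
    ∃ (V : Scheme.{u}) (c : V ⟶ Y) (_ : Etale c) (h : pullback f c ⟶ U),
      h ≫ g = pullback.fst f c ∧ u ∈ Set.range h := by
  classical
  obtain ⟨U₀, hU₀, hu⟩ : ∃ V : U.Opens, IsAffineOpen V ∧ u ∈ V := by
    obtain ⟨_, ⟨V, hV, rfl⟩, hxV, -⟩ :=
      U.isBasis_affineOpens.exists_subset_of_mem_open (Set.mem_univ u) isOpen_univ
    exact ⟨V, hV, hxV⟩
  let u₀ : ↥(U₀ : Scheme.{u}) := ⟨u, hu⟩
  let g' : (U₀ : Scheme.{u}) ⟶ X := U₀.ι ≫ g
  let f' : (U₀ : Scheme.{u}) ⟶ Y := g' ≫ f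
  have : IsAffine (U₀ : Scheme.{u}) := hU₀
  have hsep' : IsSeparated f' := by
    have : IsSeparated (f' ≫ terminal.from Y) := by
      rw [terminal.comp_from]; infer_instance
    exact IsSeparated.of_comp f' (terminal.from Y)
  have hlqfg : LocallyQuasiFinite g' := locallyQuasiFinite_of_etale g'
  have hlqf' : LocallyQuasiFinite f' := inferInstance
  have hlft' : LocallyOfFiniteType f' := inferInstance
  obtain ⟨V, c, v₀, hc, hcv, J, hJ, Q, q, hclopen, -, hQ, hcov⟩ :=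
    Groth.Agent.S9778.result f' (f' u₀) (fun _ : Unit => u₀) (fun _ _ _ => Subsingleton.elim _ _)
      (fun _ => rfl) (fun _ => f'.quasiFiniteAt _)
  have hJfin : Finite (J ()) := hJ ()
  let φ : pullback f' c ⟶ pullback f c :=
    pullback.map (g' ≫ f) c f c g' (𝟙 V) (𝟙 Y) (by simp) (by simp)
  have hφ1 : φ ≫ pullback.fst f c = pullback.fst f' c ≫ g' := pullback.lift_fst _ _ _
  have hφ2 : φ ≫ pullback.snd f c = pullback.snd f' c := by
    simp only [φ, pullback.map, pullback.lift_snd, Category.comp_id]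
    rfl
  have S2 : IsPullback φ (pullback.fst f' c) (pullback.fst f c) g' := by
    refine IsPullback.of_right ?_ hφ1 (IsPullback.of_hasPullback f c).flip
    rw [hφ2]
    exact (IsPullback.of_hasPullback f' c).flip
  have hφE : Etale φ := MorphismProperty.of_isPullback S2.flip inferInstance
  have key : ∀ j : J (), ∃ (W : (pullback f c).Opens)
      (σ : (W : Scheme.{u}) ⟶ ((Q () j : (pullback f' c).Opens) : Scheme.{u})),
      IsClosed (W : Set ↥(pullback f c)) ∧ σ ≫ (Q () j).ι ≫ φ = W.ι ∧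
        (⟨q () j, (hQ () j).1⟩ : ↥((Q () j : (pullback f' c).Opens) : Scheme.{u})) ∈ Set.range σ := by
    intro j
    obtain ⟨hqmem, hQfin, hqv, hquniq, hqpi, hqfst⟩ := hQ () j
    refine exists_clopen_section_of_unique_point φ (pullback.snd f c) (Q () j) ?_ (q () j) hqmem
      ?_ ?_
    · rw [hφ2]; exact hQfin
    · intro w hw hww
      rw [hφ2, hqv] at hww
      exact hquniq w hw hww
    · rw [hφ2]
      exact sepDeg_eq_one_of_isPurelyInseparable _ _ hqpi
  choose W σ hWcl hσ hσq using key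
  let h : ∀ j, (W j : Scheme.{u}) ⟶ U := fun j ↦
    σ j ≫ (Q () j).ι ≫ pullback.fst f' c ≫ U₀.ι
  have hh : ∀ j, h j ≫ g = (W j).ι ≫ pullback.fst f c := by
    intro j
    have : (Q () j).ι ≫ pullback.fst f' c ≫ U₀.ι ≫ g = (Q () j).ι ≫ φ ≫ pullback.fst f c := by
      simp only [hφ1, g']
    simp only [h, Category.assoc]
    rw [this, ← hσ j, Category.assoc, Category.assoc]
  -- the pieces cover the fibre over `v₀`
  have hcover : ∀ p : ↥(pullback f c), pullback.snd f c p = v₀ → ∃ j, p ∈ W j := by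
    intro p hp
    have h1 : f (pullback.fst f c p) = f (g u) := by
      have := congr($(pullback.condition (f := f) (g := c)) p)
      simp only [Scheme.Hom.comp_apply] at this
      rw [this, hp, hcv]
      rfl
    have h2 : pullback.fst f c p = g' u₀ := hfib _ h1
    obtain ⟨q', hq'1, hq'2⟩ := exists_preimage_of_isPullback' S2 p u₀ h2
    have h3 : pullback.snd f' c q' = v₀ := by
      rw [← hφ2, Scheme.Hom.comp_apply, hq'1, hp]
    obtain ⟨j, hj⟩ := hcov q' () h3 hq'2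
    obtain ⟨hqmem, hQfin, hqv, hquniq, hqpi, hqfst⟩ := hQ () j
    have h4 : q' = q () j := hquniq q' hj h3
    obtain ⟨w, hw⟩ := hσq j
    refine ⟨j, ?_⟩
    have h5 : (W j).ι w = p := by
      rw [← hσ j, Scheme.Hom.comp_apply, hw, Scheme.Hom.comp_apply]
      change φ (q () j) = p
      rw [← h4, hq'1]
    rw [← h5]
    exact w.2
  -- a first index
  obtain ⟨w0, hw01, hw02⟩ := Scheme.Pullback.exists_preimage_pullback (f := f') (g := c) u₀ v₀ hcv.symm
  obtain ⟨j₀, -⟩ := hcov w0 () hw02 hw01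
  obtain ⟨W', hle, hk₀, hdisj, hsup, -⟩ := exists_disjointification W hWcl j₀
  -- shrink `V`
  let T : (pullback f c).Opens := ⨆ j, W j
  have hRcl : IsClosed (pullback.snd f c '' (T : Set ↥(pullback f c))ᶜ) :=
    (pullback.snd f c).isClosedMap _ T.2.isClosed_compl
  let V' : V.Opens := ⟨(pullback.snd f c '' (T : Set ↥(pullback f c))ᶜ)ᶜ, hRcl.isOpen_compl⟩
  have hv₀ : v₀ ∈ V' := by
    rintro ⟨p, hp, hpv⟩
    obtain ⟨j, hj⟩ := hcover p hpv
    exact hp (TopologicalSpace.Opens.mem_iSup.mpr ⟨j, hj⟩)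
  let c' : (V' : Scheme.{u}) ⟶ Y := V'.ι ≫ c
  let ρ : pullback f c' ⟶ pullback f c :=
    pullback.map f c' f c (𝟙 X) V'.ι (𝟙 Y) (by simp) (by simp [c'])
  have hρ1 : ρ ≫ pullback.fst f c = pullback.fst f c' := by
    simp only [ρ, pullback.map, pullback.lift_fst, Category.comp_id]
  have hρ2 : ρ ≫ pullback.snd f c = pullback.snd f c' ≫ V'.ι := pullback.lift_snd _ _ _
  have Sρ : IsPullback ρ (pullback.snd f c') (pullback.snd f c) V'.ι := by
    refine IsPullback.of_right ?_ hρ2 (IsPullback.of_hasPullback f c)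
    rw [hρ1]
    exact IsPullback.of_hasPullback f c'
  let W'' : J () → (pullback f c').Opens := fun j ↦ ρ ⁻¹ᵁ (W' j)
  have hdisj'' : ∀ a b, a ≠ b → Disjoint (W'' a) (W'' b) := by
    intro a b hab S hSa hSb z hz
    exact (hdisj a b hab).le_bot ⟨hSa hz, hSb hz⟩
  have hcov'' : (⨆ j, W'' j) = ⊤ := by
    rw [eq_top_iff]
    intro z _
    have hz1 : ρ z ∈ T := by
      by_contra hcon
      have h1 : pullback.snd f c (ρ z) ∈ V' := by
        rw [← Scheme.Hom.comp_apply, hρ2, Scheme.Hom.comp_apply]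
        exact (pullback.snd f c' z).2
      exact h1 ⟨ρ z, hcon, rfl⟩
    have hz2 : ρ z ∈ ⨆ k, W' k := by rw [hsup]; exact hz1
    obtain ⟨j, hj⟩ := TopologicalSpace.Opens.mem_iSup.mp hz2
    exact TopologicalSpace.Opens.mem_iSup.mpr ⟨j, hj⟩
  let h'' : ∀ j, (W'' j : Scheme.{u}) ⟶ U := fun j ↦
    (ρ ∣_ W' j) ≫ (pullback f c).homOfLE (hle j) ≫ h j
  obtain ⟨H, hH⟩ := exists_glue_of_disjoint W'' hdisj'' hcov'' h''
  refine ⟨V', c', inferInstance, H, ?_, ?_⟩
  · refine (Scheme.openCoverOfIsOpenCover _ W'' hcov'').hom_ext _ _ (fun j ↦ ?_)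
    change (W'' j).ι ≫ H ≫ g = (W'' j).ι ≫ pullback.fst f c'
    rw [← Category.assoc, hH j]
    simp only [h'', Category.assoc]
    rw [hh j, Scheme.homOfLE_ι_assoc, morphismRestrict_ι_assoc, hρ1]
  · obtain ⟨w₀, hw₀⟩ := hσq j₀
    obtain ⟨hqmem, hQfin, hqv, hquniq, hqpi, hqfst⟩ := hQ () j₀
    let p₀ : ↥(pullback f c) := (W j₀).ι w₀
    have hp₀ : p₀ = φ (q () j₀) := by
      simp only [p₀]
      rw [← hσ j₀, Scheme.Hom.comp_apply, hw₀, Scheme.Hom.comp_apply]
      rfl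
    have hp₀v : pullback.snd f c p₀ = V'.ι ⟨v₀, hv₀⟩ := by
      rw [hp₀, ← Scheme.Hom.comp_apply, hφ2, hqv]
      rfl
    obtain ⟨z, hz1, hz2⟩ := exists_preimage_of_isPullback' Sρ p₀ ⟨v₀, hv₀⟩ hp₀v
    have hzW : z ∈ W'' j₀ := by
      change ρ z ∈ W' j₀
      rw [hz1, hk₀]
      exact w₀.2
    refine ⟨z, ?_⟩
    have e1 : H z = h'' j₀ ⟨z, hzW⟩ := by
      rw [← hH j₀, Scheme.Hom.comp_apply]
      rfl
    have e2 : (pullback f c).homOfLE (hle j₀) ((ρ ∣_ W' j₀) ⟨z, hzW⟩) = w₀ := by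
      apply (W j₀).ι.isOpenEmbedding.injective
      rw [← Scheme.Hom.comp_apply, ← Scheme.Hom.comp_apply, Scheme.homOfLE_ι,
        morphismRestrict_ι, Scheme.Hom.comp_apply]
      exact hz1
    rw [e1]
    simp only [h'', Scheme.Hom.comp_apply]
    rw [e2]
    simp only [h, Scheme.Hom.comp_apply]
    rw [hw₀]
    change U₀.ι (pullback.fst f' c (q () j₀)) = u
    rw [hqfst]
    rfl

end Groth.Agent.H7
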