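import Mathlib
import Groth.Agent.H7.PropCFinite

set_option autoImplicit false
universe u

namespace Groth.Agent.H7

open AlgebraicGeometry CategoryTheory Limits MorphismProperty Topology

/-- Pointwise form of condition (C): the étale chart `g : U ⟶ X` is reached, at the point `u`, by
an `X`-morphism from the whole of `X ×_Y V` for some étale `V ⟶ Y`. -/
def PropCPt {X Y : Scheme.{u}} (f : X ⟶ Y) {U : Scheme.{u}} (g : U ⟶ X) (u : U) : Prop :=
  ∃ (V : Scheme.{u}) (c : V ⟶ Y) (_ : Etale c) (h : pullback f c ⟶ U),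
    h ≫ g = pullback.fst f c ∧ u ∈ Set.range h

/-- Pointwise (C) at every point of every étale chart. -/
def PropCPtAll {X Y : Scheme.{u}} (f : X ⟶ Y) : Prop :=
  ∀ (U : Scheme.{u}) (g : U ⟶ X) [Etale g] (u : U), PropCPt f g u

/-- Transfer of pointwise (C) along a base change of an étale chart. -/
theorem propCPt_transfer {X X₀ Y U₀ T : Scheme.{u}} (f : X ⟶ Y) (f₀ : X₀ ⟶ Y) (π : X ⟶ X₀)
    (hf : f = π ≫ f₀) (g₀ : U₀ ⟶ X₀) (a : T ⟶ X) (b : T ⟶ U₀)
    (hT : IsPullback a b π g₀) (t : T) (hC : PropCPt f₀ g₀ (b t)) : PropCPt f a t := by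
  subst hf
  obtain ⟨V, v, hv, h₀, hcomm₀, w₀, hw₀⟩ := hC
  let θ : pullback (π ≫ f₀) v ⟶ pullback f₀ v :=
    pullback.map (π ≫ f₀) v f₀ v π (𝟙 V) (𝟙 Y) (by simp) (by simp)
  have hθ1 : θ ≫ pullback.fst f₀ v = pullback.fst (π ≫ f₀) v ≫ π := pullback.lift_fst _ _ _
  have hθ2 : θ ≫ pullback.snd f₀ v = pullback.snd (π ≫ f₀) v := by
    simp only [θ, pullback.map, pullback.lift_snd, Category.comp_id]
  have S2 : IsPullback θ (pullback.fst (π ≫ f₀) v) (pullback.fst f₀ v) π := by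
    refine IsPullback.of_right ?_ hθ1 (IsPullback.of_hasPullback f₀ v).flip
    rw [hθ2]
    exact (IsPullback.of_hasPullback (π ≫ f₀) v).flip
  have S4 : IsPullback θ (pullback.fst (π ≫ f₀) v) (h₀ ≫ g₀) π := by
    rw [hcomm₀]
    exact S2
  let h : pullback (π ≫ f₀) v ⟶ T := hT.lift (pullback.fst (π ≫ f₀) v) (θ ≫ h₀)
    (by have := S4.w; simp only [Category.assoc] at this ⊢; exact this.symm)
  have hh1 : h ≫ a = pullback.fst (π ≫ f₀) v := hT.lift_fst _ _ _
  have hh2 : h ≫ b = θ ≫ h₀ := hT.lift_snd _ _ _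
  have S5 : IsPullback θ h h₀ b := by
    refine IsPullback.of_bot ?_ hh2.symm hT.flip
    rw [hh1]
    exact S4
  obtain ⟨w, -, hw⟩ := exists_preimage_of_isPullback' S5 w₀ t hw₀
  exact ⟨V, v, hv, h, hh1, w, hw⟩

/-- Pointwise (C) is local on the target and invariant under isomorphisms of arrows. -/
theorem propCPtAll_of_local {X Y : Scheme.{u}} (f : X ⟶ Y)
    (H : ∀ y : Y, ∃ (Y' X' : Scheme.{u}) (ι : Y' ⟶ Y) (j : X' ⟶ X) (f' : X' ⟶ Y'),
      IsOpenImmersion ι ∧ y ∈ Set.range ι ∧ IsPullback j f' f ι ∧ PropCPtAll f') :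
    PropCPtAll f := by
  intro U g _ u
  obtain ⟨Y', X', ι, j, f', hι, ⟨y', hy'⟩, hpb, hA⟩ := H (f (g u))
  obtain ⟨x', hx', -⟩ := exists_preimage_of_isPullback' hpb (g u) y' hy'.symm
  have hj : IsOpenImmersion j := MorphismProperty.of_isPullback hpb.flip hι
  obtain ⟨u', hu'1, hu'2⟩ := Scheme.Pullback.exists_preimage_pullback (f := g) (g := j) u x' hx'.symm
  obtain ⟨V, v, hv, h, hcomm, w, hw⟩ := hA (pullback g j) (pullback.snd g j) u'
  have hκ : IsPullback (pullback.fst f' v ≫ j) (pullback.snd f' v) f (v ≫ ι) :=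
    ((IsPullback.of_hasPullback f' v).flip.paste_vert hpb.flip).flip
  let κ : pullback f' v ≅ pullback f (v ≫ ι) := hκ.isoPullback
  have hκ1 : κ.hom ≫ pullback.fst f (v ≫ ι) = pullback.fst f' v ≫ j := hκ.isoPullback_hom_fst
  refine ⟨V, v ≫ ι, inferInstance, κ.inv ≫ h ≫ pullback.fst g j, ?_, ?_⟩
  · rw [Category.assoc, Category.assoc, pullback.condition, reassoc_of% hcomm, ← hκ1,
      Iso.inv_hom_id_assoc]
  · refine ⟨κ.hom w, ?_⟩
    rw [← Scheme.Hom.comp_apply, Iso.hom_inv_id_assoc, Scheme.Hom.comp_apply, hw, hu'1]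

open TensorProduct in
/-- Pointwise (C) for the spectrum of an integral ring map which is injective on points. -/
theorem propCPtAll_SpecMap_of_isIntegral {A B : CommRingCat.{u}} (φ : A ⟶ B)
    (hφ : φ.hom.IsIntegral) (hinj : Function.Injective (Spec.map φ)) :
    PropCPtAll (Spec.map φ) := by
  intro U g _ u
  obtain ⟨U₁, hU₁, hu⟩ : ∃ V : U.Opens, IsAffineOpen V ∧ u ∈ V := by
    obtain ⟨_, ⟨V, hV, rfl⟩, hxV, -⟩ :=
      U.isBasis_affineOpens.exists_subset_of_mem_open (Set.mem_univ u) isOpen_univ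
    exact ⟨V, hV, hxV⟩
  let γ : B ⟶ Γ(U, U₁) := Spec.preimage (hU₁.fromSpec ≫ g)
  have hγ : Spec.map γ = hU₁.fromSpec ≫ g := Spec.map_preimage _
  have hγE : γ.hom.Etale := by
    rw [← HasRingHomProperty.Spec_iff (P := @Etale), hγ]
    infer_instance
  algebraize [φ.hom, γ.hom]
  have : Algebra.IsIntegral A B := ⟨hφ⟩
  obtain ⟨B₀, C₀, _, _, hfg, het, ⟨e⟩⟩ := Algebra.Etale.exists_subalgebra_fg A B Γ(U, U₁)
  have : Algebra.FiniteType A B₀ := (Subalgebra.fg_iff_finiteType B₀).mp hfg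
  have : Algebra.IsIntegral A B₀ := Algebra.IsIntegral.of_injective B₀.val Subtype.val_injective
  have hfin : Module.Finite A B₀ := Algebra.IsIntegral.finite
  have : Algebra.IsIntegral B₀ B := Algebra.IsIntegral.tower_top (R := A)
  let f₀ : Spec (.of B₀) ⟶ Spec A := Spec.map (CommRingCat.ofHom (algebraMap A B₀))
  let π : Spec B ⟶ Spec (.of B₀) := Spec.map (CommRingCat.ofHom (algebraMap B₀ B))
  let g₀ : Spec (.of C₀) ⟶ Spec (.of B₀) := Spec.map (CommRingCat.ofHom (algebraMap B₀ C₀))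
  let a : Spec (.of (B ⊗[B₀] C₀)) ⟶ Spec B :=
    Spec.map (CommRingCat.ofHom (Algebra.TensorProduct.includeLeftRingHom))
  let b : Spec (.of (B ⊗[B₀] C₀)) ⟶ Spec (.of C₀) :=
    Spec.map (CommRingCat.ofHom (Algebra.TensorProduct.includeRight (R := B₀) (A := B) (B := C₀)).toRingHom)
  have hT : IsPullback a b π g₀ :=
    isPullback_SpecMap_of_isPushout _ _ _ _ (CommRingCat.isPushout_tensorProduct B₀ B C₀)
  have hf : Spec.map φ = π ≫ f₀ := by
    simp only [π, f₀, ← Spec.map_comp]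
    congr 1
  have hπsurj : Function.Surjective π := Algebra.IsIntegral.comap_surjective B₀ B
  have hf₀F : IsFinite f₀ := by
    rw [IsFinite.SpecMap_iff]
    exact RingHom.finite_algebraMap.mpr hfin
  have hg₀E : Etale g₀ := by
    rw [HasRingHomProperty.Spec_iff (P := @Etale)]
    exact RingHom.etale_algebraMap.mpr het
  let p : Spec Γ(U, U₁) := hU₁.primeIdealOf ⟨u, hu⟩
  have hp : hU₁.fromSpec p = u := hU₁.fromSpec_primeIdealOf ⟨u, hu⟩
  let k : Spec (.of (B ⊗[B₀] C₀)) ⟶ U := Spec.map (CommRingCat.ofHom e.toRingHom) ≫ hU₁.fromSpec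
  let t : Spec (.of (B ⊗[B₀] C₀)) := Spec.map (CommRingCat.ofHom e.symm.toRingHom) p
  have hkt : k t = u := by
    simp only [k, t, Scheme.Hom.comp_apply]
    rw [← Scheme.Hom.comp_apply (Spec.map _) (Spec.map _), ← Spec.map_comp]
    have : CommRingCat.ofHom e.toRingHom ≫ CommRingCat.ofHom e.symm.toRingHom = 𝟙 _ := by
      ext x
      exact e.symm_apply_apply x
    rw [this, Spec.map_id]
    exact hp
  have hka : k ≫ g = a := by
    simp only [k, Category.assoc, ← hγ, a, ← Spec.map_comp]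
    congr 1
    ext x
    exact e.commutes x
  have hfib : ∀ x' : Spec (.of B₀), f₀ x' = f₀ (g₀ (b t)) → x' = g₀ (b t) := by
    intro x' hx'
    obtain ⟨x'', rfl⟩ := hπsurj x'
    have h1 : g₀ (b t) = π (a t) := by
      have := congr($(hT.w) t)
      simp only [Scheme.Hom.comp_apply] at this
      exact this.symm
    rw [h1] at hx' ⊢
    have h2 : Spec.map φ x'' = Spec.map φ (a t) := by
      have e1 := congr($(hf) x'')
      have e2 := congr($(hf) (a t))
      simp only [Scheme.Hom.comp_apply] at e1 e2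
      rw [e1, e2]
      exact hx'
    rw [hinj h2]
  have hC₀ : PropCPt f₀ g₀ (b t) := propC_point_of_finite f₀ g₀ (b t) hfib
  obtain ⟨V, v, hv, h, hcomm, hrange⟩ := propCPt_transfer (Spec.map φ) f₀ π hf g₀ a b hT t hC₀
  refine ⟨V, v, hv, h ≫ k, ?_, ?_⟩
  · rw [Category.assoc, hka, hcomm]
  · obtain ⟨w, hw⟩ := hrange
    exact ⟨w, by rw [Scheme.Hom.comp_apply, hw, hkt]⟩

/-- Pointwise (C) for integral morphisms between affine schemes, injective on points. -/
theorem propCPtAll_of_isIntegralHom_of_isAffine {X Y : Scheme.{u}} (f : X ⟶ Y) [IsIntegralHom f]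
    [IsAffine X] [IsAffine Y] (hinj : Function.Injective f) : PropCPtAll f := by
  apply propCPtAll_of_local
  intro y
  have h1 : IsIntegralHom (Spec.map f.appTop) :=
    (MorphismProperty.arrow_mk_iso_iff @IsIntegralHom (arrowIsoSpecΓOfIsAffine f)).mp inferInstance
  have hnat : Spec.map f.appTop ≫ Y.isoSpec.inv = X.isoSpec.inv ≫ f :=
    Scheme.isoSpec_inv_naturality f
  have h2 : Function.Injective (Spec.map f.appTop) := by
    intro a b hab
    have e1 := congr($(hnat) a)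
    have e2 := congr($(hnat) b)
    simp only [Scheme.Hom.comp_apply] at e1 e2
    rw [hab, e2] at e1
    exact X.isoSpec.inv.isOpenEmbedding.injective (hinj e1).symm
  refine ⟨Spec Γ(Y, ⊤), Spec Γ(X, ⊤), Y.isoSpec.inv, X.isoSpec.inv, Spec.map f.appTop, inferInstance,
    ⟨Y.isoSpec.hom y, by rw [← Scheme.Hom.comp_apply, Iso.hom_inv_id]; rfl⟩, ?_, ?_⟩
  · exact IsPullback.of_horiz_isIso ⟨hnat.symm⟩
  · exact propCPtAll_SpecMap_of_isIntegral _ (IsIntegralHom.SpecMap_iff.mp h1) h2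

/-- Pointwise (C) for integral morphisms which are injective on points. -/
theorem propCPtAll_of_isIntegralHom {X Y : Scheme.{u}} (f : X ⟶ Y) [IsIntegralHom f]
    (hinj : Function.Injective f) : PropCPtAll f := by
  apply propCPtAll_of_local
  intro y
  obtain ⟨Y₀, hY₀, hy⟩ : ∃ V : Y.Opens, IsAffineOpen V ∧ y ∈ V := by
    obtain ⟨_, ⟨V, hV, rfl⟩, hxV, -⟩ :=
      Y.isBasis_affineOpens.exists_subset_of_mem_open (Set.mem_univ y) isOpen_univ
    exact ⟨V, hV, hxV⟩
  have : IsAffine (Y₀ : Scheme.{u}) := hY₀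
  have : IsAffine ((f ⁻¹ᵁ Y₀ : X.Opens) : Scheme.{u}) := hY₀.preimage f
  have h2 : Function.Injective (f ∣_ Y₀) := by
    intro a b hab
    have e1 := congr($(morphismRestrict_ι f Y₀) a)
    have e2 := congr($(morphismRestrict_ι f Y₀) b)
    simp only [Scheme.Hom.comp_apply] at e1 e2
    rw [hab, e2] at e1
    exact (f ⁻¹ᵁ Y₀).ι.isOpenEmbedding.injective (hinj e1).symm
  refine ⟨Y₀, (f ⁻¹ᵁ Y₀ : X.Opens), Y₀.ι, (f ⁻¹ᵁ Y₀).ι, f ∣_ Y₀, inferInstance, ⟨⟨y, hy⟩, rfl⟩,
    (isPullback_morphismRestrict f Y₀).flip, propCPtAll_of_isIntegralHom_of_isAffine _ h2⟩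

/-- Condition (C) from its pointwise form, by taking the disjoint union of the étale
neighbourhoods. -/
theorem propC_of_pointwise {X Y : Scheme.{u}} (f : X ⟶ Y) (H : PropCPtAll f) :
    BigSite.PropC f := by
  intro U g _
  choose V c hc h hcomm hrange using fun u : U => H U g u
  let ct : (∐ V) ⟶ Y := Sigma.desc c
  have hct : Etale ct := IsZariskiLocalAtSource.sigmaDesc (P := @Etale) hc
  have he : ∀ u, Sigma.ι V u ≫ ct = c u := fun u => Sigma.ι_desc _ _
  let F : ∀ u : U, pullback f (Sigma.ι V u ≫ ct) ⟶ pullback f ct := fun u =>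
    pullback.map f (Sigma.ι V u ≫ ct) f ct (𝟙 _) (Sigma.ι V u) (𝟙 _) (by simp) (Category.comp_id _)
  let k : ∀ u : U, pullback f (Sigma.ι V u ≫ ct) ⟶ U := fun u =>
    (pullback.congrHom rfl (he u)).hom ≫ h u
  have hk : ∀ u, k u ≫ g = pullback.fst f (Sigma.ι V u ≫ ct) := by
    intro u
    simp only [k, Category.assoc]
    rw [hcomm u]
    exact (pullback.lift_fst _ _ _).trans (Category.comp_id _)
  have hsnd : ∀ u, F u ≫ pullback.snd f ct = pullback.snd f (Sigma.ι V u ≫ ct) ≫ Sigma.ι V u :=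
    fun u => pullback.lift_snd _ _ _
  have hfst : ∀ u, F u ≫ pullback.fst f ct = pullback.fst f (Sigma.ι V u ≫ ct) :=
    fun u => (pullback.lift_fst _ _ _).trans (Category.comp_id _)
  let 𝒰 : (pullback f ct).OpenCover := Scheme.Pullback.openCoverOfRight (sigmaOpenCover V) f ct
  have h𝒰f : ∀ u : U, 𝒰.f u = F u := fun u => rfl
  have compat : ∀ a b : U, pullback.fst (𝒰.f a) (𝒰.f b) ≫ k a = pullback.snd (𝒰.f a) (𝒰.f b) ≫ k b := by
    intro a b
    by_cases hab : a = b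
    · subst hab
      have : pullback.fst (𝒰.f a) (𝒰.f a) = pullback.snd (𝒰.f a) (𝒰.f a) := by
        rw [← cancel_mono (𝒰.f a)]
        exact pullback.condition
      rw [this]
    · have hE : IsEmpty ↥(pullback (𝒰.f a) (𝒰.f b)) := by
        refine ⟨fun z ↦ ?_⟩
        have h1 : F a (pullback.fst (𝒰.f a) (𝒰.f b) z) = F b (pullback.snd (𝒰.f a) (𝒰.f b) z) :=
          congr($(pullback.condition (f := 𝒰.f a) (g := 𝒰.f b)) z)
        have h2 := congrArg (pullback.snd f ct) h1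
        rw [← Scheme.Hom.comp_apply, ← Scheme.Hom.comp_apply, hsnd a, hsnd b,
          Scheme.Hom.comp_apply, Scheme.Hom.comp_apply] at h2
        have h3 := (sigmaι_eq_iff V a b _ _).mp h2
        exact hab (congrArg Sigma.fst h3)
      exact (isInitialOfIsEmpty (X := pullback (𝒰.f a) (𝒰.f b))).hom_ext _ _
  have hglue : ∀ u : U, F u ≫ 𝒰.glueMorphisms k compat = k u :=
    fun u => 𝒰.ι_glueMorphisms k compat u
  refine ⟨∐ V, ct, hct, 𝒰.glueMorphisms k compat, ?_, ⟨?_⟩⟩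
  · refine 𝒰.hom_ext _ _ (fun u ↦ ?_)
    change F u ≫ 𝒰.glueMorphisms k compat ≫ g = F u ≫ pullback.fst f ct
    rw [← Category.assoc, hglue u, hk u, hfst u]
  · intro u
    obtain ⟨w, hw⟩ := hrange u
    refine ⟨F u ((pullback.congrHom rfl (he u)).inv w), ?_⟩
    rw [← Scheme.Hom.comp_apply, hglue u]
    have e1 : (pullback.congrHom rfl (he u)).hom ((pullback.congrHom rfl (he u)).inv w) = w := by
      rw [← Scheme.Hom.comp_apply, Iso.inv_hom_id]
      rfl
    exact (congrArg (h u) e1).trans hw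

end Groth.Agent.H7
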