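import Mathlib
import Groth.Agent.H7.PropCIntegral

set_option autoImplicit false
universe u

namespace Groth.Agent.H7

open AlgebraicGeometry CategoryTheory Limits MorphismProperty Topology

/-- Disjointification of a finite family of clopens. -/
theorem exists_disjointification' {X : Type*} [TopologicalSpace X] {K : Type*} [Finite K]
    (W : K → TopologicalSpace.Opens X) (hcl : ∀ k, IsClosed (W k : Set X)) :
    ∃ W' : K → TopologicalSpace.Opens X, (∀ k, W' k ≤ W k) ∧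
      (∀ a b, a ≠ b → Disjoint (W' a) (W' b)) ∧ (⨆ k, W' k) = ⨆ k, W k := by
  rcases isEmpty_or_nonempty K with hK | ⟨⟨k₀⟩⟩
  · exact ⟨W, fun k ↦ le_rfl, fun a ↦ (hK.false a).elim, rfl⟩
  · obtain ⟨W', h1, -, h2, h3, -⟩ := exists_disjointification W hcl k₀
    exact ⟨W', h1, h2, h3⟩

/-- Finite case of the pointwise form of condition (B), for a single affine étale chart covering
the fibre. -/
theorem exists_pieces_of_finite {X Y U : Scheme.{u}} (f : X ⟶ Y) [IsFinite f] (g : U ⟶ X)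
    [Etale g] [IsAffine U] (y : Y) (hy : ∀ x, f x = y → x ∈ Set.range g) :
    ∃ (V : Scheme.{u}) (c : V ⟶ Y) (v₀ : V), Etale c ∧ c v₀ = y ∧
      ∃ (K : Type u) (_ : Finite K) (W : K → (pullback f c).Opens),
        (∀ a b, a ≠ b → Disjoint (W a) (W b)) ∧ (⨆ a, W a) = ⊤ ∧
        ∀ a, ∃ h : (W a : Scheme.{u}) ⟶ U, h ≫ g = (W a).ι ≫ pullback.fst f c := by
  classical
  have hFfin : (f ⁻¹' {y}).Finite := Scheme.Hom.finite_preimage_singleton f y
  have : Finite ↥(f ⁻¹' {y}) := hFfin.to_subtype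
  let n := Nat.card ↥(f ⁻¹' {y})
  let e : ↥(f ⁻¹' {y}) ≃ Fin n := Finite.equivFin _
  have hux : ∀ k : Fin n, ∃ u : U, g u = (e.symm k).1 := fun k ↦ hy _ (e.symm k).2
  choose pt hpt using hux
  let f' : U ⟶ Y := g ≫ f
  have hsep' : IsSeparated f' := by
    have : IsSeparated (f' ≫ terminal.from Y) := by
      rw [terminal.comp_from]; infer_instance
    exact IsSeparated.of_comp f' (terminal.from Y)
  have hlqfg : LocallyQuasiFinite g := locallyQuasiFinite_of_etale g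
  have hlqf' : LocallyQuasiFinite f' := inferInstance
  have hlft' : LocallyOfFiniteType f' := inferInstance
  have hptinj : Function.Injective pt := by
    intro a b hab
    have : (e.symm a).1 = (e.symm b).1 := by rw [← hpt a, ← hpt b, hab]
    exact e.symm.injective (Subtype.ext this)
  have hpty : ∀ k, f' (pt k) = y := by
    intro k
    change f (g (pt k)) = y
    rw [hpt k]
    exact (e.symm k).2
  obtain ⟨V, c, v₀, hc, hcv, J, hJ, Q, q, hclopen, -, hQ, hcov⟩ :=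
    Groth.Agent.S9778.result f' y pt hptinj hpty (fun _ => f'.quasiFiniteAt _)
  have hJfin : ∀ k, Finite (J k) := hJ
  let φ : pullback f' c ⟶ pullback f c :=
    pullback.map (g ≫ f) c f c g (𝟙 V) (𝟙 Y) (by simp) (by simp)
  have hφ1 : φ ≫ pullback.fst f c = pullback.fst f' c ≫ g := pullback.lift_fst _ _ _
  have hφ2 : φ ≫ pullback.snd f c = pullback.snd f' c := by
    simp only [φ, pullback.map, pullback.lift_snd, Category.comp_id]
    rfl
  have S2 : IsPullback φ (pullback.fst f' c) (pullback.fst f c) g := by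
    refine IsPullback.of_right ?_ hφ1 (IsPullback.of_hasPullback f c).flip
    rw [hφ2]
    exact (IsPullback.of_hasPullback f' c).flip
  have hφE : Etale φ := MorphismProperty.of_isPullback S2.flip inferInstance
  have key : ∀ (k : Fin n) (j : J k), ∃ (W : (pullback f c).Opens)
      (σ : (W : Scheme.{u}) ⟶ ((Q k j : (pullback f' c).Opens) : Scheme.{u})),
      IsClosed (W : Set ↥(pullback f c)) ∧ σ ≫ (Q k j).ι ≫ φ = W.ι ∧
        (⟨q k j, (hQ k j).1⟩ : ↥((Q k j : (pullback f' c).Opens) : Scheme.{u})) ∈ Set.range σ := by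
    intro k j
    obtain ⟨hqmem, hQfin, hqv, hquniq, hqpi, hqfst⟩ := hQ k j
    refine exists_clopen_section_of_unique_point φ (pullback.snd f c) (Q k j) ?_ (q k j) hqmem
      ?_ ?_
    · rw [hφ2]; exact hQfin
    · intro w hw hww
      rw [hφ2, hqv] at hww
      exact hquniq w hw hww
    · rw [hφ2]
      exact sepDeg_eq_one_of_isPurelyInseparable _ _ hqpi
  choose W σ hWcl hσ hσq using key
  let h : ∀ k j, (W k j : Scheme.{u}) ⟶ U := fun k j ↦ σ k j ≫ (Q k j).ι ≫ pullback.fst f' c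
  have hh : ∀ k j, h k j ≫ g = (W k j).ι ≫ pullback.fst f c := by
    intro k j
    have : (Q k j).ι ≫ pullback.fst f' c ≫ g = (Q k j).ι ≫ φ ≫ pullback.fst f c := by
      simp only [hφ1]
    simp only [h, Category.assoc]
    rw [this, ← hσ k j, Category.assoc, Category.assoc]
  -- the pieces cover the fibre over `v₀`
  have hcover : ∀ p : ↥(pullback f c), pullback.snd f c p = v₀ → ∃ k j, p ∈ W k j := by
    intro p hp
    have h1 : f (pullback.fst f c p) = y := by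
      have := congr($(pullback.condition (f := f) (g := c)) p)
      simp only [Scheme.Hom.comp_apply] at this
      rw [this, hp, hcv]
    let k : Fin n := e ⟨pullback.fst f c p, h1⟩
    have h2 : pullback.fst f c p = g (pt k) := by
      rw [hpt k]
      simp only [k, Equiv.symm_apply_apply]
    obtain ⟨q', hq'1, hq'2⟩ := exists_preimage_of_isPullback' S2 p (pt k) h2
    have h3 : pullback.snd f' c q' = v₀ := by
      rw [← hφ2, Scheme.Hom.comp_apply, hq'1, hp]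
    obtain ⟨j, hj⟩ := hcov q' k h3 hq'2
    obtain ⟨hqmem, hQfin, hqv, hquniq, hqpi, hqfst⟩ := hQ k j
    have h4 : q' = q k j := hquniq q' hj h3
    obtain ⟨w, hw⟩ := hσq k j
    refine ⟨k, j, ?_⟩
    have h5 : (W k j).ι w = p := by
      rw [← hσ k j, Scheme.Hom.comp_apply, hw, Scheme.Hom.comp_apply]
      change φ (q k j) = p
      rw [← h4, hq'1]
    rw [← h5]
    exact w.2
  let K := Σ k : Fin n, J k
  have hKfin : Finite K := inferInstance
  let WK : K → (pullback f c).Opens := fun a ↦ W a.1 a.2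
  obtain ⟨W', hle, hdisj, hsup⟩ := exists_disjointification' WK (fun a ↦ hWcl a.1 a.2)
  let T : (pullback f c).Opens := ⨆ a, WK a
  have hRcl : IsClosed (pullback.snd f c '' (T : Set ↥(pullback f c))ᶜ) :=
    (pullback.snd f c).isClosedMap _ T.2.isClosed_compl
  let V' : V.Opens := ⟨(pullback.snd f c '' (T : Set ↥(pullback f c))ᶜ)ᶜ, hRcl.isOpen_compl⟩
  have hv₀ : v₀ ∈ V' := by
    rintro ⟨p, hp, hpv⟩
    obtain ⟨k, j, hj⟩ := hcover p hpv
    exact hp (TopologicalSpace.Opens.mem_iSup.mpr ⟨⟨k, j⟩, hj⟩)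
  let c' : (V' : Scheme.{u}) ⟶ Y := V'.ι ≫ c
  let ρ : pullback f c' ⟶ pullback f c :=
    pullback.map f c' f c (𝟙 X) V'.ι (𝟙 Y) (by simp) (by simp [c'])
  have hρ1 : ρ ≫ pullback.fst f c = pullback.fst f c' := by
    simp only [ρ, pullback.map, pullback.lift_fst, Category.comp_id]
  have hρ2 : ρ ≫ pullback.snd f c = pullback.snd f c' ≫ V'.ι := pullback.lift_snd _ _ _
  let W'' : K → (pullback f c').Opens := fun a ↦ ρ ⁻¹ᵁ (W' a)
  have hdisj'' : ∀ a b, a ≠ b → Disjoint (W'' a) (W'' b) := by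
    intro a b hab S hSa hSb z hz
    exact (hdisj a b hab).le_bot ⟨hSa hz, hSb hz⟩
  have hcov'' : (⨆ a, W'' a) = ⊤ := by
    rw [eq_top_iff]
    intro z _
    have hz1 : ρ z ∈ T := by
      by_contra hcon
      have h1 : pullback.snd f c (ρ z) ∈ V' := by
        rw [← Scheme.Hom.comp_apply, hρ2, Scheme.Hom.comp_apply]
        exact (pullback.snd f c' z).2
      exact h1 ⟨ρ z, hcon, rfl⟩
    have hz2 : ρ z ∈ ⨆ k, W' k := by rw [hsup]; exact hz1
    obtain ⟨j, hj⟩ := TopologicalSpace.Opens.mem_iSup.mp hz2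
    exact TopologicalSpace.Opens.mem_iSup.mpr ⟨j, hj⟩
  refine ⟨V', c', ⟨v₀, hv₀⟩, inferInstance, hcv, ULift.{u} K, inferInstance,
    fun a ↦ W'' a.down, ?_, ?_, ?_⟩
  · intro a b hab
    exact hdisj'' a.down b.down (fun h ↦ hab (ULift.ext _ _ h))
  · rw [eq_top_iff, ← hcov'']
    exact iSup_le fun a ↦ le_iSup (fun a : ULift.{u} K ↦ W'' a.down) ⟨a⟩
  · intro a
    refine ⟨(ρ ∣_ W' a.down) ≫ (pullback f c).homOfLE (hle a.down) ≫ h a.down.1 a.down.2, ?_⟩
    simp only [Category.assoc]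
    rw [hh a.down.1 a.down.2]
    change _ ≫ _ ≫ (WK a.down).ι ≫ _ = _
    rw [Scheme.homOfLE_ι_assoc, morphismRestrict_ι_assoc, hρ1]

/-- The pointwise form of condition (B) at `y`, for a family of étale charts of `X`. -/
def HasPieces {X Y : Scheme.{u}} (f : X ⟶ Y) {ι : Type*} (U : ι → Scheme.{u})
    (g : ∀ i, U i ⟶ X) (y : Y) : Prop :=
  ∃ (V : Scheme.{u}) (c : V ⟶ Y) (v₀ : V), Etale c ∧ c v₀ = y ∧
    ∃ (K : Type u) (W : K → (pullback f c).Opens),
      (∀ a b, a ≠ b → Disjoint (W a) (W b)) ∧ (⨆ a, W a) = ⊤ ∧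
      ∀ a, ∃ (i : ι) (h : (W a : Scheme.{u}) ⟶ U i), h ≫ g i = (W a).ι ≫ pullback.fst f c

/-- Transfer of pieces along a base change of an étale chart. -/
theorem pieces_transfer {X X₀ Y U₀ T : Scheme.{u}} (f : X ⟶ Y) (f₀ : X₀ ⟶ Y) (π : X ⟶ X₀)
    (hf : f = π ≫ f₀) (g₀ : U₀ ⟶ X₀) (a : T ⟶ X) (b : T ⟶ U₀)
    (hT : IsPullback a b π g₀) {V : Scheme.{u}} (c : V ⟶ Y) {K : Type u}
    (W₀ : K → (pullback f₀ c).Opens) (hdisj : ∀ a b, a ≠ b → Disjoint (W₀ a) (W₀ b))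
    (hcov : (⨆ a, W₀ a) = ⊤)
    (hh : ∀ k, ∃ h : (W₀ k : Scheme.{u}) ⟶ U₀, h ≫ g₀ = (W₀ k).ι ≫ pullback.fst f₀ c) :
    ∃ W : K → (pullback f c).Opens, (∀ a b, a ≠ b → Disjoint (W a) (W b)) ∧ (⨆ a, W a) = ⊤ ∧
      ∀ k, ∃ h : (W k : Scheme.{u}) ⟶ T, h ≫ a = (W k).ι ≫ pullback.fst f c := by
  subst hf
  let θ : pullback (π ≫ f₀) c ⟶ pullback f₀ c :=
    pullback.map (π ≫ f₀) c f₀ c π (𝟙 V) (𝟙 Y) (by simp) (by simp)
  have hθ1 : θ ≫ pullback.fst f₀ c = pullback.fst (π ≫ f₀) c ≫ π := pullback.lift_fst _ _ _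
  refine ⟨fun k ↦ θ ⁻¹ᵁ (W₀ k), ?_, ?_, ?_⟩
  · intro a b hab S hSa hSb z hz
    exact (hdisj a b hab).le_bot ⟨hSa hz, hSb hz⟩
  · rw [eq_top_iff]
    intro z _
    have hz1 : θ z ∈ ⨆ a, W₀ a := by rw [hcov]; trivial
    obtain ⟨k, hk⟩ := TopologicalSpace.Opens.mem_iSup.mp hz1
    exact TopologicalSpace.Opens.mem_iSup.mpr ⟨k, hk⟩
  · intro k
    obtain ⟨h₀, hcomm₀⟩ := hh k
    refine ⟨hT.lift ((θ ⁻¹ᵁ (W₀ k)).ι ≫ pullback.fst (π ≫ f₀) c) ((θ ∣_ W₀ k) ≫ h₀) ?_,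
      hT.lift_fst _ _ _⟩
    rw [Category.assoc, Category.assoc, hcomm₀, morphismRestrict_ι_assoc, hθ1]

open TensorProduct in
/-- Pointwise (B) for the spectrum of an integral ring map and a single affine étale chart
covering the fibre. -/
theorem hasPieces_SpecMap_of_isIntegral_single {A B : CommRingCat.{u}} (φ : A ⟶ B)
    (hφ : φ.hom.IsIntegral) {U : Scheme.{u}} [IsAffine U] (g : U ⟶ Spec B) [Etale g]
    (y : Spec A) (hy : ∀ x, Spec.map φ x = y → x ∈ Set.range g) :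
    ∃ (V : Scheme.{u}) (c : V ⟶ Spec A) (v₀ : V), Etale c ∧ c v₀ = y ∧
      ∃ (K : Type u) (W : K → (pullback (Spec.map φ) c).Opens),
        (∀ a b, a ≠ b → Disjoint (W a) (W b)) ∧ (⨆ a, W a) = ⊤ ∧
        ∀ a, ∃ h : (W a : Scheme.{u}) ⟶ U, h ≫ g = (W a).ι ≫ pullback.fst (Spec.map φ) c := by
  let γ : B ⟶ Γ(U, ⊤) := Spec.preimage (U.isoSpec.inv ≫ g)
  have hγ : Spec.map γ = U.isoSpec.inv ≫ g := Spec.map_preimage _
  have hγE : γ.hom.Etale := by
    rw [← HasRingHomProperty.Spec_iff (P := @Etale), hγ]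
    infer_instance
  algebraize [φ.hom, γ.hom]
  have : Algebra.IsIntegral A B := ⟨hφ⟩
  obtain ⟨B₀, C₀, _, _, hfg, het, ⟨e⟩⟩ := Algebra.Etale.exists_subalgebra_fg A B Γ(U, ⊤)
  have : Algebra.FiniteType A B₀ := (Subalgebra.fg_iff_finiteType B₀).mp hfg
  have : Algebra.IsIntegral A B₀ := Algebra.IsIntegral.of_injective B₀.val Subtype.val_injective
  have hfin : Module.Finite A B₀ := Algebra.IsIntegral.finite
  have : Algebra.IsIntegral B₀ B := Algebra.IsIntegral.tower_top (R := A)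
  let f₀ : Spec (.of B₀) ⟶ Spec A := Spec.map (CommRingCat.ofHom (algebraMap A B₀))
  let π : Spec B ⟶ Spec (.of B₀) := Spec.map (CommRingCat.ofHom (algebraMap B₀ B))
  let g₀ : Spec (.of C₀) ⟶ Spec (.of B₀) := Spec.map (CommRingCat.ofHom (algebraMap B₀ C₀))
  let a : Spec (.of (B ⊗[B₀] C₀)) ⟶ Spec B :=
    Spec.map (CommRingCat.ofHom (Algebra.TensorProduct.includeLeftRingHom))
  let b : Spec (.of (B ⊗[B₀] C₀)) ⟶ Spec (.of C₀) :=
    Spec.map (CommRingCat.ofHom (Algebra.TensorProduct.includeRight (R := B₀) (A := B) (B := C₀)).toRingHom)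
  have hT : IsPullback a b π g₀ :=
    isPullback_SpecMap_of_isPushout _ _ _ _ (CommRingCat.isPushout_tensorProduct B₀ B C₀)
  have hf : Spec.map φ = π ≫ f₀ := by
    simp only [π, f₀, ← Spec.map_comp]
    congr 1
  have hπsurj : Function.Surjective π := Algebra.IsIntegral.comap_surjective B₀ B
  have hf₀F : IsFinite f₀ := by
    rw [IsFinite.SpecMap_iff]
    exact RingHom.finite_algebraMap.mpr hfin
  have hg₀E : Etale g₀ := by
    rw [HasRingHomProperty.Spec_iff (P := @Etale)]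
    exact RingHom.etale_algebraMap.mpr het
  let k : Spec (.of (B ⊗[B₀] C₀)) ⟶ U := Spec.map (CommRingCat.ofHom e.toRingHom) ≫ U.isoSpec.inv
  let k' : U ⟶ Spec (.of (B ⊗[B₀] C₀)) := U.isoSpec.hom ≫ Spec.map (CommRingCat.ofHom e.symm.toRingHom)
  have hk'k : k' ≫ k = 𝟙 U := by
    simp only [k, k', Category.assoc]
    rw [← Spec.map_comp_assoc]
    have : CommRingCat.ofHom e.toRingHom ≫ CommRingCat.ofHom e.symm.toRingHom = 𝟙 _ := by
      ext x
      exact e.symm_apply_apply x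
    rw [this, Spec.map_id]
    erw [Category.id_comp]
    rw [Iso.hom_inv_id]
  have hka : k ≫ g = a := by
    simp only [k, Category.assoc, ← hγ, a, ← Spec.map_comp]
    congr 1
    ext x
    exact e.commutes x
  have hy₀ : ∀ x₀, f₀ x₀ = y → x₀ ∈ Set.range g₀ := by
    intro x₀ hx₀
    obtain ⟨x, rfl⟩ := hπsurj x₀
    have h1 : Spec.map φ x = y := by
      have e1 := congr($(hf) x)
      simp only [Scheme.Hom.comp_apply] at e1
      rw [e1]; exact hx₀
    obtain ⟨u, rfl⟩ := hy x h1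
    refine ⟨b (k' u), ?_⟩
    have e2 := congr($(hT.w) (k' u))
    simp only [Scheme.Hom.comp_apply] at e2
    rw [← e2]
    congr 1
    have e3 := congr($(hka) (k' u))
    simp only [Scheme.Hom.comp_apply] at e3
    rw [← e3]
    congr 1
    have e4 := congr($(hk'k) u)
    simp only [Scheme.Hom.comp_apply] at e4
    exact e4
  obtain ⟨V, c, v₀, hc, hcv, K, -, W₀, hdisj, hcov, hh⟩ := exists_pieces_of_finite f₀ g₀ y hy₀
  obtain ⟨W, hdisjW, hcovW, hhW⟩ :=
    pieces_transfer (Spec.map φ) f₀ π hf g₀ a b hT c W₀ hdisj hcov hh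
  refine ⟨V, c, v₀, hc, hcv, K, W, hdisjW, hcovW, fun i ↦ ?_⟩
  obtain ⟨h, hh'⟩ := hhW i
  exact ⟨h ≫ k, by rw [Category.assoc, hka, hh']⟩

/-- Pointwise (B) for the spectrum of an integral ring map and a family of étale charts covering
the fibre. -/
theorem hasPieces_SpecMap_of_isIntegral {A B : CommRingCat.{u}} (φ : A ⟶ B)
    (hφ : φ.hom.IsIntegral) {ι : Type*} (U : ι → Scheme.{u}) (g : ∀ i, U i ⟶ Spec B)
    [∀ i, Etale (g i)] (y : Spec A) (hy : ∀ x, Spec.map φ x = y → ∃ i, x ∈ Set.range (g i)) :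
    HasPieces (Spec.map φ) U g y := by
  classical
  have hint : IsIntegralHom (Spec.map φ) := IsIntegralHom.SpecMap_iff.mpr hφ
  have hFc : IsCompact (Spec.map φ ⁻¹' {y}) := (Spec.map φ).isCompact_preimage_singleton y
  -- charts around the points of the fibre
  have hch : ∀ x : ↥(Spec.map φ ⁻¹' {y}), ∃ (i : ι) (O : (U i).Opens) (u : U i),
      IsAffineOpen O ∧ u ∈ O ∧ g i u = x.1 := by
    intro x
    obtain ⟨i, u, hu⟩ := hy x.1 x.2
    obtain ⟨_, ⟨O, hO, rfl⟩, huO, -⟩ :=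
      (U i).isBasis_affineOpens.exists_subset_of_mem_open (Set.mem_univ u) isOpen_univ
    exact ⟨i, O, u, hO, huO, hu⟩
  choose i O u hO hu hgu using hch
  let G : ↥(Spec.map φ ⁻¹' {y}) → Set ↥(Spec B) := fun x ↦ Set.range ((O x).ι ≫ g (i x))
  have hGopen : ∀ x, IsOpen (G x) := fun x ↦ ((O x).ι ≫ g (i x)).isOpenMap.isOpen_range
  have hGcov : Spec.map φ ⁻¹' {y} ⊆ ⋃ x, G x := by
    intro x hx
    refine Set.mem_iUnion.mpr ⟨⟨x, hx⟩, ⟨⟨u ⟨x, hx⟩, hu ⟨x, hx⟩⟩, ?_⟩⟩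
    rw [Scheme.Hom.comp_apply]
    exact hgu ⟨x, hx⟩
  obtain ⟨t, ht⟩ := hFc.elim_finite_subcover G hGopen hGcov
  -- the disjoint union of the finitely many charts
  let Ut : ↥t → Scheme.{u} := fun x ↦ ((O x.1 : (U (i x.1)).Opens) : Scheme.{u})
  have hUtaff : ∀ x : ↥t, IsAffine (Ut x) := fun x ↦ hO x.1
  let gt : (∐ Ut) ⟶ Spec B := Sigma.desc (fun x : ↥t ↦ (O x.1).ι ≫ g (i x.1))
  have hgtE : Etale gt := IsZariskiLocalAtSource.sigmaDesc (P := @Etale) (fun x ↦ inferInstance)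
  have hιgt : ∀ x : ↥t, Sigma.ι Ut x ≫ gt = (O x.1).ι ≫ g (i x.1) := fun x ↦ Sigma.ι_desc _ _
  have hyt : ∀ x, Spec.map φ x = y → x ∈ Set.range gt := by
    intro x hx
    obtain ⟨x', hx't, w, hw⟩ : ∃ x' ∈ t, x ∈ G x' := by
      have := ht hx
      simpa only [Set.mem_iUnion, exists_prop] using this
    refine ⟨Sigma.ι Ut ⟨x', hx't⟩ w, ?_⟩
    rw [← Scheme.Hom.comp_apply, hιgt]
    exact hw
  obtain ⟨V, c, v₀, hc, hcv, K, W, hdisj, hcov, hh⟩ :=
    hasPieces_SpecMap_of_isIntegral_single φ hφ gt y hyt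
  choose h hh using hh
  -- split the pieces along the components of the disjoint union
  let R : ↥t → (∐ Ut).Opens := fun x ↦ (Sigma.ι Ut x).opensRange
  let W' : K × ↥t → (pullback (Spec.map φ) c).Opens := fun p ↦
    (W p.1).ι ''ᵁ ((h p.1) ⁻¹ᵁ (R p.2))
  refine ⟨V, c, v₀, hc, hcv, K × ↥t, W', ?_, ?_, ?_⟩
  · rintro ⟨a, x⟩ ⟨a', x'⟩ hne S hS1 hS2 z hz
    obtain ⟨w, hw, hwz⟩ := hS1 hz
    obtain ⟨w', hw', hwz'⟩ := hS2 hz
    have haa' : a = a' := by
      by_contra hcon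
      have h1 : z ∈ W a := by rw [← hwz]; exact w.2
      have h2 : z ∈ W a' := by rw [← hwz']; exact w'.2
      exact (hdisj a a' hcon).le_bot ⟨h1, h2⟩
    subst haa'
    have hww' : w = w' := (W a).ι.isOpenEmbedding.injective (hwz.trans hwz'.symm)
    subst hww'
    have hxx' : x = x' := by
      by_contra hcon
      exact (disjoint_opensRange_sigmaι Ut x x' hcon).le_bot ⟨hw, hw'⟩
    exact hne (by rw [hxx'])
  · rw [eq_top_iff]
    intro z _
    have hz1 : z ∈ ⨆ a, W a := by rw [hcov]; trivial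
    obtain ⟨a, ha⟩ := TopologicalSpace.Opens.mem_iSup.mp hz1
    obtain ⟨x, w, hw⟩ := (sigmaOpenCover Ut).exists_eq (h a ⟨z, ha⟩)
    refine TopologicalSpace.Opens.mem_iSup.mpr ⟨(a, x), ⟨⟨z, ha⟩, ⟨w, hw⟩, rfl⟩⟩
  · rintro ⟨a, x⟩
    refine ⟨i x.1, ((W a).ι.isoImage ((h a) ⁻¹ᵁ (R x))).inv ≫ (h a ∣_ R x) ≫
      (Sigma.ι Ut x).isoOpensRange.inv ≫ (O x.1).ι, ?_⟩
    simp only [Category.assoc]
    rw [← hιgt x, Scheme.Hom.isoOpensRange_inv_comp_assoc, morphismRestrict_ι_assoc, hh a,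
      Scheme.Hom.isoImage_inv_ι_assoc]

/-- Pointwise (B) at all points, for all families of étale charts (indexed by `ι`) covering the
fibre. -/
def HasPiecesAll {X Y : Scheme.{u}} (f : X ⟶ Y) (ι : Type*) : Prop :=
  ∀ (U : ι → Scheme.{u}) (g : ∀ i, U i ⟶ X) [∀ i, Etale (g i)] (y : Y),
    (∀ x, f x = y → ∃ i, x ∈ Set.range (g i)) → HasPieces f U g y

/-- Pointwise (B) is local on the target and invariant under isomorphisms of arrows. -/
theorem hasPiecesAll_of_local {X Y : Scheme.{u}} (f : X ⟶ Y) (ι : Type*)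
    (H : ∀ y : Y, ∃ (Y' X' : Scheme.{u}) (ι' : Y' ⟶ Y) (j : X' ⟶ X) (f' : X' ⟶ Y'),
      IsOpenImmersion ι' ∧ y ∈ Set.range ι' ∧ IsPullback j f' f ι' ∧ HasPiecesAll f' ι) :
    HasPiecesAll f ι := by
  intro U g _ y hy
  obtain ⟨Y', X', ι', j, f', hι', ⟨y', hy'⟩, hpb, hA⟩ := H y
  have hj : IsOpenImmersion j := MorphismProperty.of_isPullback hpb.flip hι'
  have hy2 : ∀ x', f' x' = y' → ∃ i, x' ∈ Set.range (pullback.snd (g i) j) := by
    intro x' hx'
    have h1 : f (j x') = y := by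
      have := congr($(hpb.w) x')
      simp only [Scheme.Hom.comp_apply] at this
      rw [this, hx', hy']
    obtain ⟨i, u, hu⟩ := hy (j x') h1
    obtain ⟨w, -, hw⟩ := Scheme.Pullback.exists_preimage_pullback (f := g i) (g := j) u x' hu
    exact ⟨i, w, hw⟩
  obtain ⟨V, c, v₀, hc, hcv, K, W, hdisj, hcov, hh⟩ :=
    hA (fun i ↦ pullback (g i) j) (fun i ↦ pullback.snd (g i) j) y' hy2
  have hκ : IsPullback (pullback.fst f' c ≫ j) (pullback.snd f' c) f (c ≫ ι') :=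
    ((IsPullback.of_hasPullback f' c).flip.paste_vert hpb.flip).flip
  let κ : pullback f' c ≅ pullback f (c ≫ ι') := hκ.isoPullback
  have hκ1 : κ.inv ≫ pullback.fst f' c ≫ j = pullback.fst f (c ≫ ι') := by
    rw [Iso.inv_comp_eq]
    exact hκ.isoPullback_hom_fst.symm
  refine ⟨V, c ≫ ι', v₀, inferInstance, by rw [Scheme.Hom.comp_apply, hcv, hy'], K,
    fun k ↦ κ.inv ⁻¹ᵁ (W k), ?_, ?_, ?_⟩
  · intro a b hab S hSa hSb z hz
    exact (hdisj a b hab).le_bot ⟨hSa hz, hSb hz⟩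
  · rw [eq_top_iff]
    intro z _
    have hz1 : κ.inv z ∈ ⨆ a, W a := by rw [hcov]; trivial
    obtain ⟨k, hk⟩ := TopologicalSpace.Opens.mem_iSup.mp hz1
    exact TopologicalSpace.Opens.mem_iSup.mpr ⟨k, hk⟩
  · intro k
    obtain ⟨i, h, hcomm⟩ := hh k
    refine ⟨i, (κ.inv ∣_ W k) ≫ h ≫ pullback.fst (g i) j, ?_⟩
    rw [Category.assoc, Category.assoc, pullback.condition, reassoc_of% hcomm,
      morphismRestrict_ι_assoc, hκ1]

/-- Pointwise (B) for integral morphisms between affine schemes. -/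
theorem hasPiecesAll_of_isIntegralHom_of_isAffine {X Y : Scheme.{u}} (f : X ⟶ Y)
    [IsIntegralHom f] [IsAffine X] [IsAffine Y] (ι : Type*) : HasPiecesAll f ι := by
  apply hasPiecesAll_of_local
  intro y
  have h1 : IsIntegralHom (Spec.map f.appTop) :=
    (MorphismProperty.arrow_mk_iso_iff @IsIntegralHom (arrowIsoSpecΓOfIsAffine f)).mp inferInstance
  refine ⟨Spec Γ(Y, ⊤), Spec Γ(X, ⊤), Y.isoSpec.inv, X.isoSpec.inv, Spec.map f.appTop, inferInstance,
    ⟨Y.isoSpec.hom y, by rw [← Scheme.Hom.comp_apply, Iso.hom_inv_id]; rfl⟩, ?_, ?_⟩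
  · exact IsPullback.of_horiz_isIso ⟨(Scheme.isoSpec_inv_naturality f).symm⟩
  · intro U g _ y' hy'
    exact hasPieces_SpecMap_of_isIntegral _ (IsIntegralHom.SpecMap_iff.mp h1) U g y' hy'

/-- Pointwise (B) for integral morphisms. -/
theorem hasPiecesAll_of_isIntegralHom {X Y : Scheme.{u}} (f : X ⟶ Y) [IsIntegralHom f]
    (ι : Type*) : HasPiecesAll f ι := by
  apply hasPiecesAll_of_local
  intro y
  obtain ⟨Y₀, hY₀, hy⟩ : ∃ V : Y.Opens, IsAffineOpen V ∧ y ∈ V := by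
    obtain ⟨_, ⟨V, hV, rfl⟩, hxV, -⟩ :=
      Y.isBasis_affineOpens.exists_subset_of_mem_open (Set.mem_univ y) isOpen_univ
    exact ⟨V, hV, hxV⟩
  have : IsAffine (Y₀ : Scheme.{u}) := hY₀
  have : IsAffine ((f ⁻¹ᵁ Y₀ : X.Opens) : Scheme.{u}) := hY₀.preimage f
  exact ⟨Y₀, (f ⁻¹ᵁ Y₀ : X.Opens), Y₀.ι, (f ⁻¹ᵁ Y₀).ι, f ∣_ Y₀, inferInstance, ⟨⟨y, hy⟩, rfl⟩,
    (isPullback_morphismRestrict f Y₀).flip, hasPiecesAll_of_isIntegralHom_of_isAffine _ ι⟩

/-- Condition (B) for integral morphisms. -/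
theorem propB_of_isIntegralHom {X Y : Scheme.{u}} (f : X ⟶ Y) [IsIntegralHom f] :
    BigSite.PropB f := by
  intro V v _ ι U g hg hcov
  have : ∀ i, Etale (g i) := hg
  have key : ∀ y : V, HasPieces (pullback.snd f v) U g y := fun y ↦
    hasPiecesAll_of_isIntegralHom (pullback.snd f v) ι U g y (fun x _ ↦ hcov x)
  choose V' c v₀ hc hcv K W hdisj hcovW hh using key
  refine ⟨↥V, V', c, hc, fun y ↦ ⟨y, v₀ y, hcv y⟩, fun y ↦ ?_⟩
  let e : pullback (pullback.snd f v) (c y) ≅ pullback f (c y ≫ v) :=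
    pullbackLeftPullbackSndIso f v (c y)
  have he : e.inv ≫ pullback.fst (pullback.snd f v) (c y) =
      pullback.map f (c y ≫ v) f v (𝟙 X) (c y) (𝟙 Y) (by simp) (by simp) := by
    apply pullback.hom_ext
    · rw [Category.assoc, pullback.lift_fst, Category.comp_id]
      exact pullbackLeftPullbackSndIso_inv_fst f v (c y)
    · rw [Category.assoc, pullback.lift_snd, pullback.condition]
      exact pullbackLeftPullbackSndIso_inv_snd_snd_assoc f v (c y) _
  refine ⟨K y, fun a ↦ e.inv ⁻¹ᵁ (W y a), ?_, ?_, ?_⟩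
  · intro a b hab S hSa hSb z hz
    exact (hdisj y a b hab).le_bot ⟨hSa hz, hSb hz⟩
  · rw [eq_top_iff]
    intro z _
    have hz1 : e.inv z ∈ ⨆ a, W y a := by rw [hcovW y]; trivial
    obtain ⟨k, hk⟩ := TopologicalSpace.Opens.mem_iSup.mp hz1
    exact TopologicalSpace.Opens.mem_iSup.mpr ⟨k, hk⟩
  · intro a
    obtain ⟨i, h, hcomm⟩ := hh y a
    refine ⟨i, (e.inv ∣_ W y a) ≫ h, ?_⟩
    rw [Category.assoc, hcomm, morphismRestrict_ι_assoc, he]

end Groth.Agent.H7
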