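import Mathlib
import Groth.Agent.H7.PropBIntegral
import Groth.Agent.H4.PropBSh
import Groth.Prelude.Def_EtBase

set_option autoImplicit false
universe u

namespace Groth.Agent.H7

open AlgebraicGeometry CategoryTheory Limits

/-- Direct image of abelian étale sheaves along a morphism satisfying (B) preserves
epimorphisms (reduction to sheaves of sets). -/
theorem push_preservesEpimorphisms_of_propB {X Y : Scheme.{u}} (f : X ⟶ Y)
    (hB : BigSite.PropB f) : (EtCoh.push f).PreservesEpimorphisms := by
  have hSh := Groth.Agent.H4.PropBSh.preservesEpi f hB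
  constructor
  intro G F a hepi
  have h1 : Sheaf.IsLocallySurjective a :=
    (Sheaf.isLocallySurjective_iff_epi' (A := AddCommGrpCat.{u + 1}) a).2 hepi
  let a' := (sheafCompose X.smallEtaleTopology (forget AddCommGrpCat.{u + 1})).map a
  have h2 : Sheaf.IsLocallySurjective a' := inferInstance
  have h3 : Epi a' := (Sheaf.isLocallySurjective_iff_epi a').1 h2
  have h4 : Epi ((EtDesc.pushSh f).map a') := inferInstance
  have h5 : Sheaf.IsLocallySurjective ((EtDesc.pushSh f).map a') :=
    (Sheaf.isLocallySurjective_iff_epi _).2 h4
  have h6 : Sheaf.IsLocallySurjective ((EtCoh.push f).map a) := by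
    change Presheaf.IsLocallySurjective _ _
    rw [Presheaf.isLocallySurjective_iff_whisker_forget]
    exact h5
  exact (Sheaf.isLocallySurjective_iff_epi' (A := AddCommGrpCat.{u + 1}) _).1 h6

end Groth.Agent.H7
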