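import Mathlib

/-!
# Descent of (local) Noetherianity along faithfully flat maps (helper for S1405, S1406)
-/

namespace Groth.Agent.H7

open AlgebraicGeometry CategoryTheory Limits

universe u

/-- Noetherianity descends along faithfully flat ring maps. -/
theorem isNoetherianRing_of_faithfullyFlat (A B : Type*) [CommRing A] [CommRing B] [Algebra A B]
    [Module.FaithfullyFlat A B] [IsNoetherianRing B] : IsNoetherianRing A := by
  rw [isNoetherianRing_iff, isNoetherian_iff']
  have hsm : StrictMono (Ideal.map (algebraMap A B)) :=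
    (show Monotone (Ideal.map (algebraMap A B)) from
      fun _ _ h ↦ Ideal.map_mono h).strictMono_of_injective Ideal.map_injective_of_faithfullyFlat
  have : WellFoundedGT (Ideal B) := isNoetherian_iff'.mp inferInstance
  exact hsm.wellFoundedGT

/-- finite products of flat modules are flat. -/
theorem flat_pi_of_finite {A : Type*} [CommRing A] {κ : Type*} [Finite κ] (M : κ → Type*)
    [∀ k, AddCommGroup (M k)] [∀ k, Module A (M k)] [∀ k, Module.Flat A (M k)] :
    Module.Flat A (Π k, M k) := by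
  classical
  have := Fintype.ofFinite κ
  exact Module.Flat.of_linearEquiv (DFinsupp.linearEquivFunOnFintype (R := A) (M := M)).symm

/-- core: a flat morphism, an affine open of the target covered by images of finitely many
Noetherian affine opens of the source. -/
theorem isNoetherianRing_of_finite_affine_cover {T' T : Scheme.{u}} (a : T' ⟶ T) [Flat a]
    (U : T.affineOpens) {κ : Type u} [Finite κ] (W : κ → T'.affineOpens)
    (hWU : ∀ k, (W k).1 ≤ a ⁻¹ᵁ U.1) (hcov : (U.1 : Set T) ⊆ ⋃ k, a '' (W k).1)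
    (hN : ∀ k, IsNoetherianRing Γ(T', (W k).1)) : IsNoetherianRing Γ(T, U.1) := by
  have hU : IsAffineOpen U.1 := U.2
  have hW : ∀ k, IsAffineOpen (W k).1 := fun k ↦ (W k).2
  let φ : Γ(T, U.1) →+* Π k, Γ(T', (W k).1) :=
    RingHom.pi fun k ↦ (a.appLE U.1 (W k).1 (hWU k)).hom
  let : Algebra Γ(T, U.1) (Π k, Γ(T', (W k).1)) := φ.toAlgebra
  have hflatk : ∀ k, (a.appLE U.1 (W k).1 (hWU k)).hom.Flat :=
    fun k ↦ Scheme.Hom.flat_appLE a hU (hW k) (hWU k)
  have hflat : Module.Flat Γ(T, U.1) (Π k, Γ(T', (W k).1)) := by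
    let : ∀ k, Module Γ(T, U.1) Γ(T', (W k).1) :=
      fun k ↦ (a.appLE U.1 (W k).1 (hWU k)).hom.toAlgebra.toModule
    have : ∀ k, Module.Flat Γ(T, U.1) Γ(T', (W k).1) := hflatk
    exact flat_pi_of_finite _
  have hff : Module.FaithfullyFlat Γ(T, U.1) (Π k, Γ(T', (W k).1)) := by
    refine Module.FaithfullyFlat.of_comap_surjective fun p ↦ ?_
    have hpU : hU.fromSpec p ∈ (U.1 : Set T) := by
      rw [← hU.range_fromSpec]; exact ⟨p, rfl⟩
    obtain ⟨k, t', ht'W, ht'⟩ : ∃ k, ∃ t' ∈ ((W k).1 : Set T'), a t' = hU.fromSpec p := by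
      simpa using hcov hpU
    let q := (hW k).primeIdealOf ⟨t', ht'W⟩
    refine ⟨PrimeSpectrum.comap (Pi.evalRingHom _ k) q, ?_⟩
    have h1 := IsAffineOpen.comap_primeIdealOf_appLE (f := a) U.1 hU (W k).1 (hW k) (hWU k) ht'W
    have h2 : hU.primeIdealOf ⟨a t', hWU k ht'W⟩ = p := by
      apply hU.fromSpec.isOpenEmbedding.injective
      rw [hU.fromSpec_primeIdealOf]; exact ht'
    rw [← h2, ← h1]
    rfl
  exact isNoetherianRing_of_faithfullyFlat Γ(T, U.1) (Π k, Γ(T', (W k).1))

/-- (D) descent along flat surjective open maps. -/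
theorem isLocallyNoetherian_of_flat_surjective_isOpenMap {T' T : Scheme.{u}} (a : T' ⟶ T) [Flat a]
    [Surjective a] (hopen : IsOpenMap a) [IsLocallyNoetherian T'] : IsLocallyNoetherian T := by
  refine ⟨fun U ↦ ?_⟩
  have hU : IsAffineOpen U.1 := U.2
  have H : ∀ t : U.1, ∃ W : T'.affineOpens, W.1 ≤ a ⁻¹ᵁ U.1 ∧ t.1 ∈ a '' (W.1 : Set T') := by
    intro t
    obtain ⟨t', ht'⟩ := a.surjective t.1
    obtain ⟨_, ⟨W, hW, rfl⟩, ht'W, hWU⟩ := T'.isBasis_affineOpens.exists_subset_of_mem_open
      (a := t') (show t' ∈ (a ⁻¹ᵁ U.1 : Set T') by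
        change a t' ∈ U.1
        rw [ht']; exact t.2) (a ⁻¹ᵁ U.1).2
    exact ⟨⟨W, hW⟩, hWU, t', ht'W, ht'⟩
  choose W hWU htW using H
  obtain ⟨s, hs⟩ := hU.isCompact.elim_finite_subcover (fun t : U.1 ↦ a '' ((W t).1 : Set T'))
    (fun t ↦ hopen _ (W t).1.2) (fun x hx ↦ Set.mem_iUnion.mpr ⟨⟨x, hx⟩, htW _⟩)
  refine isNoetherianRing_of_finite_affine_cover a U (κ := s) (fun k ↦ W k.1) (fun k ↦ hWU k.1)
    ?_ (fun k ↦ IsLocallyNoetherian.component_noetherian (W k.1))
  intro x hx
  obtain ⟨t, ht⟩ := Set.mem_iUnion.mp (hs hx)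
  obtain ⟨hts, hx'⟩ := Set.mem_iUnion.mp ht
  exact Set.mem_iUnion.mpr ⟨⟨t, hts⟩, hx'⟩

/-- (D'') descent along flat surjective quasi-compact morphisms. -/
theorem isLocallyNoetherian_of_flat_surjective_quasiCompact {T' T : Scheme.{u}} (a : T' ⟶ T)
    [Flat a] [Surjective a] [QuasiCompact a] [IsLocallyNoetherian T'] : IsLocallyNoetherian T := by
  refine ⟨fun U ↦ ?_⟩
  have hU : IsAffineOpen U.1 := U.2
  have hc : IsCompact ((a ⁻¹ᵁ U.1 : T'.Opens) : Set T') := a.isCompact_preimage hU.isCompact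
  have H : ∀ t' : (a ⁻¹ᵁ U.1 : T'.Opens), ∃ W : T'.affineOpens, W.1 ≤ a ⁻¹ᵁ U.1 ∧ t'.1 ∈ W.1 := by
    intro t'
    obtain ⟨_, ⟨W, hW, rfl⟩, ht'W, hWU⟩ := T'.isBasis_affineOpens.exists_subset_of_mem_open
      (a := t'.1) t'.2 (a ⁻¹ᵁ U.1).2
    exact ⟨⟨W, hW⟩, hWU, ht'W⟩
  choose W hWU htW using H
  obtain ⟨s, hs⟩ := hc.elim_finite_subcover (fun t' ↦ ((W t').1 : Set T'))
    (fun t' ↦ (W t').1.2) (fun x hx ↦ Set.mem_iUnion.mpr ⟨⟨x, hx⟩, htW _⟩)
  refine isNoetherianRing_of_finite_affine_cover a U (κ := s) (fun k ↦ W k.1) (fun k ↦ hWU k.1)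
    ?_ (fun k ↦ IsLocallyNoetherian.component_noetherian (W k.1))
  intro x hx
  obtain ⟨x', rfl⟩ := a.surjective x
  obtain ⟨t, ht⟩ := Set.mem_iUnion.mp (hs (show x' ∈ ((a ⁻¹ᵁ U.1 : T'.Opens) : Set T') from hx))
  obtain ⟨hts, hx'⟩ := Set.mem_iUnion.mp ht
  exact Set.mem_iUnion.mpr ⟨⟨t, hts⟩, x', hx', rfl⟩

/-- the comparison of fibres `(a ≫ f).fiber y ⟶ f.fiber y`, a base change of `a`. -/
noncomputable def fiberComp {X X' Y : Scheme.{u}} (f : X ⟶ Y) (a : X' ⟶ X) (y : Y) :
    (a ≫ f).fiber y ⟶ f.fiber y :=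
  pullback.lift ((a ≫ f).fiberι y ≫ a) ((a ≫ f).fiberToSpecResidueField y)
    (by rw [Category.assoc]; exact (a ≫ f).fiber_fac y)

theorem isPullback_fiberComp {X X' Y : Scheme.{u}} (f : X ⟶ Y) (a : X' ⟶ X) (y : Y) :
    IsPullback ((a ≫ f).fiberι y) (fiberComp f a y) a (f.fiberι y) := by
  have hbig : IsPullback ((a ≫ f).fiberι y) ((a ≫ f).fiberToSpecResidueField y) (a ≫ f)
      (Y.fromSpecResidueField y) := IsPullback.of_hasPullback _ _
  have hright : IsPullback (f.fiberι y) (f.fiberToSpecResidueField y) f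
      (Y.fromSpecResidueField y) := IsPullback.of_hasPullback _ _
  have e1 : fiberComp f a y ≫ f.fiberι y = (a ≫ f).fiberι y ≫ a := pullback.lift_fst _ _ _
  have e2 : fiberComp f a y ≫ f.fiberToSpecResidueField y = (a ≫ f).fiberToSpecResidueField y :=
    pullback.lift_snd _ _ _
  refine (IsPullback.of_right ?_ e1 hright.flip).flip
  rw [e2]; exact hbig.flip

theorem isLocallyNoetherian_fiber_comp_iff {X X' Y : Scheme.{u}} (f : X ⟶ Y) (a : X' ⟶ X) [Flat a]
    [LocallyOfFinitePresentation a] [Surjective a] (y : Y) :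
    IsLocallyNoetherian (f.fiber y) ↔ IsLocallyNoetherian ((a ≫ f).fiber y) := by
  have sq := isPullback_fiberComp f a y
  have : Flat (fiberComp f a y) := MorphismProperty.of_isPullback sq inferInstance
  have : LocallyOfFinitePresentation (fiberComp f a y) :=
    MorphismProperty.of_isPullback sq inferInstance
  have : Surjective (fiberComp f a y) := MorphismProperty.of_isPullback sq inferInstance
  constructor
  · intro h
    exact LocallyOfFiniteType.isLocallyNoetherian (fiberComp f a y)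
  · intro h
    exact isLocallyNoetherian_of_flat_surjective_isOpenMap (fiberComp f a y)
      (fiberComp f a y).isOpenMap

open TensorProduct in
/-- (E) base change along `Spec` of an essentially finite type ring map preserves local
Noetherianity. -/
theorem isLocallyNoetherian_of_isPullback_Spec_essFiniteType {T' T : Scheme.{u}}
    {K K' : CommRingCat.{u}} (φ : K ⟶ K') (hφ : φ.hom.EssFiniteType) (c : T' ⟶ T)
    (p : T' ⟶ Spec K') (q : T ⟶ Spec K) (h : IsPullback c p q (Spec.map φ))
    [IsLocallyNoetherian T] : IsLocallyNoetherian T' := by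
  rw [isLocallyNoetherian_iff_openCover (T.affineOpenCover.openCover.pullback₁ c)]
  intro i
  change IsLocallyNoetherian (pullback c (T.affineOpenCover.f i))
  have h1 : IsPullback (pullback.snd c (T.affineOpenCover.f i))
      (pullback.fst c (T.affineOpenCover.f i) ≫ p) (T.affineOpenCover.f i ≫ q) (Spec.map φ) :=
    (IsPullback.of_hasPullback c _).flip.paste_vert h
  obtain ⟨ψ, hψ⟩ := Spec.map_surjective (T.affineOpenCover.f i ≫ q)
  rw [← hψ] at h1
  let := ψ.hom.toAlgebra
  let := φ.hom.toAlgebra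
  have : Algebra.EssFiniteType K K' := hφ
  have : IsLocallyNoetherian (Spec (T.affineOpenCover.X i)) :=
    isLocallyNoetherian_of_isOpenImmersion (T.affineOpenCover.f i)
  have : IsNoetherianRing (T.affineOpenCover.X i) := isLocallyNoetherian_Spec.mp this
  have : IsNoetherianRing ((T.affineOpenCover.X i) ⊗[K] K') :=
    Algebra.EssFiniteType.isNoetherianRing (T.affineOpenCover.X i) _
  let e : pullback c (T.affineOpenCover.f i) ≅ Spec (.of ((T.affineOpenCover.X i) ⊗[K] K')) :=
    h1.isoPullback ≪≫ pullbackSpecIso K (T.affineOpenCover.X i) K'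
  exact isLocallyNoetherian_of_isOpenImmersion e.hom

/-- descent along a base change of a flat surjective `Spec.map`. -/
theorem isLocallyNoetherian_of_isPullback_Spec_flat_surjective {T' T : Scheme.{u}}
    {K K' : CommRingCat.{u}} (φ : K ⟶ K') (hm1 : Flat (Spec.map φ)) (hm2 : Surjective (Spec.map φ))
    (c : T' ⟶ T) (p : T' ⟶ Spec K') (q : T ⟶ Spec K) (h : IsPullback c p q (Spec.map φ))
    [IsLocallyNoetherian T'] : IsLocallyNoetherian T := by
  have h1 := MorphismProperty.of_isPullback (P := @Flat) h.flip hm1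
  have h2 := MorphismProperty.of_isPullback (P := @Surjective) h.flip hm2
  have h3 := MorphismProperty.of_isPullback (P := @QuasiCompact) h.flip inferInstance
  exact isLocallyNoetherian_of_flat_surjective_quasiCompact c

/-- S1405: locally Noetherian fibres and fppf base change. -/
theorem forall_isLocallyNoetherian_fiber_iff_of_isPullback {X Y X' Y' : Scheme.{u}} (f : X ⟶ Y)
    (f' : X' ⟶ Y') (g' : X' ⟶ X) (g : Y' ⟶ Y) [Flat g] [LocallyOfFinitePresentation g]
    [Surjective g] (hc : IsPullback g' f' f g) :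
    (∀ y : Y, IsLocallyNoetherian (f.fiber y)) ↔
      ∀ y' : Y', IsLocallyNoetherian (f'.fiber y') := by
  have key : ∀ y' : Y', IsLocallyNoetherian (f.fiber (g y')) ↔
      IsLocallyNoetherian (f'.fiber y') := by
    intro y'
    have sq := isPullback_fiberToSpecResidueField_of_isPullback hc y'
    constructor
    · intro h
      have hess : (g.residueFieldMap y').hom.EssFiniteType :=
        RingHom.EssFiniteType.residueFieldMap (LocallyOfFiniteType.stalkMap g y')
      have h' : IsLocallyNoetherian (pullback f (Y.fromSpecResidueField (g y'))) := h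
      exact isLocallyNoetherian_of_isPullback_Spec_essFiniteType (g.residueFieldMap y') hess
        _ _ _ sq
    · intro h
      have hm1 : Flat (Spec.map (g.residueFieldMap y')) := by
        rw [HasRingHomProperty.Spec_iff (P := @Flat)]
        let := (g.residueFieldMap y').hom.toAlgebra
        change Module.Flat (Y.residueField (g y')) (Y'.residueField y')
        infer_instance
      have hm2 : Surjective (Spec.map (g.residueFieldMap y')) := by
        refine ⟨fun z ↦ ⟨⟨⊥, Ideal.isPrime_bot⟩, ?_⟩⟩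
        exact Subsingleton.elim (α := PrimeSpectrum (Y.residueField (g y'))) _ _
      have h' : IsLocallyNoetherian (pullback f' (Y'.fromSpecResidueField y')) := h
      exact isLocallyNoetherian_of_isPullback_Spec_flat_surjective (g.residueFieldMap y') hm1 hm2
        _ _ _ sq
  constructor
  · intro h y'; exact (key y').mp (h _)
  · intro h y
    obtain ⟨y', rfl⟩ := g.surjective y
    exact (key y').mpr (h y')

end Groth.Agent.H7
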