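import Mathlib

/-!
# Ring-level lemmas for thickenings: lifting properties along quotients by nil(potent) ideals
-/

set_option autoImplicit false
universe u

namespace Groth.Agent.H7

open CategoryTheory Limits

/-- Nilpotent Nakayama: if `N + I M = M` with `I` nilpotent then `N = M`. -/
theorem eq_top_of_sup_smul_top_eq_top_of_pow_eq_bot {R M : Type*} [CommRing R] [AddCommGroup M]
    [Module R M] (I : Ideal R) {n : ℕ} (hI : I ^ n = ⊥) (N : Submodule R M)
    (h : N ⊔ I • (⊤ : Submodule R M) = ⊤) : N = ⊤ := by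
  have key : ∀ k : ℕ, N ⊔ I ^ k • (⊤ : Submodule R M) = ⊤ := by
    intro k
    induction k with
    | zero => simp
    | succ k ih =>
      rw [eq_top_iff]
      calc (⊤ : Submodule R M) = N ⊔ I • (⊤ : Submodule R M) := h.symm
        _ = N ⊔ I • (N ⊔ I ^ k • (⊤ : Submodule R M)) := by rw [ih]
        _ = N ⊔ (I • N ⊔ I • (I ^ k • (⊤ : Submodule R M))) := by rw [Submodule.smul_sup]
        _ ≤ N ⊔ I ^ (k + 1) • (⊤ : Submodule R M) := by
          rw [← Submodule.mul_smul, ← pow_succ']
          exact sup_le le_sup_left (sup_le (le_sup_of_le_left Submodule.smul_le_right) le_sup_right)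
  have := key n
  rwa [hI, Submodule.bot_smul, sup_bot_eq] at this

/-- In a pushout square of commutative rings with `α` surjective, `β` is surjective and its kernel
is generated by the image of the kernel of `α`. -/
theorem surjective_and_ker_of_isPushout {A' B' A B : CommRingCat.{u}} {φ' : A' ⟶ B'}
    {α : A' ⟶ A} {β : B' ⟶ B} {φ : A ⟶ B} (h : IsPushout φ' α β φ)
    (hα : Function.Surjective α.hom) :
    Function.Surjective β.hom ∧ RingHom.ker β.hom = (RingHom.ker α.hom).map φ'.hom := by
  set J := (RingHom.ker α.hom).map φ'.hom with hJ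
  have hw : ∀ x, β.hom (φ'.hom x) = φ.hom (α.hom x) := fun x ↦ congr($(h.w).hom x)
  have hJβ : J ≤ RingHom.ker β.hom := by
    rw [hJ, Ideal.map_le_iff_le_comap]
    intro x hx
    rw [Ideal.mem_comap, RingHom.mem_ker, hw, RingHom.mem_ker.mp hx, map_zero]
  have hIq : RingHom.ker α.hom ≤ RingHom.ker ((Ideal.Quotient.mk J).comp φ'.hom) := by
    intro x hx
    rw [RingHom.mem_ker, RingHom.comp_apply, Ideal.Quotient.eq_zero_iff_mem]
    exact Ideal.mem_map_of_mem _ hx
  let q : B' ⟶ CommRingCat.of (B' ⧸ J) := CommRingCat.ofHom (Ideal.Quotient.mk J)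
  let a : A ⟶ CommRingCat.of (B' ⧸ J) :=
    CommRingCat.ofHom (RingHom.liftOfSurjective α.hom hα ⟨_, hIq⟩)
  have ha : ∀ x, a.hom (α.hom x) = Ideal.Quotient.mk J (φ'.hom x) := fun x ↦
    RingHom.liftOfRightInverse_comp_apply _ _ _ ⟨_, hIq⟩ x
  have hcomm : φ' ≫ q = α ≫ a := by
    ext x
    exact (ha x).symm
  let d : B ⟶ CommRingCat.of (B' ⧸ J) := h.desc q a hcomm
  have hβd : β ≫ d = q := h.inl_desc _ _ _
  have hφd : φ ≫ d = a := h.inr_desc _ _ _
  let c : CommRingCat.of (B' ⧸ J) ⟶ B := CommRingCat.ofHom (Ideal.Quotient.lift J β.hom hJβ)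
  have hqc : ∀ b, c.hom (q.hom b) = β.hom b := fun b ↦ Ideal.Quotient.lift_mk _ _ _
  have hac : a ≫ c = φ := by
    ext y
    obtain ⟨x, rfl⟩ := hα y
    change c.hom (a.hom (α.hom x)) = _
    rw [ha, ← hw]
    exact hqc _
  have hdc : d ≫ c = 𝟙 B := by
    apply h.hom_ext
    · rw [← Category.assoc, hβd, Category.comp_id]
      ext b
      exact hqc b
    · rw [← Category.assoc, hφd, hac, Category.comp_id]
  have hcd : ∀ z, d.hom (c.hom z) = z := by
    intro z
    obtain ⟨b, rfl⟩ := Ideal.Quotient.mk_surjective z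
    change d.hom (c.hom (q.hom b)) = q.hom b
    rw [hqc]
    exact congr($(hβd).hom b)
  constructor
  · intro y
    obtain ⟨b, hb⟩ := Ideal.Quotient.mk_surjective (d.hom y)
    refine ⟨b, ?_⟩
    have h1 : c.hom (d.hom y) = y := congr($(hdc).hom y)
    rw [← h1, ← hb]
    exact (hqc b).symm
  · refine le_antisymm (fun b hb ↦ ?_) hJβ
    have h1 : q.hom b = 0 := by
      rw [← hcd (q.hom b), hqc, RingHom.mem_ker.mp hb, map_zero]
    exact Ideal.Quotient.eq_zero_iff_mem.mp h1

/-- Finite type lifts along a surjection whose kernel is generated by a nilpotent ideal of the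
base. -/
theorem finiteType_of_surjective_of_ker_le_map_of_pow_eq_bot {A' B' B : Type*} [CommRing A']
    [CommRing B'] [CommRing B] [Algebra A' B'] [Algebra A' B] (β : B' →ₐ[A'] B)
    (hβ : Function.Surjective β) (J : Ideal A') {n : ℕ} (hJ : J ^ n = ⊥)
    (hker : RingHom.ker β.toRingHom ≤ J.map (algebraMap A' B')) [Algebra.FiniteType A' B] :
    Algebra.FiniteType A' B' := by
  classical
  obtain ⟨s, hs⟩ := (Algebra.FiniteType.out : (⊤ : Subalgebra A' B).FG)
  let t : Finset B' := s.image (Function.surjInv hβ)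
  have hts : β '' (t : Set B') = (s : Set B) := by
    ext y
    simp only [t, Finset.coe_image, Set.mem_image, Finset.mem_coe]
    constructor
    · rintro ⟨_, ⟨x, hx, rfl⟩, rfl⟩
      rwa [Function.surjInv_eq hβ]
    · intro hy
      exact ⟨_, ⟨y, hy, rfl⟩, Function.surjInv_eq hβ y⟩
  have hmap : (Algebra.adjoin A' (t : Set B')).map β = ⊤ := by
    rw [AlgHom.map_adjoin, hts, hs]
  have htop : (Algebra.adjoin A' (t : Set B')).toSubmodule ⊔ J • (⊤ : Submodule A' B') = ⊤ := by
    rw [eq_top_iff]
    intro b _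
    have hb : β b ∈ (Algebra.adjoin A' (t : Set B')).map β := by rw [hmap]; trivial
    obtain ⟨c, hc, hcb⟩ := hb
    have hk : b - c ∈ RingHom.ker β.toRingHom := by
      rw [RingHom.mem_ker]
      change β (b - c) = 0
      rw [map_sub, sub_eq_zero]
      exact hcb.symm
    have hk' : b - c ∈ J • (⊤ : Submodule A' B') := by
      have h0 := hker hk
      rw [Ideal.smul_top_eq_map]
      exact h0
    have : b = c + (b - c) := by ring
    rw [this]
    exact Submodule.add_mem_sup hc hk'
  have h1 := eq_top_of_sup_smul_top_eq_top_of_pow_eq_bot J hJ _ htop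
  refine ⟨⟨t, ?_⟩⟩
  exact Subalgebra.toSubmodule_injective (by rw [h1]; rfl)

end Groth.Agent.H7

namespace Groth.Agent.H7

/-- `RingHom` version of `finiteType_of_surjective_of_ker_le_map_of_pow_eq_bot`. -/
theorem ringHom_finiteType_of_nilpotent {A' B' A B : Type*} [CommRing A'] [CommRing B']
    [CommRing A] [CommRing B] (φ' : A' →+* B') (α : A' →+* A) (β : B' →+* B) (φ : A →+* B)
    (hcomm : β.comp φ' = φ.comp α) (hα : Function.Surjective α) (hβ : Function.Surjective β)
    (hker : RingHom.ker β ≤ (RingHom.ker α).map φ') {n : ℕ} (hn : RingHom.ker α ^ n = ⊥)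
    (hφ : φ.FiniteType) : φ'.FiniteType := by
  let _ := φ'.toAlgebra
  let _ : Algebra A' B := (β.comp φ').toAlgebra
  let β' : B' →ₐ[A'] B := { β with commutes' := fun _ ↦ rfl }
  have hft : Algebra.FiniteType A' B := by
    change (β.comp φ').FiniteType
    rw [hcomm]
    exact hφ.comp (RingHom.FiniteType.of_surjective α hα)
  exact finiteType_of_surjective_of_ker_le_map_of_pow_eq_bot β' hβ (RingHom.ker α) hn hker

end Groth.Agent.H7

namespace Groth.Agent.H7

open TensorProduct KaehlerDifferential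


/-- `D` maps an extended ideal `J B'` into `J B' • Ω`. -/
theorem D_mem_smul_top_of_mem_map {A' B' : Type*} [CommRing A'] [CommRing B'] [Algebra A' B']
    (J : Ideal A') {k : B'} (hk : k ∈ J.map (algebraMap A' B')) :
    D A' B' k ∈ (J.map (algebraMap A' B')) • (⊤ : Submodule B' Ω[B'⁄A']) := by
  suffices h : k ∈ J.map (algebraMap A' B') ∧
      D A' B' k ∈ (J.map (algebraMap A' B')) • (⊤ : Submodule B' Ω[B'⁄A']) from h.2
  refine Submodule.span_induction (p := fun k _ ↦ k ∈ J.map (algebraMap A' B') ∧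
      D A' B' k ∈ (J.map (algebraMap A' B')) • (⊤ : Submodule B' Ω[B'⁄A'])) ?_ ?_ ?_ ?_ hk
  · rintro _ ⟨j, hj, rfl⟩
    refine ⟨Ideal.mem_map_of_mem _ hj, ?_⟩
    rw [Derivation.map_algebraMap]
    exact zero_mem _
  · exact ⟨zero_mem _, by rw [map_zero]; exact zero_mem _⟩
  · rintro x y _ _ ⟨hx, hx'⟩ ⟨hy, hy'⟩
    exact ⟨add_mem hx hy, by rw [map_add]; exact add_mem hx' hy'⟩
  · rintro b x _ ⟨hx, hx'⟩
    refine ⟨Ideal.mul_mem_left _ _ hx, ?_⟩
    rw [smul_eq_mul, Derivation.leibniz]
    exact add_mem (Submodule.smul_mem _ _ hx') (Submodule.smul_mem_smul hx trivial)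

theorem map_smul_top_kaehler_eq_top {A' B' B : Type u} [CommRing A'] [CommRing B'] [CommRing B]
    [Algebra A' B'] [Algebra A' B] [Algebra B' B] [IsScalarTower A' B' B]
    (hβ : Function.Surjective (algebraMap B' B)) (J : Ideal A')
    (hker : RingHom.ker (algebraMap B' B) = J.map (algebraMap A' B'))
    [Algebra.FormallyUnramified A' B] :
    (J.map (algebraMap A' B')) • (⊤ : Submodule B' Ω[B'⁄A']) = ⊤ := by
  have hsub : Subsingleton (B ⊗[B'] Ω[B'⁄A']) := by
    refine ⟨fun y z ↦ ?_⟩
    suffices h : ∀ y : B ⊗[B'] Ω[B'⁄A'], y = 0 by rw [h y, h z]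
    intro y
    have hex := exact_kerCotangentToTensor_mapBaseChange A' B' B hβ
    obtain ⟨x, rfl⟩ := (hex y).mp (Subsingleton.elim _ _)
    obtain ⟨k, rfl⟩ := Ideal.toCotangent_surjective _ x
    rw [kerCotangentToTensor_toCotangent]
    have hk : k.1 ∈ J.map (algebraMap A' B') := hker ▸ k.2
    have hD := D_mem_smul_top_of_mem_map J hk
    refine Submodule.smul_induction_on hD ?_ ?_
    · intro κ hκ ω _
      rw [← hker] at hκ
      rw [← TensorProduct.smul_tmul, Algebra.smul_def, mul_one, RingHom.mem_ker.mp hκ,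
        TensorProduct.zero_tmul]
    · intro x y hx hy
      rw [TensorProduct.tmul_add, hx, hy, add_zero]
  let e : (B' ⧸ RingHom.ker (algebraMap B' B)) ≃ₐ[B'] B :=
    Ideal.quotientKerAlgEquivOfSurjective (f := Algebra.ofId B' B) hβ
  have hsub2 : Subsingleton ((B' ⧸ RingHom.ker (algebraMap B' B)) ⊗[B'] Ω[B'⁄A']) :=
    (TensorProduct.congr e.toLinearEquiv (LinearEquiv.refl B' Ω[B'⁄A'])).toEquiv.subsingleton
  have hsub3 : Subsingleton (Ω[B'⁄A'] ⧸
      (RingHom.ker (algebraMap B' B) • (⊤ : Submodule B' Ω[B'⁄A']))) :=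
    (TensorProduct.quotTensorEquivQuotSMul Ω[B'⁄A']
      (RingHom.ker (algebraMap B' B))).symm.toEquiv.subsingleton
  rw [← hker]
  exact Submodule.Quotient.subsingleton_iff.mp hsub3


/-- Formal unramifiedness lifts along a quotient by a nilpotent ideal of the base. -/
theorem ringHom_formallyUnramified_of_nilpotent {A' B' A B : Type u} [CommRing A'] [CommRing B']
    [CommRing A] [CommRing B] (φ' : A' →+* B') (α : A' →+* A) (β : B' →+* B) (φ : A →+* B)
    (hcomm : β.comp φ' = φ.comp α) (hα : Function.Surjective α) (hβ : Function.Surjective β)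
    (hker : RingHom.ker β = (RingHom.ker α).map φ') {n : ℕ} (hn : RingHom.ker α ^ n = ⊥)
    (hφ : φ.FormallyUnramified) : φ'.FormallyUnramified := by
  let _ := φ'.toAlgebra
  let _ := β.toAlgebra
  let _ : Algebra A' B := (β.comp φ').toAlgebra
  have : IsScalarTower A' B' B := .of_algebraMap_eq' rfl
  have hfu : Algebra.FormallyUnramified A' B := by
    change (β.comp φ').FormallyUnramified
    rw [hcomm]
    exact (RingHom.FormallyUnramified.of_surjective hα).comp hφ
  have htop := map_smul_top_kaehler_eq_top (A' := A') (B' := B') (B := B) hβ (RingHom.ker α) hker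
  have hpow : ((RingHom.ker α).map (algebraMap A' B')) ^ n = ⊥ := by
    rw [← Ideal.map_pow, hn, Ideal.map_bot]
  have h1 := eq_top_of_sup_smul_top_eq_top_of_pow_eq_bot _ hpow
    (⊥ : Submodule B' Ω[B'⁄A']) (by rw [bot_sup_eq]; exact htop)
  change Algebra.FormallyUnramified A' B'
  rw [Algebra.formallyUnramified_iff]
  exact (Submodule.subsingleton_iff B').mp (subsingleton_of_bot_eq_top h1)

/-- Formal unramifiedness lifts along a quotient by a nil ideal of the base, for algebras of
finite type. -/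
theorem ringHom_formallyUnramified_of_nil_of_finiteType {A' B' A B : Type u} [CommRing A']
    [CommRing B'] [CommRing A] [CommRing B] (φ' : A' →+* B') (α : A' →+* A) (β : B' →+* B)
    (φ : A →+* B) (hcomm : β.comp φ' = φ.comp α) (hα : Function.Surjective α)
    (hβ : Function.Surjective β) (hker : RingHom.ker β = (RingHom.ker α).map φ')
    (hnil : RingHom.ker α ≤ nilradical A') (hft : φ'.FiniteType)
    (hφ : φ.FormallyUnramified) : φ'.FormallyUnramified := by
  let _ := φ'.toAlgebra
  let _ := β.toAlgebra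
  let _ : Algebra A' B := (β.comp φ').toAlgebra
  have : IsScalarTower A' B' B := .of_algebraMap_eq' rfl
  have hfu : Algebra.FormallyUnramified A' B := by
    change (β.comp φ').FormallyUnramified
    rw [hcomm]
    exact (RingHom.FormallyUnramified.of_surjective hα).comp hφ
  have hft' : Algebra.FiniteType A' B' := hft
  have htop := map_smul_top_kaehler_eq_top (A' := A') (B' := B') (B := B) hβ (RingHom.ker α) hker
  have hjac : (RingHom.ker α).map (algebraMap A' B') ≤ Ideal.jacobson ⊥ := by
    refine le_trans ?_ (Ideal.radical_le_jacobson (I := (⊥ : Ideal B')))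
    change _ ≤ nilradical B'
    rw [Ideal.map_le_iff_le_comap]
    intro x hx
    have h2 : IsNilpotent x := mem_nilradical.mp (hnil hx)
    exact mem_nilradical.mpr (h2.map _)
  have h1 := Submodule.eq_bot_of_le_smul_of_le_jacobson_bot _ (⊤ : Submodule B' Ω[B'⁄A'])
    Module.Finite.fg_top htop.ge hjac
  change Algebra.FormallyUnramified A' B'
  rw [Algebra.formallyUnramified_iff]
  exact (Submodule.subsingleton_iff B').mp (subsingleton_of_bot_eq_top h1.symm)

end Groth.Agent.H7

namespace Groth.Agent.H7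


/-- Surjectivity lifts along a quotient by a nil ideal of the base, for algebras of finite type. -/
theorem ringHom_surjective_of_nil_of_finiteType {A' B' A B : Type*} [CommRing A']
    [CommRing B'] [CommRing A] [CommRing B] (φ' : A' →+* B') (α : A' →+* A) (β : B' →+* B)
    (φ : A →+* B) (hcomm : β.comp φ' = φ.comp α) (hα : Function.Surjective α)
    (hker : RingHom.ker β = (RingHom.ker α).map φ')
    (hnil : RingHom.ker α ≤ nilradical A') (hft : φ'.FiniteType)
    (hφ : Function.Surjective φ) : Function.Surjective φ' := by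
  let _ := φ'.toAlgebra
  have hft' : Algebra.FiniteType A' B' := hft
  -- every element is in the range modulo the kernel
  have hdecomp : ∀ b : B', ∃ a : A', b - φ' a ∈ (RingHom.ker α).map φ' := by
    intro b
    obtain ⟨a, ha⟩ := hφ (β b)
    obtain ⟨a', rfl⟩ := hα a
    refine ⟨a', ?_⟩
    rw [← hker, RingHom.mem_ker, map_sub, sub_eq_zero, ← ha]
    exact (congr($hcomm a')).symm
  have hKnil : (RingHom.ker α).map φ' ≤ nilradical B' := by
    rw [Ideal.map_le_iff_le_comap]
    intro x hx
    have h2 : IsNilpotent x := mem_nilradical.mp (hnil hx)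
    exact mem_nilradical.mpr (h2.map _)
  -- integrality
  have hint : Algebra.IsIntegral A' B' := by
    refine ⟨fun b ↦ ?_⟩
    obtain ⟨a, ha⟩ := hdecomp b
    have h1 : IsIntegral A' (b - φ' a) := by
      obtain ⟨n, hn⟩ := mem_nilradical.mp (hKnil ha)
      rcases Nat.eq_zero_or_pos n with rfl | hpos
      · rw [pow_zero] at hn
        have : Subsingleton B' := subsingleton_of_zero_eq_one hn.symm
        rw [Subsingleton.elim (b - φ' a) 0]
        exact isIntegral_zero
      · exact IsIntegral.of_pow hpos (hn ▸ isIntegral_zero)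
    have h2 : IsIntegral A' (φ' a) := isIntegral_algebraMap
    have : b = (b - φ' a) + φ' a := by ring
    rw [this]
    exact h1.add h2
  have hfin : Module.Finite A' B' := Algebra.IsIntegral.finite
  -- Nakayama
  have htop : (⊤ : Submodule A' B') ≤ LinearMap.range (Algebra.linearMap A' B') ⊔
      RingHom.ker α • (⊤ : Submodule A' B') := by
    intro b _
    obtain ⟨a, ha⟩ := hdecomp b
    have : b = φ' a + (b - φ' a) := by ring
    rw [this]
    refine Submodule.add_mem_sup ⟨a, rfl⟩ ?_
    rw [Ideal.smul_top_eq_map]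
    exact ha
  have hjac : RingHom.ker α ≤ Ideal.jacobson ⊥ :=
    hnil.trans (Ideal.radical_le_jacobson (I := (⊥ : Ideal A')))
  have h3 := Submodule.le_of_le_smul_of_le_jacobson_bot Module.Finite.fg_top hjac htop
  intro b
  obtain ⟨a, ha⟩ := h3 (Submodule.mem_top (x := b))
  exact ⟨a, ha⟩

end Groth.Agent.H7

namespace Groth.Agent.H7

open TensorProduct


/-- If `N ≤ I • N` then `N ≤ I ^ n • N`. -/
theorem le_pow_smul_of_le_smul {R M : Type*} [CommRing R] [AddCommGroup M] [Module R M]
    (I : Ideal R) (N : Submodule R M) (h : N ≤ I • N) (n : ℕ) : N ≤ I ^ n • N := by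
  induction n with
  | zero => simp
  | succ k ih =>
    calc N ≤ I • N := h
      _ ≤ I • (I ^ k • N) := Submodule.smul_mono le_rfl ih
      _ = I ^ (k + 1) • N := by rw [← Submodule.mul_smul, ← pow_succ']

/-- Flatness of the quotient: if `A'/K` is flat over `R` then `K ∩ J A' ≤ J K`. -/
theorem mem_smul_of_flat_quotient {R A' B' : Type*} [CommRing R] [AddCommGroup A'] [Module R A']
    [AddCommGroup B'] [Module R B'] [Module.Flat R B'] (φ : A' →ₗ[R] B')
    (hφ : Function.Surjective φ) (J : Ideal R) {k : A'} (hk : k ∈ LinearMap.ker φ)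
    (hkJ : k ∈ J • (⊤ : Submodule R A')) : k ∈ J • LinearMap.ker φ := by
  have hinj : Function.Injective ((LinearMap.ker φ).subtype.lTensor (R ⧸ J)) := by
    refine lTensor_injective_of_exact_of_exact_of_rTensor_injective
      (f₁ := J.subtype) (f₂ := J.mkQ) (g₁ := (LinearMap.ker φ).subtype) (g₂ := φ) ?_ ?_ ?_ hφ ?_ ?_
    · exact LinearMap.exact_subtype_mkQ J
    · exact Submodule.mkQ_surjective J
    · exact LinearMap.exact_subtype_ker_map φ
    · exact Module.Flat.rTensor_preserves_injective_linearMap _ Subtype.val_injective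
    · exact Module.Flat.lTensor_preserves_injective_linearMap _ Subtype.val_injective
  -- `1 ⊗ k = 0` in `(R/J) ⊗ A'`
  have h1 : ((1 : R ⧸ J) ⊗ₜ[R] k : (R ⧸ J) ⊗[R] A') = 0 := by
    apply (TensorProduct.quotTensorEquivQuotSMul A' J).injective
    rw [map_zero, TensorProduct.quotTensorEquivQuotSMul_mk_one_tmul]
    exact (Submodule.Quotient.mk_eq_zero _).mpr hkJ
  -- hence `1 ⊗ k = 0` in `(R/J) ⊗ K`
  have h2 : ((1 : R ⧸ J) ⊗ₜ[R] (⟨k, hk⟩ : LinearMap.ker φ) : (R ⧸ J) ⊗[R] LinearMap.ker φ) = 0 := by
    apply hinj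
    rw [map_zero, LinearMap.lTensor_tmul]
    exact h1
  have h3 : (⟨k, hk⟩ : LinearMap.ker φ) ∈ J • (⊤ : Submodule R (LinearMap.ker φ)) := by
    have := congr(TensorProduct.quotTensorEquivQuotSMul (LinearMap.ker φ) J $h2)
    rw [map_zero, TensorProduct.quotTensorEquivQuotSMul_mk_one_tmul] at this
    exact (Submodule.Quotient.mk_eq_zero _).mp this
  -- transport to `A'`
  have h4 : (LinearMap.ker φ).subtype ⟨k, hk⟩ ∈
      (J • (⊤ : Submodule R (LinearMap.ker φ))).map (LinearMap.ker φ).subtype :=
    Submodule.mem_map_of_mem h3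
  rw [Submodule.map_smul'', Submodule.map_top, Submodule.range_subtype] at h4
  exact h4


/-- Bijectivity lifts along quotients by a nilpotent ideal of a base over which the target is
flat. -/
theorem ringHom_bijective_of_nilpotent_of_flat {R A' B' A B : Type*} [CommRing R] [CommRing A']
    [CommRing B'] [CommRing A] [CommRing B] (ψ : R →+* A') (φ' : A' →+* B') (αY : A' →+* A)
    (β : B' →+* B) (φ : A →+* B) (J : Ideal R) {n : ℕ} (hJ : J ^ n = ⊥)
    (hcomm : β.comp φ' = φ.comp αY) (hαY : Function.Surjective αY)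
    (hkerα : RingHom.ker αY = J.map ψ) (hkerβ : RingHom.ker β = J.map (φ'.comp ψ))
    (hflat : (φ'.comp ψ).Flat) (hφ : Function.Bijective φ) : Function.Bijective φ' := by
  let _ : Algebra R A' := ψ.toAlgebra
  let _ : Algebra R B' := (φ'.comp ψ).toAlgebra
  have hfl : Module.Flat R B' := hflat
  let φa : A' →ₐ[R] B' := { φ' with commutes' := fun _ ↦ rfl }
  have hcomm' : ∀ a, β (φ' a) = φ (αY a) := fun a ↦ congr($hcomm a)
  -- surjectivity
  have hsurj : Function.Surjective φa.toLinearMap := by
    have htop : LinearMap.range φa.toLinearMap ⊔ J • (⊤ : Submodule R B') = ⊤ := by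
      rw [eq_top_iff]
      intro b _
      obtain ⟨a, ha⟩ := hφ.2 (β b)
      obtain ⟨a', rfl⟩ := hαY a
      have hk : b - φ' a' ∈ RingHom.ker β := by
        rw [RingHom.mem_ker, map_sub, sub_eq_zero, ← ha, hcomm']
      rw [hkerβ] at hk
      have hk' : b - φ' a' ∈ J • (⊤ : Submodule R B') := by
        rw [Ideal.smul_top_eq_map]
        exact hk
      have : b = φ' a' + (b - φ' a') := by ring
      rw [this]
      exact Submodule.add_mem_sup ⟨a', rfl⟩ hk'
    have := eq_top_of_sup_smul_top_eq_top_of_pow_eq_bot J hJ _ htop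
    exact LinearMap.range_eq_top.mp this
  refine ⟨?_, hsurj⟩
  -- injectivity
  have hK : LinearMap.ker φa.toLinearMap ≤ J • LinearMap.ker φa.toLinearMap := by
    intro k hk
    have h1 : φ' k = 0 := hk
    have h2 : αY k = 0 := by
      apply hφ.1
      rw [← hcomm', h1, map_zero, map_zero]
    have h3 : k ∈ J • (⊤ : Submodule R A') := by
      rw [Ideal.smul_top_eq_map]
      have : k ∈ RingHom.ker αY := h2
      rw [hkerα] at this
      exact this
    exact mem_smul_of_flat_quotient φa.toLinearMap hsurj J hk h3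
  have hK0 : LinearMap.ker φa.toLinearMap = ⊥ := by
    have := le_pow_smul_of_le_smul J _ hK n
    rwa [hJ, Submodule.bot_smul, le_bot_iff] at this
  rw [injective_iff_map_eq_zero]
  intro a ha
  have : a ∈ LinearMap.ker φa.toLinearMap := ha
  rw [hK0] at this
  exact this

end Groth.Agent.H7

namespace Groth.Agent.H7

open TensorProduct

/-- Bijectivity lifts along quotients by a nil ideal of a base over which the target is flat and of
finite presentation, the source being of finite type. -/
theorem ringHom_bijective_of_nil_of_flat_of_finitePresentation {R A' B' A B : Type u} [CommRing R]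
    [CommRing A'] [CommRing B'] [CommRing A] [CommRing B] (ψ : R →+* A') (φ' : A' →+* B')
    (αY : A' →+* A) (β : B' →+* B) (φ : A →+* B) (J : Ideal R) (hJ : J ≤ nilradical R)
    (hcomm : β.comp φ' = φ.comp αY) (hαY : Function.Surjective αY)
    (hkerα : RingHom.ker αY = J.map ψ) (hkerβ : RingHom.ker β = J.map (φ'.comp ψ))
    (hft : ψ.FiniteType) (hfp : (φ'.comp ψ).FinitePresentation) (hflat : (φ'.comp ψ).Flat)
    (hφ : Function.Bijective φ) : Function.Bijective φ' := by
  have hφ'ft : φ'.FiniteType := RingHom.FiniteType.of_comp_finiteType (RingHom.FiniteType.of_finitePresentation hfp)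
  have hφ'fp : φ'.FinitePresentation := RingHom.FinitePresentation.of_comp_finiteType ψ hfp hft
  have hInil : J.map ψ ≤ nilradical A' := by
    rw [Ideal.map_le_iff_le_comap]
    intro x hx
    have h2 : IsNilpotent x := mem_nilradical.mp (hJ hx)
    exact mem_nilradical.mpr (h2.map _)
  have hkerβ' : RingHom.ker β = (RingHom.ker αY).map φ' := by
    rw [hkerβ, hkerα, Ideal.map_map]
  have hsurj : Function.Surjective φ' :=
    ringHom_surjective_of_nil_of_finiteType φ' αY β φ hcomm hαY hkerβ' (hkerα ▸ hInil) hφ'ft hφ.2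
  refine ⟨?_, hsurj⟩
  let _ : Algebra R A' := ψ.toAlgebra
  let _ : Algebra R B' := (φ'.comp ψ).toAlgebra
  have hfl : Module.Flat R B' := hflat
  let φa : A' →ₐ[R] B' := { φ' with commutes' := fun _ ↦ rfl }
  have hcomm' : ∀ a, β (φ' a) = φ (αY a) := fun a ↦ congr($hcomm a)
  have hK : LinearMap.ker φa.toLinearMap ≤ J • LinearMap.ker φa.toLinearMap := by
    intro k hk
    have h1 : φ' k = 0 := hk
    have h2 : αY k = 0 := by
      apply hφ.1
      rw [← hcomm', h1, map_zero, map_zero]
    have h3 : k ∈ J • (⊤ : Submodule R A') := by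
      rw [Ideal.smul_top_eq_map]
      have : k ∈ RingHom.ker αY := h2
      rw [hkerα] at this
      exact this
    exact mem_smul_of_flat_quotient φa.toLinearMap hsurj J hk h3
  -- pass to ideals of `A'`
  have hK' : RingHom.ker φ' ≤ (J.map ψ) • RingHom.ker φ' := by
    intro k hk
    have hk0 : k ∈ LinearMap.ker φa.toLinearMap := hk
    have h1 := hK hk0
    refine Submodule.smul_induction_on h1 ?_ ?_
    · intro j hj k₀ hk₀
      have : j • k₀ = ψ j * k₀ := Algebra.smul_def j k₀
      rw [this, ← smul_eq_mul]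
      exact Submodule.smul_mem_smul (Ideal.mem_map_of_mem _ hj) hk₀
    · intro x y hx hy
      exact add_mem hx hy
  have hfg : (RingHom.ker φ').FG := by
    let _ : Algebra A' B' := φ'.toAlgebra
    have : Algebra.FinitePresentation A' B' := hφ'fp
    exact Algebra.FinitePresentation.ker_fG_of_surjective (Algebra.ofId A' B') hsurj
  have hjac : J.map ψ ≤ Ideal.jacobson ⊥ :=
    hInil.trans (Ideal.radical_le_jacobson (I := (⊥ : Ideal A')))
  have h0 := Submodule.eq_bot_of_le_smul_of_le_jacobson_bot (J.map ψ) (RingHom.ker φ') hfg hK' hjac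
  exact (RingHom.injective_iff_ker_eq_bot φ').mpr h0

end Groth.Agent.H7

namespace Groth.Agent.H7

open TensorProduct

/-- If `N ≤ N₀ + I N` with `I` nilpotent then `N ≤ N₀`. -/
theorem le_of_le_sup_smul_of_pow_eq_bot {R M : Type*} [CommRing R] [AddCommGroup M] [Module R M]
    (I : Ideal R) {n : ℕ} (hI : I ^ n = ⊥) (N₀ N : Submodule R M) (h : N ≤ N₀ ⊔ I • N) :
    N ≤ N₀ := by
  have key : ∀ k : ℕ, N ≤ N₀ ⊔ I ^ k • N := by
    intro k
    induction k with
    | zero => simp
    | succ k ih =>
      calc N ≤ N₀ ⊔ I • N := h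
        _ ≤ N₀ ⊔ I • (N₀ ⊔ I ^ k • N) := sup_le_sup_left (Submodule.smul_mono le_rfl ih) _
        _ = N₀ ⊔ (I • N₀ ⊔ I • (I ^ k • N)) := by rw [Submodule.smul_sup]
        _ ≤ N₀ ⊔ I ^ (k + 1) • N := by
          rw [← Submodule.mul_smul, ← pow_succ']
          exact sup_le le_sup_left (sup_le (le_sup_of_le_left Submodule.smul_le_right) le_sup_right)
  have := key n
  rwa [hI, Submodule.bot_smul, sup_bot_eq] at this

/-- Finite presentation lifts along quotients by a nilpotent ideal of a base over which the target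
is flat. -/
theorem ringHom_finitePresentation_of_nilpotent_of_flat {R A' B' A B : Type u} [CommRing R]
    [CommRing A'] [CommRing B'] [CommRing A] [CommRing B] (ψ : R →+* A') (φ' : A' →+* B')
    (αY : A' →+* A) (β : B' →+* B) (φ : A →+* B) (J : Ideal R) {n : ℕ} (hJ : J ^ n = ⊥)
    (hcomm : β.comp φ' = φ.comp αY) (hαY : Function.Surjective αY) (hβ : Function.Surjective β)
    (hkerα : RingHom.ker αY = J.map ψ) (hkerβ : RingHom.ker β = J.map (φ'.comp ψ))
    (hflat : (φ'.comp ψ).Flat) (hφ : φ.FinitePresentation) : φ'.FinitePresentation := by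
  classical
  have hkerβ' : RingHom.ker β = (RingHom.ker αY).map φ' := by
    rw [hkerβ, hkerα, Ideal.map_map]
  have hpowα : RingHom.ker αY ^ n = ⊥ := by
    rw [hkerα, ← Ideal.map_pow, hJ, Ideal.map_bot]
  have hft : φ'.FiniteType := ringHom_finiteType_of_nilpotent φ' αY β φ hcomm hαY hβ hkerβ'.le
    hpowα (RingHom.FiniteType.of_finitePresentation hφ)
  let _ : Algebra A' B' := φ'.toAlgebra
  obtain ⟨m, π, hπ⟩ := Algebra.FiniteType.iff_quotient_mvPolynomial''.mp hft
  suffices hK : (RingHom.ker π.toRingHom).FG from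
    (show Algebra.FinitePresentation A' B' from Algebra.FinitePresentation.of_surjective hπ hK)
  let _ : Algebra A B := φ.toAlgebra
  have hfpB : Algebra.FinitePresentation A B := hφ
  have hμ : Function.Surjective (MvPolynomial.map (σ := Fin m) αY) :=
    MvPolynomial.map_surjective αY hαY
  let πbar : MvPolynomial (Fin m) A →ₐ[A] B :=
    MvPolynomial.aeval (fun i ↦ β (π (MvPolynomial.X i)))
  have hsq : ∀ p, πbar (MvPolynomial.map αY p) = β (π p) := by
    intro p
    have h1 : (πbar.toRingHom.comp (MvPolynomial.map αY)) = β.comp π.toRingHom := by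
      apply MvPolynomial.ringHom_ext
      · intro a'
        simp only [RingHom.comp_apply, MvPolynomial.map_C, πbar]
        change (MvPolynomial.aeval _) (MvPolynomial.C (αY a')) = β (π (MvPolynomial.C a'))
        rw [MvPolynomial.aeval_C, ← MvPolynomial.algebraMap_eq, AlgHom.commutes]
        exact (congr($hcomm a')).symm
      · intro i
        simp only [RingHom.comp_apply, MvPolynomial.map_X, πbar]
        change (MvPolynomial.aeval _) (MvPolynomial.X i) = β (π (MvPolynomial.X i))
        rw [MvPolynomial.aeval_X]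
    exact congr($h1 p)
  have hπbar : Function.Surjective πbar := by
    intro b
    obtain ⟨b', rfl⟩ := hβ b
    obtain ⟨p, rfl⟩ := hπ b'
    exact ⟨MvPolynomial.map αY p, hsq p⟩
  have hfgbar : (RingHom.ker πbar.toRingHom).FG :=
    Algebra.FinitePresentation.ker_fG_of_surjective πbar hπbar
  -- kernel of `μ`
  have hkerμ : RingHom.ker (MvPolynomial.map (σ := Fin m) αY) =
      J.map ((MvPolynomial.C (σ := Fin m)).comp ψ) := by
    rw [MvPolynomial.ker_map, hkerα, Ideal.map_map]
  -- lifting elements of the kernel of `πbar`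
  have hlift : ∀ q ∈ RingHom.ker πbar.toRingHom,
      ∃ k ∈ RingHom.ker π.toRingHom, MvPolynomial.map αY k = q := by
    intro q hq
    obtain ⟨p, rfl⟩ := hμ q
    have h1 : π p ∈ RingHom.ker β := by
      rw [RingHom.mem_ker, ← hsq]
      exact hq
    have h2 : RingHom.ker β = (RingHom.ker (MvPolynomial.map (σ := Fin m) αY)).map π.toRingHom := by
      rw [hkerβ', MvPolynomial.ker_map, Ideal.map_map]
      congr 1
      ext a
      change φ' a = π (MvPolynomial.C a)
      rw [← MvPolynomial.algebraMap_eq, AlgHom.commutes]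
      rfl
    rw [h2] at h1
    obtain ⟨z, hz, hzp⟩ := (Ideal.mem_map_iff_of_surjective π.toRingHom hπ).mp h1
    refine ⟨p - z, ?_, ?_⟩
    · rw [RingHom.mem_ker, map_sub, sub_eq_zero]
      exact hzp.symm
    · rw [map_sub, RingHom.mem_ker.mp hz, sub_zero]
  obtain ⟨s, hs⟩ := hfgbar
  have hs' : ∀ q : s, ∃ k, k ∈ RingHom.ker π.toRingHom ∧ MvPolynomial.map αY k = q.1 := by
    intro q
    obtain ⟨k, hk, hkq⟩ := hlift q.1 (hs ▸ Ideal.subset_span q.2)
    exact ⟨k, hk, hkq⟩
  choose kf hkfK hkfμ using hs'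
  have hK₀K : Ideal.span (Set.range kf) ≤ RingHom.ker π.toRingHom := by
    rw [Ideal.span_le]
    rintro _ ⟨q, rfl⟩
    exact hkfK q
  have hmapK₀ : (Ideal.span (Set.range kf)).map (MvPolynomial.map (σ := Fin m) αY) =
      RingHom.ker πbar.toRingHom := by
    rw [Ideal.map_span, ← hs]
    congr 1
    ext q
    constructor
    · rintro ⟨_, ⟨q', rfl⟩, rfl⟩
      rw [hkfμ]
      exact q'.2
    · intro hq
      exact ⟨kf ⟨q, hq⟩, ⟨_, rfl⟩, hkfμ ⟨q, hq⟩⟩
  -- `R`-module structures
  let _ : Algebra R (MvPolynomial (Fin m) A') := ((MvPolynomial.C (σ := Fin m)).comp ψ).toAlgebra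
  let _ : Algebra R B' := (φ'.comp ψ).toAlgebra
  have hfl : Module.Flat R B' := hflat
  let πR : MvPolynomial (Fin m) A' →ₗ[R] B' :=
    { toFun := π
      map_add' := map_add π
      map_smul' := fun r p ↦ by
        change π (MvPolynomial.C (ψ r) * p) = φ' (ψ r) * π p
        rw [map_mul, ← MvPolynomial.algebraMap_eq, AlgHom.commutes]
        rfl }
  have hle : (RingHom.ker π.toRingHom).restrictScalars R ≤
      (Ideal.span (Set.range kf)).restrictScalars R ⊔
        J • (RingHom.ker π.toRingHom).restrictScalars R := by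
    intro k hk
    have hk' : k ∈ RingHom.ker π.toRingHom := hk
    have h1 : MvPolynomial.map αY k ∈ RingHom.ker πbar.toRingHom := by
      rw [RingHom.mem_ker]
      change πbar (MvPolynomial.map αY k) = 0
      rw [hsq]
      have : π k = 0 := hk'
      rw [this, map_zero]
    rw [← hmapK₀] at h1
    obtain ⟨k₀, hk₀, hk₀k⟩ := (Ideal.mem_map_iff_of_surjective _ hμ).mp h1
    have hd : k - k₀ ∈ RingHom.ker (MvPolynomial.map (σ := Fin m) αY) := by
      rw [RingHom.mem_ker, map_sub, hk₀k, sub_self]
    have hdJ : k - k₀ ∈ J • (⊤ : Submodule R (MvPolynomial (Fin m) A')) := by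
      rw [Ideal.smul_top_eq_map]
      rw [hkerμ] at hd
      exact hd
    have hdK : k - k₀ ∈ LinearMap.ker πR := by
      change π (k - k₀) = 0
      have h3 : π k = 0 := hk'
      have h4 : π k₀ = 0 := hK₀K hk₀
      rw [map_sub, h3, h4, sub_zero]
    have h5 := mem_smul_of_flat_quotient πR hπ J hdK hdJ
    have : k = k₀ + (k - k₀) := by ring
    rw [this]
    exact Submodule.add_mem_sup hk₀ h5
  have hfin := le_of_le_sup_smul_of_pow_eq_bot J hJ _ _ hle
  have hEq : RingHom.ker π.toRingHom = Ideal.span (Set.range kf) :=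
    le_antisymm (fun k hk ↦ hfin hk) hK₀K
  rw [hEq]
  exact ⟨(Set.finite_range kf).toFinset, by simp⟩

end Groth.Agent.H7
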