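import Groth.Prelude.Def_MoreMor
import Mathlib.AlgebraicGeometry.Morphisms.UniversallyOpen
import Mathlib.AlgebraicGeometry.Morphisms.Proper

set_option autoImplicit false
universe u

namespace Groth.Agent.H7

open AlgebraicGeometry CategoryTheory Limits

lemma isThickening_isHomeomorph {X X' : Scheme.{u}} (i : X ⟶ X') (h : MoreMor.IsThickening i) :
    IsHomeomorph i := by
  have := h.1
  have := h.2
  exact isHomeomorph_iff_isEmbedding_surjective.mpr ⟨i.isEmbedding, i.surjective⟩

lemma isThickening_isClosedEmbedding {X X' : Scheme.{u}} (i : X ⟶ X')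
    (h : MoreMor.IsThickening i) : Topology.IsClosedEmbedding i := by
  have := h.1
  exact i.isClosedEmbedding

lemma isThickening_of_isPullback {X X' Y Y' : Scheme.{u}} {iX : X ⟶ X'} {iY : Y ⟶ Y'}
    {f : X ⟶ Y} {f' : X' ⟶ Y'} (hc : IsPullback iX f f' iY) (h : MoreMor.IsThickening iY) :
    MoreMor.IsThickening iX := by
  have := h.1
  have := h.2
  exact ⟨MorphismProperty.of_isPullback hc.flip h.1, MorphismProperty.of_isPullback hc.flip h.2⟩

lemma isThickening_universallyOpen {X X' : Scheme.{u}} (i : X ⟶ X')
    (h : MoreMor.IsThickening i) : UniversallyOpen i := by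
  constructor
  intro X'' Y'' i₁ i₂ f'' H
  exact (isThickening_isHomeomorph f'' (isThickening_of_isPullback H h)).isOpenMap

/-- A morphism of thickenings: the induced map to the fibre product is a thickening. -/
lemma isThickening_lift {X X' S S' : Scheme.{u}} (iX : X ⟶ X') (iS : S ⟶ S') (f : X ⟶ S)
    (f' : X' ⟶ S') (hX : MoreMor.IsThickening iX) (hS : MoreMor.IsThickening iS)
    (w : iX ≫ f' = f ≫ iS) : MoreMor.IsThickening (pullback.lift iX f w : X ⟶ pullback f' iS) := by
  have := hX.1
  have := hX.2
  have := hS.1
  have := hS.2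
  have hfst : MoreMor.IsThickening (pullback.fst f' iS) :=
    isThickening_of_isPullback (IsPullback.of_hasPullback f' iS) hS
  have := hfst.1
  have e : pullback.lift iX f w ≫ pullback.fst f' iS = iX := pullback.lift_fst _ _ _
  refine ⟨?_, ?_⟩
  · have h1 : IsClosedImmersion (pullback.lift iX f w ≫ pullback.fst f' iS) := by
      rw [e]; infer_instance
    exact MorphismProperty.of_postcomp (W := @IsClosedImmersion) (W' := @IsSeparated) _
      (pullback.fst f' iS) inferInstance h1
  · constructor
    intro z
    obtain ⟨x, hx⟩ := iX.surjective (pullback.fst f' iS z)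
    refine ⟨x, (isThickening_isClosedEmbedding _ hfst).injective ?_⟩
    rw [← Scheme.Hom.comp_apply, e, hx]

end Groth.Agent.H7
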