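import Mathlib
import Groth.Prelude.Def_MoreMor
import Groth.Agent.H7.Thickening
import Groth.Agent.H7.NilpotentLift

/-!
# Affine-local data of a base change along a thickening
-/

set_option autoImplicit false
universe u

namespace Groth.Agent.H7

open AlgebraicGeometry CategoryTheory Limits TopologicalSpace

/-- For a surjective morphism, the kernel of the map on sections over a quasi-compact open
consists of nilpotent elements. -/
theorem ker_app_le_nilradical_of_surjective {Y Y' : Scheme.{u}} (i : Y ⟶ Y') [Surjective i]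
    {V' : Y'.Opens} (hV' : IsCompact (V' : Set Y')) :
    RingHom.ker (i.app V').hom ≤ nilradical Γ(Y', V') := by
  intro a ha
  rw [mem_nilradical, Scheme.isNilpotent_iff_basicOpen_eq_bot_of_isCompact hV']
  have h1 : i ⁻¹ᵁ Y'.basicOpen a = ⊥ := by
    rw [Scheme.preimage_basicOpen, RingHom.mem_ker.mp ha]
    simp
  ext y
  simp only [Opens.coe_bot, Set.mem_empty_iff_false, iff_false, SetLike.mem_coe]
  intro hy
  obtain ⟨x, rfl⟩ := i.surjective y
  have h2 : x ∈ i ⁻¹ᵁ Y'.basicOpen a := hy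
  rw [h1] at h2
  exact h2

/-- Affine-local description of a base change along a thickening. -/
theorem thickening_affine_data {X X' Y Y' : Scheme.{u}} {iX : X ⟶ X'} {iY : Y ⟶ Y'} {f : X ⟶ Y}
    {f' : X' ⟶ Y'} (hY : MoreMor.IsThickening iY) (hc : IsPullback iX f f' iY)
    {V' : Y'.Opens} (hV' : IsAffineOpen V') {U' : X'.Opens} (hU' : IsAffineOpen U')
    (e : U' ≤ f' ⁻¹ᵁ V') :
    IsAffineOpen (iY ⁻¹ᵁ V') ∧ IsAffineOpen (iX ⁻¹ᵁ U') ∧
    ∃ e' : iX ⁻¹ᵁ U' ≤ f ⁻¹ᵁ (iY ⁻¹ᵁ V'),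
      IsPushout (f'.appLE V' U' e) (iY.app V') (iX.app U') (f.appLE (iY ⁻¹ᵁ V') (iX ⁻¹ᵁ U') e') ∧
      Function.Surjective (iY.app V').hom ∧
      RingHom.ker (iY.app V').hom ≤ nilradical Γ(Y', V') := by
  have := hY.1
  have := hY.2
  have hX := isThickening_of_isPullback hc hY
  have := hX.1
  have hVa : IsAffineOpen (iY ⁻¹ᵁ V') := hV'.preimage iY
  have hUa : IsAffineOpen (iX ⁻¹ᵁ U') := hU'.preimage iX
  have e' : iX ⁻¹ᵁ U' ≤ f ⁻¹ᵁ (iY ⁻¹ᵁ V') := by
    intro x hx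
    have h1 : f' (iX x) ∈ V' := e hx
    have h2 : f' (iX x) = iY (f x) := by
      rw [← Scheme.Hom.comp_apply, ← Scheme.Hom.comp_apply, hc.w]
    rw [h2] at h1
    exact h1
  have hUY : iX ⁻¹ᵁ U' = iX ⁻¹ᵁ U' ⊓ f ⁻¹ᵁ (iY ⁻¹ᵁ V') := (inf_eq_left.mpr e').symm
  have hiso := isIso_pushoutSection_of_isAffineOpen hc (US := V') (UT := iY ⁻¹ᵁ V') (UX := U')
    (UY := iX ⁻¹ᵁ U') le_rfl e hUY hV' hVa hU'
  have hpo := (isIso_pushoutSection_iff hc (US := V') (UT := iY ⁻¹ᵁ V') (UX := U')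
    (UY := iX ⁻¹ᵁ U') le_rfl e hUY).mp hiso
  refine ⟨hVa, hUa, e', ?_, iY.app_surjective V' hV', ?_⟩
  · convert hpo using 1
    · exact Scheme.Hom.app_eq_appLE _
    · exact Scheme.Hom.app_eq_appLE _
  · exact ker_app_le_nilradical_of_surjective iY hV'.isCompact

/-- For a finite order thickening, the kernels of the maps on sections over affine opens are
uniformly nilpotent. -/
theorem finiteOrderThickening_ker_pow {Y Y' : Scheme.{u}} {iY : Y ⟶ Y'}
    (h : MoreMor.IsFiniteOrderThickening iY) :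
    ∃ n : ℕ, ∀ V' : Y'.Opens, IsAffineOpen V' → RingHom.ker (iY.app V').hom ^ n = ⊥ := by
  obtain ⟨n, hn⟩ := h.2
  have := h.1.1
  refine ⟨n, fun V' hV' ↦ ?_⟩
  have h1 := congr(($hn).ideal ⟨V', hV'⟩)
  rw [Scheme.IdealSheafData.ideal_pow, Pi.pow_apply, Scheme.Hom.ker_apply] at h1
  exact h1

/-- The square over `Y'` deduced from the two squares over `S'`. -/
theorem isPullback_of_isPullback_of_isPullback {X X' Y Y' S S' : Scheme.{u}} {iX : X ⟶ X'}
    {iY : Y ⟶ Y'} {iS : S ⟶ S'} {f : X ⟶ Y} {f' : X' ⟶ Y'} {g : Y ⟶ S} {g' : Y' ⟶ S'}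
    (hcX : IsPullback iX (f ≫ g) (f' ≫ g') iS) (hcY : IsPullback iY g g' iS)
    (w : iX ≫ f' = f ≫ iY) : IsPullback iX f f' iY :=
  (IsPullback.of_right hcX.flip w.symm hcY.flip).flip

/-- Affine-local description of a morphism `X' ⟶ Y'` over `S'` base changed along a thickening of
`S'`. -/
theorem thickening_affine_data₂ {X X' Y Y' S S' : Scheme.{u}} {iX : X ⟶ X'} {iY : Y ⟶ Y'}
    {iS : S ⟶ S'} {f : X ⟶ Y} {f' : X' ⟶ Y'} {g : Y ⟶ S} {g' : Y' ⟶ S'}
    (hS : MoreMor.IsThickening iS) (hcX : IsPullback iX (f ≫ g) (f' ≫ g') iS)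
    (hcY : IsPullback iY g g' iS) (w : iX ≫ f' = f ≫ iY)
    {W' : S'.Opens} (hW' : IsAffineOpen W') {V' : Y'.Opens} (hV' : IsAffineOpen V')
    (eV : V' ≤ g' ⁻¹ᵁ W') {U' : X'.Opens} (hU' : IsAffineOpen U') (eU : U' ≤ f' ⁻¹ᵁ V') :
    IsAffineOpen (iY ⁻¹ᵁ V') ∧ IsAffineOpen (iX ⁻¹ᵁ U') ∧
    ∃ e' : iX ⁻¹ᵁ U' ≤ f ⁻¹ᵁ (iY ⁻¹ᵁ V'),
      (iX.app U').hom.comp (f'.appLE V' U' eU).hom =
        (f.appLE (iY ⁻¹ᵁ V') (iX ⁻¹ᵁ U') e').hom.comp (iY.app V').hom ∧
      Function.Surjective (iY.app V').hom ∧ Function.Surjective (iX.app U').hom ∧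
      RingHom.ker (iY.app V').hom =
        (RingHom.ker (iS.app W').hom).map (g'.appLE W' V' eV).hom ∧
      RingHom.ker (iX.app U').hom = (RingHom.ker (iS.app W').hom).map
        ((f'.appLE V' U' eU).hom.comp (g'.appLE W' V' eV).hom) ∧
      RingHom.ker (iS.app W').hom ≤ nilradical Γ(S', W') := by
  have hY := isThickening_of_isPullback hcY hS
  have hsq := isPullback_of_isPullback_of_isPullback hcX hcY w
  obtain ⟨-, hVa, e1, hpo1, hsurjS, hnil⟩ := thickening_affine_data hS hcY hW' hV' eV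
  obtain ⟨hαsurj, hkerα⟩ := surjective_and_ker_of_isPushout hpo1 hsurjS
  have eU2 : U' ≤ (f' ≫ g') ⁻¹ᵁ W' := fun x hx ↦ eV (eU hx)
  obtain ⟨-, hUa, e2, hpo2, -, -⟩ := thickening_affine_data hS hcX hW' hU' eU2
  obtain ⟨hβsurj, hkerβ⟩ := surjective_and_ker_of_isPushout hpo2 hsurjS
  obtain ⟨-, -, e', hpo3, -, -⟩ := thickening_affine_data hY hsq hV' hU' eU
  refine ⟨hVa, hUa, e', congr($(hpo3.w).hom), hαsurj, hβsurj, hkerα, ?_, hnil⟩
  rw [hkerβ, ← CommRingCat.hom_comp, Scheme.Hom.appLE_comp_appLE]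

/-- A morphism of thickenings is a closed embedding as soon as it is so on the thickened
subschemes. -/
theorem isClosedEmbedding_of_thickening {X X' Y Y' : Scheme.{u}} {iX : X ⟶ X'} {iY : Y ⟶ Y'}
    {f : X ⟶ Y} {f' : X' ⟶ Y'} (hX : MoreMor.IsThickening iX) (hY : MoreMor.IsThickening iY)
    (w : iX ≫ f' = f ≫ iY) (hf : Topology.IsClosedEmbedding f) : Topology.IsClosedEmbedding f' := by
  have hiX := isThickening_isHomeomorph iX hX
  have hiY := isThickening_isHomeomorph iY hY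
  have h1 : (f' : X' → Y') ∘ iX = iY ∘ f := funext fun x ↦ by
    simp only [Function.comp_apply]
    rw [← Scheme.Hom.comp_apply, ← Scheme.Hom.comp_apply, w]
  have h2 : Topology.IsClosedEmbedding ((f' : X' → Y') ∘ iX) := by
    rw [h1]
    exact hiY.isClosedEmbedding.comp hf
  have h3 : (f' : X' → Y') = ((f' : X' → Y') ∘ iX) ∘ hiX.homeomorph.symm := by
    ext x'
    simp only [Function.comp_apply]
    congr 1
    exact (hiX.homeomorph.apply_symm_apply x').symm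
  rw [h3]
  exact h2.comp hiX.homeomorph.symm.isClosedEmbedding

/-- Every point of `Y'` has an affine open neighbourhood lying over an affine open of `S'`. -/
theorem exists_affine_nhds_over_affine {Y' S' : Scheme.{u}} (g' : Y' ⟶ S') (y' : Y') :
    ∃ V' : Y'.Opens, y' ∈ V' ∧ IsAffineOpen V' ∧
      ∃ W' : S'.Opens, IsAffineOpen W' ∧ V' ≤ g' ⁻¹ᵁ W' := by
  obtain ⟨_, ⟨W', hW', rfl⟩, hyW, -⟩ := S'.isBasis_affineOpens.exists_subset_of_mem_open
    (Set.mem_univ (g' y')) isOpen_univ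
  obtain ⟨_, ⟨V', hV', rfl⟩, hyV, hVW⟩ := Y'.isBasis_affineOpens.exists_subset_of_mem_open
    (show y' ∈ g' ⁻¹ᵁ W' from hyW) (g' ⁻¹ᵁ W').2
  exact ⟨V', hyV, hV', W', hW', hVW⟩

end Groth.Agent.H7
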