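import Mathlib
import Groth.Agent.H2.Tor1

/-!
# Flatness lifts along nilpotent thickenings (fibrewise criterion, nilpotent case)
-/

set_option autoImplicit false
universe u

namespace Groth.Agent.H7

open TensorProduct CategoryTheory Groth.Agent.H2

/-- Transport of flatness of the base change from an algebra isomorphic to a quotient to that
quotient. -/
theorem flat_quotient_tensor_of_algEquiv {R A M : Type u} [CommRing R] [CommRing A] [Algebra R A]
    [AddCommGroup M] [Module R M] (I : Ideal R) (e : (R ⧸ I) ≃ₐ[R] A)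
    [Module.Flat A (A ⊗[R] M)] :
    Module.Flat (R ⧸ I) ((R ⧸ I) ⊗[R] M) := by
  let _ : Algebra A (R ⧸ I) := e.symm.toAlgHom.toRingHom.toAlgebra
  have : IsScalarTower R A (R ⧸ I) :=
    IsScalarTower.of_algebraMap_eq fun r ↦ (e.symm.commutes r).symm
  have h1 : Module.Flat (R ⧸ I) ((R ⧸ I) ⊗[A] (A ⊗[R] M)) := inferInstance
  exact Module.Flat.of_linearEquiv (TensorProduct.AlgebraTensorModule.cancelBaseChange R A
    (R ⧸ I) (R ⧸ I) M).symm

/-- If `B'` is flat over `R`, then `Tor_1^{A'}(A'/JA', B') = 0` for every ideal `J` of `R`. -/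
theorem rTensor_map_subtype_injective_of_flat {R A' B' : Type u} [CommRing R] [CommRing A']
    [CommRing B'] [Algebra R A'] [Algebra A' B'] [Algebra R B'] [IsScalarTower R A' B']
    [Module.Flat R B'] (J : Ideal R) :
    Function.Injective ((J.map (algebraMap R A')).subtype.rTensor B') := by
  set I : Ideal A' := J.map (algebraMap R A') with hI
  rw [← LinearMap.lTensor_inj_iff_rTensor_inj]
  let l : J →ₗ[R] A' := (Algebra.linearMap R A').comp J.subtype
  let m : A' ⊗[R] J →ₗ[A'] A' := l.liftBaseChange A'
  have hm : ∀ x, m x ∈ I := by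
    intro x
    have : m x ∈ LinearMap.range m := ⟨x, rfl⟩
    rw [LinearMap.range_liftBaseChange] at this
    refine (Submodule.span_le (p := I)).mpr ?_ this
    rintro _ ⟨y, rfl⟩
    exact Ideal.mem_map_of_mem _ y.2
  let m' : A' ⊗[R] J →ₗ[A'] I := m.codRestrict I hm
  have hm' : Function.Surjective m' := by
    rintro ⟨y, hy⟩
    have h1 : y ∈ LinearMap.range m := by
      rw [LinearMap.range_liftBaseChange]
      rw [hI, Ideal.map] at hy
      refine (Submodule.span_le (p := Submodule.span A' (LinearMap.range l : Set A'))).mpr ?_ hy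
      rintro _ ⟨x, hx, rfl⟩
      exact Submodule.subset_span ⟨⟨x, hx⟩, rfl⟩
    obtain ⟨x, hx⟩ := h1
    exact ⟨x, Subtype.ext hx⟩
  have hcomp : I.subtype.comp m' = m := LinearMap.subtype_comp_codRestrict _ _ _
  have hsurj : Function.Surjective (m'.lTensor B') := LinearMap.lTensor_surjective B' hm'
  -- injectivity of `m.lTensor B'`
  let eJ := TensorProduct.AlgebraTensorModule.cancelBaseChange R A' A' B' J
  have hflat : Function.Injective (J.subtype.lTensor B') :=
    Module.Flat.lTensor_preserves_injective_linearMap _ (Submodule.injective_subtype J)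
  have hsq : ∀ w, TensorProduct.rid A' B' (m.lTensor B' w) =
      TensorProduct.rid R B' (J.subtype.lTensor B' (eJ w)) := by
    intro w
    induction w using TensorProduct.induction_on with
    | zero => simp
    | tmul b y =>
      induction y using TensorProduct.induction_on with
      | zero => simp
      | tmul a x =>
        simp only [LinearMap.lTensor_tmul, TensorProduct.rid_tmul, eJ,
          TensorProduct.AlgebraTensorModule.cancelBaseChange_tmul, m,
          LinearMap.liftBaseChange_tmul, l, LinearMap.comp_apply, Submodule.subtype_apply,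
          Algebra.linearMap_apply]
        rw [smul_eq_mul, mul_smul, algebraMap_smul, smul_comm]
      | add y z hy hz => simp only [TensorProduct.tmul_add, map_add, hy, hz]
    | add x y hx hy => simp only [map_add, hx, hy]
  have hminj : Function.Injective (m.lTensor B') := by
    intro w₁ w₂ hw
    have h1 := hsq w₁
    rw [hw, hsq w₂] at h1
    exact eJ.injective (hflat ((TensorProduct.rid R B').injective h1)).symm
  intro z₁ z₂ hz
  obtain ⟨w₁, rfl⟩ := hsurj z₁
  obtain ⟨w₂, rfl⟩ := hsurj z₂
  have h2 : ∀ w, I.subtype.lTensor B' (m'.lTensor B' w) = m.lTensor B' w := by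
    intro w
    rw [← LinearMap.comp_apply, ← LinearMap.lTensor_comp, hcomp]
  rw [h2, h2] at hz
  rw [hminj hz]

/-- Flatness lifts along quotients by a nilpotent ideal of a base over which the target is
flat. -/
theorem ringHom_flat_of_nilpotent_of_flat {R A' B' A B : Type u} [CommRing R] [CommRing A']
    [CommRing B'] [CommRing A] [CommRing B] (ψ : R →+* A') (φ' : A' →+* B') (αY : A' →+* A)
    (β : B' →+* B) (φ : A →+* B) (J : Ideal R) {n : ℕ} (hJ : J ^ n = ⊥)
    (hpo : IsPushout (CommRingCat.ofHom φ') (CommRingCat.ofHom αY) (CommRingCat.ofHom β)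
      (CommRingCat.ofHom φ))
    (hαY : Function.Surjective αY) (hkerα : RingHom.ker αY = J.map ψ)
    (hflat : (φ'.comp ψ).Flat) (hφ : φ.Flat) : φ'.Flat := by
  let _ : Algebra R A' := ψ.toAlgebra
  let _ : Algebra A' B' := φ'.toAlgebra
  let _ : Algebra R B' := (φ'.comp ψ).toAlgebra
  have : IsScalarTower R A' B' := IsScalarTower.of_algebraMap_eq fun _ ↦ rfl
  let _ : Algebra A' A := αY.toAlgebra
  let _ : Algebra A B := φ.toAlgebra
  let _ : Algebra B' B := β.toAlgebra
  let _ : Algebra A' B := (φ.comp αY).toAlgebra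
  have : IsScalarTower A' A B := .of_algebraMap_eq fun _ ↦ rfl
  have : IsScalarTower A' B' B := .of_algebraMap_eq fun a ↦ (congr($(hpo.w).hom a)).symm
  have hfl : Module.Flat R B' := hflat
  have hflB : Module.Flat A B := hφ
  have hpo' : Algebra.IsPushout A' B' A B := CommRingCat.isPushout_iff_isPushout.mp hpo
  have hpo'' : Algebra.IsPushout A' A B' B := hpo'.symm
  have : Module.Flat A (A ⊗[A'] B') :=
    Module.Flat.of_linearEquiv (Algebra.IsPushout.equiv A' A B' B).toLinearEquiv
  have hb : Module.Flat (A' ⧸ RingHom.ker (Algebra.ofId A' A))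
      ((A' ⧸ RingHom.ker (Algebra.ofId A' A)) ⊗[A'] B') :=
    flat_quotient_tensor_of_algEquiv _
      (Ideal.quotientKerAlgEquivOfSurjective (f := Algebra.ofId A' A) hαY)
  have hI : RingHom.ker (Algebra.ofId A' A) = J.map (algebraMap R A') := hkerα
  rw [hI] at hb
  have ha : Tor1Zero A' (A' ⧸ J.map (algebraMap R A')) B' :=
    (tor1Zero_quotient_iff _).mpr (rTensor_map_subtype_injective_of_flat J)
  have hnil : IsNilpotent (J.map (algebraMap R A')) :=
    ⟨n, by rw [← Ideal.map_pow, hJ, Ideal.map_bot]; rfl⟩
  exact flat_of_isNilpotent_of_tor1Zero _ hnil ha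


end Groth.Agent.H7
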