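import Mathlib
import Groth.Agent.H31.SheafOfModulesToSheaf

/-!
helper7: basic tools for sheaves of modules on a scheme, used for the `ZClos` family:
the stalk functor `stalkF` (preserves colimits), detection of monos/isos on sections, stalks and
on a basis, sections of filtered colimits over quasi-compact opens (`exists_map_eq_zero_of_ι_eq_zero`,
`exists_ι_app_eq`), and closures of subsets stable under specialization in locally Noetherian schemes.
-/

set_option autoImplicit false
universe u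

open CategoryTheory CategoryTheory.Limits AlgebraicGeometry TopologicalSpace Opposite

namespace Groth.Agent.H7.ZClosBase

variable {X : Scheme.{u}}

/-- the stalk functor on `O_X`-modules (underlying abelian groups). -/
noncomputable def stalkF (x : X) : X.Modules ⥤ Ab.{u} :=
  Scheme.Modules.toPresheaf X ⋙ TopCat.Presheaf.stalkFunctor Ab.{u} x

instance preservesColimits_stalkF (x : X) : PreservesColimitsOfSize.{u, u} (stalkF x) := by
  have h1 : PreservesColimitsOfSize.{u, u} (SheafOfModules.toSheaf.{u} X.ringCatSheaf) :=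
    Groth.Agent.H31.toSheaf_preservesColimits _
  have h2 : PreservesColimitsOfSize.{u, u}
      (TopCat.Sheaf.forget Ab.{u} X ⋙ TopCat.Presheaf.stalkFunctor Ab.{u} x) := by
    classical
    exact (stalkSkyscraperSheafAdjunction (C := Ab.{u}) x).leftAdjoint_preservesColimits
  change PreservesColimitsOfSize.{u, u} (SheafOfModules.toSheaf.{u} X.ringCatSheaf ⋙
    (TopCat.Sheaf.forget Ab.{u} X ⋙ TopCat.Presheaf.stalkFunctor Ab.{u} x))
  exact @comp_preservesColimits _ _ _ _ _ _ _ _ h1 h2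

/-- the germ of a section of a module. -/
noncomputable abbrev germ (M : X.Modules) (U : X.Opens) (x : X) (hx : x ∈ U) (s : Γ(M, U)) :
    (stalkF x).obj M :=
  M.presheaf.germ U x hx s

theorem stalkF_map_germ {M N : X.Modules} (φ : M ⟶ N) (x : X) (U : X.Opens) (hx : x ∈ U)
    (s : Γ(M, U)) :
    (stalkF x).map φ (germ M U x hx s) = germ N U x hx (φ.app U s) :=
  TopCat.Presheaf.stalkFunctor_map_germ_apply U x hx (Scheme.Modules.Hom.mapPresheaf φ) s

@[simp]
theorem germ_zero (M : X.Modules) (U : X.Opens) (x : X) (hx : x ∈ U) :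
    germ M U x hx 0 = 0 :=
  (M.presheaf.germ U x hx).hom.map_zero

theorem germ_res (M : X.Modules) {U V : X.Opens} (i : U ⟶ V) (x : X) (hx : x ∈ U) (s : Γ(M, V)) :
    germ M U x hx (M.presheaf.map i.op s) = germ M V x (i.le hx) s :=
  TopCat.Presheaf.germ_res_apply M.presheaf i x hx s

theorem app_res {M N : X.Modules} (φ : M ⟶ N) {U V : X.Opens} (i : U ⟶ V) (s : Γ(M, V)) :
    φ.app U (M.presheaf.map i.op s) = N.presheaf.map i.op (φ.app V s) := by
  have := φ.mapPresheaf.naturality i.op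
  exact congr($(this) s)

/-- the colimit injection, with target displayed as `c.pt`. -/
abbrev inj {J : Type u} [Category J] {D : J ⥤ X.Modules} (c : Cocone D) (j : J) :
    D.obj j ⟶ c.pt := c.ι.app j

section Filtered

variable {J : Type u} [SmallCategory J] [IsFiltered J] {D : J ⥤ X.Modules} {c : Cocone D}
  (hc : IsColimit c)

include hc in
theorem stalk_jointly_surjective (x : X) (γ : (stalkF x).obj c.pt) :
    ∃ (j : J) (γ' : (stalkF x).obj (D.obj j)), (stalkF x).map (inj c j) γ' = γ := by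
  obtain ⟨j, γ', h⟩ := Types.jointly_surjective_of_isColimit
    (isColimitOfPreserves (stalkF x ⋙ forget Ab.{u}) hc) γ
  exact ⟨j, γ', h⟩

include hc in
theorem stalk_eq_zero (x : X) (j : J) (γ' : (stalkF x).obj (D.obj j))
    (h : (stalkF x).map (inj c j) γ' = 0) :
    ∃ (j' : J) (f : j ⟶ j'), (stalkF x).map (D.map f) γ' = 0 := by
  have h0 : ((stalkF x ⋙ forget Ab.{u}).mapCocone c).ι.app j γ' =
      ((stalkF x ⋙ forget Ab.{u}).mapCocone c).ι.app j (0 : (stalkF x).obj (D.obj j)) := by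
    change (stalkF x).map (inj c j) γ' = (stalkF x).map (inj c j) 0
    rw [h, map_zero]
  obtain ⟨k, f, g, hfg⟩ := (Types.FilteredColimit.isColimit_eq_iff _
    (isColimitOfPreserves (stalkF x ⋙ forget Ab.{u}) hc)).1 h0
  refine ⟨k, f, ?_⟩
  have : (stalkF x).map (D.map f) γ' = (stalkF x).map (D.map g) 0 := hfg
  rw [this, map_zero]

end Filtered


section Sheaf

/-- the underlying sheaf of abelian groups of a module. -/
noncomputable abbrev shf (M : X.Modules) : TopCat.Sheaf Ab.{u} X := ⟨M.presheaf, M.isSheaf⟩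

/-- a section of a module which vanishes locally vanishes. -/
theorem eq_of_locally_eq (M : X.Modules) {ι : Type*} (U : ι → X.Opens) (V : X.Opens)
    (iUV : ∀ i, U i ⟶ V) (hcover : V ≤ iSup U) (s t : Γ(M, V))
    (h : ∀ i, M.presheaf.map (iUV i).op s = M.presheaf.map (iUV i).op t) : s = t :=
  TopCat.Sheaf.eq_of_locally_eq' (shf M) U V iUV hcover s t h

theorem exists_res_eq_zero_of_germ_eq_zero (M : X.Modules) (U : X.Opens) (x : X) (hx : x ∈ U)
    (s : Γ(M, U)) (h : germ M U x hx s = 0) :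
    ∃ (W : X.Opens) (_ : x ∈ W) (i : W ⟶ U), M.presheaf.map i.op s = 0 := by
  have h' : M.presheaf.germ U x hx s = M.presheaf.germ U x hx 0 := by
    rw [map_zero]; exact h
  obtain ⟨W, hxW, i, i', hW⟩ := TopCat.Presheaf.germ_eq M.presheaf x hx hx _ _ h'
  rw [map_zero] at hW
  exact ⟨W, hxW, i, hW⟩

end Sheaf


section Basics

variable {M N : X.Modules} (φ : M ⟶ N)

theorem injective_app_of_mono [Mono φ] (U : X.Opens) : Function.Injective (φ.app U) := by
  have h1 : Mono ((Scheme.Modules.toPresheaf X).map φ) := inferInstance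
  have h2 : Mono (((Scheme.Modules.toPresheaf X).map φ).app (op U)) := inferInstance
  exact (AddCommGrpCat.mono_iff_injective _).1 h2

theorem mono_of_injective_app (h : ∀ U : X.Opens, Function.Injective (φ.app U)) : Mono φ := by
  apply (Scheme.Modules.toPresheaf X).mono_of_mono_map
  have hmono : ∀ U : (TopologicalSpace.Opens X)ᵒᵖ,
      Mono (((Scheme.Modules.toPresheaf X).map φ).app U) := by
    intro U
    rw [AddCommGrpCat.mono_iff_injective]
    exact h U.unop
  exact NatTrans.mono_of_mono_app _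

theorem injective_stalk_of_injective_app (h : ∀ U : X.Opens, Function.Injective (φ.app U))
    (x : X) : Function.Injective ((stalkF x).map φ) :=
  TopCat.Presheaf.stalkFunctor_map_injective_of_app_injective (f := φ.mapPresheaf) h x

theorem injective_app_of_injective_stalk (h : ∀ x : X, Function.Injective ((stalkF x).map φ))
    (U : X.Opens) : Function.Injective (φ.app U) :=
  TopCat.Presheaf.app_injective_of_stalkFunctor_map_injective (F := shf M) φ.mapPresheaf U
    (fun x _ ↦ h x)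

theorem mono_iff_injective_stalk :
    Mono φ ↔ ∀ x : X, Function.Injective ((stalkF x).map φ) :=
  ⟨fun _ ↦ injective_stalk_of_injective_app φ (injective_app_of_mono φ),
    fun h ↦ mono_of_injective_app φ (injective_app_of_injective_stalk φ h)⟩

theorem isIso_of_bijective_app (h : ∀ U : X.Opens, Function.Bijective (φ.app U)) : IsIso φ := by
  rw [Scheme.Modules.Hom.isIso_iff_isIso_app]
  intro U
  exact (ConcreteCategory.isIso_iff_bijective _).2 (h U)

theorem bijective_app_of_isIso [IsIso φ] (U : X.Opens) : Function.Bijective (φ.app U) :=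
  (ConcreteCategory.isIso_iff_bijective _).1 inferInstance

theorem bijective_stalk_of_isIso [IsIso φ] (x : X) : Function.Bijective ((stalkF x).map φ) :=
  (ConcreteCategory.isIso_iff_bijective _).1 inferInstance

theorem isIso_of_bijective_stalk (h : ∀ x : X, Function.Bijective ((stalkF x).map φ)) :
    IsIso φ := by
  apply isIso_of_bijective_app
  intro U
  exact TopCat.Presheaf.app_bijective_of_stalkFunctor_map_bijective
    (F := shf M) (G := shf N) ⟨φ.mapPresheaf⟩ U (fun x _ ↦ h x)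

variable {B : Set X.Opens} (hB : Opens.IsBasis B)

include hB in
theorem injective_stalk_of_isBasis (h : ∀ U ∈ B, Function.Injective (φ.app U)) (x : X) :
    Function.Injective ((stalkF x).map φ) :=
  TopCat.Presheaf.stalkFunctor_map_injective_of_isBasis hB (α := φ.mapPresheaf) h x

include hB in
theorem surjective_stalk_of_isBasis (h : ∀ U ∈ B, Function.Surjective (φ.app U)) (x : X) :
    Function.Surjective ((stalkF x).map φ) := by
  intro δ
  obtain ⟨U, hxU, hU, t, rfl⟩ := TopCat.Presheaf.exists_mem_germ_eq_of_isBasis hB N.presheaf x δ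
  obtain ⟨s, rfl⟩ := h U hU t
  exact ⟨germ M U x hxU s, stalkF_map_germ φ x U hxU s⟩

include hB in
theorem mono_of_isBasis (h : ∀ U ∈ B, Function.Injective (φ.app U)) : Mono φ :=
  (mono_iff_injective_stalk φ).2 (injective_stalk_of_isBasis φ hB h)

include hB in
theorem isIso_of_isBasis (h : ∀ U ∈ B, Function.Bijective (φ.app U)) : IsIso φ :=
  isIso_of_bijective_stalk φ (fun x ↦ ⟨injective_stalk_of_isBasis φ hB (fun U hU ↦ (h U hU).1) x,
    surjective_stalk_of_isBasis φ hB (fun U hU ↦ (h U hU).2) x⟩)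

end Basics

section Directed

variable {J : Type u} [SemilatticeSup J] [OrderBot J] {D : J ⥤ X.Modules} {c : Cocone D}
  (hc : IsColimit c)

omit [OrderBot J] in
theorem map_map_app (D : J ⥤ X.Modules) {j j' j'' : J} (h : j ≤ j') (h' : j' ≤ j'') (W : X.Opens)
    (a : Γ(D.obj j, W)) :
    (D.map (homOfLE h')).app W ((D.map (homOfLE h)).app W a) =
      (D.map (homOfLE (h.trans h'))).app W a := by
  have : D.map (homOfLE (h.trans h')) = D.map (homOfLE h) ≫ D.map (homOfLE h') := by
    rw [← D.map_comp]; rfl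
  rw [this]
  rfl

include hc in
/-- (A1) a section over a quasi-compact open which dies in the colimit dies at a finite stage. -/
theorem exists_map_eq_zero_of_ι_eq_zero (W : X.Opens) (hW : IsCompact (W : Set X)) (j : J)
    (a : Γ(D.obj j, W)) (ha : (inj c j).app W a = 0) :
    ∃ (j' : J) (h : j ≤ j'), (D.map (homOfLE h)).app W a = 0 := by
  have hloc : ∀ x : W, ∃ (j' : J) (h : j ≤ j') (W' : X.Opens) (_ : x.1 ∈ W') (i : W' ⟶ W),
      (D.obj j').presheaf.map i.op ((D.map (homOfLE h)).app W a) = 0 := by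
    intro x
    have h1 : (stalkF x.1).map (inj c j) (germ (D.obj j) W x.1 x.2 a) = 0 := by
      rw [stalkF_map_germ, ha, germ_zero]
    obtain ⟨j', f, hf⟩ := stalk_eq_zero hc x.1 j _ h1
    rw [stalkF_map_germ] at hf
    obtain ⟨W', hxW', i, hi⟩ := exists_res_eq_zero_of_germ_eq_zero _ _ _ _ _ hf
    exact ⟨j', f.le, W', hxW', i, hi⟩
  choose jx hjx Wx hxWx ix hix using hloc
  obtain ⟨t, ht⟩ := hW.elim_finite_subcover (fun x : W ↦ ((Wx x : X.Opens) : Set X))
    (fun x ↦ (Wx x).isOpen) (by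
      intro y hy
      exact Set.mem_iUnion.2 ⟨⟨y, hy⟩, hxWx ⟨y, hy⟩⟩)
  let j' : J := t.sup jx ⊔ j
  have hj' : j ≤ j' := le_sup_right
  have hjx' : ∀ x ∈ t, jx x ≤ j' := fun x hx ↦ (Finset.le_sup (f := jx) hx).trans le_sup_left
  refine ⟨j', hj', ?_⟩
  apply eq_of_locally_eq (D.obj j') (fun x : t ↦ Wx x.1) W (fun x ↦ ix x.1)
  · intro y hy
    obtain ⟨x, hx⟩ := Set.mem_iUnion.1 (ht hy)
    obtain ⟨hxt, hyx⟩ := Set.mem_iUnion.1 hx
    exact Opens.mem_iSup.2 ⟨⟨x, hxt⟩, hyx⟩
  · intro x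
    rw [map_zero, ← map_map_app D (hjx x.1) (hjx' x.1 x.2), ← app_res, hix, map_zero]


omit [OrderBot J] in
theorem ι_map_app (c : Cocone D) {j j' : J} (h : j ≤ j') (W : X.Opens) (a : Γ(D.obj j, W)) :
    (inj c j').app W ((D.map (homOfLE h)).app W a) = (inj c j).app W a := by
  have : inj c j = D.map (homOfLE h) ≫ inj c j' := (c.w (homOfLE h)).symm
  rw [this]
  rfl

/-- gluing sections of a module. -/
theorem exists_gluing (M : X.Modules) {ι : Type*} (U : ι → X.Opens) (V : X.Opens)
    (iUV : ∀ i, U i ⟶ V) (hcover : V ≤ iSup U) (sf : ∀ i, Γ(M, U i))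
    (h : ∀ i j, M.presheaf.map (Opens.infLELeft (U i) (U j)).op (sf i) =
      M.presheaf.map (Opens.infLERight (U i) (U j)).op (sf j)) :
    ∃ s : Γ(M, V), ∀ i, M.presheaf.map (iUV i).op s = sf i := by
  obtain ⟨s, hs, -⟩ := TopCat.Sheaf.existsUnique_gluing' (shf M) U V iUV hcover sf h
  exact ⟨s, hs⟩

include hc in
/-- (A2) a section of the colimit over a Noetherian open comes from a finite stage. -/
theorem exists_ι_app_eq (V : X.Opens) (hcpt : ∀ W : X.Opens, W ≤ V → IsCompact (W : Set X))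
    (s : Γ(c.pt, V)) :
    ∃ (j : J) (a : Γ(D.obj j, V)), (inj c j).app V a = s := by
  -- local representatives
  have hloc : ∀ x : V, ∃ (j : J) (V' : X.Opens) (_ : x.1 ∈ V') (i : V' ⟶ V) (a : Γ(D.obj j, V')),
      (inj c j).app V' a = c.pt.presheaf.map i.op s := by
    intro x
    obtain ⟨j, γ', hγ'⟩ := stalk_jointly_surjective hc x.1 (germ c.pt V x.1 x.2 s)
    obtain ⟨V₁, hxV₁, a₁, rfl⟩ := TopCat.Presheaf.exists_germ_eq (D.obj j).presheaf γ'
    have h1 : c.pt.presheaf.germ V₁ x.1 hxV₁ ((inj c j).app V₁ a₁) =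
        c.pt.presheaf.germ V x.1 x.2 s :=
      (stalkF_map_germ (inj c j) x.1 V₁ hxV₁ a₁).symm.trans hγ'
    obtain ⟨V', hxV', i₁, i, hV'⟩ := TopCat.Presheaf.germ_eq c.pt.presheaf x.1 hxV₁ x.2 _ _ h1
    refine ⟨j, V', hxV', i, (D.obj j).presheaf.map i₁.op a₁, ?_⟩
    rw [app_res, hV']
  choose jx Vx hxVx ix ax hax using hloc
  obtain ⟨t, ht⟩ := (hcpt V le_rfl).elim_finite_subcover (fun x : V ↦ ((Vx x : X.Opens) : Set X))
    (fun x ↦ (Vx x).isOpen) (by
      intro y hy
      exact Set.mem_iUnion.2 ⟨⟨y, hy⟩, hxVx ⟨y, hy⟩⟩)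
  have hcover : V ≤ iSup (fun x : t ↦ Vx x.1) := by
    intro y hy
    obtain ⟨x, hx⟩ := Set.mem_iUnion.1 (ht hy)
    obtain ⟨hxt, hyx⟩ := Set.mem_iUnion.1 hx
    exact Opens.mem_iSup.2 ⟨⟨x, hxt⟩, hyx⟩
  -- common stage
  let j₀ : J := t.sup jx
  have hj₀ : ∀ x : t, jx x.1 ≤ j₀ := fun x ↦ Finset.le_sup (f := jx) x.2
  let b : ∀ x : t, Γ(D.obj j₀, Vx x.1) := fun x ↦ (D.map (homOfLE (hj₀ x))).app (Vx x.1) (ax x.1)
  have hb : ∀ x : t, (inj c j₀).app (Vx x.1) (b x) = c.pt.presheaf.map (ix x.1).op s := by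
    intro x
    rw [ι_map_app, hax]
  -- kill the differences on overlaps
  have hover : ∀ p : t × t, ∃ (j' : J) (h : j₀ ≤ j'),
      (D.map (homOfLE h)).app (Vx p.1.1 ⊓ Vx p.2.1)
        ((D.obj j₀).presheaf.map (Opens.infLELeft (Vx p.1.1) (Vx p.2.1)).op (b p.1) -
          (D.obj j₀).presheaf.map (Opens.infLERight (Vx p.1.1) (Vx p.2.1)).op (b p.2)) = 0 := by
    intro p
    apply exists_map_eq_zero_of_ι_eq_zero hc _
      (hcpt _ (inf_le_left.trans (ix p.1.1).le)) j₀
    rw [map_sub, app_res, app_res, hb, hb, ← Functor.map_comp_apply, ← Functor.map_comp_apply,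
      sub_eq_zero]
    rfl
  choose jp hjp hjp0 using hover
  let j₁ : J := (Finset.univ : Finset (t × t)).sup jp ⊔ j₀
  have hj₁ : j₀ ≤ j₁ := le_sup_right
  have hjp₁ : ∀ p : t × t, jp p ≤ j₁ :=
    fun p ↦ (Finset.le_sup (f := jp) (Finset.mem_univ p)).trans le_sup_left
  let e : ∀ x : t, Γ(D.obj j₁, Vx x.1) := fun x ↦ (D.map (homOfLE hj₁)).app (Vx x.1) (b x)
  have he : ∀ x : t, (inj c j₁).app (Vx x.1) (e x) = c.pt.presheaf.map (ix x.1).op s := by
    intro x
    rw [ι_map_app, hb]
  obtain ⟨g, hg⟩ := exists_gluing (D.obj j₁) (fun x : t ↦ Vx x.1) V (fun x ↦ ix x.1) hcover e (by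
    intro x y
    have h0 := hjp0 (x, y)
    have h1 := congrArg (fun z ↦ (D.map (homOfLE (hjp₁ (x, y)))).app _ z) h0
    simp only [map_zero] at h1
    rw [map_map_app, map_sub, sub_eq_zero, app_res, app_res] at h1
    exact h1)
  refine ⟨j₁, g, ?_⟩
  apply eq_of_locally_eq c.pt (fun x : t ↦ Vx x.1) V (fun x ↦ ix x.1) hcover
  intro x
  rw [← app_res, hg, he]

end Directed

section Topology

theorem isCompact_of_le_of_isCompact [IsLocallyNoetherian X] (V W : X.Opens)
    (hV : IsCompact (V : Set X)) (hWV : W ≤ V) : IsCompact (W : Set X) := by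
  have : CompactSpace V := isCompact_iff_compactSpace.1 hV
  have : IsNoetherian (V : Scheme) := ⟨⟩
  have hN : NoetherianSpace {x // x ∈ V} := inferInstanceAs (NoetherianSpace (V : Scheme))
  have h1 : IsCompact ((Subtype.val : {x // x ∈ V} → X) ⁻¹' (W : Set X)) :=
    NoetherianSpace.isCompact _
  have h2 := h1.image continuous_subtype_val
  rwa [Set.image_preimage_eq_of_subset (by rw [Subtype.range_coe]; exact hWV)] at h2

/-- in a quasi-compact open `W` of a locally Noetherian scheme, every point of the closure of a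
subset `S ⊆ W` closed in `W` is a specialization of a point of `S`. -/
theorem exists_specializes_of_mem_closure [IsLocallyNoetherian X] (W : X.Opens)
    (hW : IsCompact (W : Set X)) (S : Set X) (hSW : S ⊆ W) (hS : closure S ∩ W ⊆ S) (y : X)
    (hy : y ∈ closure S) : ∃ η ∈ S, η ⤳ y := by
  have : CompactSpace W := isCompact_iff_compactSpace.1 hW
  have : IsNoetherian (W : Scheme) := ⟨⟩
  have hN : NoetherianSpace {x // x ∈ W} := inferInstanceAs (NoetherianSpace (W : Scheme))
  have hQ : QuasiSober {x // x ∈ W} := inferInstanceAs (QuasiSober (W : Scheme))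
  have hS₀ : IsClosed ((Subtype.val : {x // x ∈ W} → X) ⁻¹' S) := by
    have h0 : (Subtype.val : {x // x ∈ W} → X) ⁻¹' S = Subtype.val ⁻¹' (closure S) := by
      ext z
      exact ⟨fun h ↦ subset_closure h, fun h ↦ hS ⟨h, z.2⟩⟩
    rw [h0]
    exact isClosed_closure.preimage continuous_subtype_val
  obtain ⟨𝒮, h𝒮fin, h𝒮cl, h𝒮irr, h𝒮⟩ :=
    NoetherianSpace.exists_finite_set_isClosed_irreducible hS₀
  have hgen : ∀ t ∈ 𝒮, ∃ η : {x // x ∈ W}, IsGenericPoint η t :=
    fun t ht ↦ QuasiSober.sober (h𝒮irr t ht) (h𝒮cl t ht)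
  choose η hη using hgen
  have hmem : ∀ t (ht : t ∈ 𝒮), (η t ht).1 ∈ S := by
    intro t ht
    have h1 : η t ht ∈ t := (hη t ht).mem
    have h2 : η t ht ∈ (Subtype.val : {x // x ∈ W} → X) ⁻¹' S := by
      rw [h𝒮]; exact Set.mem_sUnion.2 ⟨t, ht, h1⟩
    exact h2
  have hsub : S ⊆ ⋃ t : 𝒮, closure {(η t.1 t.2).1} := by
    intro z hz
    have hz' : (⟨z, hSW hz⟩ : {x // x ∈ W}) ∈ (Subtype.val : {x // x ∈ W} → X) ⁻¹' S := hz
    rw [h𝒮] at hz'
    obtain ⟨t, ht, hzt⟩ := Set.mem_sUnion.1 hz'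
    refine Set.mem_iUnion.2 ⟨⟨t, ht⟩, ?_⟩
    have h4 : (⟨z, hSW hz⟩ : {x // x ∈ W}) ∈ closure {η t ht} := by
      rw [(hη t ht).def]; exact hzt
    have h5 := image_closure_subset_closure_image (f := (Subtype.val : {x // x ∈ W} → X))
      continuous_subtype_val (Set.mem_image_of_mem _ h4)
    rwa [Set.image_singleton] at h5
  have hfin : Finite 𝒮 := h𝒮fin
  have hcl : IsClosed (⋃ t : 𝒮, closure {(η t.1 t.2).1}) :=
    isClosed_iUnion_of_finite (fun t ↦ isClosed_closure)
  have h6 := closure_minimal hsub hcl hy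
  obtain ⟨t, ht⟩ := Set.mem_iUnion.1 h6
  exact ⟨(η t.1 t.2).1, hmem t.1 t.2, specializes_iff_mem_closure.2 ht⟩

/-- in a locally Noetherian scheme, the closure of a subset `S` closed in an open `V` and
contained in a specialization-stable subset `Z` is contained in `Z`. -/
theorem closure_subset_of_stableUnderSpecialization [IsLocallyNoetherian X] (Z : Set X)
    (hZ : StableUnderSpecialization Z) (V : X.Opens) (S : Set X) (hSV : S ⊆ V)
    (hS : closure S ∩ V ⊆ S) (hSZ : S ⊆ Z) : closure S ⊆ Z := by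
  intro y hy
  obtain ⟨N, hN, hyN, -⟩ := exists_isAffineOpen_mem_and_subset (x := y) (U := ⊤) trivial
  have hW : IsCompact ((V ⊓ N : X.Opens) : Set X) :=
    isCompact_of_le_of_isCompact N (V ⊓ N) hN.isCompact inf_le_right
  have hy' : y ∈ closure (S ∩ N) := by
    have := N.isOpen.inter_closure (t := S) ⟨hyN, hy⟩
    rwa [Set.inter_comm] at this
  obtain ⟨η, hηS, hηy⟩ := exists_specializes_of_mem_closure (V ⊓ N) hW (S ∩ N)
    (fun z hz ↦ ⟨hSV hz.1, hz.2⟩) (by
      rintro z ⟨hz1, hz2⟩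
      exact ⟨hS ⟨closure_mono Set.inter_subset_left hz1, hz2.1⟩, hz2.2⟩) y hy'
  exact hZ hηy (hSZ hηS.1)

end Topology

end Groth.Agent.H7.ZClosBase
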