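import Mathlib
import Groth.Agent.S9453

set_option autoImplicit false
universe u

namespace Groth.Agent.H7

open AlgebraicGeometry CategoryTheory Limits MorphismProperty Topology

/-- Standard étale affine chart of an étale morphism around a point, over a given affine open of
the target. -/
theorem exists_standardEtale_chart {U S : Scheme.{u}} (e : U ⟶ S) [Etale e] (u : U)
    {V : S.Opens} (hV : IsAffineOpen V) (huV : e u ∈ V) :
    ∃ (B : Type u) (_ : CommRing B) (_ : Algebra Γ(S, V) B) (_ : Algebra.IsStandardEtale Γ(S, V) B)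
      (k : Spec (.of B) ⟶ U) (b : Spec (.of B)),
      k ≫ e = Spec.map (CommRingCat.ofHom (algebraMap Γ(S, V) B)) ≫ hV.fromSpec ∧ k b = u := by
  obtain ⟨U₁, hU₁, huU₁, hle⟩ : ∃ U₁ : U.Opens, IsAffineOpen U₁ ∧ u ∈ U₁ ∧ U₁ ≤ e ⁻¹ᵁ V := by
    obtain ⟨_, ⟨W, hW, rfl⟩, hxW, hWle⟩ := U.isBasis_affineOpens.exists_subset_of_mem_open
      (show u ∈ ((e ⁻¹ᵁ V : U.Opens) : Set U) from huV) (e ⁻¹ᵁ V).isOpen
    exact ⟨W, hW, hxW, hWle⟩
  let φ : Γ(S, V) ⟶ Γ(U, U₁) := e.appLE V U₁ hle
  have hφ : φ.hom.Etale := HasRingHomProperty.appLE (P := @Etale) e ‹_› ⟨V, hV⟩ ⟨U₁, hU₁⟩ hle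
  algebraize [φ.hom]
  let qu : PrimeSpectrum Γ(U, U₁) := hU₁.primeIdealOf ⟨u, huU₁⟩
  obtain ⟨f, hfq, hstd⟩ := Algebra.IsEtaleAt.exists_isStandardEtale (R := Γ(S, V)) qu.asIdeal
  let ι := algebraMap Γ(U, U₁) (Localization.Away f)
  -- the prime of the localization
  have hdisj : Disjoint (Submonoid.powers f : Set Γ(U, U₁)) (qu.asIdeal : Set Γ(U, U₁)) := by
    rw [Set.disjoint_left]
    rintro x ⟨n, rfl⟩ hx
    exact hfq (qu.2.mem_of_pow_mem n hx)
  have hprime : (qu.asIdeal.map ι).IsPrime :=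
    IsLocalization.isPrime_of_isPrime_disjoint (Submonoid.powers f) _ _ qu.2 hdisj
  let b : PrimeSpectrum (Localization.Away f) := ⟨qu.asIdeal.map ι, hprime⟩
  have hb : PrimeSpectrum.comap ι b = qu := by
    ext1
    exact IsLocalization.under_map_of_isPrime_disjoint (Submonoid.powers f) _ qu.2 hdisj
  refine ⟨Localization.Away f, inferInstance, inferInstance, hstd,
    Spec.map (CommRingCat.ofHom ι) ≫ hU₁.fromSpec, b, ?_, ?_⟩
  · rw [Category.assoc, ← IsAffineOpen.SpecMap_appLE_fromSpec e hV hU₁ hle, ← Category.assoc,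
      ← Spec.map_comp]
    rfl
  · rw [Scheme.Hom.comp_apply]
    have : Spec.map (CommRingCat.ofHom ι) b = qu := hb
    rw [this]
    exact hU₁.fromSpec_primeIdealOf ⟨u, huU₁⟩

/-- An étale neighbourhood is dominated, Zariski locally on a finite locally free cover, by that
cover. -/
theorem etale_nbhd_dominated_by_finite_flat {U S : Scheme.{u}} (e : U ⟶ S) [Etale e] (u : U) (s : S)
    (hu : e u = s) :
    ∃ (V : S.Opens) (T : Scheme.{u}) (π : T ⟶ (V : Scheme.{u})), s ∈ V ∧ IsAffineOpen V ∧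
      Surjective π ∧ IsFinite π ∧ Flat π ∧ LocallyOfFinitePresentation π ∧
      ∀ t : T, V.ι (π t) = s → ∃ (W : T.Opens) (h : (W : Scheme.{u}) ⟶ U), t ∈ W ∧
        h ≫ e = W.ι ≫ π ≫ V.ι ∧ ∀ ht : t ∈ W, h ⟨t, ht⟩ = u := by
  obtain ⟨V, hV, hsV⟩ : ∃ V : S.Opens, IsAffineOpen V ∧ s ∈ V := by
    obtain ⟨_, ⟨V, hV, rfl⟩, hxV, -⟩ :=
      S.isBasis_affineOpens.exists_subset_of_mem_open (Set.mem_univ s) isOpen_univ
    exact ⟨V, hV, hxV⟩
  obtain ⟨B, _, _, hstd, k, b, hk, hkb⟩ := exists_standardEtale_chart e u hV (hu ▸ hsV)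
  obtain ⟨S', _, _, hfin, hfp, hflat, hsurj, hloc⟩ := Groth.Agent.S9453.result Γ(S, V) B
  let ρ : Spec (.of S') ⟶ Spec Γ(S, V) := Spec.map (CommRingCat.ofHom (algebraMap Γ(S, V) S'))
  let π : Spec (.of S') ⟶ (V : Scheme.{u}) := ρ ≫ hV.isoSpec.inv
  have hπι : π ≫ V.ι = ρ ≫ hV.fromSpec := by
    simp only [π, Category.assoc, IsAffineOpen.isoSpec_inv_ι]
  have hρF : IsFinite ρ := by
    rw [IsFinite.SpecMap_iff]
    exact RingHom.finite_algebraMap.mpr hfin
  have hρFl : Flat ρ := by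
    rw [Flat.SpecMap_iff]
    exact RingHom.flat_algebraMap_iff.mpr hflat
  have hρP : LocallyOfFinitePresentation ρ := by
    rw [LocallyOfFinitePresentation.SpecMap_iff]
    exact RingHom.finitePresentation_algebraMap.mpr hfp
  have hρS : Surjective ρ := ⟨hsurj⟩
  refine ⟨V, Spec (.of S'), π, hsV, hV, inferInstance, inferInstance, inferInstance, inferInstance,
    ?_⟩
  intro t ht
  have h1 : hV.fromSpec (ρ t) = s := by
    rw [← Scheme.Hom.comp_apply, ← hπι, Scheme.Hom.comp_apply]; exact ht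
  have h2 : hV.fromSpec (Spec.map (CommRingCat.ofHom (algebraMap Γ(S, V) B)) b) = s := by
    rw [← Scheme.Hom.comp_apply, ← hk, Scheme.Hom.comp_apply, hkb, hu]
  have h3 : ρ t = Spec.map (CommRingCat.ofHom (algebraMap Γ(S, V) B)) b :=
    hV.fromSpec.isOpenEmbedding.injective (h1.trans h2.symm)
  have hbP : (b : PrimeSpectrum B).asIdeal.IsPrime := (b : PrimeSpectrum B).2
  have htP : (t : PrimeSpectrum S').asIdeal.IsPrime := (t : PrimeSpectrum S').2
  have hunder : (t : PrimeSpectrum S').asIdeal.under Γ(S, V) =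
      (b : PrimeSpectrum B).asIdeal.under Γ(S, V) :=
    congrArg PrimeSpectrum.asIdeal h3
  obtain ⟨g', hg', ψ, hψ⟩ := hloc (b : PrimeSpectrum B).asIdeal (t : PrimeSpectrum S').asIdeal hunder
  let j : Spec (.of (Localization.Away g')) ⟶ Spec (.of S') :=
    Spec.map (CommRingCat.ofHom (algebraMap S' (Localization.Away g')))
  let h : (j.opensRange : Scheme.{u}) ⟶ U :=
    j.isoOpensRange.inv ≫ Spec.map (CommRingCat.ofHom ψ.toRingHom) ≫ k
  have hdisj : Disjoint (Submonoid.powers g' : Set S') ((t : PrimeSpectrum S').asIdeal : Set S') := by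
    rw [Set.disjoint_left]
    rintro x ⟨n, rfl⟩ hx
    exact hg' (htP.mem_of_pow_mem n hx)
  have hprime : ((t : PrimeSpectrum S').asIdeal.map (algebraMap S' (Localization.Away g'))).IsPrime :=
    IsLocalization.isPrime_of_isPrime_disjoint (Submonoid.powers g') _ _ htP hdisj
  let t' : PrimeSpectrum (Localization.Away g') :=
    ⟨(t : PrimeSpectrum S').asIdeal.map (algebraMap S' (Localization.Away g')), hprime⟩
  have ht' : j t' = t := by
    change PrimeSpectrum.comap (algebraMap S' (Localization.Away g')) t' = t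
    ext1
    exact IsLocalization.under_map_of_isPrime_disjoint (Submonoid.powers g') _ htP hdisj
  have htW : t ∈ j.opensRange := ⟨t', ht'⟩
  refine ⟨j.opensRange, h, htW, ?_, ?_⟩
  · have hcomp : Spec.map (CommRingCat.ofHom ψ.toRingHom) ≫
        Spec.map (CommRingCat.ofHom (algebraMap Γ(S, V) B)) = j ≫ ρ := by
      simp only [j, ρ, ← Spec.map_comp]
      congr 1
      ext x
      simp only [CommRingCat.hom_comp, CommRingCat.hom_ofHom, RingHom.comp_apply]
      change ψ (algebraMap Γ(S, V) B x) = _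
      rw [ψ.commutes, IsScalarTower.algebraMap_apply Γ(S, V) S' (Localization.Away g')]
    simp only [h, Category.assoc]
    rw [hπι, hk, ← Scheme.Hom.isoOpensRange_inv_comp, Category.assoc, reassoc_of% hcomp]
  · intro ht2
    have e1 : j.isoOpensRange.inv ⟨t, ht2⟩ = t' := by
      apply j.isOpenEmbedding.injective
      rw [← Scheme.Hom.comp_apply, Scheme.Hom.isoOpensRange_inv_comp, ht']
      rfl
    have e2 : Spec.map (CommRingCat.ofHom ψ.toRingHom) t' = b := by
      change PrimeSpectrum.comap ψ.toRingHom t' = b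
      ext1
      exact hψ
    simp only [h, Scheme.Hom.comp_apply]
    rw [e1, e2, hkb]

end Groth.Agent.H7
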