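import Mathlib
import Groth.Agent.H7.PushEpiPropB
import Groth.Agent.H4.ExactDerived

set_option autoImplicit false
universe u

namespace Groth.Agent.H7

open AlgebraicGeometry CategoryTheory Limits

/-- Direct image of abelian étale sheaves along a morphism satisfying (B) is exact. -/
theorem push_preservesFiniteColimits_of_propB {X Y : Scheme.{u}} (f : X ⟶ Y)
    (hB : BigSite.PropB f) : PreservesFiniteColimits (EtCoh.push f) := by
  have h1 := push_preservesEpimorphisms_of_propB f hB
  have h2 : PreservesLimitsOfSize.{u + 1, u + 1} (EtCoh.push f) :=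
    (EtCoh.pullPushAdj f).rightAdjoint_preservesLimits
  have h3 : PreservesFiniteLimits (EtCoh.push f) := inferInstance
  have h4 : (EtCoh.push f).PreservesHomology :=
    Functor.preservesHomology_of_preservesEpis_and_kernels _
  exact Functor.preservesFiniteColimits_of_preservesHomology _

theorem push_preservesFiniteLimits {X Y : Scheme.{u}} (f : X ⟶ Y) :
    PreservesFiniteLimits (EtCoh.push f) := by
  have h2 : PreservesLimitsOfSize.{u + 1, u + 1} (EtCoh.push f) :=
    (EtCoh.pullPushAdj f).rightAdjoint_preservesLimits
  infer_instance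

/-- Higher direct images along a morphism satisfying (B) vanish. -/
theorem Rpush_isZero_of_propB {X Y : Scheme.{u}} (f : X ⟶ Y) (hB : BigSite.PropB f)
    (F : EtCoh.Ab X) (q : ℕ) (hq : 0 < q) : IsZero ((EtCoh.Rpush f q).obj F) := by
  have h1 := push_preservesFiniteColimits_of_propB f hB
  have h2 := push_preservesFiniteLimits f
  obtain ⟨n, rfl⟩ := Nat.exists_eq_succ_of_ne_zero hq.ne'
  exact Groth.Agent.H4.ExactDerived.isZero_rightDerived_succ (EtCoh.push f) F n

end Groth.Agent.H7
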