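import Groth.Agent.H7.FinPushStalk

/-!
# Degree-zero base change for the push-forward along a finite morphism
-/

set_option autoImplicit false
set_option linter.style.haveILetI false
universe u

open AlgebraicGeometry CategoryTheory Limits Opposite EtCoh
open Groth.Agent.H4.Stalks Groth.Agent.H4.StalkPull Groth.Agent.H4.GlueSec

namespace Groth.Agent.H7.FinPush

variable {X Y X' Y' : Scheme.{u}} (f : X ⟶ Y) (g : Y' ⟶ Y) (f' : X' ⟶ Y') (g' : X' ⟶ X)
  (w : g' ≫ f = f' ≫ g) (F : Ab X)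

section kap

/-- the comparison morphism of étale schemes `(V ×_Y Y') ×_{Y'} X' ⟶ (V ×_Y X) ×_X X'`. -/
noncomputable def kap (V : Y.Etale) : (bc f').obj ((bc g).obj V) ⟶ (bc g').obj ((bc f).obj V) :=
  (MorphismProperty.Over.pullbackComp (P := etaleMP) (Q := ⊤) f' g).inv.app V ≫
    (MorphismProperty.Over.pullbackCongr (P := etaleMP) (Q := ⊤) w).inv.app V ≫
    (MorphismProperty.Over.pullbackComp (P := etaleMP) (Q := ⊤) g' f).hom.app V

/-- the adjoint of the base change map -/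
noncomputable def gam : (push f).obj F ⟶ (push g).obj ((push f').obj ((pull g').obj F)) :=
  (push f).map ((pullPushAdj g').unit.app F) ≫ (pushComp f g').hom.app _ ≫
      (pushCongr w).hom.app _ ≫ (pushComp g f').inv.app _

theorem gam_app (V : Y.Etale) (s : F.obj.obj (op ((bc f).obj V))) :
    (gam f g f' g' w F).hom.app (op V) s =
      ((pull g').obj F).obj.map (kap f g f' g' w V).op
        (((pullPushAdj g').unit.app F).hom.app (op ((bc f).obj V)) s) := by
  unfold gam kap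
  simp only [pushComp, pushCongr]
  rw [op_comp, op_comp, Functor.map_comp, Functor.map_comp, ConcreteCategory.comp_apply,
    ConcreteCategory.comp_apply]
  rfl

theorem unit_comp_baseChange0 :
    (pullPushAdj g).unit.app ((push f).obj F) ≫ (push g).map (baseChange0 f g f' g' w F) =
      gam f g f' g' w F :=
  ((pullPushAdj g).homEquiv _ _).apply_symm_apply (gam f g f' g' w F)

set_option backward.isDefEq.respectTransparency.types false in
theorem kap_left_fst_fst (V : Y.Etale) :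
    (kap f g f' g' w V).left ≫ pullback.fst ((bc f).obj V).hom g' ≫ pullback.fst V.hom f =
      pullback.fst ((bc g).obj V).hom f' ≫ pullback.fst V.hom g := by
  have h1 := MorphismProperty.Over.pullbackComp_left_fst_fst (P := etaleMP) (Q := ⊤) g' f V
  have h2 := MorphismProperty.Over.pullbackCongr_hom_app_left_fst (P := etaleMP) (Q := ⊤) w V
  have h3 := MorphismProperty.Over.pullbackComp_left_fst_fst (P := etaleMP) (Q := ⊤) f' g V
  let a : pullback (pullback.snd V.hom g) f' ⟶ pullback V.hom (f' ≫ g) :=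
    ((MorphismProperty.Over.pullbackComp (P := etaleMP) (Q := ⊤) f' g).inv.app V).left
  let b : pullback V.hom (f' ≫ g) ⟶ pullback V.hom (g' ≫ f) :=
    ((MorphismProperty.Over.pullbackCongr (P := etaleMP) (Q := ⊤) w).inv.app V).left
  let c : pullback V.hom (g' ≫ f) ⟶ pullback (pullback.snd V.hom f) g' :=
    ((MorphismProperty.Over.pullbackComp (P := etaleMP) (Q := ⊤) g' f).hom.app V).left
  let b' : pullback V.hom (g' ≫ f) ⟶ pullback V.hom (f' ≫ g) :=
    ((MorphismProperty.Over.pullbackCongr (P := etaleMP) (Q := ⊤) w).hom.app V).left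
  let a' : pullback V.hom (f' ≫ g) ⟶ pullback (pullback.snd V.hom g) f' :=
    ((MorphismProperty.Over.pullbackComp (P := etaleMP) (Q := ⊤) f' g).hom.app V).left
  have hbb : b ≫ b' = 𝟙 _ := congrArg (fun t ↦ t.left)
    (Iso.inv_hom_id_app (MorphismProperty.Over.pullbackCongr (P := etaleMP) (Q := ⊤) w) V)
  have haa : a ≫ a' = 𝟙 _ := congrArg (fun t ↦ t.left)
    (Iso.inv_hom_id_app (MorphismProperty.Over.pullbackComp (P := etaleMP) (Q := ⊤) f' g) V)
  have hb : b ≫ pullback.fst V.hom (g' ≫ f) = pullback.fst V.hom (f' ≫ g) :=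
    calc b ≫ pullback.fst V.hom (g' ≫ f) = b ≫ (b' ≫ pullback.fst V.hom (f' ≫ g)) :=
          congrArg (fun t ↦ b ≫ t) h2.symm
      _ = (b ≫ b') ≫ pullback.fst V.hom (f' ≫ g) := (Category.assoc _ _ _).symm
      _ = 𝟙 _ ≫ pullback.fst V.hom (f' ≫ g) :=
          congrArg (fun t ↦ t ≫ pullback.fst V.hom (f' ≫ g)) hbb
      _ = _ := Category.id_comp _
  have ha : a ≫ pullback.fst V.hom (f' ≫ g) =
      pullback.fst (pullback.snd V.hom g) f' ≫ pullback.fst V.hom g :=
    calc a ≫ pullback.fst V.hom (f' ≫ g)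
        = a ≫ (a' ≫ pullback.fst (pullback.snd V.hom g) f' ≫ pullback.fst V.hom g) :=
          congrArg (fun t ↦ a ≫ t) h3.symm
      _ = (a ≫ a') ≫ pullback.fst (pullback.snd V.hom g) f' ≫ pullback.fst V.hom g :=
          (Category.assoc _ _ _).symm
      _ = 𝟙 _ ≫ pullback.fst (pullback.snd V.hom g) f' ≫ pullback.fst V.hom g :=
          congrArg (fun t ↦ t ≫ pullback.fst (pullback.snd V.hom g) f' ≫ pullback.fst V.hom g) haa
      _ = _ := Category.id_comp _
  have hk : (kap f g f' g' w V).left = a ≫ b ≫ c := rfl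
  exact calc (kap f g f' g' w V).left ≫ pullback.fst (pullback.snd V.hom f) g' ≫
        pullback.fst V.hom f
      = (a ≫ b ≫ c) ≫ pullback.fst (pullback.snd V.hom f) g' ≫ pullback.fst V.hom f :=
        congrArg (fun t ↦ t ≫ pullback.fst (pullback.snd V.hom f) g' ≫ pullback.fst V.hom f) hk
    _ = a ≫ b ≫ (c ≫ pullback.fst (pullback.snd V.hom f) g' ≫ pullback.fst V.hom f) := by
        simp only [Category.assoc]
    _ = a ≫ b ≫ pullback.fst V.hom (g' ≫ f) := congrArg (fun t ↦ a ≫ b ≫ t) h1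
    _ = a ≫ pullback.fst V.hom (f' ≫ g) := congrArg (fun t ↦ a ≫ t) hb
    _ = _ := ha

end kap

section Psi

variable {Ω : Type u} [Field Ω] [IsSepClosed Ω] (y' : Spec (.of Ω) ⟶ Y')

/-- the base change map on stalks, precomposed with the identification of the stalk of a
pullback. -/
noncomputable def Psi :
    (stalk (y' ≫ g)).obj ((push f).obj F) ⟶ (stalk y').obj ((push f').obj ((pull g').obj F)) :=
  (stalkPullIso g y').hom.app ((push f).obj F) ≫ (stalk y').map (baseChange0 f g f' g' w F)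

theorem Psi_germ {V : Y.Etale} (v : Fib (y' ≫ g) V) (s : F.obj.obj (op ((bc f).obj V))) :
    Psi f g f' g' w F y' (germ ((push f).obj F) v s) =
      germ ((push f').obj ((pull g').obj F)) (fibPull g y' v)
        ((gam f g f' g' w F).hom.app (op V) s) := by
  unfold Psi
  rw [ConcreteCategory.comp_apply, stalkPullIso_germ_apply, germ_map]
  congr 1
  have h := unit_comp_baseChange0 f g f' g' w F
  have h2 := congr($(h).hom.app (op V))
  exact ConcreteCategory.congr_hom h2 s

theorem key_aux (ξ' : Spec (.of Ω) ⟶ X') (hξ' : ξ' ≫ f' = y')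
    (hξ : (ξ' ≫ g') ≫ f = y' ≫ g) {V : Y.Etale} (v : Fib (y' ≫ g) V) :
    ((Scheme.pointSmallEtale ξ').fiber.map (kap f g f' g' w V)
      (ptFib f' y' ξ' hξ' (fibPull g y' v))).left ≫ pullback.fst ((bc f).obj V).hom g' =
      (ptFib f (y' ≫ g) (ξ' ≫ g') hξ v).left := by
  obtain ⟨al, hal, h_al1, h_al2⟩ : ∃ al : Spec (.of Ω) ⟶ pullback (pullback.snd V.hom g) f',
      al = (ptFib f' y' ξ' hξ' (fibPull g y' v)).left ∧
      al ≫ pullback.fst (pullback.snd V.hom g) f' = (fibPull g y' v).left ∧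
      al ≫ pullback.snd (pullback.snd V.hom g) f' = ξ' :=
    ⟨_, rfl, ptFib_left_fst f' y' ξ' hξ' _, ptFib_left_snd f' y' ξ' hξ' _⟩
  obtain ⟨fl, hfl, h_fl⟩ : ∃ fl : Spec (.of Ω) ⟶ pullback V.hom g,
      fl = (fibPull g y' v).left ∧ fl ≫ pullback.fst V.hom g = v.left :=
    ⟨_, rfl, fibPull_left_fst g y' v⟩
  obtain ⟨pl, hpl, h_pl1, h_pl2⟩ : ∃ pl : Spec (.of Ω) ⟶ pullback V.hom f,
      pl = (ptFib f (y' ≫ g) (ξ' ≫ g') hξ v).left ∧ pl ≫ pullback.fst V.hom f = v.left ∧
      pl ≫ pullback.snd V.hom f = ξ' ≫ g' :=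
    ⟨_, rfl, ptFib_left_fst f _ _ hξ v, ptFib_left_snd f _ _ hξ v⟩
  obtain ⟨kl, hkl, h_kap, hκ⟩ : ∃ kl : pullback (pullback.snd V.hom g) f' ⟶
      pullback (pullback.snd V.hom f) g', kl = (kap f g f' g' w V).left ∧
      kl ≫ pullback.fst (pullback.snd V.hom f) g' ≫ pullback.fst V.hom f =
        pullback.fst (pullback.snd V.hom g) f' ≫ pullback.fst V.hom g ∧
      kl ≫ pullback.snd (pullback.snd V.hom f) g' = pullback.snd (pullback.snd V.hom g) f' :=
    ⟨_, rfl, kap_left_fst_fst f g f' g' w V, Over.w (kap f g f' g' w V).hom⟩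
  obtain ⟨vl, hvl⟩ : ∃ vl : Spec (.of Ω) ⟶ V.left, vl = v.left := ⟨_, rfl⟩
  rw [← hfl] at h_al1
  rw [← hvl] at h_fl h_pl1
  have hcond : pullback.fst (pullback.snd V.hom f) g' ≫ pullback.snd V.hom f =
      pullback.snd (pullback.snd V.hom f) g' ≫ g' := pullback.condition
  have goal : (al ≫ kl) ≫ pullback.fst (pullback.snd V.hom f) g' = pl := by
    apply pullback.hom_ext
    · rw [Category.assoc, Category.assoc, h_kap, ← Category.assoc, h_al1, h_fl, h_pl1]
    · rw [Category.assoc, Category.assoc, hcond, ← Category.assoc kl, hκ, ← Category.assoc, h_al2,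
        h_pl2]
  rw [hal, hkl, hpl] at goal
  exact goal

/-- **Compatibility of the base change map with the maps `ρ`.** -/
theorem rho'_Psi (ξ' : Spec (.of Ω) ⟶ X') (hξ' : ξ' ≫ f' = y')
    (hξ : (ξ' ≫ g') ≫ f = y' ≫ g)
    (σ : (stalk (y' ≫ g)).obj ((push f).obj F)) :
    rho' f' y' ξ' hξ' ((pull g').obj F) (Psi f g f' g' w F y' σ) =
      (stalkPullIso g' ξ').hom.app F (rho' f (y' ≫ g) (ξ' ≫ g') hξ F σ) := by
  obtain ⟨V, v, s, rfl⟩ := germ_surjective _ σ
  have key : (Scheme.pointSmallEtale ξ').fiber.map (kap f g f' g' w V)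
      (ptFib f' y' ξ' hξ' (fibPull g y' v)) =
      fibPull g' ξ' (ptFib f (y' ≫ g) (ξ' ≫ g') hξ v) := by
    rw [fibPull_eq_ptFib g' ξ' (ptFib f (y' ≫ g) (ξ' ≫ g') hξ v)]
    apply ptFib_eq_of_left
    exact key_aux f g f' g' w y' ξ' hξ' hξ v
  rw [Psi_germ, rho'_germ, rho'_germ, stalkPullIso_germ_apply, gam_app, germ_res, key]

end Psi


section surj

variable {Ω : Type u} [Field Ω] [IsAlgClosed Ω]

omit w F in
/-- prescribing the images under the maps `ρ` at finitely many distinct geometric points. -/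
theorem exists_stalk_elt_family [IsFinite f] (y : Spec (.of Ω) ⟶ Y) {K : Type*} [Finite K]
    (κ : K → (Spec (.of Ω) ⟶ X)) (hκ : ∀ k, κ k ≫ f = y) (hinj : Function.Injective κ)
    (F : Ab X) (t : ∀ k, (stalk (κ k)).obj F) :
    ∃ σ : (stalk y).obj ((push f).obj F), ∀ k, rho' f y (κ k) (hκ k) F σ = t k := by
  classical
  have key : ∀ k : K, ∃ σ : (stalk y).obj ((push f).obj F),
      rho' f y (κ k) (hκ k) F σ = t k ∧
      ∀ x' ∈ {x' : Spec (.of Ω) ⟶ X | x' ∈ Set.range κ ∧ x' ≠ κ k}, ∀ hx' : x' ≫ f = y,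
        rho' f y x' hx' F σ = 0 := by
    intro k
    apply exists_stalk_elt f y (κ k) (hκ k) F (t k)
    · exact Set.Finite.subset (Set.finite_range κ) (fun x' h ↦ h.1)
    · exact fun x' h ↦ h.2
  choose σ hσ1 hσ2 using key
  haveI := Fintype.ofFinite K
  refine ⟨∑ k, σ k, fun k ↦ ?_⟩
  rw [map_sum, Finset.sum_eq_single k, hσ1]
  · intro k' _ hne
    exact hσ2 k' (κ k) ⟨⟨k, rfl⟩, fun h ↦ hne (hinj h).symm⟩ (hκ k)
  · intro h
    exact (h (Finset.mem_univ _)).elim

omit w F in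
/-- an element of the stalk of `f_* F` (`f` finite) is determined by its images under the `ρ`. -/
theorem eq_of_rho'_eq [IsFinite f] (F : Ab X) (η : Spec (.of Ω) ⟶ Y)
    (σ₁ σ₂ : (stalk η).obj ((push f).obj F))
    (h : ∀ (x : Spec (.of Ω) ⟶ X) (hx : x ≫ f = η), rho' f η x hx F σ₁ = rho' f η x hx F σ₂) :
    σ₁ = σ₂ := by
  have hiso := isIso_lift_rho' f F η
  have hinj := ((ConcreteCategory.isIso_iff_bijective _).1 hiso).1
  apply hinj
  apply Concrete.limit_ext
  rintro ⟨ξ⟩
  let G : {ξ : Spec (.of Ω) ⟶ X // ξ ≫ f = η} → AddCommGrpCat.{u + 1} :=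
    fun ξ ↦ (stalk ξ.1).obj F
  let Φ : (stalk η).obj ((push f).obj F) ⟶ ∏ᶜ G := Pi.lift (fun ξ ↦ rho' f η ξ.1 ξ.2 F)
  have hΦ : ∀ (σ : (stalk η).obj ((push f).obj F)),
      (Pi.π G ξ) (Φ σ) = rho' f η ξ.1 ξ.2 F σ := by
    intro σ
    rw [← ConcreteCategory.comp_apply, Pi.lift_π]
  change (Pi.π G ξ) (Φ σ₁) = (Pi.π G ξ) (Φ σ₂)
  rw [hΦ, hΦ]
  exact h ξ.1 ξ.2

theorem bijective_Psi [IsFinite f] (hpb : IsPullback g' f' f g) (y' : Spec (.of Ω) ⟶ Y') :
    Function.Bijective (Psi f g f' g' hpb.w F y') := by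
  haveI : IsFinite f' := MorphismProperty.of_isPullback hpb inferInstance
  -- every geometric point of `X` over `y' ≫ g` comes from one of `X'` over `y'`
  have hlift : ∀ (x : Spec (.of Ω) ⟶ X) (hx : x ≫ f = y' ≫ g),
      ∃ ξ' : Spec (.of Ω) ⟶ X', ξ' ≫ f' = y' ∧ ξ' ≫ g' = x :=
    fun x hx ↦ ⟨hpb.lift x y' hx, hpb.lift_snd _ _ _, hpb.lift_fst _ _ _⟩
  have hξ : ∀ (ξ' : Spec (.of Ω) ⟶ X'), ξ' ≫ f' = y' → (ξ' ≫ g') ≫ f = y' ≫ g := by
    intro ξ' h
    rw [Category.assoc, hpb.w, ← Category.assoc, h]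
  constructor
  · change Function.Injective (Psi f g f' g' hpb.w F y').hom
    rw [injective_iff_map_eq_zero]
    intro σ hσ
    apply eq_of_rho'_eq f F (y' ≫ g)
    intro x hx
    rw [map_zero]
    obtain ⟨ξ', h1, h2⟩ := hlift x hx
    have h0 : rho' f' y' ξ' h1 ((pull g').obj F) (Psi f g f' g' hpb.w F y' σ) = 0 := by
      have : Psi f g f' g' hpb.w F y' σ = 0 := hσ
      rw [this]; exact map_zero _
    rw [rho'_Psi f g f' g' hpb.w F y' ξ' h1 (hξ ξ' h1)] at h0
    have h3 : rho' f (y' ≫ g) (ξ' ≫ g') (hξ ξ' h1) F σ = 0 := by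
      have hinj : Function.Injective ((stalkPullIso g' ξ').hom.app F) :=
        (ConcreteCategory.bijective_of_isIso _).1
      exact hinj (h0.trans (map_zero _).symm)
    subst h2
    exact h3
  · intro τ'
    let J' := {ξ' : Spec (.of Ω) ⟶ X' // ξ' ≫ f' = y'}
    haveI : Finite J' := finite_geomPts f' y'
    let κ : J' → (Spec (.of Ω) ⟶ X) := fun ξ' ↦ ξ'.1 ≫ g'
    have hκinj : Function.Injective κ := by
      intro a b hab
      apply Subtype.ext
      apply hpb.hom_ext hab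
      rw [a.2, b.2]
    obtain ⟨σ, hσ⟩ := exists_stalk_elt_family f (y' ≫ g) κ (fun ξ' ↦ hξ ξ'.1 ξ'.2) hκinj F
      (fun ξ' ↦ (stalkPullIso g' ξ'.1).inv.app F
        (rho' f' y' ξ'.1 ξ'.2 ((pull g').obj F) τ'))
    refine ⟨σ, ?_⟩
    apply eq_of_rho'_eq f' ((pull g').obj F) y'
    intro x' hx'
    rw [rho'_Psi f g f' g' hpb.w F y' x' hx' (hξ x' hx'), hσ ⟨x', hx'⟩]
    rw [← ConcreteCategory.comp_apply, ← NatTrans.comp_app, Iso.inv_hom_id]
    rfl

end surj

section conservative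

/-- The canonical algebraically closed geometric point above `s : X`. -/
noncomputable abbrev geomPtA {X : Scheme.{u}} (s : X) :
    Spec (.of (AlgebraicClosure (X.residueField s))) ⟶ X :=
  (Scheme.SpecToEquivOfField (AlgebraicClosure (X.residueField s)) _).2
        ⟨s, CommRingCat.ofHom (algebraMap (X.residueField s) _)⟩

lemma geomPtA_default {X : Scheme.{u}} (s : X) : (geomPtA s) default = s := by
  simp [geomPtA, Scheme.SpecToEquivOfField]

/-- The conservative family of algebraically closed geometric points. -/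
abbrev PXA (X : Scheme.{u}) :
    ObjectProperty (GrothendieckTopology.Point.{u} X.smallEtaleTopology) :=
  ObjectProperty.ofObj (fun (s : X) ↦ Scheme.pointSmallEtale (geomPtA s))

lemma jriA (X : Scheme.{u}) : JointlyReflectIsomorphisms
      (fun (Φ : (PXA X).FullSubcategory) ↦ Φ.obj.sheafFiber (A := AddCommGrpCat.{u + 1})) :=
  jointlyReflectIsomorphisms (Scheme.isConservative_pointSmallEtale _ (by
    ext s
    simp only [Set.mem_iUnion, Set.mem_range, Set.mem_univ, iff_true]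
    exact ⟨s, default, geomPtA_default s⟩))

end conservative

/-- **Degree-zero base change for finite morphisms.** -/
theorem isIso_baseChange0_of_isFinite [IsFinite f] (hpb : IsPullback g' f' f g) :
    IsIso (baseChange0 f g f' g' hpb.w F) := by
  have H : ∀ Φ : (PXA Y').FullSubcategory,
      IsIso ((Φ.obj.sheafFiber (A := AddCommGrpCat.{u + 1})).map
        (baseChange0 f g f' g' hpb.w F)) := by
    rintro ⟨_, ⟨s⟩⟩
    let y' := geomPtA s
    have hb := bijective_Psi f g f' g' F hpb y'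
    have h1 : IsIso (Psi f g f' g' hpb.w F y') := (ConcreteCategory.isIso_iff_bijective _).2 hb
    unfold Psi at h1
    exact IsIso.of_isIso_comp_left ((stalkPullIso g y').hom.app ((push f).obj F)) _
  exact (jriA Y').isIso _

end Groth.Agent.H7.FinPush
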