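import Groth.Agent.H58.GenDepth.DepthInd
import Groth.Agent.H14.ZClos.DepthLocal
import Groth.Agent.H15.Depth

/-!
# The set of primes where a finite module has depth `≤ 1`

`bad Z N` is the set of primes `z ∈ Z` with `depth N_z ≤ 1`; `Good Z N` says it is finite.
`Good` passes to submodules and extensions.
-/

set_option autoImplicit false
set_option linter.unusedSectionVars false
universe u

open Groth.Agent.H58.GenDepth

namespace Groth.Agent.H7.BadDepth

variable {A : Type u} [CommRing A] [IsNoetherianRing A] (Z : Set (PrimeSpectrum A))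

/-- the primes in `Z` at which `N` has depth at most one -/
def bad (N : Type u) [AddCommGroup N] [Module A N] : Set (PrimeSpectrum A) :=
  {z | z ∈ Z ∧ ¬ (2 : ℕ∞) ≤ dep N z.asIdeal}

/-- `N` has depth at least two at all but finitely many primes of `Z` -/
def Good (N : Type u) [AddCommGroup N] [Module A N] : Prop := (bad Z N).Finite

section Basic

variable {N N' : Type u} [AddCommGroup N] [Module A N] [AddCommGroup N'] [Module A N']

theorem dep_congr (e : N ≃ₗ[A] N') (q : Ideal A) [q.IsPrime] : dep N q = dep N' q := by
  let e' : LocalizedModule q.primeCompl N ≃ₗ[Localization.AtPrime q]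
      LocalizedModule q.primeCompl N' :=
    IsLocalizedModule.mapEquiv q.primeCompl (LocalizedModule.mkLinearMap q.primeCompl N)
      (LocalizedModule.mkLinearMap q.primeCompl N') (Localization.AtPrime q) e
  exact Groth.Agent.H15.idealDepth_congr e' _

theorem good_congr (e : N ≃ₗ[A] N') : Good Z N ↔ Good Z N' := by
  have : bad Z N = bad Z N' := by
    ext z
    simp only [bad, Set.mem_ofPred_eq, dep_congr e z.asIdeal]
  unfold Good
  rw [this]

theorem good_of_subsingleton [Subsingleton N] : Good Z N := by
  have : bad Z N = ∅ := by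
    ext z
    simp only [bad, Set.mem_ofPred_eq, Set.mem_empty_iff_false, iff_false, not_and, not_not]
    intro _
    have : Subsingleton (LocalizedModule z.asIdeal.primeCompl N) := inferInstance
    rw [dep_eq_top_of_subsingleton N z.asIdeal this]
    exact le_top
  unfold Good
  rw [this]
  exact Set.finite_empty

end Basic

section Ext

variable {N : Type u} [AddCommGroup N] [Module A N] [Module.Finite A N]

/-- extensions -/
theorem good_of_submodule_quotient (T : Submodule A N) (h1 : Good Z T) (h2 : Good Z (N ⧸ T)) :
    Good Z N := by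
  have : IsNoetherian A N := isNoetherian_of_isNoetherianRing_of_finite A N
  have : Module.Finite A T := Module.IsNoetherian.finite A T
  refine (h1.union h2).subset ?_
  rintro z ⟨hzZ, hz⟩
  have key := (depth_lemma_localized N T z.asIdeal).1
  by_contra hcon
  simp only [Set.mem_union, bad, Set.mem_ofPred_eq, not_or, not_and, not_not] at hcon
  exact hz (le_trans (le_min (hcon.1 hzZ) (hcon.2 hzZ)) key)

/-- submodules -/
theorem good_submodule (T : Submodule A N) (h : Good Z N) : Good Z T := by
  have : IsNoetherian A N := isNoetherian_of_isNoetherianRing_of_finite A N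
  have : Module.Finite A T := Module.IsNoetherian.finite A T
  have hfin : {z : PrimeSpectrum A | z.asIdeal ∈ associatedPrimes A (N ⧸ T)}.Finite := by
    have h0 := associatedPrimes.finite A (N ⧸ T)
    exact h0.preimage (fun z _ z' _ hzz' ↦ PrimeSpectrum.ext hzz')
  refine (h.union hfin).subset ?_
  rintro z ⟨hzZ, hz⟩
  have key := (depth_lemma_localized N T z.asIdeal).2
  by_contra hcon
  simp only [Set.mem_union, bad, Set.mem_ofPred_eq, not_or, not_and, not_not] at hcon
  have h1 : (1 : ℕ∞) ≤ dep (N ⧸ T) z.asIdeal :=
    (Groth.Agent.H14.ZClos.one_le_depth_localization_iff (N ⧸ T) z.asIdeal).2 hcon.2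
  apply hz
  refine le_trans (le_min (hcon.1 hzZ) ?_) key
  have : (1 : ℕ∞) + 1 ≤ dep (N ⧸ T) z.asIdeal + 1 := add_le_add_left h1 1
  exact le_trans (by norm_num) this

variable {N' : Type u} [AddCommGroup N'] [Module A N'] [Module.Finite A N']

/-- `Good` passes along injective maps -/
theorem good_of_injective (f : N' →ₗ[A] N) (hf : Function.Injective f) (h : Good Z N) :
    Good Z N' :=
  (good_congr Z (LinearEquiv.ofInjective f hf)).2 (good_submodule Z (LinearMap.range f) h)

/-- `Good` passes to a module mapping injectively to a product of two good modules -/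
theorem good_of_jointly_injective {N₁ N₂ : Type u} [AddCommGroup N₁] [Module A N₁]
    [Module.Finite A N₁] [AddCommGroup N₂] [Module A N₂] [Module.Finite A N₂]
    (f : N →ₗ[A] N₁) (g : N →ₗ[A] N₂) (hfg : LinearMap.ker f ⊓ LinearMap.ker g = ⊥)
    (h1 : Good Z N₁) (h2 : Good Z N₂) : Good Z N := by
  have : IsNoetherian A N := isNoetherian_of_isNoetherianRing_of_finite A N
  have : Module.Finite A (LinearMap.ker f) := Module.IsNoetherian.finite A _
  refine good_of_submodule_quotient Z (LinearMap.ker f) ?_ ?_
  · refine good_of_injective Z (g.comp (LinearMap.ker f).subtype) ?_ h2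
    rw [← LinearMap.ker_eq_bot, LinearMap.ker_eq_bot']
    intro x hx
    have hx1 : (x : N) ∈ LinearMap.ker f ⊓ LinearMap.ker g := ⟨x.2, hx⟩
    rw [hfg] at hx1
    exact Subtype.ext hx1
  · exact good_of_injective Z ((LinearMap.ker f).liftQ f le_rfl)
      (LinearMap.ker_eq_bot.1 (Submodule.ker_liftQ_eq_bot _ _ _ le_rfl)) h1

end Ext

end Groth.Agent.H7.BadDepth
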