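import Groth.Agent.H7.BadDepth
import Groth.Agent.H24.TorsionFreeEmbed
import Mathlib.RingTheory.Lasker

/-!
# Dévissage for `Good`

If `A ⧸ p` is good for every associated prime `p` of a finite module `M`, then `M` is good.
-/

set_option autoImplicit false
set_option linter.unusedSectionVars false
universe u

open Groth.Agent.H58.GenDepth

namespace Groth.Agent.H7.BadDepth

variable {A : Type u} [CommRing A] [IsNoetherianRing A] (Z : Set (PrimeSpectrum A))

section TorsionFree

variable (p : Ideal A) [hp : p.IsPrime]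

/-- modules embedded in a finite free `A ⧸ p`-module -/
theorem good_of_injective_pi (h : Good Z (A ⧸ p)) : ∀ (r : ℕ) (L : Type u) [AddCommGroup L]
    [Module A L] [Module.Finite A L] (φ : L →ₗ[A] (Fin r → A ⧸ p)), Function.Injective φ →
    Good Z L := by
  intro r
  induction r with
  | zero =>
    intro L _ _ _ φ hφ
    have : Subsingleton L := hφ.subsingleton
    exact good_of_subsingleton Z
  | succ r ih =>
    intro L _ _ _ φ hφ
    have h2 : Good Z (Fin r → A ⧸ p) := ih (Fin r → A ⧸ p) LinearMap.id Function.injective_id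
    let f : L →ₗ[A] (A ⧸ p) := (LinearMap.proj 0).comp φ
    let g : L →ₗ[A] (Fin r → A ⧸ p) := (LinearMap.pi fun i ↦ LinearMap.proj i.succ).comp φ
    refine good_of_jointly_injective Z f g ?_ h h2
    rw [eq_bot_iff]
    rintro x ⟨hx1, hx2⟩
    have h0 : φ x = 0 := by
      funext i
      refine Fin.cases ?_ (fun j ↦ ?_) i
      · exact hx1
      · exact congrFun hx2 j
    exact hφ (h0.trans (map_zero φ).symm)

/-- finite torsion-free `A ⧸ p`-modules -/
theorem good_of_torsionFree (h : Good Z (A ⧸ p)) (L : Type u) [AddCommGroup L]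
    [Module A L] [Module.Finite A L] (hpL : ∀ c ∈ p, ∀ l : L, c • l = 0)
    (hreg : ∀ a : A, a ∉ p → ∀ l : L, a • l = 0 → l = 0) : Good Z L := by
  have htors : Module.IsTorsionBySet A L (p : Set A) := fun l c ↦ hpL c.1 c.2 l
  let _ : Module (A ⧸ p) L := htors.module
  have : IsScalarTower A (A ⧸ p) L := htors.isScalarTower
  have : Module.Finite (A ⧸ p) L := Module.Finite.of_restrictScalars_finite A (A ⧸ p) L
  obtain ⟨r, φ, hφ⟩ := Groth.Agent.H24.exists_injective_fin_of_torsionFree (A ⧸ p) L (by
    intro d l hd hdl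
    obtain ⟨a, rfl⟩ := Ideal.Quotient.mk_surjective d
    refine hreg a (fun ha ↦ hd (Ideal.Quotient.eq_zero_iff_mem.2 ha)) l ?_
    rw [← hdl]
    exact (algebraMap_smul (A ⧸ p) a l).symm)
  exact good_of_injective_pi Z p h r L (φ.restrictScalars A) hφ

end TorsionFree

section Coprimary

variable (p : Ideal A) [hp : p.IsPrime]

/-- finite `p`-coprimary modules -/
theorem good_of_coprimary (h : Good Z (A ⧸ p)) : ∀ (k : ℕ) (N : Type u) [AddCommGroup N]
    [Module A N] [Module.Finite A N], (∀ a : A, a ∉ p → ∀ n : N, a • n = 0 → n = 0) →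
    (∀ c ∈ p ^ k, ∀ n : N, c • n = 0) → Good Z N := by
  intro k
  induction k with
  | zero =>
    intro N _ _ _ _ hk
    have : Subsingleton N := ⟨fun a b ↦ by
      have ha := hk 1 (by simp) a
      have hb := hk 1 (by simp) b
      rw [one_smul] at ha hb
      rw [ha, hb]⟩
    exact good_of_subsingleton Z
  | succ k ih =>
    intro N _ _ _ hreg hk
    have : IsNoetherian A N := isNoetherian_of_isNoetherianRing_of_finite A N
    let N₁ : Submodule A N :=
      { carrier := {n | ∀ c ∈ p, c • n = 0}
        add_mem' := fun {a b} ha hb c hc ↦ by rw [smul_add, ha c hc, hb c hc, add_zero]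
        zero_mem' := fun c _ ↦ smul_zero c
        smul_mem' := fun r n hn c hc ↦ by rw [smul_comm, hn c hc, smul_zero] }
    have : Module.Finite A N₁ := Module.IsNoetherian.finite A N₁
    have h1 : Good Z N₁ := by
      refine good_of_torsionFree Z p h N₁ ?_ ?_
      · intro c hc l
        exact Subtype.ext (l.2 c hc)
      · intro a ha l hl
        exact Subtype.ext (hreg a ha l (congrArg Subtype.val hl))
    have h2 : Good Z (N ⧸ N₁) := by
      refine ih (N ⧸ N₁) ?_ ?_
      · intro a ha x hx
        obtain ⟨n, rfl⟩ := Submodule.Quotient.mk_surjective N₁ x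
        rw [← Submodule.Quotient.mk_smul, Submodule.Quotient.mk_eq_zero] at hx
        rw [Submodule.Quotient.mk_eq_zero]
        intro c hc
        apply hreg a ha
        rw [smul_comm]
        exact hx c hc
      · intro c hc x
        obtain ⟨n, rfl⟩ := Submodule.Quotient.mk_surjective N₁ x
        rw [← Submodule.Quotient.mk_smul, Submodule.Quotient.mk_eq_zero]
        intro d hd
        rw [← mul_smul]
        apply hk
        rw [pow_succ']
        exact Ideal.mul_mem_mul hd hc
    exact good_of_submodule_quotient Z N₁ h1 h2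

end Coprimary

section General

variable {M : Type u} [AddCommGroup M] [Module A M] [Module.Finite A M]

theorem good_quotient_finsetInf (s : Finset (Submodule A M)) (hs : ∀ q ∈ s, Good Z (M ⧸ q)) :
    Good Z (M ⧸ s.inf id) := by
  classical
  induction s using Finset.induction_on with
  | empty =>
    rw [Finset.inf_empty]
    have : Subsingleton (M ⧸ (⊤ : Submodule A M)) := inferInstance
    exact good_of_subsingleton Z
  | insert q s hq ih =>
    rw [Finset.inf_insert, id]
    have h1 : Good Z (M ⧸ q) := hs q (Finset.mem_insert_self q s)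
    have h2 : Good Z (M ⧸ s.inf id) := ih fun q' hq' ↦ hs q' (Finset.mem_insert_of_mem hq')
    let f : (M ⧸ (q ⊓ s.inf id)) →ₗ[A] (M ⧸ q) :=
      (q ⊓ s.inf id).liftQ q.mkQ (by rw [Submodule.ker_mkQ]; exact inf_le_left)
    let g : (M ⧸ (q ⊓ s.inf id)) →ₗ[A] (M ⧸ s.inf id) :=
      (q ⊓ s.inf id).liftQ (s.inf id).mkQ (by rw [Submodule.ker_mkQ]; exact inf_le_right)
    refine good_of_jointly_injective Z f g ?_ h1 h2
    rw [eq_bot_iff]
    rintro x ⟨hx1, hx2⟩
    obtain ⟨m, rfl⟩ := Submodule.Quotient.mk_surjective _ x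
    have h1' : m ∈ q := (Submodule.Quotient.mk_eq_zero q).1 hx1
    have h2' : m ∈ s.inf id := (Submodule.Quotient.mk_eq_zero (s.inf id)).1 hx2
    exact (Submodule.Quotient.mk_eq_zero _).2 ⟨h1', h2'⟩

/-- **Dévissage**: if `A ⧸ p` is good for all associated primes `p` of `M`, then `M` is good. -/
theorem good_of_associatedPrimes
    (hM : ∀ P : PrimeSpectrum A, P.asIdeal ∈ associatedPrimes A M → Good Z (A ⧸ P.asIdeal)) :
    Good Z M := by
  have : IsNoetherian A M := isNoetherian_of_isNoetherianRing_of_finite A M
  obtain ⟨t, ht⟩ := Submodule.IsLasker.exists_isMinimalPrimaryDecomposition (Submodule.isLasker A M) (⊥ : Submodule A M)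
  have key : Good Z (M ⧸ t.inf id) := by
    apply good_quotient_finsetInf
    intro q hq
    have hprim := ht.primary hq
    have hass : (q.colon Set.univ).radical ∈ associatedPrimes A M := ht.mem_associatedPrimes hq
    have hprime : (q.colon Set.univ).radical.IsPrime := hprim.isPrime_radical_colon
    have hgood := hM ⟨(q.colon Set.univ).radical, hprime⟩ hass
    obtain ⟨k, hk⟩ := Ideal.exists_radical_pow_le_of_fg (q.colon Set.univ)
      ((isNoetherianRing_iff_ideal_fg A).1 inferInstance _)
    refine good_of_coprimary Z (q.colon Set.univ).radical hgood k (M ⧸ q) ?_ ?_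
    · intro a ha x hx
      obtain ⟨m, rfl⟩ := Submodule.Quotient.mk_surjective q x
      rw [← Submodule.Quotient.mk_smul, Submodule.Quotient.mk_eq_zero] at hx
      rw [Submodule.Quotient.mk_eq_zero]
      exact (hprim.mem_or_mem hx).resolve_right ha
    · intro c hc x
      obtain ⟨m, rfl⟩ := Submodule.Quotient.mk_surjective q x
      rw [← Submodule.Quotient.mk_smul, Submodule.Quotient.mk_eq_zero]
      have := hk hc
      rw [Submodule.mem_colon] at this
      exact this m (Set.mem_univ m)
  rw [ht.inf_eq] at key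
  exact (good_congr Z (Submodule.quotEquivOfEqBot ⊥ rfl)).1 key

end General

end Groth.Agent.H7.BadDepth
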