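import Groth.Agent.H7.BadDevissage
import Groth.Prelude.Def_EGA4b

/-!
# The domain case: `A ⧸ p` is good when `(A ⧸ p)^(1)` is finite
-/

set_option autoImplicit false
set_option linter.unusedSectionVars false
universe u

open Groth.Agent.H58.GenDepth

namespace Groth.Agent.H7.BadDepth

variable {A : Type u} [CommRing A] [IsNoetherianRing A] (Z : Set (PrimeSpectrum A))

section Domain

variable (p : Ideal A) [hp : p.IsPrime]

theorem dep_quotient_eq_top_of_not_le (z : Ideal A) [z.IsPrime] (h : ¬ p ≤ z) :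
    dep (A ⧸ p) z = ⊤ := by
  obtain ⟨c, hcp, hcz⟩ := Set.not_subset.1 h
  have : Subsingleton (LocalizedModule z.primeCompl (A ⧸ p)) := by
    rw [LocalizedModule.subsingleton_iff]
    intro m
    refine ⟨c, hcz, ?_⟩
    obtain ⟨a, rfl⟩ := Ideal.Quotient.mk_surjective m
    change Ideal.Quotient.mk p (c * a) = 0
    exact Ideal.Quotient.eq_zero_iff_mem.2 (p.mul_mem_right a hcp)
  exact dep_eq_top_of_subsingleton (A ⧸ p) z this

/-- the key computation: a prime `z ⊋ p` of height `≥ 2` over `p` at which `A ⧸ p` has depth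
`≤ 1` gives an associated prime of `(A ⧸ p)^(1) / (A ⧸ p)`. -/
theorem map_mem_associatedPrimes (B' : Subalgebra (A ⧸ p) (FractionRing (A ⧸ p)))
    (hB' : (B' : Set (FractionRing (A ⧸ p))) = EGA4.heightOneHull (A ⧸ p))
    (z : Ideal A) [hz : z.IsPrime] (hpz : p ≤ z)
    (hht : (2 : ℕ∞) ≤ (z.map (Ideal.Quotient.mk p)).height)
    (hd : ¬ (2 : ℕ∞) ≤ dep (A ⧸ p) z) :
    z.map (Ideal.Quotient.mk p) ∈ associatedPrimes (A ⧸ p)
      (B' ⧸ LinearMap.range (Algebra.linearMap (A ⧸ p) B')) := by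
  set B := A ⧸ p with hB
  set K := FractionRing B with hK
  have hsurj : Function.Surjective (Ideal.Quotient.mk p) := Ideal.Quotient.mk_surjective
  have hzbar : (z.map (Ideal.Quotient.mk p)).IsPrime :=
    Ideal.map_isPrime_of_surjective hsurj (by rw [Ideal.mk_ker]; exact hpz)
  have hmem_map : ∀ c : A, Ideal.Quotient.mk p c ∈ z.map (Ideal.Quotient.mk p) ↔ c ∈ z := by
    intro c
    rw [Ideal.mem_map_iff_of_surjective _ hsurj]
    constructor
    · rintro ⟨c', hc', hcc'⟩
      have : c - c' ∈ p := by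
        rw [← Ideal.Quotient.eq_zero_iff_mem, map_sub, hcc', sub_self]
      have h2 := z.add_mem (hpz this) hc'
      rwa [sub_add_cancel] at h2
    · intro hc
      exact ⟨c, hc, rfl⟩
  -- an element of `z` outside `p`
  have hne : ¬ z ≤ p := by
    intro hzp
    have : z.map (Ideal.Quotient.mk p) = ⊥ := by
      rw [eq_bot_iff, Ideal.map_le_iff_le_comap, ← RingHom.ker_eq_comap_bot, Ideal.mk_ker]
      exact hzp
    rw [this, Ideal.height_bot] at hht
    exact absurd hht (by norm_num)
  obtain ⟨a, haz, hap⟩ := Set.not_subset.1 hne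
  have ha0 : Ideal.Quotient.mk p a ≠ 0 := fun h ↦ hap (Ideal.Quotient.eq_zero_iff_mem.1 h)
  have hreg : IsSMulRegular B a := by
    intro x y hxy
    have h1 : Ideal.Quotient.mk p a * x = Ideal.Quotient.mk p a * y := hxy
    exact mul_left_cancel₀ ha0 h1
  have hass : z ∈ associatedPrimes A (QuotSMulTop a B) := by
    by_contra hcon
    exact hd (Groth.Agent.H14.ZClos.two_le_depth_localization_of B z a haz hreg hcon)
  obtain ⟨-, xt, hxt⟩ := isAssociatedPrime_iff.mp (AssociatedPrimes.mem_iff.mp hass)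
  obtain ⟨x, rfl⟩ := Submodule.Quotient.mk_surjective _ xt
  -- membership in `z` in terms of `x`
  have hz_iff : ∀ c : A, c ∈ z ↔ ∃ b : B, Ideal.Quotient.mk p c * x = Ideal.Quotient.mk p a * b := by
    intro c
    rw [hxt, Submodule.mem_colon_singleton, Submodule.mem_bot, ← Submodule.Quotient.mk_smul,
      Submodule.Quotient.mk_eq_zero, Submodule.mem_smul_pointwise_iff_exists]
    constructor
    · rintro ⟨b, -, hb⟩
      exact ⟨b, hb.symm⟩
    · rintro ⟨b, hb⟩
      exact ⟨b, Submodule.mem_top, hb.symm⟩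
  have hinj : Function.Injective (algebraMap B K) := IsFractionRing.injective B K
  have haK : algebraMap B K (Ideal.Quotient.mk p a) ≠ 0 := fun h ↦
    ha0 (hinj (h.trans (map_zero _).symm))
  set y : K := algebraMap B K x / algebraMap B K (Ideal.Quotient.mk p a) with hy
  have hy_iff : ∀ (d b : B), algebraMap B K b = algebraMap B K d * y ↔
      d * x = Ideal.Quotient.mk p a * b := by
    intro d b
    rw [hy, mul_div_assoc', eq_div_iff haK, ← map_mul, ← map_mul]
    constructor
    · intro h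
      rw [mul_comm (Ideal.Quotient.mk p a) b]
      exact (hinj h).symm
    · intro h
      rw [h, mul_comm]
  -- `y` lies in the hull
  have hyB' : y ∈ B' := by
    change y ∈ (B' : Set K)
    rw [hB']
    intro q hq hq1
    have hnle : ¬ z.map (Ideal.Quotient.mk p) ≤ q := by
      intro hle
      have := Ideal.height_mono hle
      rw [hq1] at this
      exact absurd (hht.trans this) (by norm_num)
    obtain ⟨d, hdz, hdq⟩ := Set.not_subset.1 hnle
    obtain ⟨c, rfl⟩ := hsurj d
    obtain ⟨b, hb⟩ := (hz_iff c).1 ((hmem_map c).1 hdz)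
    exact ⟨Ideal.Quotient.mk p c, hdq, b, (hy_iff _ _).2 hb⟩
  rw [AssociatedPrimes.mem_iff, isAssociatedPrime_iff]
  refine ⟨hzbar, Submodule.Quotient.mk (⟨y, hyB'⟩ : B'), ?_⟩
  ext d
  rw [Submodule.mem_colon_singleton, Submodule.mem_bot, ← Submodule.Quotient.mk_smul,
    Submodule.Quotient.mk_eq_zero, LinearMap.mem_range]
  obtain ⟨c, rfl⟩ := hsurj d
  rw [hmem_map c, hz_iff c]
  constructor
  · rintro ⟨b, hb⟩
    refine ⟨b, Subtype.ext ?_⟩
    change algebraMap B K b = Ideal.Quotient.mk p c • y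
    rw [(hy_iff _ _).2 hb, Algebra.smul_def]
  · rintro ⟨b, hb⟩
    refine ⟨b, (hy_iff _ _).1 ?_⟩
    have h1 : algebraMap B K b = Ideal.Quotient.mk p c • y := congrArg Subtype.val hb
    rw [h1, Algebra.smul_def]

/-- **The domain case.** -/
theorem good_quotient (h1 : EGA4.HeightOneHullFinite (A ⧸ p))
    (h2 : ∀ z ∈ Z, p ≤ z.asIdeal → (2 : ℕ∞) ≤ (z.asIdeal.map (Ideal.Quotient.mk p)).height) :
    Good Z (A ⧸ p) := by
  obtain ⟨B', hB', hfin⟩ := h1
  have hfinAss := associatedPrimes.finite (A ⧸ p)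
    (B' ⧸ LinearMap.range (Algebra.linearMap (A ⧸ p) B'))
  have hsurj : Function.Surjective (Ideal.Quotient.mk p) := Ideal.Quotient.mk_surjective
  set S' : Set (PrimeSpectrum A) := {z | p ≤ z.asIdeal ∧ z.asIdeal.map (Ideal.Quotient.mk p) ∈
    associatedPrimes (A ⧸ p) (B' ⧸ LinearMap.range (Algebra.linearMap (A ⧸ p) B'))} with hS'
  have hS'fin : S'.Finite := by
    refine Set.Finite.of_finite_image (f := fun z : PrimeSpectrum A ↦
      z.asIdeal.map (Ideal.Quotient.mk p)) (hfinAss.subset ?_) ?_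
    · rintro _ ⟨z, hz, rfl⟩
      exact hz.2
    · intro z hz z' hz' hzz'
      have h3 : ∀ w : PrimeSpectrum A, p ≤ w.asIdeal →
          (w.asIdeal.map (Ideal.Quotient.mk p)).comap (Ideal.Quotient.mk p) = w.asIdeal := by
        intro w hw
        rw [Ideal.comap_map_of_surjective _ hsurj, ← RingHom.ker_eq_comap_bot, Ideal.mk_ker]
        exact sup_eq_left.2 hw
      apply PrimeSpectrum.ext
      rw [← h3 z hz.1, ← h3 z' hz'.1]
      exact congrArg (Ideal.comap (Ideal.Quotient.mk p)) hzz'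
  refine hS'fin.subset ?_
  rintro z ⟨hzZ, hz⟩
  have hpz : p ≤ z.asIdeal := by
    by_contra hcon
    apply hz
    rw [dep_quotient_eq_top_of_not_le p z.asIdeal hcon]
    exact le_top
  exact ⟨hpz, map_mem_associatedPrimes p B' hB' z.asIdeal hpz (h2 z hzZ hpz) hz⟩

end Domain

section Main

variable {M : Type u} [AddCommGroup M] [Module A M] [Module.Finite A M]

/-- **Finiteness of the set of primes of `Z` of depth `≤ 1`.** -/
theorem good_of_heightOneHullFinite
    (h1 : ∀ P : PrimeSpectrum A, P.asIdeal ∈ associatedPrimes A M →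
      EGA4.HeightOneHullFinite (A ⧸ P.asIdeal))
    (h2 : ∀ P : PrimeSpectrum A, P.asIdeal ∈ associatedPrimes A M → ∀ z ∈ Z,
      P.asIdeal ≤ z.asIdeal → (2 : ℕ∞) ≤ (z.asIdeal.map (Ideal.Quotient.mk P.asIdeal)).height) :
    Good Z M :=
  good_of_associatedPrimes Z fun P hP ↦ good_quotient Z P.asIdeal (h1 P hP) (h2 P hP)

end Main

end Groth.Agent.H7.BadDepth
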