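import Mathlib
import Groth.Agent.H7.FiniteEtaleCount

set_option autoImplicit false
universe u

namespace Groth.Agent.H7

open AlgebraicGeometry CategoryTheory Limits MorphismProperty Topology

theorem card_geomFiber_const_iff_finite_nhd {X Y : Scheme.{u}} (f : X ⟶ Y) [Etale f] [IsSeparated f]
    [LocallyOfFiniteType f] [QuasiCompact f] (y : Y) :
    (∃ U : Y.Opens, y ∈ U ∧ ∀ y' : Y, y' ∈ U →
        ENat.card ↥(MoreMor.geomFiber f y') = ENat.card ↥(MoreMor.geomFiber f y)) ↔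
      ∃ U : Y.Opens, y ∈ U ∧ IsFinite (f ∣_ U) := by
  have := locallyQuasiFinite_of_etale f
  simp_rw [card_geomFiber_eq_nGeomConnComp]
  constructor
  · rintro ⟨U, hyU, hU⟩
    obtain ⟨U', hyU', hU'⟩ := (nGeomConnComp_lowerSemicontinuous_and_proper f).2 y
      ⟨U, U.2.mem_nhds hyU, hU⟩
    exact ⟨U', hyU', IsFinite.of_isProper_of_locallyQuasiFinite _⟩
  · rintro ⟨U, hyU, hU⟩
    have hlc := isLocallyConstant_nGeomConnComp_of_finite_etale (f ∣_ U)
    obtain ⟨W, hWo, hyW, hW⟩ := hlc.exists_open ⟨y, hyU⟩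
    have hbc : ∀ u : ↥U, MoreMor.nGeomConnComp (f ∣_ U) u = MoreMor.nGeomConnComp f (U.ι u) :=
      fun u ↦ nGeomConnComp_eq_of_isPullback f (f ∣_ U) _ U.ι
        (isPullback_morphismRestrict f U).flip u
    refine ⟨U.ι ''ᵁ ⟨W, hWo⟩, ⟨⟨y, hyU⟩, hyW, rfl⟩, ?_⟩
    rintro y' ⟨u, huW, rfl⟩
    have h1 := hW u huW
    rw [hbc, hbc] at h1
    exact h1

theorem isFinite_iff_card_geomFiber_const {X Y : Scheme.{u}} [ConnectedSpace ↥Y] (f : X ⟶ Y)
    [Etale f] [IsSeparated f] [LocallyOfFiniteType f] [QuasiCompact f] :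
    IsFinite f ↔ ∃ n : ℕ∞, ∀ y : Y, ENat.card ↥(MoreMor.geomFiber f y) = n := by
  have := locallyQuasiFinite_of_etale f
  constructor
  · intro hf
    simp_rw [card_geomFiber_eq_nGeomConnComp]
    have hlc := isLocallyConstant_nGeomConnComp_of_finite_etale f
    obtain ⟨y₀⟩ := (inferInstance : Nonempty ↥Y)
    exact ⟨_, fun y ↦ hlc.apply_eq_of_preconnectedSpace y y₀⟩
  · rintro ⟨n, hn⟩
    have h : ∀ y : Y, ∃ U : Y.Opens, y ∈ U ∧ IsFinite (f ∣_ U) := fun y ↦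
      (card_geomFiber_const_iff_finite_nhd f y).mp
        ⟨⊤, trivial, fun y' _ ↦ by rw [hn, hn]⟩
    choose U hyU hU using h
    refine (IsZariskiLocalAtTarget.iff_of_iSup_eq_top (P := @IsFinite) U ?_).mpr hU
    exact top_le_iff.mp fun y _ ↦ TopologicalSpace.Opens.mem_iSup.mpr ⟨y, hyU y⟩

end Groth.Agent.H7
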