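import Mathlib
import Groth.Prelude.Def_MoreMor
import Groth.Agent.H7.Thickening
import Groth.Agent.S1307

/-!
# Topological invariance of étale morphisms: lifting along thickenings
-/

set_option autoImplicit false
universe u
open AlgebraicGeometry CategoryTheory Limits

namespace Groth.Agent.H7

/-- An étale morphism which restricts to an isomorphism-like section over a thickening: if
`iX : T ⟶ U` is a thickening, `i : T ⟶ S'` a thickening and `f' : U ⟶ S'` étale with
`iX ≫ f' = i`, then `f'` is an isomorphism. -/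
theorem isIso_of_etale_of_thickening {T U S' : Scheme.{u}} (iX : T ⟶ U) (i : T ⟶ S')
    (f' : U ⟶ S') [Etale f'] (hX : MoreMor.IsThickening iX) (hS : MoreMor.IsThickening i)
    (w : iX ≫ f' = i) : IsIso f' := by
  have := hS.2
  have hui : UniversallyInjective f' :=
    (Groth.Agent.S1307.result iX i (𝟙 T) f' hX hS (by rw [w, Category.id_comp])).mp inferInstance
  have hsurj : Surjective f' := by
    constructor
    intro s
    obtain ⟨t, rfl⟩ := i.surjective s
    exact ⟨iX t, by rw [← Scheme.Hom.comp_apply, w]⟩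
  have hΔs : Surjective (pullback.diagonal f') := (UniversallyInjective.iff_diagonal f').mp hui
  have hΔo : IsOpenImmersion (pullback.diagonal f') := inferInstance
  have : IsIso (pullback.diagonal f') :=
    (isIso_iff_isOpenImmersion_and_surjective _).mpr ⟨hΔo, hΔs⟩
  have : Mono f' := (pullback.isIso_diagonal_iff f').mp this
  have : IsOpenImmersion f' := IsOpenImmersion.of_flat_of_mono f'
  exact (isIso_iff_isOpenImmersion_and_surjective _).mpr ⟨inferInstance, hsurj⟩


/-- Two morphisms into an unramified scheme which agree on a (set-theoretically) surjective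
subscheme agree. -/
theorem hom_ext_of_unramified_of_surjective {X S S' S'₀ : Scheme.{u}} (p : X ⟶ S)
    [FormallyUnramified p] [LocallyOfFiniteType p] (i : S'₀ ⟶ S') [Surjective i]
    (f₁ f₂ : S' ⟶ X) (h : f₁ ≫ p = f₂ ≫ p) (hi : i ≫ f₁ = i ≫ f₂) : f₁ = f₂ := by
  have hopen : IsOpenImmersion (pullback.diagonal p) := inferInstance
  let fg : S' ⟶ pullback p p := pullback.lift f₁ f₂ h
  let j : pullback fg (pullback.diagonal p) ⟶ S' := pullback.fst fg (pullback.diagonal p)
  have hj : IsOpenImmersion j := inferInstance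
  have heq : j ≫ f₁ = j ≫ f₂ := by
    have h3 : j ≫ fg = pullback.snd fg (pullback.diagonal p) ≫ pullback.diagonal p :=
      pullback.condition
    have h4 := congr($h3 ≫ pullback.fst p p)
    have h5 := congr($h3 ≫ pullback.snd p p)
    simp only [Category.assoc, pullback.diagonal_fst, pullback.diagonal_snd, Category.comp_id,
      fg, pullback.lift_fst, pullback.lift_snd] at h4 h5
    rw [h4, h5]
  have h7 : i ≫ fg = (i ≫ f₁) ≫ pullback.diagonal p := by
    apply pullback.hom_ext
    · rw [Category.assoc, Category.assoc, pullback.lift_fst, pullback.diagonal_fst, Category.comp_id]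
    · rw [Category.assoc, Category.assoc, pullback.lift_snd, pullback.diagonal_snd, Category.comp_id,
        hi]
  let l : S'₀ ⟶ pullback fg (pullback.diagonal p) := pullback.lift i (i ≫ f₁) h7
  have hl : l ≫ j = i := pullback.lift_fst _ _ _
  have hjs : Surjective j := by
    constructor
    intro s
    obtain ⟨t, rfl⟩ := i.surjective s
    exact ⟨l t, by rw [← Scheme.Hom.comp_apply, hl]⟩
  have : IsIso j := (isIso_iff_isOpenImmersion_and_surjective _).mpr ⟨hj, hjs⟩
  exact (cancel_epi j).mp heq

/-- Topological invariance of étale morphisms: unique lifting along thickenings. -/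
theorem existsUnique_lift_of_etale_of_thickening {X S S' S'₀ : Scheme.{u}} (p : X ⟶ S) [Etale p]
    (g : S' ⟶ S) (i : S'₀ ⟶ S') [IsClosedImmersion i] [Surjective i]
    (f₀ : S'₀ ⟶ X) (h₀ : f₀ ≫ p = i ≫ g) :
    ∃! f : S' ⟶ X, f ≫ p = g ∧ i ≫ f = f₀ := by
  have hi : MoreMor.IsThickening i := ⟨inferInstance, inferInstance⟩
  let s₀ : S'₀ ⟶ pullback p g := pullback.lift f₀ i h₀
  have hs₀1 : s₀ ≫ pullback.snd p g = i := pullback.lift_snd _ _ _
  have hs₀2 : s₀ ≫ pullback.fst p g = f₀ := pullback.lift_fst _ _ _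
  have hi' : MoreMor.IsThickening (pullback.fst (pullback.snd p g) i) :=
    isThickening_of_isPullback (IsPullback.of_hasPullback (pullback.snd p g) i) hi
  let σ : S'₀ ⟶ pullback (pullback.snd p g) i :=
    pullback.lift s₀ (𝟙 _) (by rw [hs₀1, Category.id_comp])
  have hσ1 : σ ≫ pullback.snd (pullback.snd p g) i = 𝟙 _ := pullback.lift_snd _ _ _
  have hσ2 : σ ≫ pullback.fst (pullback.snd p g) i = s₀ := pullback.lift_fst _ _ _
  have hσe : Etale σ := by
    have : Etale (σ ≫ pullback.snd (pullback.snd p g) i) := by rw [hσ1]; infer_instance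
    exact Etale.of_comp σ (pullback.snd (pullback.snd p g) i)
  have hσm : Mono σ := mono_of_mono_fac hσ1
  have hσo : IsOpenImmersion σ := IsOpenImmersion.of_flat_of_mono σ
  have hhomeo := isThickening_isHomeomorph _ hi'
  let U' : (pullback p g).Opens :=
    ⟨pullback.fst (pullback.snd p g) i '' (σ.opensRange : Set _),
      hhomeo.isOpenMap _ σ.opensRange.2⟩
  have hpre : pullback.fst (pullback.snd p g) i ⁻¹ᵁ U' = σ.opensRange := by
    ext x
    exact hhomeo.injective.mem_set_image
  let iX : S'₀ ⟶ U'.toScheme := σ.isoOpensRange.hom ≫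
    ((pullback (pullback.snd p g) i).isoOfEq hpre.symm).hom ≫
      (pullback.fst (pullback.snd p g) i ∣_ U')
  have hiXι : iX ≫ U'.ι = s₀ := by
    simp only [iX, Category.assoc, morphismRestrict_ι, Scheme.isoOfEq_hom_ι_assoc,
      Scheme.Hom.isoOpensRange_hom_ι_assoc, hσ2]
  have := hi'.1
  have := hi'.2
  have hiXs : Surjective iX := by
    constructor
    intro u
    obtain ⟨y, hy⟩ := (pullback.fst (pullback.snd p g) i).surjective (U'.ι u)
    have hyU : y ∈ σ.opensRange := by
      rw [← hpre]
      change pullback.fst (pullback.snd p g) i y ∈ U'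
      rw [hy]
      exact u.2
    obtain ⟨t, rfl⟩ := hyU
    refine ⟨t, ?_⟩
    apply U'.ι.isOpenEmbedding.injective
    rw [← Scheme.Hom.comp_apply, hiXι, ← hy, ← hσ2, Scheme.Hom.comp_apply]
  have hiX : MoreMor.IsThickening iX := ⟨inferInstance, hiXs⟩
  have w : iX ≫ (U'.ι ≫ pullback.snd p g) = i := by rw [← Category.assoc, hiXι, hs₀1]
  have hiso : IsIso (U'.ι ≫ pullback.snd p g) :=
    isIso_of_etale_of_thickening iX i (U'.ι ≫ pullback.snd p g) hiX hi w
  refine ⟨inv (U'.ι ≫ pullback.snd p g) ≫ U'.ι ≫ pullback.fst p g, ⟨?_, ?_⟩, ?_⟩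
  · rw [Category.assoc, Category.assoc, pullback.condition, ← Category.assoc U'.ι,
      IsIso.inv_hom_id_assoc]
  · have h1 : i ≫ inv (U'.ι ≫ pullback.snd p g) = iX := by
      rw [← w, Category.assoc, IsIso.hom_inv_id, Category.comp_id]
    rw [← Category.assoc, h1, ← Category.assoc, hiXι, hs₀2]
  · rintro f₂ ⟨hf₂1, hf₂2⟩
    refine hom_ext_of_unramified_of_surjective p i _ _ ?_ ?_
    · rw [hf₂1, Category.assoc, Category.assoc, pullback.condition, ← Category.assoc U'.ι,
        IsIso.inv_hom_id_assoc]
    · have h1 : i ≫ inv (U'.ι ≫ pullback.snd p g) = iX := by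
        rw [← w, Category.assoc, IsIso.hom_inv_id, Category.comp_id]
      rw [hf₂2, ← Category.assoc, h1, ← Category.assoc, hiXι, hs₀2]

end Groth.Agent.H7
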