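import Mathlib
import Groth.Agent.H51.EtSource
import Groth.Prelude.Def_Pi1X

set_option autoImplicit false
universe u

namespace Groth.Agent.H7

open AlgebraicGeometry CategoryTheory Limits MorphismProperty Topology

/-- The image under an étale map of a point at which the composite is étale lies in the étale
locus of the second map. -/
theorem map_mem_etaleLocus_of_etale_comp {X X' Y : Scheme.{u}} (f : X ⟶ X') (g : X' ⟶ Y) (x : X)
    (U : X.Opens) (hxU : x ∈ U) (h1 : Etale (U.ι ≫ f)) (h2 : Etale (U.ι ≫ f ≫ g)) :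
    f.base x ∈ Pi1X.etaleLocus g := by
  let e : (U : Scheme.{u}) ⟶ X' := U.ι ≫ f
  let W : X'.Opens := ⟨Set.range e, e.isOpenMap.isOpen_range⟩
  have htop : e ⁻¹ᵁ W = ⊤ := by
    ext z
    simp only [Scheme.Hom.coe_preimage, Set.mem_preimage, SetLike.mem_coe, TopologicalSpace.Opens.coe_top,
      Set.mem_univ, iff_true]
    exact ⟨z, rfl⟩
  have hEr : Etale (e ∣_ W) := inferInstance
  have hSr : Surjective (e ∣_ W) := by
    refine ⟨fun w => ?_⟩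
    obtain ⟨z, hz⟩ : (W.ι w : X') ∈ Set.range e := w.2
    have hzW : z ∈ e ⁻¹ᵁ W := by rw [htop]; trivial
    refine ⟨⟨z, hzW⟩, ?_⟩
    apply W.ι.injective
    have := congr($(morphismRestrict_ι e W) ⟨z, hzW⟩)
    simp only [Scheme.Hom.comp_apply] at this
    rw [this, ← hz]
    rfl
  have hcomp : Etale ((e ∣_ W) ≫ (W.ι ≫ g)) := by
    rw [← Category.assoc, morphismRestrict_ι, Category.assoc]
    have : Etale (e ≫ g) := by
      change Etale ((U.ι ≫ f) ≫ g)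
      rw [Category.assoc]
      exact h2
    infer_instance
  have hW : Etale (W.ι ≫ g) := Groth.Agent.H51.etale_of_comp_etale_surjective (e ∣_ W) (W.ι ≫ g) hcomp
  have hfx : f.base x ∈ W := ⟨⟨x, hxU⟩, rfl⟩
  exact (le_sSup (a := W) hW : W ≤ Pi1X.etaleLocus g) hfx

theorem map_mem_etaleLocus_of_mem_etaleLocus_comp {X X' Y : Scheme.{u}} (f : X ⟶ X') (g : X' ⟶ Y)
    (x : X) (hf : x ∈ Pi1X.etaleLocus f) (hfg : x ∈ Pi1X.etaleLocus (f ≫ g)) :
    f.base x ∈ Pi1X.etaleLocus g := by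
  obtain ⟨U₁, hU₁', hx₁⟩ : ∃ U₁ : X.Opens, Etale (U₁.ι ≫ f) ∧ x ∈ U₁ := by
    obtain ⟨U₁, hU₁, hx₁⟩ := TopologicalSpace.Opens.mem_sSup.mp hf
    exact ⟨U₁, hU₁, hx₁⟩
  obtain ⟨U₂, hU₂', hx₂⟩ : ∃ U₂ : X.Opens, Etale (U₂.ι ≫ f ≫ g) ∧ x ∈ U₂ := by
    obtain ⟨U₂, hU₂, hx₂⟩ := TopologicalSpace.Opens.mem_sSup.mp hfg
    exact ⟨U₂, hU₂, hx₂⟩
  let U := U₁ ⊓ U₂
  have hι₁ : U.ι = X.homOfLE (inf_le_left : U ≤ U₁) ≫ U₁.ι := (X.homOfLE_ι _).symm
  have hι₂ : U.ι = X.homOfLE (inf_le_right : U ≤ U₂) ≫ U₂.ι := (X.homOfLE_ι _).symm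
  refine map_mem_etaleLocus_of_etale_comp f g x U ⟨hx₁, hx₂⟩ ?_ ?_
  · rw [hι₁, Category.assoc]; infer_instance
  · rw [hι₂, Category.assoc]; infer_instance

end Groth.Agent.H7
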