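import Mathlib

/-!
# Flat over the base + flat on the fibre ⟹ free (finitely presented modules over local rings)
-/

set_option autoImplicit false
set_option linter.style.haveILetI false
universe u

namespace Groth.Agent.H7.FibreFree

open IsLocalRing

section inf

variable {A B N M : Type*} [CommRing A] [CommRing B] (φ : A →+* B)
  [AddCommGroup N] [Module B N] [AddCommGroup M] [Module B M]

/-- elements of `(𝔞B) • ⊤` are finite sums `∑ φ(aᵢ) • nᵢ` with `aᵢ ∈ 𝔞`. -/
theorem exists_sum_of_mem_map_smul_top (𝔞 : Ideal A) {k : N}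
    (hk : k ∈ Ideal.map φ 𝔞 • (⊤ : Submodule B N)) :
    ∃ (n : ℕ) (a : Fin n → A) (x : Fin n → N), (∀ i, a i ∈ 𝔞) ∧ k = ∑ i, φ (a i) • x i := by
  induction hk using Submodule.smul_induction_on' with
  | smul r hr m _ =>
    -- r ∈ map φ 𝔞
    have : ∀ r ∈ Ideal.map φ 𝔞, ∃ (n : ℕ) (a : Fin n → A) (b : Fin n → B), (∀ i, a i ∈ 𝔞) ∧
        r = ∑ i, b i * φ (a i) := by
      intro r hr
      induction hr using Submodule.span_induction with
      | mem x hx =>
        obtain ⟨a, ha, rfl⟩ := hx
        exact ⟨1, fun _ => a, fun _ => 1, fun _ => ha, by simp⟩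
      | zero => exact ⟨0, Fin.elim0, Fin.elim0, fun i => i.elim0, by simp⟩
      | add x y _ _ hx hy =>
        obtain ⟨n, a, b, ha, rfl⟩ := hx
        obtain ⟨n', a', b', ha', rfl⟩ := hy
        refine ⟨n + n', Fin.append a a', Fin.append b b', ?_, ?_⟩
        · intro i
          refine Fin.addCases (fun j => ?_) (fun j => ?_) i
          · simpa using ha j
          · simpa using ha' j
        · simp [Fin.sum_univ_add]
      | smul c x _ hx =>
        obtain ⟨n, a, b, ha, rfl⟩ := hx
        exact ⟨n, a, fun i => c * b i, ha, by simp [Finset.mul_sum, mul_assoc]⟩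
    obtain ⟨n, a, b, ha, rfl⟩ := this r hr
    exact ⟨n, a, fun i => b i • m, ha, by simp [Finset.sum_smul, mul_smul, smul_comm (φ _) (b _)]⟩
  | add x _ y _ hx hy =>
    obtain ⟨n, a, b, ha, rfl⟩ := hx
    obtain ⟨n', a', b', ha', rfl⟩ := hy
    refine ⟨n + n', Fin.append a a', Fin.append b b', ?_, ?_⟩
    · intro i
      refine Fin.addCases (fun j => ?_) (fun j => ?_) i
      · simpa using ha j
      · simpa using ha' j
    · simp [Fin.sum_univ_add]

/-- If `M` is flat over `A` (through `φ : A → B`), and `ψ : N → M` is a surjective `B`-linear map,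
then `ker ψ ∩ 𝔞N ⊆ 𝔞 ker ψ` for every ideal `𝔞` of `A`. -/
theorem ker_inf_smul_top_le (ψ : N →ₗ[B] M) (hψ : Function.Surjective ψ)
    (hflat : letI := Module.compHom M φ; Module.Flat A M) (𝔞 : Ideal A) :
    LinearMap.ker ψ ⊓ Ideal.map φ 𝔞 • (⊤ : Submodule B N) ≤ Ideal.map φ 𝔞 • LinearMap.ker ψ := by
  rintro k ⟨hk1, hk2⟩
  obtain ⟨n, a, x, ha, rfl⟩ := exists_sum_of_mem_map_smul_top φ 𝔞 hk2
  letI := Module.compHom M φ
  have hsm : ∀ (r : A) (m : M), r • m = φ r • m := fun _ _ => rfl
  have h0 : ∑ i, a i • ψ (x i) = 0 := by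
    have : ψ (∑ i, φ (a i) • x i) = 0 := hk1
    simpa [map_sum, hsm] using this
  obtain ⟨l, α, y, hy1, hy2⟩ := Module.Flat.isTrivialRelation_of_sum_smul_eq_zero h0
  choose y' hy' using fun j => hψ (y j)
  have hκ : ∀ i, x i - ∑ j, φ (α i j) • y' j ∈ LinearMap.ker ψ := by
    intro i
    simp only [LinearMap.mem_ker, map_sub, map_sum, map_smul, hy', sub_eq_zero]
    exact (hy1 i).trans (by simp [hsm])
  have hsum : ∑ i, φ (a i) • x i = ∑ i, φ (a i) • (x i - ∑ j, φ (α i j) • y' j) := by
    have h2 : ∑ i, φ (a i) • ∑ j, φ (α i j) • y' j = 0 := by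
      simp_rw [Finset.smul_sum, smul_smul]
      rw [Finset.sum_comm]
      refine Finset.sum_eq_zero fun j _ => ?_
      rw [← Finset.sum_smul]
      have := congrArg φ (hy2 j)
      simp only [map_sum, map_mul, map_zero] at this
      rw [this, zero_smul]
    simp only [smul_sub, Finset.sum_sub_distrib, h2, sub_zero]
  rw [hsum]
  exact Submodule.sum_mem _ fun i _ =>
    Submodule.smul_mem_smul (Ideal.mem_map_of_mem φ (ha i)) (hκ i)

end inf

/-- **Flat over the base and flat on the fibre implies free.**  Let `φ : A → B` be a local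
homomorphism of local rings and `M` a finitely presented `B`-module which is flat over `A` and
such that `M / 𝔪_A M` is flat over `B / 𝔪_A B`.  Then `M` is free over `B`. -/
theorem free_of_flat_of_fibre_flat {A B M : Type*} [CommRing A] [CommRing B] [IsLocalRing A]
    [IsLocalRing B] (φ : A →+* B) [IsLocalHom φ] [AddCommGroup M] [Module B M]
    [Module.FinitePresentation B M]
    (h1 : letI := Module.compHom M φ; Module.Flat A M)
    (h2 : Module.Flat (B ⧸ Ideal.map φ (maximalIdeal A))
      (M ⧸ (Ideal.map φ (maximalIdeal A) • (⊤ : Submodule B M)))) :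
    Module.Free B M := by
  set I : Ideal B := Ideal.map φ (maximalIdeal A) with hI
  have hIle : I ≤ maximalIdeal B := by
    rw [hI, Ideal.map_le_iff_le_comap]
    intro a ha
    rw [Ideal.mem_comap, mem_maximalIdeal, mem_nonunits_iff] at *
    exact fun h => ha (isUnit_of_map_unit φ a h)
  have hIjac : I ≤ Ideal.jacobson ⊥ := by
    rw [IsLocalRing.jacobson_eq_maximalIdeal ⊥ bot_ne_top]; exact hIle
  have hIne : I ≠ ⊤ := fun h => (maximalIdeal.isMaximal B).ne_top (top_le_iff.1 (h ▸ hIle))
  haveI : Nontrivial (B ⧸ I) := Ideal.Quotient.nontrivial_iff.2 hIne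
  haveI : IsLocalRing (B ⧸ I) :=
    IsLocalRing.of_surjective' (Ideal.Quotient.mk I) Ideal.Quotient.mk_surjective
  haveI : Module.Finite B M := inferInstance
  haveI : Module.Finite (B ⧸ I) (M ⧸ (I • (⊤ : Submodule B M))) :=
    Module.Finite.of_restrictScalars_finite B _ _
  haveI : Module.Free (B ⧸ I) (M ⧸ (I • (⊤ : Submodule B M))) := Module.free_of_flat_of_isLocalRing
  let ι := Module.Free.ChooseBasisIndex (B ⧸ I) (M ⧸ (I • (⊤ : Submodule B M)))
  let b : Module.Basis ι (B ⧸ I) (M ⧸ (I • (⊤ : Submodule B M))) := Module.Free.chooseBasis _ _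
  haveI : Fintype ι := inferInstance
  choose m hm using fun i => Submodule.Quotient.mk_surjective (I • (⊤ : Submodule B M)) (b i)
  let ψ : (ι → B) →ₗ[B] M := Fintype.linearCombination B m
  have hψ : ∀ c : ι → B, ψ c = ∑ i, c i • m i := fun c => Fintype.linearCombination_apply B m c
  -- reduction of ψ mod I
  have hred : ∀ c : ι → B, Submodule.Quotient.mk (p := I • (⊤ : Submodule B M)) (ψ c) =
      ∑ i, (Ideal.Quotient.mk I (c i)) • b i := by
    intro c
    rw [hψ, ← Submodule.mkQ_apply, map_sum]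
    refine Finset.sum_congr rfl fun i _ => ?_
    rw [map_smul, Submodule.mkQ_apply, hm]
    rfl
  -- surjectivity
  have hsurj : Function.Surjective ψ := by
    rw [← LinearMap.range_eq_top, eq_top_iff]
    refine Submodule.le_of_le_smul_of_le_jacobson_bot (I := I) Module.Finite.fg_top hIjac ?_
    intro x _
    obtain ⟨c, hc⟩ : ∃ c : ι → B, Submodule.Quotient.mk (p := I • (⊤ : Submodule B M)) x =
        ∑ i, (Ideal.Quotient.mk I (c i)) • b i := by
      have := b.sum_repr (Submodule.Quotient.mk (p := I • (⊤ : Submodule B M)) x)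
      choose c hc using fun i => Ideal.Quotient.mk_surjective (b.repr (Submodule.Quotient.mk x) i)
      exact ⟨c, by simp_rw [hc]; exact this.symm⟩
    rw [← hred c, eq_comm, ← sub_eq_zero, ← Submodule.Quotient.mk_sub,
      Submodule.Quotient.mk_eq_zero] at hc
    have : x = ψ c - (ψ c - x) := by abel
    rw [this]
    exact Submodule.sub_mem _ (Submodule.mem_sup_left ⟨c, rfl⟩) (Submodule.mem_sup_right hc)
  -- injectivity
  have hK : LinearMap.ker ψ = ⊥ := by
    refine Submodule.eq_bot_of_le_smul_of_le_jacobson_bot I _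
      (Module.FinitePresentation.fg_ker ψ hsurj) ?_ hIjac
    intro k hk
    refine ker_inf_smul_top_le φ ψ hsurj h1 (maximalIdeal A) ⟨hk, ?_⟩
    -- k ∈ I • ⊤
    have h0 : ∑ i, (Ideal.Quotient.mk I (k i)) • b i = 0 := by
      rw [← hred k, (LinearMap.mem_ker.1 hk), Submodule.Quotient.mk_zero]
    have hki : ∀ i, k i ∈ I := by
      intro i
      have := Fintype.linearIndependent_iff.1 b.linearIndependent _ h0 i
      exact Ideal.Quotient.eq_zero_iff_mem.1 this
    have hk' : k = ∑ i, k i • (Pi.single i (1 : B) : ι → B) := by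
      ext j
      simp [Finset.sum_apply, Pi.single_apply]
    rw [hk']
    exact Submodule.sum_mem _ fun i _ => Submodule.smul_mem_smul (hki i) Submodule.mem_top
  exact Module.Free.of_equiv (LinearEquiv.ofBijective ψ ⟨LinearMap.ker_eq_bot.1 hK, hsurj⟩)

end Groth.Agent.H7.FibreFree
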