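import Mathlib

set_option autoImplicit false
set_option linter.style.haveILetI false
universe u

open AlgebraicGeometry CategoryTheory Limits

namespace Groth.Agent.H7.GeomPt

/-- A section of an integral scheme over an algebraically closed field through every point. -/
theorem exists_section_of_isIntegralHom {T : Scheme.{u}} {Ω : Type u} [Field Ω] [IsAlgClosed Ω]
    (q : T ⟶ Spec (.of Ω)) [IsIntegralHom q] (t : T) :
    ∃ σ : Spec (.of Ω) ⟶ T, σ ≫ q = 𝟙 _ ∧ σ default = t := by
  haveI : IsAffine T := isAffine_of_isAffineHom q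
  let A : CommRingCat.{u} := Γ(T, ⊤)
  let φ : CommRingCat.of Ω ⟶ A := (Scheme.ΓSpecIso (.of Ω)).inv ≫ q.appTop
  have hq : q = T.isoSpec.hom ≫ Spec.map φ := by
    have h1 := Scheme.isoSpec_hom_naturality q
    -- q ≫ (Spec Ω).isoSpec.hom = T.isoSpec.hom ≫ Spec.map q.appTop
    have h2 : (Spec (.of Ω)).isoSpec.hom = Spec.map (Scheme.ΓSpecIso (.of Ω)).hom := by
      simp [Scheme.isoSpec_Spec_hom]
    rw [← cancel_mono (Spec (.of Ω)).isoSpec.hom, ← h1, Category.assoc, h2, ← Spec.map_comp]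
    congr 2
    simp [φ]
  have hφint : φ.hom.IsIntegral := by
    have h1 : IsIntegralHom (Spec.map φ) := by
      have : IsIntegralHom (T.isoSpec.hom ≫ Spec.map φ) := hq ▸ inferInstance
      have e : Spec.map φ = T.isoSpec.inv ≫ (T.isoSpec.hom ≫ Spec.map φ) := by simp
      rw [e]; infer_instance
    exact IsIntegralHom.SpecMap_iff.mp h1
  let 𝔮 : Ideal A := (T.isoSpec.hom t).asIdeal
  haveI : 𝔮.IsPrime := (T.isoSpec.hom t).isPrime
  algebraize [φ.hom]
  haveI : Algebra.IsIntegral Ω A := ⟨hφint⟩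
  haveI : Algebra.IsIntegral Ω (A ⧸ 𝔮) := inferInstance
  have hbij : Function.Bijective (algebraMap Ω (A ⧸ 𝔮)) :=
    IsAlgClosed.algebraMap_bijective_of_isIntegral
  let e : Ω ≃+* (A ⧸ 𝔮) := RingEquiv.ofBijective (algebraMap Ω (A ⧸ 𝔮)) hbij
  let r : A →+* Ω := e.symm.toRingHom.comp (Ideal.Quotient.mk 𝔮)
  have hr : r.comp φ.hom = RingHom.id Ω := by
    ext x
    change e.symm (Ideal.Quotient.mk 𝔮 (algebraMap Ω A x)) = x
    have : Ideal.Quotient.mk 𝔮 (algebraMap Ω A x) = e x := rfl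
    rw [this]
    exact e.symm_apply_apply x
  have hker : RingHom.ker r = 𝔮 := by
    ext a
    rw [RingHom.mem_ker]
    change e.symm (Ideal.Quotient.mk 𝔮 a) = 0 ↔ _
    rw [map_eq_zero_iff _ e.symm.injective, Ideal.Quotient.eq_zero_iff_mem]
  refine ⟨Spec.map (CommRingCat.ofHom r) ≫ T.isoSpec.inv, ?_, ?_⟩
  · rw [hq, Category.assoc, Iso.inv_hom_id_assoc, ← Spec.map_comp]
    have : φ ≫ CommRingCat.ofHom r = 𝟙 _ := by
      ext x
      exact congr($hr x)
    rw [this, Spec.map_id]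
  · rw [Scheme.Hom.comp_apply]
    have h1 : Spec.map (CommRingCat.ofHom r) default = T.isoSpec.hom t := by
      apply PrimeSpectrum.ext
      have h0 : (default : Spec (.of Ω)) = (⊥ : PrimeSpectrum Ω) := Subsingleton.elim _ _
      rw [h0]
      change Ideal.comap r ⊥ = 𝔮
      rw [← hker]
      rfl
    rw [h1, ← Scheme.Hom.comp_apply, Iso.hom_inv_id]
    rfl

/-- Lifting geometric points along integral morphisms (`Ω` algebraically closed). -/
theorem exists_lift_of_isIntegralHom {P V : Scheme.{u}} (π : P ⟶ V) [IsIntegralHom π]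
    {Ω : Type u} [Field Ω] [IsAlgClosed Ω] (v : Spec (.of Ω) ⟶ V) (p : P)
    (hp : π p = v default) : ∃ w : Spec (.of Ω) ⟶ P, w ≫ π = v ∧ w default = p := by
  obtain ⟨t, ht1, -⟩ := Scheme.Pullback.exists_preimage_pullback (f := π) (g := v) p default hp
  obtain ⟨σ, hσ1, hσ2⟩ := exists_section_of_isIntegralHom (pullback.snd π v) t
  refine ⟨σ ≫ pullback.fst π v, ?_, ?_⟩
  · rw [Category.assoc, pullback.condition, ← Category.assoc, hσ1, Category.id_comp]
  · rw [Scheme.Hom.comp_apply, hσ2, ht1]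

end Groth.Agent.H7.GeomPt
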