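import Groth.Agent.H4.StalkPull
import Groth.Agent.H4.GlueSec
import Groth.Agent.H7.GeomPt
import Groth.Agent.H7.PropBIntegral

/-!
# Geometric points and the stalk of the push-forward along an integral morphism: injectivity
-/

set_option autoImplicit false
set_option linter.style.haveILetI false
universe u

open AlgebraicGeometry CategoryTheory Limits Opposite EtCoh
open Groth.Agent.H4.Stalks Groth.Agent.H4.StalkPull Groth.Agent.H4.GlueSec

namespace Groth.Agent.H7.FinPush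

variable {X Y : Scheme.{u}} (f : X ⟶ Y)

section bc

set_option backward.isDefEq.respectTransparency.types false in
theorem bc_map_left_fst {V₁ V : Y.Etale} (c : V₁ ⟶ V) :
    ((bc f).map c).left ≫ pullback.fst V.hom f = pullback.fst V₁.hom f ≫ c.left := by
  dsimp [bc]
  exact pullback.lift_fst _ _ _

set_option backward.isDefEq.respectTransparency.types false in
theorem bc_map_left_snd {V₁ V : Y.Etale} (c : V₁ ⟶ V) :
    ((bc f).map c).left ≫ pullback.snd V.hom f = pullback.snd V₁.hom f := by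
  dsimp [bc]
  exact pullback.lift_snd _ _ _

end bc

section rho

variable {Ω : Type u} [Field Ω] [IsSepClosed Ω]

/-- The canonical map from the stalk of `f_* F` at `x ≫ f` to the stalk of `F` at `x`. -/
noncomputable def rho (x : Spec (.of Ω) ⟶ X) (F : Ab X) :
    (stalk (x ≫ f)).obj ((push f).obj F) ⟶ (stalk x).obj F :=
  (stalkPullIso f x).hom.app ((push f).obj F) ≫ (stalk x).map ((pullPushAdj f).counit.app F)

theorem rho_germ (x : Spec (.of Ω) ⟶ X) (F : Ab X) {V : Y.Etale} (v : Fib (x ≫ f) V)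
    (s : F.obj.obj (op ((bc f).obj V))) :
    rho f x F (germ ((push f).obj F) v s) = germ F (fibPull f x v) s := by
  unfold rho
  rw [ConcreteCategory.comp_apply, stalkPullIso_germ_apply, germ_map]
  congr 1
  have h := (pullPushAdj f).right_triangle_components F
  have h2 := congr($(h).hom.app (op V))
  exact ConcreteCategory.congr_hom h2 s

/-- an `Ω`-point of an étale `X`-scheme, as an element of the fibre of the geometric point it
lies over -/
noncomputable def mkFib {U : X.Etale} (w : Spec (.of Ω) ⟶ U.left) : Fib (w ≫ U.hom) U :=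
  Over.homMk w rfl

@[simp] theorem mkFib_left {U : X.Etale} (w : Spec (.of Ω) ⟶ U.left) : (mkFib w).left = w := rfl

theorem mkFib_pt {U : X.Etale} (w : Spec (.of Ω) ⟶ U.left) : (mkFib w).pt = w default := rfl

end rho

section pieces

/-- Pieces for an integral morphism, in the language of the small étale sites. -/
theorem exists_pieces_et [IsIntegralHom f] (V : Y.Etale) (v₀ : V.left) {ι : Type u}
    (U : ι → X.Etale) (g : ∀ i, U i ⟶ (bc f).obj V)
    (hcov : ∀ p : ↥(pullback V.hom f), pullback.fst V.hom f p = v₀ →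
      ∃ i, p ∈ Set.range (g i).left) :
    ∃ (V₁ : Y.Etale) (c : V₁ ⟶ V) (v₁ : V₁.left), c.left v₁ = v₀ ∧
      ∃ (K : Type u) (W : K → ((bc f).obj V₁).left.Opens),
        (∀ a b, a ≠ b → Disjoint (W a) (W b)) ∧ (⨆ a, W a) = ⊤ ∧
        ∀ a, ∃ (i : ι) (k : opn ((bc f).obj V₁) (W a) ⟶ U i),
          k ≫ g i = opnι _ (W a) ≫ (bc f).map c := by
  let π : pullback V.hom f ⟶ V.left := pullback.fst V.hom f
  haveI : Etale V.hom := V.prop
  have H := Groth.Agent.H7.hasPiecesAll_of_isIntegralHom π ι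
  unfold Groth.Agent.H7.HasPiecesAll at H
  obtain ⟨V₁s, c, v₁, hc, hcv, K, W₀, hdisj, hcovW, hh⟩ :=
    @H (fun i ↦ (U i).left) (fun i ↦ (g i).left)
      (fun i ↦ (inferInstance : Etale (g i).left)) v₀ hcov
  haveI : Etale c := hc
  let V₁ : Y.Etale := Scheme.Etale.mk (c ≫ V.hom)
  let c' : V₁ ⟶ V := MorphismProperty.Over.homMk c rfl trivial
  obtain ⟨m, hm, hm1, hm2⟩ : ∃ m : pullback (c ≫ V.hom) f ⟶ pullback V.hom f,
      m = ((bc f).map c').left ∧ m ≫ pullback.fst V.hom f = pullback.fst (c ≫ V.hom) f ≫ c ∧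
      m ≫ pullback.snd V.hom f = pullback.snd (c ≫ V.hom) f :=
    ⟨_, rfl, bc_map_left_fst f c', bc_map_left_snd f c'⟩
  let e : pullback π c ≅ pullback (c ≫ V.hom) f :=
    pullbackSymmetry π c ≪≫ pullbackRightPullbackFstIso V.hom f c
  have he1 : e.inv ≫ pullback.fst π c = m := by
    apply pullback.hom_ext
    · rw [hm1, Category.assoc]
      have : pullback.fst π c ≫ pullback.fst V.hom f = pullback.snd π c ≫ c := pullback.condition
      rw [this]
      simp only [e, Iso.trans_inv, Category.assoc, pullbackSymmetry_inv_comp_snd_assoc]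
      rw [pullbackRightPullbackFstIso_inv_fst_assoc]
    · rw [hm2, Category.assoc]
      simp only [e, Iso.trans_inv, Category.assoc, pullbackSymmetry_inv_comp_fst_assoc]
      rw [pullbackRightPullbackFstIso_inv_snd_snd]
  refine ⟨V₁, c', v₁, hcv, K, fun a ↦ e.inv ⁻¹ᵁ (W₀ a), ?_, ?_, ?_⟩
  · intro a b hab S hSa hSb z hz
    exact (hdisj a b hab).le_bot ⟨hSa hz, hSb hz⟩
  · rw [eq_top_iff]
    intro z _
    have : e.inv z ∈ (⨆ a, W₀ a) := by rw [hcovW]; trivial
    rw [TopologicalSpace.Opens.mem_iSup] at this ⊢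
    exact this
  · intro a
    obtain ⟨i, h, hh'⟩ := hh a
    let kl : ((e.inv ⁻¹ᵁ (W₀ a) : (pullback (c ≫ V.hom) f).Opens) : Scheme.{u}) ⟶ (U i).left :=
      (e.inv ∣_ (W₀ a)) ≫ h
    have hkl : kl ≫ (g i).left = (e.inv ⁻¹ᵁ (W₀ a)).ι ≫ m := by
      have h1 : (e.inv ∣_ (W₀ a)) ≫ (W₀ a).ι = (e.inv ⁻¹ᵁ (W₀ a)).ι ≫ e.inv :=
        morphismRestrict_ι _ _
      calc kl ≫ (g i).left = (e.inv ∣_ (W₀ a)) ≫ (h ≫ (g i).left) := Category.assoc _ _ _
        _ = (e.inv ∣_ (W₀ a)) ≫ ((W₀ a).ι ≫ pullback.fst π c) :=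
            congrArg (fun t ↦ (e.inv ∣_ (W₀ a)) ≫ t) hh'
        _ = ((e.inv ∣_ (W₀ a)) ≫ (W₀ a).ι) ≫ pullback.fst π c := (Category.assoc _ _ _).symm
        _ = ((e.inv ⁻¹ᵁ (W₀ a)).ι ≫ e.inv) ≫ pullback.fst π c :=
            congrArg (fun t ↦ t ≫ pullback.fst π c) h1
        _ = (e.inv ⁻¹ᵁ (W₀ a)).ι ≫ (e.inv ≫ pullback.fst π c) := Category.assoc _ _ _
        _ = (e.inv ⁻¹ᵁ (W₀ a)).ι ≫ m := congrArg (fun t ↦ (e.inv ⁻¹ᵁ (W₀ a)).ι ≫ t) he1
    have hw : kl ≫ (U i).hom = (e.inv ⁻¹ᵁ (W₀ a)).ι ≫ pullback.snd (c ≫ V.hom) f := by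
      have h1 : (g i).left ≫ pullback.snd V.hom f = (U i).hom := Over.w (g i).hom
      calc kl ≫ (U i).hom = kl ≫ ((g i).left ≫ pullback.snd V.hom f) :=
            congrArg (fun t ↦ kl ≫ t) h1.symm
        _ = (kl ≫ (g i).left) ≫ pullback.snd V.hom f := (Category.assoc _ _ _).symm
        _ = ((e.inv ⁻¹ᵁ (W₀ a)).ι ≫ m) ≫ pullback.snd V.hom f :=
            congrArg (fun t ↦ t ≫ pullback.snd V.hom f) hkl
        _ = (e.inv ⁻¹ᵁ (W₀ a)).ι ≫ (m ≫ pullback.snd V.hom f) := Category.assoc _ _ _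
        _ = _ := congrArg (fun t ↦ (e.inv ⁻¹ᵁ (W₀ a)).ι ≫ t) hm2
    refine ⟨i, MorphismProperty.Over.homMk kl hw trivial, ?_⟩
    apply MorphismProperty.Over.Hom.ext
    exact hkl.trans (by rw [hm]; rfl)

end pieces

section inj

variable {Ω : Type u} [Field Ω] [IsAlgClosed Ω]

/-- **Injectivity**: a germ of `f_* F` (for `f` integral) at a geometric point `y` vanishes as
soon as its germs at all geometric points of `X` over `y` vanish. -/
theorem germ_push_eq_zero [IsIntegralHom f] (y : Spec (.of Ω) ⟶ Y) (F : Ab X) {V : Y.Etale}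
    (v : Fib y V) (s : F.obj.obj (op ((bc f).obj V)))
    (h : ∀ w : Spec (.of Ω) ⟶ pullback V.hom f, w ≫ pullback.fst V.hom f = v.left →
      germ F (mkFib (U := (bc f).obj V) w) s = 0) :
    germ ((push f).obj F) v s = 0 := by
  have key : ∀ p : ↥(pullback V.hom f), pullback.fst V.hom f p = v.pt →
      ∃ (U : X.Etale) (g : U ⟶ (bc f).obj V) (u : U.left), g.left u = p ∧
        F.obj.map g.op s = 0 := by
    intro p hp
    obtain ⟨w, hw1, hw2⟩ := Groth.Agent.H7.GeomPt.exists_lift_of_isIntegralHom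
      (pullback.fst V.hom f) v.left p hp
    obtain ⟨U, g, u, hu, hs⟩ := (germ_eq_zero_iff' F _ s).1 (h w hw1)
    exact ⟨U, g, u, hu.trans hw2, hs⟩
  choose U g u hu hs using key
  obtain ⟨V₁, c, v₁, hcv, K, W, -, hcovW, hk⟩ := exists_pieces_et f V v.pt
    (ι := {p : ↥(pullback V.hom f) // pullback.fst V.hom f p = v.pt})
    (fun p ↦ U p.1 p.2) (fun p ↦ g p.1 p.2) (fun p hp ↦ ⟨⟨p, hp⟩, u p hp, hu p hp⟩)
  obtain ⟨v', hv', -⟩ := Fib.exists_lift c v v₁ hcv
  have hzero : F.obj.map ((bc f).map c).op s = 0 := by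
    apply eq_zero_of_locally_zero
    intro q
    have hq : q ∈ (⨆ a, W a) := by rw [hcovW]; trivial
    rw [TopologicalSpace.Opens.mem_iSup] at hq
    obtain ⟨a, hqa⟩ := hq
    obtain ⟨i, k, hk'⟩ := hk a
    refine ⟨opn _ (W a), opnι _ (W a), ⟨q, hqa⟩, rfl, ?_⟩
    rw [← ConcreteCategory.comp_apply, ← Functor.map_comp, ← op_comp, ← hk', op_comp,
      Functor.map_comp, ConcreteCategory.comp_apply, hs, map_zero]
  rw [← hv', ← germ_res ((push f).obj F) c v' s]
  change germ ((push f).obj F) v' (F.obj.map ((bc f).map c).op s) = 0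
  rw [hzero]
  exact map_zero _

end inj

end Groth.Agent.H7.FinPush
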