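import Groth.Agent.H7.FinPushSurj

/-!
# The stalk of the push-forward along a finite morphism
-/

set_option autoImplicit false
set_option linter.style.haveILetI false
universe u

open AlgebraicGeometry CategoryTheory Limits Opposite EtCoh
open Groth.Agent.H4.Stalks Groth.Agent.H4.StalkPull Groth.Agent.H4.GlueSec

namespace Groth.Agent.H7.FinPush

variable {X Y : Scheme.{u}} (f : X ⟶ Y) {Ω : Type u} [Field Ω]

/-- A section of a scheme over a field is determined by its image point. -/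
theorem section_ext {T : Scheme.{u}} (q : T ⟶ Spec (.of Ω)) (σ₁ σ₂ : Spec (.of Ω) ⟶ T)
    (h₁ : σ₁ ≫ q = 𝟙 _) (h₂ : σ₂ ≫ q = 𝟙 _) (h : σ₁ default = σ₂ default) : σ₁ = σ₂ := by
  let t : T := σ₁ default
  obtain ⟨ε₁, hε₁⟩ := Groth.Agent.H7.GeomSep.exists_fac_residueField σ₁ t
    (by rw [← Groth.Agent.H7.GeomSep.default_eq_closedPoint])
  obtain ⟨ε₂, hε₂⟩ := Groth.Agent.H7.GeomSep.exists_fac_residueField σ₂ t
    (by rw [← Groth.Agent.H7.GeomSep.default_eq_closedPoint]; exact h.symm)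
  let ρ : CommRingCat.of Ω ⟶ T.residueField t := Spec.preimage (T.fromSpecResidueField t ≫ q)
  have hρ : Spec.map ρ = T.fromSpecResidueField t ≫ q := Spec.map_preimage _
  have hr : ∀ (ε : T.residueField t ⟶ .of Ω) (σ : Spec (.of Ω) ⟶ T),
      σ = Spec.map ε ≫ T.fromSpecResidueField t → σ ≫ q = 𝟙 _ → ρ ≫ ε = 𝟙 _ := by
    intro ε σ hσ hq
    apply Spec.map_injective
    rw [Spec.map_comp, hρ, ← Category.assoc, ← hσ, hq, Spec.map_id]
  have r1 := hr ε₁ σ₁ hε₁ h₁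
  have r2 := hr ε₂ σ₂ hε₂ h₂
  have heq : ε₁ = ε₂ := by
    ext z
    have a1 : ε₁.hom (ρ.hom (ε₁.hom z)) = ε₁.hom z := congr($(r1).hom (ε₁.hom z))
    have a2 : ρ.hom (ε₁.hom z) = z := ε₁.hom.injective a1
    have a3 : ε₂.hom (ρ.hom (ε₁.hom z)) = ε₁.hom z := congr($(r2).hom (ε₁.hom z))
    rw [a2] at a3
    exact a3.symm
  rw [hε₁, hε₂, heq]

/-- Finitely many geometric points over a geometric point, for a finite morphism. -/
theorem finite_geomPts [IsFinite f] (η : Spec (.of Ω) ⟶ Y) :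
    Finite {ξ : Spec (.of Ω) ⟶ X // ξ ≫ f = η} := by
  let q := pullback.snd f η
  have hT : Finite ↥(pullback f η) := by
    have h1 : (q ⁻¹' {default}).Finite := Scheme.Hom.finite_preimage_singleton q default
    have h2 : q ⁻¹' {default} = Set.univ := by
      ext z
      simp only [Set.mem_preimage, Set.mem_singleton_iff, Set.mem_univ, iff_true]
      exact Subsingleton.elim _ _
    rw [h2] at h1
    exact Set.finite_univ_iff.mp h1
  let σ : {ξ : Spec (.of Ω) ⟶ X // ξ ≫ f = η} → (Spec (.of Ω) ⟶ pullback f η) :=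
    fun ξ ↦ pullback.lift ξ.1 (𝟙 _) (by rw [ξ.2, Category.id_comp])
  apply Finite.of_injective (fun ξ ↦ (σ ξ) default)
  intro ξ₁ ξ₂ h
  have := section_ext q (σ ξ₁) (σ ξ₂) (pullback.lift_snd _ _ _) (pullback.lift_snd _ _ _) h
  apply Subtype.ext
  have e1 : σ ξ₁ ≫ pullback.fst f η = ξ₁.1 := pullback.lift_fst _ _ _
  have e2 : σ ξ₂ ≫ pullback.fst f η = ξ₂.1 := pullback.lift_fst _ _ _
  rw [← e1, ← e2, this]

variable [IsAlgClosed Ω]

/-- **The stalk of `f_* F` for `f` finite** is the product of the stalks of `F` at the geometric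
points over the given one. -/
theorem isIso_lift_rho' [IsFinite f] (F : Ab X) (η : Spec (.of Ω) ⟶ Y) :
    IsIso (Pi.lift (fun ξ : {ξ : Spec (.of Ω) ⟶ X // ξ ≫ f = η} ↦ rho' f η ξ.1 ξ.2 F)) := by
  classical
  let J := {ξ : Spec (.of Ω) ⟶ X // ξ ≫ f = η}
  haveI : Finite J := finite_geomPts f η
  let G : J → AddCommGrpCat.{u + 1} := fun ξ ↦ (stalk ξ.1).obj F
  let Φ : (stalk η).obj ((push f).obj F) ⟶ ∏ᶜ G := Pi.lift (fun ξ ↦ rho' f η ξ.1 ξ.2 F)
  have hΦ : ∀ (σ : (stalk η).obj ((push f).obj F)) (ξ : J),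
      (Pi.π G ξ) (Φ σ) = rho' f η ξ.1 ξ.2 F σ := by
    intro σ ξ
    rw [← ConcreteCategory.comp_apply, Pi.lift_π]
  rw [ConcreteCategory.isIso_iff_bijective]
  constructor
  · change Function.Injective Φ.hom
    rw [injective_iff_map_eq_zero]
    intro σ hσ
    obtain ⟨V, v, s, rfl⟩ := germ_surjective _ σ
    apply germ_push_eq_zero' f η F v s
    intro x hx
    rw [← rho'_germ, ← hΦ _ ⟨x, hx⟩]
    have : Φ (germ ((push f).obj F) v s) = 0 := hσ
    rw [this]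
    exact map_zero _
  · intro e
    have key : ∀ ξ : J, ∃ σ : (stalk η).obj ((push f).obj F),
        rho' f η ξ.1 ξ.2 F σ = Pi.π G ξ e ∧
        ∀ x' ∈ {x' : Spec (.of Ω) ⟶ X | x' ≫ f = η ∧ x' ≠ ξ.1}, ∀ hx' : x' ≫ f = η,
          rho' f η x' hx' F σ = 0 := by
      intro ξ
      apply exists_stalk_elt f η ξ.1 ξ.2 F (Pi.π G ξ e)
      · apply Set.Finite.subset (Set.finite_range (Subtype.val : J → _))
        rintro x' ⟨h1, -⟩
        exact ⟨⟨x', h1⟩, rfl⟩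
      · exact fun x' h ↦ h.2
    choose σ hσ1 hσ2 using key
    haveI := Fintype.ofFinite J
    refine ⟨∑ ξ, σ ξ, ?_⟩
    apply Concrete.limit_ext
    rintro ⟨ξ⟩
    change (Pi.π G ξ) (Φ (∑ ξ, σ ξ)) = (Pi.π G ξ) e
    rw [hΦ, map_sum, Finset.sum_eq_single ξ, hσ1]
    · intro ξ' _ hne
      exact hσ2 ξ' ξ.1 ⟨ξ.2, fun h ↦ hne (Subtype.ext h.symm)⟩ ξ.2
    · intro h
      exact (h (Finset.mem_univ _)).elim

theorem stalk_push_finite_iso [IsFinite f] (F : Ab X) (η : Spec (.of Ω) ⟶ Y) :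
    Nonempty ((stalk η).obj ((push f).obj F) ≅
      ∐ fun ξ : {ξ : Spec (.of Ω) ⟶ X // ξ ≫ f = η} ↦ (stalk ξ.1).obj F) := by
  haveI := isIso_lift_rho' f F η
  haveI : Finite {ξ : Spec (.of Ω) ⟶ X // ξ ≫ f = η} := finite_geomPts f η
  let G : {ξ : Spec (.of Ω) ⟶ X // ξ ≫ f = η} → AddCommGrpCat.{u + 1} :=
    fun ξ ↦ (stalk ξ.1).obj F
  exact ⟨asIso (Pi.lift (fun ξ : {ξ : Spec (.of Ω) ⟶ X // ξ ≫ f = η} ↦ rho' f η ξ.1 ξ.2 F)) ≪≫
    (biproduct.isoProduct G).symm ≪≫ biproduct.isoCoproduct G⟩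

end Groth.Agent.H7.FinPush
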