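import Mathlib
import Groth.Agent.H7.EtaleLocal
import Groth.Agent.H7.EtaleNbhdResidue
import Groth.Agent.H7.PurelyInsepSplit

/-!
# Separating geometric points of a finite morphism by clopen subsets after étale localisation
-/

set_option autoImplicit false
set_option linter.style.haveILetI false
universe u

open AlgebraicGeometry CategoryTheory Limits

namespace Groth.Agent.H7.GeomSep

variable {X Y : Scheme.{u}} (f : X ⟶ Y) {Ω : Type u} [Field Ω] [IsSepClosed Ω]

/-- Case of distinct underlying points. -/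
theorem exists_sep_of_ne_pt [IsFinite f] (x₁ x₂ : Spec (.of Ω) ⟶ X) (h : x₁ ≫ f = x₂ ≫ f)
    (hne : x₁ default ≠ x₂ default) :
    ∃ (V : Scheme.{u}) (c : V ⟶ Y) (_ : Etale c) (v : Spec (.of Ω) ⟶ V) (hv : v ≫ c = x₁ ≫ f)
      (W : (pullback f c).Opens), IsClosed (W : Set ↥(pullback f c)) ∧
      (pullback.lift x₁ v hv.symm) default ∈ W ∧
      (pullback.lift x₂ v (h ▸ hv.symm)) default ∉ W := by
  let y : Y := (x₁ ≫ f) default
  let p : Fin 2 → X := ![x₁ default, x₂ default]
  have hp : ∀ i, f (p i) = y := by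
    intro i
    fin_cases i
    · rfl
    · change f (x₂ default) = (x₁ ≫ f) default
      rw [h]; rfl
  obtain ⟨U, g, u, hUaff, hg, hgu, hbij, V, v, hV⟩ :=
    Groth.Agent.H7.exists_etale_nbhd_finite_parts f y p hp (fun i ↦ f.quasiFiniteAt (p i))
  obtain ⟨l, hl1, hl2⟩ := Scheme.exists_fac_of_etale_of_isSepClosed g (x₁ ≫ f) u hgu
  refine ⟨U, g, hg, l, hl1, V 0, ?_, ?_, ?_⟩
  · exact Groth.Agent.H7.isClosed_of_isFinite_ι_comp (pullback.snd f g) (V 0) (hV 0).2.1
  · have h0 := hV 0
    have e : (pullback.lift x₁ l hl1.symm) default = v 0 := by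
      apply Groth.Agent.H7.eq_of_fst_eq_of_snd_eq f g
      · rw [← Scheme.Hom.comp_apply, pullback.lift_fst, h0.2.2.2.2]; rfl
      · rw [← Scheme.Hom.comp_apply, pullback.lift_snd, h0.2.2.1, hl2]
      · rw [h0.2.2.1]; exact hbij.2
    rw [e]; exact h0.1
  · intro hmem
    have h0 := hV 0
    have e : (pullback.lift x₂ l (h ▸ hl1.symm)) default = v 0 := by
      apply h0.2.2.2.1 _ hmem
      rw [← Scheme.Hom.comp_apply, pullback.lift_snd, hl2]
    have e1 : pullback.fst f g ((pullback.lift x₂ l (h ▸ hl1.symm)) default) = x₂ default := by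
      rw [← Scheme.Hom.comp_apply, pullback.lift_fst]
    rw [e, h0.2.2.2.2] at e1
    exact hne e1


/-- factor a field-valued point through the residue field of its image point. -/
theorem exists_fac_residueField {K' : Type u} [Field K'] {T : Scheme.{u}}
    (m : Spec (.of K') ⟶ T) (t₀ : T) (h : m (IsLocalRing.closedPoint K') = t₀) :
    ∃ β : T.residueField t₀ ⟶ .of K', m = Spec.map β ≫ T.fromSpecResidueField t₀ := by
  subst h
  exact ⟨T.descResidueField (Scheme.stalkClosedPointTo m),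
    (Scheme.descResidueField_stalkClosedPointTo_fromSpecResidueField K' T m).symm⟩

theorem default_eq_closedPoint (K' : Type u) [Field K'] :
    (default : Spec (.of K')) = IsLocalRing.closedPoint K' := Subsingleton.elim _ _

omit [IsSepClosed Ω] in
/-- Case of equal underlying points: after an étale base change the points become distinct. -/
theorem exists_ne_pt_of_eq_pt [IsFinite f] (x₁ x₂ : Spec (.of Ω) ⟶ X) (h : x₁ ≫ f = x₂ ≫ f)
    (hne : x₁ ≠ x₂) (hpt : x₁ default = x₂ default) :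
    ∃ (V : Scheme.{u}) (c : V ⟶ Y) (_ : Etale c) (v : Spec (.of Ω) ⟶ V) (hv : v ≫ c = x₁ ≫ f),
      (pullback.lift x₁ v hv.symm) default ≠ (pullback.lift x₂ v (h ▸ hv.symm)) default := by
  let p : X := x₁ default
  obtain ⟨φ₁, hφ₁⟩ := exists_fac_residueField x₁ p (by rw [← default_eq_closedPoint])
  obtain ⟨φ₂, hφ₂⟩ := exists_fac_residueField x₂ p (by rw [← default_eq_closedPoint]; exact hpt.symm)
  have hφne : φ₁ ≠ φ₂ := fun e ↦ hne (by rw [hφ₁, hφ₂, e])
  have hcomp : ∀ φ : X.residueField p ⟶ .of Ω, (Spec.map φ ≫ X.fromSpecResidueField p) ≫ f =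
      Spec.map (f.residueFieldMap p ≫ φ) ≫ Y.fromSpecResidueField (f p) := by
    intro φ
    rw [Category.assoc, ← Scheme.Hom.SpecMap_residueFieldMap_fromSpecResidueField, Spec.map_comp,
      Category.assoc]
  have hψ : f.residueFieldMap p ≫ φ₁ = f.residueFieldMap p ≫ φ₂ := by
    have h1 : Spec.map (f.residueFieldMap p ≫ φ₁) ≫ Y.fromSpecResidueField (f p) =
        Spec.map (f.residueFieldMap p ≫ φ₂) ≫ Y.fromSpecResidueField (f p) := by
      rw [← hcomp, ← hcomp, ← hφ₁, ← hφ₂, h]
    exact Spec.map_injective ((cancel_mono _).1 h1)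
  -- algebra structures
  let k := Y.residueField (f p)
  let K := X.residueField p
  have hfin : (f.residueFieldMap p).hom.Finite :=
    Groth.Agent.H7.finite_residueFieldMap_of_quasiFiniteAt f p (f.quasiFiniteAt p)
  letI : Algebra k K := (f.residueFieldMap p).hom.toAlgebra
  haveI : Module.Finite k K := hfin
  letI : Algebra k Ω := (f.residueFieldMap p ≫ φ₁).hom.toAlgebra
  let φ₁a : K →ₐ[k] Ω := { φ₁.hom with commutes' := fun r ↦ rfl }
  let φ₂a : K →ₐ[k] Ω := { φ₂.hom with commutes' := fun r ↦ (congr($(hψ).hom r)).symm }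
  -- a separable element on which the two maps differ
  obtain ⟨a, hasep, hane⟩ : ∃ a : K, IsSeparable k a ∧ φ₁.hom a ≠ φ₂.hom a := by
    by_contra hcon
    push Not at hcon
    apply hφne
    ext1
    haveI : IsPurelyInseparable (separableClosure k K) K := inferInstance
    apply IsPurelyInseparable.injective_comp_algebraMap (separableClosure k K) K Ω
    ext ⟨a, ha⟩
    exact hcon a (mem_separableClosure_iff.1 ha)
  let α : Ω := φ₁.hom a
  have hα : IsSeparable k α := by
    have : minpoly k (φ₁a a) = minpoly k a := minpoly.algHom_eq φ₁a φ₁a.injective a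
    change (minpoly k (φ₁a a)).Separable
    rw [this]
    exact hasep
  let L : IntermediateField k Ω := IntermediateField.adjoin k {α}
  haveI : FiniteDimensional k L := IntermediateField.adjoin.finiteDimensional hα.isIntegral
  haveI : Algebra.IsSeparable k L :=
    (IntermediateField.isSeparable_adjoin_simple_iff_isSeparable k Ω).2 hα
  obtain ⟨U, g, t, hUaff, hg, hmono, ht⟩ := Groth.Agent.H7.exists_etale_nbhd_Spec_field Y (f p) L
  let u : U := t (IsLocalRing.closedPoint L)
  let δ : U.residueField u ⟶ .of L := U.descResidueField (Scheme.stalkClosedPointTo t)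
  have hδ : Spec.map δ ≫ U.fromSpecResidueField u = t :=
    Scheme.descResidueField_stalkClosedPointTo_fromSpecResidueField L U t
  have hδsurj : Function.Surjective δ.hom := by
    have hδmono : Mono (Spec.map δ) := by
      have : Mono (Spec.map δ ≫ U.fromSpecResidueField u) := hδ ▸ hmono
      exact mono_of_mono _ (U.fromSpecResidueField u)
    have hδepi : Epi δ := by
      have : Mono δ.op := Scheme.Spec.mono_of_mono_map hδmono
      exact unop_epi_of_mono δ.op
    exact @Groth.Agent.H7.surjective_of_epi_of_field' (IsLocalRing.ResidueField _) _ _ _ δ hδepi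
  let incl : CommRingCat.of L ⟶ CommRingCat.of Ω := CommRingCat.ofHom (algebraMap L Ω)
  let v : Spec (.of Ω) ⟶ U := Spec.map incl ≫ t
  have hv : v ≫ g = x₁ ≫ f := by
    rw [hφ₁, hcomp, Category.assoc, ht, ← Category.assoc, ← Spec.map_comp]
    rfl
  refine ⟨U, g, hg, v, hv, ?_⟩
  intro hz
  set zA := pullback.lift x₁ v hv.symm with hzA
  set zB := pullback.lift x₂ v (h ▸ hv.symm) with hzB
  let z : ↥(pullback f g) := zA default
  obtain ⟨ε₁, hε₁⟩ := exists_fac_residueField zA z (by rw [← default_eq_closedPoint])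
  obtain ⟨ε₂, hε₂⟩ := exists_fac_residueField zB z (by rw [← default_eq_closedPoint]; exact hz.symm)
  let ιz := (pullback f g).fromSpecResidueField z
  have hz1 : (ιz ≫ pullback.fst f g) (IsLocalRing.closedPoint _) = p := by
    rw [Scheme.Hom.comp_apply, Scheme.fromSpecResidueField_apply]
    change pullback.fst f g (zA default) = x₁ default
    rw [← Scheme.Hom.comp_apply, pullback.lift_fst]
  have hz2 : (ιz ≫ pullback.snd f g) (IsLocalRing.closedPoint _) = u := by
    rw [Scheme.Hom.comp_apply, Scheme.fromSpecResidueField_apply]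
    change pullback.snd f g (zA default) = _
    rw [← Scheme.Hom.comp_apply, pullback.lift_snd]
    change t (Spec.map incl default) = _
    congr 1
    exact Subsingleton.elim _ _
  obtain ⟨β₁, hβ₁⟩ := exists_fac_residueField (ιz ≫ pullback.fst f g) p hz1
  obtain ⟨β₂, hβ₂⟩ := exists_fac_residueField (ιz ≫ pullback.snd f g) u hz2
  have e1 : ∀ (ε : (pullback f g).residueField z ⟶ .of Ω) (φ : X.residueField p ⟶ .of Ω)
      (zz : Spec (.of Ω) ⟶ pullback f g), zz = Spec.map ε ≫ ιz →
      zz ≫ pullback.fst f g = Spec.map φ ≫ X.fromSpecResidueField p → β₁ ≫ ε = φ := by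
    intro ε φ zz hzz hfst
    apply Spec.map_injective
    rw [← cancel_mono (X.fromSpecResidueField p)]
    calc Spec.map (β₁ ≫ ε) ≫ X.fromSpecResidueField p
        = Spec.map ε ≫ (Spec.map β₁ ≫ X.fromSpecResidueField p) :=
          (congrArg (fun t ↦ t ≫ X.fromSpecResidueField p) (Spec.map_comp β₁ ε)).trans
            (Category.assoc _ _ _)
      _ = Spec.map ε ≫ (ιz ≫ pullback.fst f g) := congrArg (fun t ↦ Spec.map ε ≫ t) hβ₁.symm
      _ = (Spec.map ε ≫ ιz) ≫ pullback.fst f g := (Category.assoc _ _ _).symm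
      _ = zz ≫ pullback.fst f g := congrArg (fun t ↦ t ≫ pullback.fst f g) hzz.symm
      _ = _ := hfst
  have e2 : ∀ (ε : (pullback f g).residueField z ⟶ .of Ω)
      (zz : Spec (.of Ω) ⟶ pullback f g), zz = Spec.map ε ≫ ιz →
      zz ≫ pullback.snd f g = v → β₂ ≫ ε = δ ≫ incl := by
    intro ε zz hzz hsnd
    apply Spec.map_injective
    rw [← cancel_mono (U.fromSpecResidueField u)]
    calc Spec.map (β₂ ≫ ε) ≫ U.fromSpecResidueField u
        = Spec.map ε ≫ (Spec.map β₂ ≫ U.fromSpecResidueField u) :=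
          (congrArg (fun t ↦ t ≫ U.fromSpecResidueField u) (Spec.map_comp β₂ ε)).trans
            (Category.assoc _ _ _)
      _ = Spec.map ε ≫ (ιz ≫ pullback.snd f g) := congrArg (fun t ↦ Spec.map ε ≫ t) hβ₂.symm
      _ = (Spec.map ε ≫ ιz) ≫ pullback.snd f g := (Category.assoc _ _ _).symm
      _ = zz ≫ pullback.snd f g := congrArg (fun t ↦ t ≫ pullback.snd f g) hzz.symm
      _ = Spec.map incl ≫ t := hsnd
      _ = Spec.map incl ≫ (Spec.map δ ≫ U.fromSpecResidueField u) :=
          congrArg (fun t' ↦ Spec.map incl ≫ t') hδ.symm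
      _ = _ := by rw [Spec.map_comp, Category.assoc]
  have h11 := e1 ε₁ φ₁ zA hε₁ (by rw [hzA, pullback.lift_fst]; exact hφ₁)
  have h12 := e1 ε₂ φ₂ zB hε₂ (by rw [hzB, pullback.lift_fst]; exact hφ₂)
  have h21 := e2 ε₁ zA hε₁ (by rw [hzA, pullback.lift_snd])
  have h22 := e2 ε₂ zB hε₂ (by rw [hzB, pullback.lift_snd])
  obtain ⟨b, hb⟩ := hδsurj ⟨α, IntermediateField.mem_adjoin_simple_self k α⟩
  have hbα : incl.hom (δ.hom b) = α := congrArg incl.hom hb
  have hη1 : ε₁.hom (β₁.hom a - β₂.hom b) = 0 := by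
    have a1 : ε₁.hom (β₁.hom a) = φ₁.hom a := congr($(h11).hom a)
    have a2 : ε₁.hom (β₂.hom b) = incl.hom (δ.hom b) := congr($(h21).hom b)
    exact (map_sub ε₁.hom (β₁.hom a) (β₂.hom b)).trans
      ((congrArg₂ (fun s t ↦ s - t) a1 (a2.trans hbα)).trans (sub_self α))
  have hη0 : β₁.hom a - β₂.hom b = 0 := (map_eq_zero_iff ε₁.hom ε₁.hom.injective).1 hη1
  have hη2 : ε₂.hom (β₁.hom a) - ε₂.hom (β₂.hom b) = 0 :=
    (map_sub ε₂.hom (β₁.hom a) (β₂.hom b)).symm.trans
      ((congrArg ε₂.hom hη0).trans (map_zero ε₂.hom))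
  have a1 : ε₂.hom (β₁.hom a) = φ₂.hom a := congr($(h12).hom a)
  have a2 : ε₂.hom (β₂.hom b) = incl.hom (δ.hom b) := congr($(h22).hom b)
  exact hane (a1.symm.trans ((sub_eq_zero.1 hη2).trans (a2.trans hbα))).symm


/-- **Separation of geometric points.** Two distinct geometric points of `X` over the same
geometric point of `Y` (`f` finite) are separated by a clopen subset of `X ×_Y V` for a suitable
étale neighbourhood `V` of the geometric point of `Y`. -/
theorem exists_sep [IsFinite f] (x₁ x₂ : Spec (.of Ω) ⟶ X) (h : x₁ ≫ f = x₂ ≫ f)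
    (hne : x₁ ≠ x₂) :
    ∃ (V : Scheme.{u}) (c : V ⟶ Y) (_ : Etale c) (v : Spec (.of Ω) ⟶ V) (hv : v ≫ c = x₁ ≫ f)
      (W : (pullback f c).Opens), IsClosed (W : Set ↥(pullback f c)) ∧
      (pullback.lift x₁ v hv.symm) default ∈ W ∧
      (pullback.lift x₂ v (h ▸ hv.symm)) default ∉ W := by
  by_cases hpt : x₁ default = x₂ default
  · obtain ⟨V₁, c₁, hc₁, v₁, hv₁, hzne⟩ := exists_ne_pt_of_eq_pt f x₁ x₂ h hne hpt
    let f₁ := pullback.snd f c₁
    let zA : Spec (.of Ω) ⟶ pullback f c₁ := pullback.lift x₁ v₁ hv₁.symm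
    let zB : Spec (.of Ω) ⟶ pullback f c₁ := pullback.lift x₂ v₁ (h ▸ hv₁.symm)
    have hA : zA ≫ f₁ = v₁ := pullback.lift_snd _ _ _
    have hB : zB ≫ f₁ = v₁ := pullback.lift_snd _ _ _
    obtain ⟨V₂, c₂, hc₂, v₂, hv₂, W₂, hW₂, hmem, hnmem⟩ :=
      exists_sep_of_ne_pt f₁ zA zB (hA.trans hB.symm) hzne
    have hv : v₂ ≫ c₂ ≫ c₁ = x₁ ≫ f := by
      rw [← Category.assoc, hv₂, hA, hv₁]
    let e : pullback f₁ c₂ ≅ pullback f (c₂ ≫ c₁) := pullbackLeftPullbackSndIso f c₁ c₂
    have key : ∀ (x : Spec (.of Ω) ⟶ X) (hx : x ≫ f = v₁ ≫ c₁) (hx' : x ≫ f = v₂ ≫ c₂ ≫ c₁)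
        (hz : pullback.lift x v₁ hx ≫ f₁ = v₂ ≫ c₂),
        e.inv ((pullback.lift x v₂ hx') default) =
          (pullback.lift (pullback.lift x v₁ hx) v₂ hz) default := by
      intro x hx hx' hz
      have : pullback.lift x v₂ hx' = pullback.lift (pullback.lift x v₁ hx) v₂ hz ≫ e.hom := by
        apply pullback.hom_ext
        · rw [pullback.lift_fst, Category.assoc, pullbackLeftPullbackSndIso_hom_fst,
            pullback.lift_fst_assoc, pullback.lift_fst]
        · rw [pullback.lift_snd, Category.assoc, pullbackLeftPullbackSndIso_hom_snd,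
            pullback.lift_snd]
      rw [this, Scheme.Hom.comp_apply, ← Scheme.Hom.comp_apply, Iso.hom_inv_id]
      rfl
    haveI : Etale c₂ := hc₂
    haveI : Etale c₁ := hc₁
    refine ⟨V₂, c₂ ≫ c₁, inferInstance, v₂, hv, e.inv ⁻¹ᵁ W₂, ?_, ?_, ?_⟩
    · exact hW₂.preimage e.inv.continuous
    · change e.inv _ ∈ W₂
      rw [key x₁ hv₁.symm hv.symm (by rw [hA]; exact (hv₂.trans hA).symm)]
      exact hmem
    · change e.inv _ ∉ W₂
      rw [key x₂ (h ▸ hv₁.symm) (h ▸ hv.symm) (by rw [hB]; exact (hv₂.trans hA).symm)]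
      exact hnmem
  · exact exists_sep_of_ne_pt f x₁ x₂ h hpt

end Groth.Agent.H7.GeomSep
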