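import Groth.Agent.H7.FinPushInj
import Groth.Agent.H7.GeomSep
import Groth.Agent.H7.PropAIntegral

/-!
# Geometric points and the stalk of the push-forward along a finite morphism: surjectivity
-/

set_option autoImplicit false
set_option linter.style.haveILetI false
universe u

open AlgebraicGeometry CategoryTheory Limits Opposite EtCoh
open Groth.Agent.H4.Stalks Groth.Agent.H4.StalkPull Groth.Agent.H4.GlueSec

namespace Groth.Agent.H7.FinPush

variable {X Y : Scheme.{u}} (f : X ⟶ Y) {Ω : Type u} [Field Ω] [IsSepClosed Ω]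

section ptFib

/-- The `Ω`-point of `X ×_Y V` determined by a geometric point `x` of `X` over `y` and an element
`v` of the fibre of `y` at `V`. -/
noncomputable def ptFib (y : Spec (.of Ω) ⟶ Y) (x : Spec (.of Ω) ⟶ X) (hx : x ≫ f = y)
    {V : Y.Etale} (v : Fib y V) : Fib x ((bc f).obj V) :=
  Over.homMk (pullback.lift v.left x (by rw [hx]; exact Over.w v)) (pullback.lift_snd _ _ _)

theorem ptFib_left_fst (y : Spec (.of Ω) ⟶ Y) (x : Spec (.of Ω) ⟶ X) (hx : x ≫ f = y)
    {V : Y.Etale} (v : Fib y V) :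
    (ptFib f y x hx v).left ≫ pullback.fst V.hom f = v.left := pullback.lift_fst _ _ _

theorem ptFib_left_snd (y : Spec (.of Ω) ⟶ Y) (x : Spec (.of Ω) ⟶ X) (hx : x ≫ f = y)
    {V : Y.Etale} (v : Fib y V) :
    (ptFib f y x hx v).left ≫ pullback.snd V.hom f = x := pullback.lift_snd _ _ _

theorem fib_ext {x : Spec (.of Ω) ⟶ X} {U : X.Etale} (a b : Fib x U) (h : a.left = b.left) :
    a = b := Over.OverMorphism.ext h

theorem ptFib_eq_of_left (y : Spec (.of Ω) ⟶ Y) (x : Spec (.of Ω) ⟶ X) (hx : x ≫ f = y)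
    {V : Y.Etale} (v : Fib y V) (a : Fib x ((bc f).obj V))
    (h1 : a.left ≫ pullback.fst V.hom f = v.left) : a = ptFib f y x hx v := by
  apply fib_ext
  apply pullback.hom_ext
  · exact h1.trans (ptFib_left_fst f y x hx v).symm
  · exact (Over.w a).trans (ptFib_left_snd f y x hx v).symm

theorem ptFib_map (y : Spec (.of Ω) ⟶ Y) (x : Spec (.of Ω) ⟶ X) (hx : x ≫ f = y)
    {V₁ V : Y.Etale} (c : V₁ ⟶ V) (v₁ : Fib y V₁) :
    (Scheme.pointSmallEtale x).fiber.map ((bc f).map c) (ptFib f y x hx v₁) =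
      ptFib f y x hx ((Scheme.pointSmallEtale y).fiber.map c v₁) := by
  apply ptFib_eq_of_left
  exact calc ((ptFib f y x hx v₁).left ≫ ((bc f).map c).left) ≫ pullback.fst V.hom f
      = (ptFib f y x hx v₁).left ≫ (((bc f).map c).left ≫ pullback.fst V.hom f) :=
        Category.assoc _ _ _
    _ = (ptFib f y x hx v₁).left ≫ (pullback.fst V₁.hom f ≫ c.left) :=
        congrArg (fun t ↦ (ptFib f y x hx v₁).left ≫ t) (bc_map_left_fst f c)
    _ = ((ptFib f y x hx v₁).left ≫ pullback.fst V₁.hom f) ≫ c.left := (Category.assoc _ _ _).symm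
    _ = v₁.left ≫ c.left := congrArg (fun t ↦ t ≫ c.left) (ptFib_left_fst f y x hx v₁)

theorem ptFib_pt_map (y : Spec (.of Ω) ⟶ Y) (x : Spec (.of Ω) ⟶ X) (hx : x ≫ f = y)
    {V₁ V : Y.Etale} (c : V₁ ⟶ V) (v₁ : Fib y V₁) :
    (ptFib f y x hx ((Scheme.pointSmallEtale y).fiber.map c v₁)).pt =
      ((bc f).map c).left (ptFib f y x hx v₁).pt := by
  rw [← ptFib_map]
  rfl

theorem fibPull_eq_ptFib (x : Spec (.of Ω) ⟶ X) {V : Y.Etale} (v : Fib (x ≫ f) V) :
    fibPull f x v = ptFib f (x ≫ f) x rfl v :=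
  ptFib_eq_of_left f _ x rfl v _ (fibPull_left_fst f x v)

/-- `ρ` with the base geometric point given up to a propositional equality. -/
noncomputable def rho' (y : Spec (.of Ω) ⟶ Y) (x : Spec (.of Ω) ⟶ X) (hx : x ≫ f = y)
    (F : Ab X) : (stalk y).obj ((push f).obj F) ⟶ (stalk x).obj F := by
  subst hx
  exact rho f x F

theorem rho'_germ (y : Spec (.of Ω) ⟶ Y) (x : Spec (.of Ω) ⟶ X) (hx : x ≫ f = y) (F : Ab X)
    {V : Y.Etale} (v : Fib y V) (s : F.obj.obj (op ((bc f).obj V))) :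
    rho' f y x hx F (germ ((push f).obj F) v s) = germ F (ptFib f y x hx v) s := by
  subst hx
  change rho f x F _ = _
  rw [rho_germ, fibPull_eq_ptFib]

theorem fiber_map_opnι_injective {x : Spec (.of Ω) ⟶ X} (P : X.Etale) (W : P.left.Opens)
    (a b : Fib x (opn P W))
    (h : (Scheme.pointSmallEtale x).fiber.map (opnι P W) a =
      (Scheme.pointSmallEtale x).fiber.map (opnι P W) b) : a = b := by
  apply fib_ext
  have h1 : a.left ≫ W.ι = b.left ≫ W.ι := congrArg (fun t : Fib x P ↦ t.left) h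
  exact (cancel_mono W.ι).1 h1

theorem pt_mem_of_fiber_map_opnι {x : Spec (.of Ω) ⟶ X} (P : X.Etale) (W : P.left.Opens)
    (a : Fib x (opn P W)) :
    Fib.pt (ξ := x) ((Scheme.pointSmallEtale x).fiber.map (opnι P W) a) ∈ W :=
  (Fib.pt a : ↥W).2

end ptFib

section inj'

/-- **Injectivity**, in terms of `ptFib`. -/
theorem germ_push_eq_zero' [IsAlgClosed Ω] [IsIntegralHom f] (y : Spec (.of Ω) ⟶ Y) (F : Ab X)
    {V : Y.Etale} (v : Fib y V) (s : F.obj.obj (op ((bc f).obj V)))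
    (h : ∀ (x : Spec (.of Ω) ⟶ X) (hx : x ≫ f = y), germ F (ptFib f y x hx v) s = 0) :
    germ ((push f).obj F) v s = 0 := by
  apply germ_push_eq_zero f y F v s
  intro w hw
  have hx : (w ≫ pullback.snd V.hom f) ≫ f = y :=
    calc (w ≫ pullback.snd V.hom f) ≫ f = w ≫ (pullback.snd V.hom f ≫ f) := Category.assoc _ _ _
      _ = w ≫ (pullback.fst V.hom f ≫ V.hom) := congrArg (fun t ↦ w ≫ t) pullback.condition.symm
      _ = (w ≫ pullback.fst V.hom f) ≫ V.hom := (Category.assoc _ _ _).symm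
      _ = v.left ≫ V.hom := congrArg (fun t ↦ t ≫ V.hom) hw
      _ = y := Over.w v
  have e : mkFib (U := (bc f).obj V) w = ptFib f y (w ≫ pullback.snd V.hom f) hx v :=
    ptFib_eq_of_left f y _ hx v _ hw
  rw [e]
  exact h _ hx

end inj'

section pointed

/-- Pointed form of condition (A) for integral morphisms. -/
theorem exists_pointed_nbhd [IsIntegralHom f] (y : Spec (.of Ω) ⟶ Y) (x : Spec (.of Ω) ⟶ X)
    (hx : x ≫ f = y) {U : X.Etale} (ū : Fib x U) :
    ∃ (V : Y.Etale) (v : Fib y V) (W : ((bc f).obj V).left.Opens),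
      IsClosed (W : Set ((bc f).obj V).left) ∧
      ∃ (k : opn ((bc f).obj V) W ⟶ U) (w : Fib x (opn ((bc f).obj V) W)),
        (Scheme.pointSmallEtale x).fiber.map (opnι _ W) w = ptFib f y x hx v ∧
        (Scheme.pointSmallEtale x).fiber.map k w = ū := by
  subst hx
  haveI : Etale U.hom := U.prop
  obtain ⟨Vs, c, hc, W₀, hW₀, h, hh, w₀, hw₀⟩ :=
    Groth.Agent.H7.propA_of_isIntegralHom f U.left U.hom ū.pt
  haveI : Etale c := hc
  haveI : Etale (h ≫ U.hom) := by rw [hh]; infer_instance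
  haveI : Etale h := Etale.of_comp h U.hom
  obtain ⟨l, hl1, hl2⟩ := Scheme.exists_fac_of_etale_of_isSepClosed h ū.left w₀ hw₀
  have hlx : l ≫ W₀.ι ≫ pullback.fst f c = x :=
    calc l ≫ W₀.ι ≫ pullback.fst f c = l ≫ (h ≫ U.hom) := congrArg (fun t ↦ l ≫ t) hh.symm
      _ = (l ≫ h) ≫ U.hom := (Category.assoc _ _ _).symm
      _ = ū.left ≫ U.hom := congrArg (fun t ↦ t ≫ U.hom) hl1
      _ = x := Over.w ū
  let V : Y.Etale := Scheme.Etale.mk c
  let v : Fib (x ≫ f) V := Over.homMk (l ≫ W₀.ι ≫ pullback.snd f c) (by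
    change (l ≫ W₀.ι ≫ pullback.snd f c) ≫ c = x ≫ f
    rw [Category.assoc, Category.assoc, ← pullback.condition, ← Category.assoc, ← Category.assoc,
      Category.assoc l, hlx])
  let sym : pullback c f ⟶ pullback f c := (pullbackSymmetry c f).hom
  have hsym1 : sym ≫ pullback.fst f c = pullback.snd c f := pullbackSymmetry_hom_comp_fst c f
  have hsym2 : sym ≫ pullback.snd f c = pullback.fst c f := pullbackSymmetry_hom_comp_snd c f
  let W : (pullback c f).Opens := sym ⁻¹ᵁ W₀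
  have hWcl : IsClosed (W : Set ↥(pullback c f)) := hW₀.preimage sym.continuous
  let kl : (W : Scheme.{u}) ⟶ U.left := (sym ∣_ W₀) ≫ h
  have hres : (sym ∣_ W₀) ≫ W₀.ι = W.ι ≫ sym := morphismRestrict_ι _ _
  have hk : kl ≫ U.hom = W.ι ≫ pullback.snd c f := by
    calc kl ≫ U.hom = (sym ∣_ W₀) ≫ (h ≫ U.hom) := Category.assoc _ _ _
      _ = (sym ∣_ W₀) ≫ (W₀.ι ≫ pullback.fst f c) := by rw [hh]
      _ = ((sym ∣_ W₀) ≫ W₀.ι) ≫ pullback.fst f c := (Category.assoc _ _ _).symm
      _ = (W.ι ≫ sym) ≫ pullback.fst f c := by rw [hres]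
      _ = W.ι ≫ pullback.snd c f := by rw [Category.assoc, hsym1]
  let k : opn ((bc f).obj V) W ⟶ U := MorphismProperty.Over.homMk kl hk trivial
  let pt : Spec (.of Ω) ⟶ pullback c f := (ptFib f (x ≫ f) x rfl v).left
  have hpt1 : pt ≫ pullback.fst c f = l ≫ W₀.ι ≫ pullback.snd f c := ptFib_left_fst f _ x rfl v
  have hpt2 : pt ≫ pullback.snd c f = x := ptFib_left_snd f _ x rfl v
  have hptsym : pt ≫ sym = l ≫ W₀.ι := by
    apply pullback.hom_ext
    · rw [Category.assoc, hsym1, hpt2, Category.assoc, hlx]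
    · rw [Category.assoc, hsym2, hpt1, Category.assoc]
  have hmem : (ptFib f (x ≫ f) x rfl v).pt ∈ W := by
    change sym (pt default) ∈ W₀
    rw [← Scheme.Hom.comp_apply, hptsym, Scheme.Hom.comp_apply]
    exact (l default).2
  obtain ⟨w, hw1, -⟩ := Fib.exists_lift (opnι ((bc f).obj V) W) (ptFib f (x ≫ f) x rfl v)
    ⟨_, hmem⟩ rfl
  refine ⟨V, v, W, hWcl, k, w, hw1, ?_⟩
  apply fib_ext
  change w.left ≫ kl = ū.left
  have hwι : w.left ≫ W.ι = pt := congrArg (fun t : Fib x ((bc f).obj V) ↦ t.left) hw1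
  have h1 : w.left ≫ (sym ∣_ W₀) = l := by
    rw [← cancel_mono W₀.ι]
    exact calc (w.left ≫ (sym ∣_ W₀)) ≫ W₀.ι = w.left ≫ ((sym ∣_ W₀) ≫ W₀.ι) :=
          Category.assoc _ _ _
      _ = w.left ≫ (W.ι ≫ sym) := congrArg (fun t ↦ w.left ≫ t) hres
      _ = (w.left ≫ W.ι) ≫ sym := (Category.assoc _ _ _).symm
      _ = pt ≫ sym := congrArg (fun t ↦ t ≫ sym) hwι
      _ = l ≫ W₀.ι := hptsym
  exact calc w.left ≫ kl = (w.left ≫ (sym ∣_ W₀)) ≫ h := (Category.assoc _ _ _).symm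
    _ = l ≫ h := congrArg (fun t ↦ t ≫ h) h1
    _ = ū.left := hl1

/-- Separation of geometric points, in the language of the small étale sites. -/
theorem exists_sep_et [IsFinite f] (y : Spec (.of Ω) ⟶ Y) (x₁ x₂ : Spec (.of Ω) ⟶ X)
    (h₁ : x₁ ≫ f = y) (h₂ : x₂ ≫ f = y) (hne : x₁ ≠ x₂) :
    ∃ (V : Y.Etale) (v : Fib y V) (W : ((bc f).obj V).left.Opens),
      IsClosed (W : Set ((bc f).obj V).left) ∧ (ptFib f y x₁ h₁ v).pt ∈ W ∧
      (ptFib f y x₂ h₂ v).pt ∉ W := by
  obtain ⟨Vs, c, hc, v₀, hv₀, W₀, hW₀, hmem, hnmem⟩ :=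
    Groth.Agent.H7.GeomSep.exists_sep f x₁ x₂ (h₁.trans h₂.symm) hne
  haveI : Etale c := hc
  let V : Y.Etale := Scheme.Etale.mk c
  let v : Fib y V := Over.homMk v₀ (hv₀.trans h₁)
  let sym : pullback c f ⟶ pullback f c := (pullbackSymmetry c f).hom
  have hsym1 : sym ≫ pullback.fst f c = pullback.snd c f := pullbackSymmetry_hom_comp_fst c f
  have hsym2 : sym ≫ pullback.snd f c = pullback.fst c f := pullbackSymmetry_hom_comp_snd c f
  have key : ∀ (x : Spec (.of Ω) ⟶ X) (hx : x ≫ f = y) (hx' : x ≫ f = v₀ ≫ c),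
      sym ((ptFib f y x hx v).pt) = (pullback.lift x v₀ hx') default := by
    intro x hx hx'
    have : (ptFib f y x hx v).left ≫ sym = pullback.lift x v₀ hx' := by
      apply pullback.hom_ext
      · exact ((Category.assoc _ _ _).trans (congrArg (fun t ↦ (ptFib f y x hx v).left ≫ t)
          hsym1)).trans ((ptFib_left_snd f y x hx v).trans (pullback.lift_fst _ _ _).symm)
      · exact ((Category.assoc _ _ _).trans (congrArg (fun t ↦ (ptFib f y x hx v).left ≫ t)
          hsym2)).trans ((ptFib_left_fst f y x hx v).trans (pullback.lift_snd _ _ _).symm)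
    rw [← this]
    rfl
  refine ⟨V, v, sym ⁻¹ᵁ W₀, hW₀.preimage sym.continuous, ?_, ?_⟩
  · change sym _ ∈ W₀
    rw [key x₁ h₁ hv₀.symm]
    exact hmem
  · change sym _ ∉ W₀
    rw [key x₂ h₂ (h₂.trans (hv₀.trans h₁).symm)]
    exact hnmem

end pointed


section good

/-- Refinement of pointed clopen data along a morphism of étale neighbourhoods. -/
theorem good_refine (y : Spec (.of Ω) ⟶ Y) (x : Spec (.of Ω) ⟶ X) (hx : x ≫ f = y)
    {U : X.Etale} (ū : Fib x U) {V₁ V : Y.Etale} (c : V₁ ⟶ V) (v₁ : Fib y V₁) (v : Fib y V)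
    (hv : (Scheme.pointSmallEtale y).fiber.map c v₁ = v) (W : ((bc f).obj V).left.Opens)
    (k : opn ((bc f).obj V) W ⟶ U) (w : Fib x (opn ((bc f).obj V) W))
    (hw1 : (Scheme.pointSmallEtale x).fiber.map (opnι _ W) w = ptFib f y x hx v)
    (hw2 : (Scheme.pointSmallEtale x).fiber.map k w = ū)
    (W' : ((bc f).obj V₁).left.Opens) (hW' : W' ≤ ((bc f).map c).left ⁻¹ᵁ W)
    (hmem : (ptFib f y x hx v₁).pt ∈ W') :
    ∃ (k' : opn ((bc f).obj V₁) W' ⟶ U) (w' : Fib x (opn ((bc f).obj V₁) W')),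
      (Scheme.pointSmallEtale x).fiber.map (opnι _ W') w' = ptFib f y x hx v₁ ∧
      (Scheme.pointSmallEtale x).fiber.map k' w' = ū := by
  obtain ⟨r, hr⟩ := exists_lift_opn ((bc f).obj V) W (opnι _ W' ≫ (bc f).map c) (by
    rintro _ ⟨z, rfl⟩
    exact hW' (z : ↥W').2)
  obtain ⟨w', hw'1, -⟩ := Fib.exists_lift (opnι ((bc f).obj V₁) W') (ptFib f y x hx v₁)
    ⟨_, hmem⟩ rfl
  refine ⟨r ≫ k, w', hw'1, ?_⟩
  have h1 : (Scheme.pointSmallEtale x).fiber.map r w' = w := by
    apply fiber_map_opnι_injective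
    rw [hw1, ← hv, ← ptFib_map, ← hw'1]
    have := congrArg (fun t ↦ (Scheme.pointSmallEtale x).fiber.map t w') hr
    simp only [Functor.map_comp] at this
    exact this
  rw [Functor.map_comp]
  change (Scheme.pointSmallEtale x).fiber.map k ((Scheme.pointSmallEtale x).fiber.map r w') = ū
  rw [h1, hw2]

/-- A clopen neighbourhood of the geometric point `x`, mapping to a given étale neighbourhood of
`x` in a pointed way and avoiding finitely many other geometric points. -/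
theorem exists_good_clopen [IsFinite f] (y : Spec (.of Ω) ⟶ Y) (x : Spec (.of Ω) ⟶ X)
    (hx : x ≫ f = y) {U : X.Etale} (ū : Fib x U) (S : Set (Spec (.of Ω) ⟶ X)) (hSfin : S.Finite)
    (hS : ∀ x' ∈ S, x' ≠ x) :
    ∃ (V : Y.Etale) (v : Fib y V) (W : ((bc f).obj V).left.Opens),
      IsClosed (W : Set ((bc f).obj V).left) ∧
      (∃ (k : opn ((bc f).obj V) W ⟶ U) (w : Fib x (opn ((bc f).obj V) W)),
        (Scheme.pointSmallEtale x).fiber.map (opnι _ W) w = ptFib f y x hx v ∧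
        (Scheme.pointSmallEtale x).fiber.map k w = ū) ∧
      ∀ x' ∈ S, ∀ hx' : x' ≫ f = y, (ptFib f y x' hx' v).pt ∉ W := by
  induction S, hSfin using Set.Finite.induction_on with
  | empty =>
    obtain ⟨V, v, W, hW, k, w, h1, h2⟩ := exists_pointed_nbhd f y x hx ū
    exact ⟨V, v, W, hW, ⟨k, w, h1, h2⟩, fun x' hx' ↦ (Set.notMem_empty x' hx').elim⟩
  | @insert x' S hx'S hSfin IH =>
    obtain ⟨Va, va, Wa, hWa, ⟨ka, wa, ha1, ha2⟩, hexa⟩ :=
      IH (fun z hz ↦ hS z (Set.mem_insert_of_mem _ hz))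
    by_cases hx' : x' ≫ f = y
    · have hne : x ≠ x' := (hS x' (Set.mem_insert _ _)).symm
      obtain ⟨Vb, vb, Wb, hWb, hmemb, hnmemb⟩ := exists_sep_et f y x x' hx hx' hne
      -- common refinement
      let ea : (Scheme.pointSmallEtale y).fiber.Elements := ⟨Va, va⟩
      let eb : (Scheme.pointSmallEtale y).fiber.Elements := ⟨Vb, vb⟩
      let m : (Scheme.pointSmallEtale y).fiber.Elements := IsCofiltered.min ea eb
      let l : m ⟶ ea := IsCofiltered.minToLeft _ _
      let r : m ⟶ eb := IsCofiltered.minToRight _ _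
      let V : Y.Etale := m.1
      let v : Fib y V := m.2
      let ca : V ⟶ Va := l.1
      let cb : V ⟶ Vb := r.1
      have hva : (Scheme.pointSmallEtale y).fiber.map ca v = va := l.2
      have hvb : (Scheme.pointSmallEtale y).fiber.map cb v = vb := r.2
      let W : ((bc f).obj V).left.Opens :=
        ((bc f).map ca).left ⁻¹ᵁ Wa ⊓ ((bc f).map cb).left ⁻¹ᵁ Wb
      have hWcl : IsClosed (W : Set ((bc f).obj V).left) :=
        (hWa.preimage ((bc f).map ca).left.continuous).inter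
          (hWb.preimage ((bc f).map cb).left.continuous)
      have hpa : ∀ (z : Spec (.of Ω) ⟶ X) (hz : z ≫ f = y),
          ((bc f).map ca).left (ptFib f y z hz v).pt = (ptFib f y z hz va).pt := by
        intro z hz
        rw [← hva, ptFib_pt_map]
      have hpb : ∀ (z : Spec (.of Ω) ⟶ X) (hz : z ≫ f = y),
          ((bc f).map cb).left (ptFib f y z hz v).pt = (ptFib f y z hz vb).pt := by
        intro z hz
        rw [← hvb, ptFib_pt_map]
      have hmema : (ptFib f y x hx va).pt ∈ Wa := by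
        rw [← ha1]
        exact pt_mem_of_fiber_map_opnι _ Wa wa
      have hmem : (ptFib f y x hx v).pt ∈ W := by
        refine ⟨?_, ?_⟩
        · change ((bc f).map ca).left _ ∈ Wa
          rw [hpa]; exact hmema
        · change ((bc f).map cb).left _ ∈ Wb
          rw [hpb]; exact hmemb
      obtain ⟨k, w, h1, h2⟩ := good_refine f y x hx ū ca v va hva Wa ka wa ha1 ha2 W
        inf_le_left hmem
      refine ⟨V, v, W, hWcl, ⟨k, w, h1, h2⟩, ?_⟩
      intro z hz hzy hzW
      rcases hz with rfl | hz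
      · apply hnmemb
        rw [← hpb z hzy]
        exact hzW.2
      · apply hexa z hz hzy
        rw [← hpa z hzy]
        exact hzW.1
    · refine ⟨Va, va, Wa, hWa, ⟨ka, wa, ha1, ha2⟩, ?_⟩
      intro z hz hzy
      rcases hz with rfl | hz
      · exact (hx' hzy).elim
      · exact hexa z hz hzy

/-- **Surjectivity, one point at a time**: every element of the stalk of `F` at `x` is the image
of an element of the stalk of `f_* F` whose images at finitely many other geometric points over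
`y` vanish. -/
theorem exists_stalk_elt [IsFinite f] (y : Spec (.of Ω) ⟶ Y) (x : Spec (.of Ω) ⟶ X)
    (hx : x ≫ f = y) (F : Ab X) (τ : (stalk x).obj F) (S : Set (Spec (.of Ω) ⟶ X))
    (hSfin : S.Finite) (hS : ∀ x' ∈ S, x' ≠ x) :
    ∃ σ : (stalk y).obj ((push f).obj F), rho' f y x hx F σ = τ ∧
      ∀ x' ∈ S, ∀ hx' : x' ≫ f = y, rho' f y x' hx' F σ = 0 := by
  obtain ⟨U, ū, s, rfl⟩ := germ_surjective F τ
  obtain ⟨V, v, W, hW, ⟨k, w, hw1, hw2⟩, hex⟩ := exists_good_clopen f y x hx ū S hSfin hS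
  obtain ⟨t, ht1, ht2⟩ := exists_extend_zero F ((bc f).obj V) W hW (F.obj.map k.op s)
  refine ⟨germ ((push f).obj F) v t, ?_, ?_⟩
  · rw [rho'_germ, ← hw1, ← germ_res, ht1, germ_res, hw2]
  · intro x' hx'S hx'
    rw [rho'_germ]
    let Wc : ((bc f).obj V).left.Opens := ⟨(W : Set ((bc f).obj V).left)ᶜ, hW.isOpen_compl⟩
    obtain ⟨w', hw', -⟩ := Fib.exists_lift (opnι ((bc f).obj V) Wc) (ptFib f y x' hx' v)
      ⟨_, hex x' hx'S hx'⟩ rfl
    rw [← hw', ← germ_res, ht2]
    exact map_zero _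

end good

end Groth.Agent.H7.FinPush
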