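import Mathlib
import Groth.Agent.H7.GeomPointsSemicont
import Groth.Prelude.Def_EGA43

set_option autoImplicit false
universe u

namespace Groth.Agent.H7

open AlgebraicGeometry CategoryTheory Limits MorphismProperty Topology

section UnivOpenAt

variable {X Y : Scheme.{u}} (f : X ⟶ Y) [LocallyQuasiFinite f] [LocallyOfFiniteType f]
  [IsSeparated f]

/-- Étale-local structure used for counting geometric points of a universally open, separated,
locally quasi-finite morphism: near `y`, the count is at least the count at `y`, and where the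
count equals the count at `y` the morphism is finite. -/
theorem exists_nhds_count_of_isUnivOpenAt (hfin : ∀ y : Y, (f ⁻¹' {y}).Finite) (y : Y)
    (hopen : ∀ x : X, f x = y → EGA43.IsUnivOpenAt f x) :
    ∃ O : Y.Opens, y ∈ O ∧
      (∀ y' ∈ O, MoreMor.fibreIntegral f (fun _ ↦ (1 : ℤ)) y ≤
        MoreMor.fibreIntegral f (fun _ ↦ (1 : ℤ)) y') ∧
      ∀ A : Set Y, IsOpen A → y ∈ A →
        (∀ z ∈ A, MoreMor.fibreIntegral f (fun _ ↦ (1 : ℤ)) z =
          MoreMor.fibreIntegral f (fun _ ↦ (1 : ℤ)) y) →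
        ∃ U : Y.Opens, y ∈ U ∧ IsFinite (f ∣_ U) := by
  have hfy : Finite (f ⁻¹' {y}) := (hfin y).to_subtype
  let e := Finite.equivFin (f ⁻¹' {y})
  let x : Fin (Nat.card (f ⁻¹' {y})) → ↑X := fun i ↦ (e.symm i).1
  have hxinj : Function.Injective x := fun i i' h ↦ e.symm.injective (Subtype.ext h)
  have hxs : ∀ i, f (x i) = y := fun i ↦ (e.symm i).2
  obtain ⟨V, g, v, hget, hgv, J, hJ, Vo, vo, hclopen, hdisj, hVo, hcov⟩ :=
    Groth.Agent.S9778.result f y x hxinj hxs (fun i ↦ f.quasiFiniteAt _)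
  have : ∀ i, Finite (J i) := hJ
  let ρ := pullback.snd f g
  let W : ↑(pullback f g) → ℤ := fun _ ↦ 1
  have hbc : ∀ v' : V, MoreMor.fibreIntegral ρ W v' =
      MoreMor.fibreIntegral f (fun _ ↦ (1 : ℤ)) (g v') :=
    fun v' ↦ fibreIntegral_baseChange f hfin ρ (pullback.fst f g) g
      (IsPullback.of_hasPullback f g) (fun _ ↦ (1 : ℤ)) v'
  have hρfib : ∀ v' : V, (ρ ⁻¹' {v'}).Finite := fun v' ↦
    finite_fibre_of_isPullback f hfin ρ (pullback.fst f g) g (IsPullback.of_hasPullback f g) v'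
  let Vk : (Σ i, J i) → (pullback f g).Opens := fun k ↦ Vo k.1 k.2
  let Ik : (Σ i, J i) → V → ℤ := fun k ↦
    MoreMor.fibreIntegral ((Vk k).ι ≫ ρ) (fun u ↦ W ((Vk k).ι u))
  have hdisj' : ∀ k l, ((Vk k : Set ↑(pullback f g)) ∩ Vk l).Nonempty → k = l := by
    rintro ⟨i, j⟩ ⟨i', j'⟩ h
    obtain ⟨rfl, h2⟩ := hdisj i j i' j' h
    rw [eq_of_heq h2]
  have hcovv : ∀ p, ρ p = v → ∃ k, p ∈ Vk k := by
    intro p hp
    have h1 : f (pullback.fst f g p) = y := by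
      rw [← Scheme.Hom.comp_apply, pullback.condition, Scheme.Hom.comp_apply, hp, hgv]
    have h2 : x (e ⟨pullback.fst f g p, h1⟩) = pullback.fst f g p := by
      simp only [x, Equiv.symm_apply_apply]
    obtain ⟨j, hj⟩ := hcov p (e ⟨pullback.fst f g p, h1⟩) hp h2.symm
    exact ⟨⟨_, j⟩, hj⟩
  have hIkv : ∀ k, Ik k v = 1 := fun k ↦ by
    obtain ⟨hmem, -, hsnd, huniq, hpi, -⟩ := hVo k.1 k.2
    exact fibreIntegral_ι_comp_eq_of_unique ρ (Vk k) W v (vo k.1 k.2) hmem hsnd huniq hpi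
  -- each piece has open image
  let Nk : (Σ i, J i) → Set V := fun k ↦ interior (ρ '' (Vk k : Set ↑(pullback f g)))
  have hNko : ∀ k, IsOpen (Nk k) := fun k ↦ isOpen_interior
  have hvNk : ∀ k, v ∈ Nk k := fun k ↦ by
    obtain ⟨hmem, -, hsnd, -, -, hfst⟩ := hVo k.1 k.2
    have h1 := hopen (x k.1) (hxs k.1) V g (vo k.1 k.2) hfst (Vk k : Set ↑(pullback f g))
      ((Vk k).2.mem_nhds hmem)
    rw [show (pullback.snd f g).base (vo k.1 k.2) = v from hsnd] at h1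
    exact mem_interior_iff_mem_nhds.mpr h1
  have hIkge : ∀ k, ∀ v' ∈ Nk k, 1 ≤ Ik k v' := by
    intro k v' hv'
    obtain ⟨p, hp, rfl⟩ := interior_subset hv'
    have hfinπ : IsFinite ((Vk k).ι ≫ ρ) := (hVo k.1 k.2).2.1
    have h1 := le_fibreIntegral ((Vk k).ι ≫ ρ) (fun u ↦ W ((Vk k).ι u)) (fun _ ↦ zero_le_one)
      ⟨p, hp⟩ (((Vk k).ι ≫ ρ).finite_preimage_singleton _)
    have h2 : 0 < sepDeg ((Vk k).ι ≫ ρ) ⟨p, hp⟩ := sepDeg_pos_of_finite _ _
      (finite_residueFieldMap_of_quasiFiniteAt _ _ (((Vk k).ι ≫ ρ).quasiFiniteAt _))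
    have h3 : (1 : ℤ) ≤ W p * (sepDeg ((Vk k).ι ≫ ρ) ⟨p, hp⟩ : ℤ) := by
      simp only [W, one_mul]
      exact_mod_cast h2
    exact h3.trans h1
  let _ : Fintype (Σ i, J i) := Fintype.ofFinite _
  have hsumv : MoreMor.fibreIntegral ρ W v = ∑ _k : (Σ i, J i), (1 : ℤ) := by
    rw [← sum_fibreIntegral_ι_comp_eq ρ Vk hdisj' W v (hρfib v) hcovv, finsum_eq_sum_of_fintype]
    exact Finset.sum_congr rfl fun k _ ↦ hIkv k
  have hsumle : ∀ v' ∈ ⋂ k, Nk k, ∑ _k : (Σ i, J i), (1 : ℤ) ≤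
      ∑ᶠ k, MoreMor.fibreIntegral ((Vk k).ι ≫ ρ) (fun u ↦ W ((Vk k).ι u)) v' := by
    intro v' hv'
    rw [finsum_eq_sum_of_fintype]
    exact Finset.sum_le_sum fun k _ ↦ hIkge k v' (Set.mem_iInter.mp hv' k)
  have hNo : IsOpen (⋂ k, Nk k) := isOpen_iInter_of_finite hNko
  have hNy : MoreMor.fibreIntegral f (fun _ ↦ (1 : ℤ)) y = ∑ _k : (Σ i, J i), (1 : ℤ) := by
    rw [← hsumv, hbc, hgv]
  refine ⟨⟨g '' (⋂ k, Nk k), g.isOpenMap _ hNo⟩, ⟨v, Set.mem_iInter.mpr hvNk, hgv⟩, ?_, ?_⟩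
  · rintro _ ⟨v', hv', rfl⟩
    rw [hNy, ← hbc]
    exact (hsumle v' hv').trans
      (sum_fibreIntegral_ι_comp_le ρ Vk hdisj' W (fun _ ↦ zero_le_one) v' (hρfib v'))
  · intro A hA hyA hconst
    let N₀ : V.Opens := ⟨(⋂ k, Nk k) ∩ g ⁻¹' A, hNo.inter (hA.preimage g.continuous)⟩
    have hvN₀ : v ∈ N₀ := ⟨Set.mem_iInter.mpr hvNk, by
      change g v ∈ A
      rw [hgv]
      exact hyA⟩
    have hlqfρ : LocallyQuasiFinite ρ := inferInstance
    have hkey : ∀ p, ρ p ∈ N₀ → ∃ k, p ∈ Vk k := by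
      intro p hp
      by_contra hne
      push Not at hne
      have h1 := sum_fibreIntegral_ι_comp_add_le ρ Vk hdisj' W (fun _ ↦ zero_le_one) (ρ p)
        (hρfib _) p rfl hne
      have h2 : MoreMor.fibreIntegral ρ W (ρ p) = ∑ _k : (Σ i, J i), (1 : ℤ) := by
        rw [hbc, hconst _ hp.2, hNy]
      have h3 := hsumle (ρ p) hp.1
      have h6 : 0 < W p * (sepDeg ρ p : ℤ) := by
        simp only [W, one_mul]
        exact_mod_cast sepDeg_pos_of_finite ρ p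
          (finite_residueFieldMap_of_quasiFiniteAt ρ p (ρ.quasiFiniteAt p))
      linarith
    classical
    have hVt : IsFinite ((Finset.univ.sup Vk).ι ≫ ρ) :=
      isFinite_finsetSup_ι_comp ρ Finset.univ Vk fun k ↦ (hVo k.1 k.2).2.1
    have h7 := isFinite_preimage_piece ρ N₀.ι (Finset.univ.sup Vk) hVt
    have h8 : (pullback.fst ρ N₀.ι) ⁻¹ᵁ (Finset.univ.sup Vk) = ⊤ := by
      rw [eq_top_iff]
      intro z _
      have h9 : ρ (pullback.fst ρ N₀.ι z) ∈ N₀ := by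
        rw [← Scheme.Hom.comp_apply, pullback.condition, Scheme.Hom.comp_apply]
        exact (pullback.snd ρ N₀.ι z).2
      obtain ⟨k, hk⟩ := hkey _ h9
      exact (Finset.le_sup (f := Vk) (Finset.mem_univ k)) hk
    have h10 : IsFinite (pullback.snd ρ N₀.ι) := isFinite_of_ι_comp_of_eq_top _ _ h8 h7
    have h11 : IsFinite (pullback.snd f (N₀.ι ≫ g)) := by
      rw [← pullbackLeftPullbackSndIso_inv_snd_snd f g N₀.ι]
      infer_instance
    let O : Y.Opens := ⟨g '' N₀, g.isOpenMap _ N₀.2⟩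
    have hO : (O : Set ↑Y) = Set.range (N₀.ι ≫ g) := by
      rw [Scheme.Hom.comp_base, TopCat.coe_comp, Set.range_comp, Scheme.Opens.range_ι]
      rfl
    exact ⟨O, ⟨v, hvN₀, hgv⟩, isFinite_morphismRestrict_of_isFinite_snd f (N₀.ι ≫ g) h11 O hO⟩

end UnivOpenAt

section

variable {X Y : Scheme.{u}} (f : X ⟶ Y) [IsSeparated f] [LocallyQuasiFinite f]
  [LocallyOfFiniteType f] [QuasiCompact f] (y : Y)
  (h : ∀ x : X, f.base x = y → EGA43.IsUnivOpenAt f x)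

include h

theorem nGeomConnComp_le_nhds_of_isUnivOpenAt :
    ∃ V ∈ nhds y, ∀ z ∈ V, MoreMor.nGeomConnComp f y ≤ MoreMor.nGeomConnComp f z := by
  have hfin : ∀ y : Y, (f ⁻¹' {y}).Finite := fun y ↦ f.finite_preimage_singleton y
  have hn := nGeomConnComp_eq_fibreIntegral_one f hfin
  obtain ⟨O, hyO, hle, -⟩ := exists_nhds_count_of_isUnivOpenAt f hfin y h
  refine ⟨O, O.2.mem_nhds hyO, fun z hz ↦ ?_⟩
  rw [hn, hn]
  exact_mod_cast Int.toNat_le_toNat (hle z hz)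

theorem exists_isProper_of_nGeomConnComp_const_of_isUnivOpenAt
    (hc : ∃ V ∈ nhds y, ∀ z ∈ V, MoreMor.nGeomConnComp f z = MoreMor.nGeomConnComp f y) :
    ∃ U : Y.Opens, y ∈ U ∧ IsProper (f ∣_ U) := by
  have hfin : ∀ y : Y, (f ⁻¹' {y}).Finite := fun y ↦ f.finite_preimage_singleton y
  have hn := nGeomConnComp_eq_fibreIntegral_one f hfin
  have hinj : ∀ y y', MoreMor.nGeomConnComp f y = MoreMor.nGeomConnComp f y' →
      MoreMor.fibreIntegral f (fun _ ↦ (1 : ℤ)) y =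
      MoreMor.fibreIntegral f (fun _ ↦ (1 : ℤ)) y' := by
    intro y y' h
    rw [hn, hn] at h
    have h1 : (MoreMor.fibreIntegral f (fun _ ↦ (1 : ℤ)) y).toNat =
        (MoreMor.fibreIntegral f (fun _ ↦ (1 : ℤ)) y').toNat := by exact_mod_cast h
    have h2 := fibreIntegral_one_nonneg f y
    have h3 := fibreIntegral_one_nonneg f y'
    omega
  obtain ⟨A, hA, hconst⟩ := hc
  obtain ⟨A', hA'A, hA'o, hyA'⟩ := mem_nhds_iff.mp hA
  obtain ⟨O, -, -, hfinite⟩ := exists_nhds_count_of_isUnivOpenAt f hfin y h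
  obtain ⟨U, hyU, hU⟩ := hfinite A' hA'o hyA' fun z hz ↦ hinj _ _ (hconst z (hA'A hz))
  exact ⟨U, hyU, inferInstance⟩

end

end Groth.Agent.H7
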