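import Mathlib
import Groth.Agent.H7.HenselFinitePart
import Groth.Agent.H7.WeightingOpen

set_option autoImplicit false
universe u

namespace Groth.Agent.H7

open AlgebraicGeometry CategoryTheory Limits MorphismProperty Topology

/-- An étale surjective scheme over a henselian local ring contains an open subscheme
finite over the base and surjecting onto it. -/
theorem exists_open_isFinite_surjective_of_etale (A : Type u) [CommRing A]
    [HenselianLocalRing A] (T : Scheme.{u}) (f : T ⟶ Spec (CommRingCat.of A))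
    [Etale f] [Surjective f] :
    ∃ U : T.Opens, IsFinite (U.ι ≫ f) ∧ Surjective (U.ι ≫ f) := by
  obtain ⟨x, hx⟩ := f.surjective (IsLocalRing.closedPoint A)
  obtain ⟨V, hV, hxV⟩ : ∃ V : T.Opens, IsAffineOpen V ∧ x ∈ V := by
    obtain ⟨_, ⟨V, hV, rfl⟩, hxV, -⟩ :=
      T.isBasis_affineOpens.exists_subset_of_mem_open (Set.mem_univ x) isOpen_univ
    exact ⟨V, hV, hxV⟩
  let g : (V : Scheme.{u}) ⟶ Spec (CommRingCat.of A) := V.ι ≫ f
  have : IsAffine (V : Scheme.{u}) := hV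
  have hgE : Etale g := inferInstance
  have hgA : IsAffineHom g := inferInstance
  have hgQ : LocallyQuasiFinite g := locallyQuasiFinite_of_etale g
  obtain ⟨W, ⟨hWc, hWf, hWm⟩, -⟩ := existsUnique_clopen_finite_part A g
  have hxW : (⟨x, hxV⟩ : ↥V) ∈ W := hWm _ (by
    rw [Scheme.Hom.comp_apply]
    exact hx)
  have hιeq : (V.ι ''ᵁ W).ι ≫ f = (V.ι.isoImage W).inv ≫ (W.ι ≫ g) := by
    change _ = (V.ι.isoImage W).inv ≫ (W.ι ≫ V.ι ≫ f)
    rw [← Category.assoc (W.ι), ← Category.assoc, Scheme.Hom.isoImage_inv_ι]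
  refine ⟨V.ι ''ᵁ W, ?_, ?_⟩
  · rw [hιeq]
    infer_instance
  · have hopen : IsOpen (Set.range ((V.ι ''ᵁ W).ι ≫ f)) :=
      ((V.ι ''ᵁ W).ι ≫ f).isOpenMap.isOpen_range
    have hmem : IsLocalRing.closedPoint A ∈ Set.range ((V.ι ''ᵁ W).ι ≫ f) := by
      have hxU : x ∈ V.ι ''ᵁ W := ⟨⟨x, hxV⟩, hxW, rfl⟩
      refine ⟨⟨x, hxU⟩, ?_⟩
      rw [Scheme.Hom.comp_apply]
      exact hx
    refine ⟨fun z => ?_⟩
    exact (IsLocalRing.specializes_closedPoint z).mem_open hopen hmem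

end Groth.Agent.H7
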