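import Groth.Agent.H7.ZCohFamily
import Groth.Agent.H58.PushC.Plumb
import Groth.Agent.H44.OmegaFitting
import Groth.Agent.H6.HartogsMod
import Groth.Prelude.Def_EGA4c

/-!
# Bridges between `M~` on `Spec A` and module theory over `A`

* the depth of the stalks of `M~`;
* the module structure of the sections of `i_*(F|U)`;
* `EGA4.IsCoherentPushCompl` gives finiteness of the global sections of `i_*(M~|X∖V(J))`;
* `M~` is coherent when `M` is finite.
-/

set_option autoImplicit false
universe u

open CategoryTheory CategoryTheory.Limits AlgebraicGeometry TopologicalSpace Opposite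
open ZClos Groth.Agent.H7.ZClosBase Groth.Agent.H7.ZClosMain Groth.Agent.H7.ZClosSec
open Groth.Agent.H7.ZClosLoc Groth.Agent.H7.ZDepthPt Groth.Agent.H7.ZDepthConv

namespace Groth.Agent.H7.TildeBridge

section Depth

set_option backward.isDefEq.respectTransparency.types false in
theorem depth_stalk_tilde' (R : CommRingCat.{u}) [IsNoetherianRing R] (N : ModuleCat.{u} R)
    [Module.Finite R N] (x : PrimeSpectrum.Top R) :
    LocCoh.depth ((Spec R).presheaf.stalk x) ((tilde N).presheaf.stalk x) =
      LocCoh.depth (Localization.AtPrime x.asIdeal) (LocalizedModule x.asIdeal.primeCompl N) := by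
  let _ : Algebra R ((Spec R).presheaf.stalk x) := StructureSheaf.stalkAlgebra R x
  have : IsLocalization.AtPrime ((Spec R).presheaf.stalk x) x.asIdeal :=
    StructureSheaf.IsLocalization.to_stalk R x
  have : IsScalarTower R ((Spec R).presheaf.stalk x)
      ((tilde N).presheaf.stalk x) := .of_algebraMap_smul fun _ _ ↦ rfl
  have : IsLocalizedModule x.asIdeal.primeCompl (tilde.toStalk N x).hom := inferInstance
  exact Groth.Agent.H6.HartogsMod.depth_eq_of_isLocalizedModule x.asIdeal
    ((Spec R).presheaf.stalk x) N ((tilde N).presheaf.stalk x) (tilde.toStalk N x).hom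

variable {A : Type u} [CommRing A] [IsNoetherianRing A] (M : Type u) [AddCommGroup M] [Module A M]
  [Module.Finite A M]

/-- the depth of the stalk of `M~` is the depth of the localization. -/
theorem depth_stalk_tilde (x : PrimeSpectrum A) :
    LocCoh.depth ((Spec (CommRingCat.of A)).presheaf.stalk x)
        ((EGA4.tildeOf A M).presheaf.stalk x) =
      LocCoh.depth (Localization.AtPrime x.asIdeal) (LocalizedModule x.asIdeal.primeCompl M) :=
  depth_stalk_tilde' (CommRingCat.of A) (ModuleCat.of (CommRingCat.of A) M) x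

end Depth

section Smul

variable {X : Scheme.{u}} (F : X.Modules)

/-- the module structure on the sections of `i_*(F|U)`. -/
theorem resPush_smul (U V : X.Opens) (r : Γ(X, V)) (s : Γ((resPush U).obj F, V)) :
    r • s = ((rX (UV_le U V) r) • (show Γ(F, UV U V) from s) : Γ(F, UV U V)) := by
  change ((U.ι.appIso (U.ι ⁻¹ᵁ V)).inv (U.ι.app V r)) • (show Γ(F, UV U V) from s) = _
  have := congr($(U.ι.app_appIso_inv V) r)
  exact congrArg (fun t ↦ (t • (show Γ(F, UV U V) from s) : Γ(F, UV U V))) this

end Smul

section Spec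

variable (R : CommRingCat.{u}) (N : (Spec R).Modules)

theorem resPush_smul_Spec (U V : (Spec R).Opens) (r : R) (s : Γ((resPush U).obj N, V)) :
    r • s = (r • (show Γ(N, UV U V) from s) : Γ(N, UV U V)) := by
  rw [Scheme.Modules.smul_Spec_def, resPush_smul, Scheme.Modules.smul_Spec_def]
  refine congrArg (fun t ↦ (t • (show Γ(N, UV U V) from s) : Γ(N, UV U V))) ?_
  exact rX_rX (UV_le U V) le_top _

theorem finite_resPush_of_finite (U V W : (Spec R).Opens) (h : UV U V ≤ W) (h' : W ≤ UV U V)
    (hfin : Module.Finite R Γ(N, W)) : Module.Finite Γ(Spec R, V) Γ((resPush U).obj N, V) := by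
  have : Module.Finite R Γ((resPush U).obj N, V) := by
    let φ : Γ(N, W) →ₗ[R] Γ((resPush U).obj N, V) :=
      { toFun := fun p ↦ res N h p
        map_add' := fun p q ↦ map_add _ p q
        map_smul' := fun r p ↦ by
          refine Eq.trans ?_ (resPush_smul_Spec R N U V r (res N h p)).symm
          exact Scheme.Modules.map_smul_Spec (homOfLE h).op r p }
    exact Module.Finite.of_surjective φ (Groth.Agent.H7.ZCohFamily.bijective_res_of_eq N h h').2
  exact Module.Finite.of_restrictScalars_finite R Γ(Spec R, V) Γ((resPush U).obj N, V)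

/-- a quasi-coherent module on an affine scheme with finitely generated global sections is of
finite type. -/
theorem isFiniteType_of_finite_top [N.IsQuasicoherent]
    (h : Module.Finite Γ(Spec R, ⊤) Γ(N, ⊤)) :
    SheafOfModules.IsFiniteType (R := (Spec R).ringCatSheaf) N :=
  Groth.Agent.H44.isFiniteType_of_finite_sections_cover N (fun _ : PUnit.{u + 1} ↦ ⊤)
    (show (⨆ _ : PUnit.{u + 1}, (⊤ : (Spec R).Opens)) = ⊤ from ciSup_const)
    (fun _ ↦ isAffineOpen_top _) (fun _ ↦ h)

theorem isFiniteType_tilde (N₀ : ModuleCat.{u} R) [Module.Finite R N₀] :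
    SheafOfModules.IsFiniteType (R := (Spec R).ringCatSheaf) (tilde N₀) := by
  apply isFiniteType_of_finite_top
  have : Module.Finite R Γ(tilde N₀, ⊤) :=
    Module.Finite.equiv (tilde.isoTop N₀).toLinearEquiv
  exact Module.Finite.of_restrictScalars_finite R Γ(Spec R, ⊤) Γ(tilde N₀, ⊤)

end Spec

section Coh

variable {A : Type u} [CommRing A] (M : Type u) [AddCommGroup M] [Module A M]

theorem finite_resPush_top (J : Ideal A) (Z : Set (Spec (CommRingCat.of A))) (T : Cl Z)
    (hT : (T.1 : Set (Spec (CommRingCat.of A))) = PrimeSpectrum.zeroLocus (J : Set A))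
    (h : EGA4.IsCoherentPushCompl A J M) :
    Module.Finite Γ(Spec (CommRingCat.of A), ⊤) Γ((resPush T.U).obj (EGA4.tildeOf A M), ⊤) := by
  have hle : UV T.U ⊤ ≤ EGA4.openCompl A J := by
    intro x hx
    rw [mem_UV] at hx
    intro hxJ
    exact hx.1 (hT ▸ hxJ)
  have hle' : EGA4.openCompl A J ≤ UV T.U ⊤ := by
    intro x hx
    rw [mem_UV]
    exact ⟨fun hxT ↦ hx (hT ▸ hxT), trivial⟩
  rw [Groth.Agent.H58.PushC.isCoherentPushCompl_iff] at h
  exact finite_resPush_of_finite (CommRingCat.of A) (EGA4.tildeOf A M) T.U ⊤ _ hle hle' h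

theorem isFiniteType_tildeOf [Module.Finite A M] :
    SheafOfModules.IsFiniteType (R := (Spec (CommRingCat.of A)).ringCatSheaf)
      (EGA4.tildeOf A M) :=
  isFiniteType_tilde (CommRingCat.of A) (ModuleCat.of (CommRingCat.of A) M)

theorem isCoh_tildeOf [Module.Finite A M] : Coh.IsCoh (EGA4.tildeOf A M) :=
  ⟨inferInstance, isFiniteType_tildeOf M⟩

end Coh

end Groth.Agent.H7.TildeBridge
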