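import Groth.Agent.H7.HullPush
import Groth.Agent.H7.TildeBridge

set_option autoImplicit false
universe u

open CategoryTheory CategoryTheory.Limits AlgebraicGeometry TopologicalSpace Opposite
open ZClos Groth.Agent.H7.ZClosBase Groth.Agent.H7.ZClosMain Groth.Agent.H7.ZClosSec
open Groth.Agent.H7.ZClosLoc Groth.Agent.H7.ZDepthPt Groth.Agent.H7.ZDepthConv
open Groth.Agent.H7.ZCohFamily Groth.Agent.H7.TildeBridge Groth.Agent.H7.HullPush

namespace Groth.Agent.H7.HullCoh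

variable (A : Type u) [CommRing A] [IsNoetherianRing A]

/-- a) ⇒ b) -/
theorem isCoh_H0_of_hull
    (ha : ∀ (q : Ideal A) [q.IsPrime], EGA4.HeightOneHullFinite (A ⧸ q))
    (M : Type u) [AddCommGroup M] [Module A M] [Module.Finite A M]
    (Z : Set (PrimeSpectrum A)) (hZ : StableUnderSpecialization Z)
    (hH : ∀ x : PrimeSpectrum A, x.asIdeal ∈ associatedPrimes A M → x ∉ Z →
      ∀ y ∈ Z, x.asIdeal ≤ y.asIdeal →
        (2 : ℕ∞) ≤ (y.asIdeal.map (Ideal.Quotient.mk x.asIdeal)).height) :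
    Coh.IsCoh ((ZClos.H0 (X := Spec (CommRingCat.of A)) Z).obj (EGA4.tildeOf A M)) := by
  obtain ⟨J, hVJ, hbad, hcoh⟩ := exists_ideal A M Z hZ ha hH
  let T₂ : Cl (X := Spec (CommRingCat.of A)) Z :=
    ⟨⟨PrimeSpectrum.zeroLocus (J : Set A), PrimeSpectrum.isClosed_zeroLocus _⟩, hVJ⟩
  have hft : SheafOfModules.IsFiniteType (R := (Spec (CommRingCat.of A)).ringCatSheaf)
      (EGA4.tildeOf A M) := isFiniteType_tildeOf M
  have hq : ((ZClos.H0 (X := Spec (CommRingCat.of A)) Z).obj (EGA4.tildeOf A M)).IsQuasicoherent :=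
    Groth.Agent.S5841.result (Spec (CommRingCat.of A)) Z hZ (EGA4.tildeOf A M) inferInstance
  have hfin2 : Module.Finite Γ(Spec (CommRingCat.of A), ⊤)
      Γ((resPush T₂.U).obj (EGA4.tildeOf A M), ⊤) := finite_resPush_top M J Z T₂ rfl hcoh
  have hsurj := surjective_ιH_app (X := Spec (CommRingCat.of A)) Z (EGA4.tildeOf A M)
    (isAffineOpen_top _) T₂ (by
      rintro z ⟨⟨hzZ, hzd⟩, -⟩
      rw [depth_stalk_tilde] at hzd
      exact hbad z hzZ hzd)
  have hfin : Module.Finite Γ(Spec (CommRingCat.of A), ⊤)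
      Γ((ZClos.H0 (X := Spec (CommRingCat.of A)) Z).obj (EGA4.tildeOf A M), ⊤) :=
    Module.Finite.of_surjective
      (Groth.Agent.H92.LocFreeRank.appLin (ιH (X := Spec (CommRingCat.of A)) Z (EGA4.tildeOf A M) T₂) ⊤) hsurj
  exact ⟨hq, isFiniteType_of_finite_top _ _ hfin⟩

end Groth.Agent.H7.HullCoh
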