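import Groth.Agent.H7.TildeBridge
import Groth.Agent.S2666
import Groth.Agent.H44.FiniteSections

set_option autoImplicit false
set_option linter.unusedSectionVars false
universe u

open CategoryTheory CategoryTheory.Limits AlgebraicGeometry TopologicalSpace Opposite
open ZClos Groth.Agent.H7.ZClosBase Groth.Agent.H7.ZClosMain Groth.Agent.H7.ZClosSec
open Groth.Agent.H7.ZClosLoc Groth.Agent.H7.ZDepthPt Groth.Agent.H7.ZDepthConv
open Groth.Agent.H7.ZDepthDim Groth.Agent.H7.ZDepthPush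
open Groth.Agent.H7.ZCohFamily Groth.Agent.H7.TildeBridge

namespace Groth.Agent.H7.HullConv

section Lin

variable (R : CommRingCat.{u}) {N N' : (Spec R).Modules} (φ : N ⟶ N') (U : (Spec R).Opens)

theorem app_smul_Spec (r : R) (x : Γ(N, U)) : φ.app U (r • x) = r • φ.app U x := by
  rw [Scheme.Modules.smul_Spec_def, Scheme.Modules.smul_Spec_def]
  exact Scheme.Modules.Hom.app_smul φ _ x

/-- `φ` on sections, as an `R`-linear map. -/
noncomputable def appLinR : Γ(N, U) →ₗ[R] Γ(N', U) where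
  toFun := φ.app U
  map_add' := fun x y ↦ map_add _ x y
  map_smul' := fun r x ↦ app_smul_Spec R φ U r x

theorem algebraMap_top (f : R) :
    algebraMap R Γ(Spec R, ⊤) f = (Scheme.ΓSpecIso R).inv f := by
  rw [IsAffineOpen.algebraMap_Spec_obj]
  change (Spec R).presheaf.map (𝟙 _) ((Scheme.ΓSpecIso R).inv f) = _
  rw [(Spec R).presheaf.map_id]
  rfl

theorem surjective_algebraMap_top : Function.Surjective (algebraMap R Γ(Spec R, ⊤)) := by
  intro s
  obtain ⟨r, hr⟩ := (ConcreteCategory.bijective_of_isIso (Scheme.ΓSpecIso R).inv).2 s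
  exact ⟨r, (algebraMap_top R r).trans hr⟩

theorem rX_algebraMap {O O' : (Spec R).Opens} (h : O ≤ O') (f : R) :
    rX h (algebraMap R Γ(Spec R, O') f) = algebraMap R Γ(Spec R, O) f := by
  rw [IsAffineOpen.algebraMap_Spec_obj, IsAffineOpen.algebraMap_Spec_obj]
  exact rX_rX h le_top _

theorem basicOpen_algebraMap (f : R) :
    (Spec R).basicOpen (algebraMap R Γ(Spec R, ⊤) f) = PrimeSpectrum.basicOpen f := by
  rw [algebraMap_top]
  exact basicOpen_eq_of_affine f

end Lin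

section Ass

variable (R : CommRingCat.{u}) [IsNoetherianRing R] (N : ModuleCat.{u} R) [Module.Finite R N]

theorem isAssPoint_tilde_iff (x : PrimeSpectrum.Top R) :
    Curv2.IsAssPoint (tilde N) x ↔ x.asIdeal ∈ associatedPrimes R N := by
  have := isFiniteType_tilde R N
  have hW : IsAffineOpen (⊤ : (Spec R).Opens) := isAffineOpen_top _
  have hx : x ∈ (⊤ : (Spec R).Opens) := trivial
  rw [isAssPoint_iff (tilde N) hW hx, ← not_not (a := pI hW hx ∈ _),
    ← one_le_depth_iff (tilde N) hW hx, depth_stalk_tilde',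
    Groth.Agent.H14.ZClos.one_le_depth_localization_iff, not_not]

end Ass

section Main

variable (R : CommRingCat.{u}) [IsNoetherianRing R] (q : Ideal R) [hq : q.IsPrime]

/-- the sheaf `(R ⧸ q)~` -/
noncomputable abbrev Fq : (Spec R).Modules := tilde (ModuleCat.of R (R ⧸ q))

/-- the primes containing `q` of height `≥ 2` over `q` -/
def Zq : Set (Spec R) :=
  {y | q ≤ y.asIdeal ∧ (2 : ℕ∞) ≤ (y.asIdeal.map (Ideal.Quotient.mk q)).height}

/-- `R ⧸ q → Γ(X, (R ⧸ q)~)` -/
noncomputable def τ : (R ⧸ q) →ₗ[R] Γ(Fq R q, ⊤) :=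
  (tilde.toOpen (ModuleCat.of R (R ⧸ q)) ⊤).hom

theorem bijective_τ : Function.Bijective (τ R q) :=
  ConcreteCategory.bijective_of_isIso (tilde.toOpen (ModuleCat.of R (R ⧸ q)) ⊤)

theorem isSMulRegular_top (a : R) (ha : a ∉ q) :
    IsSMulRegular Γ(Fq R q, ⊤) (algebraMap R Γ(Spec R, ⊤) a) := by
  intro s₁ s₂ h
  simp only [algebraMap_smul] at h
  obtain ⟨b₁, rfl⟩ := (bijective_τ R q).2 s₁
  obtain ⟨b₂, rfl⟩ := (bijective_τ R q).2 s₂
  rw [← map_smul, ← map_smul] at h
  have h' := (bijective_τ R q).1 h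
  congr 1
  have ha0 : Ideal.Quotient.mk q a ≠ 0 := fun h0 ↦ ha (Ideal.Quotient.eq_zero_iff_mem.1 h0)
  have h1 : Ideal.Quotient.mk q a * b₁ = Ideal.Quotient.mk q a * b₂ := h'
  exact mul_left_cancel₀ ha0 h1

theorem mem_Zq_of_le {y y' : Spec R} (h : y ⤳ y') (hy : y ∈ Zq R q) : y' ∈ Zq R q := by
  have hle : y.asIdeal ≤ y'.asIdeal := (PrimeSpectrum.le_iff_specializes y y').2 h
  exact ⟨hy.1.trans hle, hy.2.trans (Ideal.height_mono (Ideal.map_mono hle))⟩

theorem stable_Zq : StableUnderSpecialization (Zq R q) := fun _ _ h hy ↦ mem_Zq_of_le R q h hy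

theorem associatedPrimes_quotient : associatedPrimes R (R ⧸ q) = {q} := by
  rw [associatedPrimes.eq_singleton_of_isPrimary hq.isPrimary, hq.radical]

theorem notMem_Zq (x : Spec R) (hx : x.asIdeal = q) : x ∉ Zq R q := by
  rintro ⟨-, h2⟩
  rw [hx, Ideal.map_quotient_self, Ideal.height_bot] at h2
  exact absurd h2 (by decide)

theorem isZPure_Fq : IsZPure (Zq R q) (Fq R q) := by
  apply isZPure_of_ass_disjoint
  intro x hx
  have h1 : x.asIdeal ∈ associatedPrimes R (R ⧸ q) :=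
    (isAssPoint_tilde_iff R (ModuleCat.of R (R ⧸ q)) x).1 hx
  rw [associatedPrimes_quotient] at h1
  exact notMem_Zq R q x h1

theorem injective_rho_τ :
    Function.Injective fun b : R ⧸ q ↦ (rhoApp (Zq R q) (Fq R q)).app ⊤ (τ R q b) := by
  have : Mono (rhoApp (Zq R q) (Fq R q)) := isZPure_Fq R q
  exact (injective_app_of_mono (rhoApp (Zq R q) (Fq R q)) ⊤).comp (bijective_τ R q).1

/-- the section of `H⁰_{X/Z}` given by a fraction `x̄/ā` whose denominators generate an ideal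
defining a closed subset of `Z`. -/
theorem exists_section (a x : R) (ha : a ∉ q) (D : Ideal R)
    (hD : ∀ f ∈ D, ∃ b : R, Ideal.Quotient.mk q (f * x) = Ideal.Quotient.mk q (a * b))
    (T : Cl (Zq R q)) (hT : ∀ P : Spec R, P ∉ (T.1 : Set (Spec R)) → ∃ f ∈ D, f ∉ P.asIdeal) :
    ∃ g : Γ((H0 (Zq R q)).obj (Fq R q), ⊤),
      a • g = (rhoApp (Zq R q) (Fq R q)).app ⊤ (τ R q (Ideal.Quotient.mk q x)) := by
  obtain ⟨σ, hσ⟩ := exists_section_div (Fq R q) (W := ⊤) (D.map (algebraMap R Γ(Spec R, ⊤)))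
    (algebraMap R Γ(Spec R, ⊤) a) (isSMulRegular_top R q a ha) (τ R q (Ideal.Quotient.mk q x))
    (by
      intro f hf
      obtain ⟨f₀, hf₀, rfl⟩ := (Ideal.mem_map_iff_of_surjective _
        (surjective_algebraMap_top R)).1 hf
      obtain ⟨b, hb⟩ := hD f₀ hf₀
      refine ⟨τ R q (Ideal.Quotient.mk q b), ?_⟩
      rw [algebraMap_smul, algebraMap_smul, ← (τ R q).map_smul, ← (τ R q).map_smul]
      congr 1
      exact hb.symm)
    (UV T.U ⊤) (UV_le _ _)
    (by
      intro y hy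
      rw [mem_UV] at hy
      obtain ⟨f₀, hf₀, hfy⟩ := hT y hy.1
      refine ⟨algebraMap R Γ(Spec R, ⊤) f₀, Ideal.mem_map_of_mem _ hf₀, ?_⟩
      rw [basicOpen_algebraMap]
      exact hfy)
  let σ' : Γ((resPush T.U).obj (Fq R q), ⊤) := σ
  refine ⟨(ιH (Zq R q) (Fq R q) T).app ⊤ σ', ?_⟩
  rw [← app_smul_Spec, rhoApp_eq' (Zq R q) (Fq R q) T, Scheme.Modules.Hom.comp_app]
  change _ = (ιH (Zq R q) (Fq R q) T).app ⊤
    ((toDiagram (Zq R q) (Fq R q) T).app ⊤ (τ R q (Ideal.Quotient.mk q x)))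
  congr 1
  rw [toDiagram_app, ← hσ, rX_algebraMap, algebraMap_smul]
  exact resPush_smul_Spec R (Fq R q) T.U ⊤ a σ'

/-- the ideal of denominators of `y` -/
def denom (y : FractionRing (R ⧸ q)) : Ideal R where
  carrier := {f | ∃ b : R, algebraMap (R ⧸ q) (FractionRing (R ⧸ q)) (Ideal.Quotient.mk q f) * y =
    algebraMap (R ⧸ q) (FractionRing (R ⧸ q)) (Ideal.Quotient.mk q b)}
  add_mem' := by
    rintro f f' ⟨b, hb⟩ ⟨b', hb'⟩
    exact ⟨b + b', by rw [map_add, map_add, map_add, map_add, add_mul, hb, hb']⟩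
  zero_mem' := ⟨0, by rw [map_zero, map_zero, zero_mul]⟩
  smul_mem' := by
    rintro c f ⟨b, hb⟩
    exact ⟨c * b, by rw [smul_eq_mul, map_mul, map_mul, map_mul, map_mul, mul_assoc, hb]⟩

theorem zeroLocus_denom_subset (y : FractionRing (R ⧸ q)) (hy : y ∈ EGA4.heightOneHull (R ⧸ q))
    (a : R) (ha : a ∉ q) (had : a ∈ denom R q y) :
    PrimeSpectrum.zeroLocus (denom R q y : Set R) ⊆ Zq R q := by
  intro P hP
  have hDP : denom R q y ≤ P.asIdeal := hP
  have hqP : q ≤ P.asIdeal := by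
    intro f hf
    apply hDP
    refine ⟨0, ?_⟩
    rw [Ideal.Quotient.eq_zero_iff_mem.2 hf]
    simp
  refine ⟨hqP, ?_⟩
  have hsurj : Function.Surjective (Ideal.Quotient.mk q) := Ideal.Quotient.mk_surjective
  have hPbar : (P.asIdeal.map (Ideal.Quotient.mk q)).IsPrime :=
    Ideal.map_isPrime_of_surjective hsurj (by rw [Ideal.mk_ker]; exact hqP)
  have hmem : ∀ c : R, Ideal.Quotient.mk q c ∈ P.asIdeal.map (Ideal.Quotient.mk q) → c ∈ P.asIdeal := by
    intro c hc
    rw [Ideal.mem_map_iff_of_surjective _ hsurj] at hc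
    obtain ⟨c', hc', hcc'⟩ := hc
    have : c - c' ∈ q := by
      rw [← Ideal.Quotient.eq_zero_iff_mem, map_sub, hcc', sub_self]
    have h2 := P.asIdeal.add_mem (hqP this) hc'
    rwa [sub_add_cancel] at h2
  by_contra hlt
  rw [not_le] at hlt
  have hle1 : (P.asIdeal.map (Ideal.Quotient.mk q)).height ≤ 1 := Order.le_of_lt_succ hlt
  rcases Order.le_succ_iff_eq_or_le.1 (show (P.asIdeal.map (Ideal.Quotient.mk q)).height ≤
      Order.succ 0 from hle1) with h1 | h0
  · -- height one: `y` has a denominator outside `P`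
    have h1' : (P.asIdeal.map (Ideal.Quotient.mk q)).height = 1 := h1
    obtain ⟨s, hs, b, hb⟩ := hy _ h1'
    obtain ⟨s₀, rfl⟩ := hsurj s
    obtain ⟨b₀, rfl⟩ := hsurj b
    exact hs (Ideal.mem_map_of_mem _ (hDP ⟨b₀, hb.symm⟩))
  · -- height zero: `P = q`, but `a ∈ P`
    have h0' : (P.asIdeal.map (Ideal.Quotient.mk q)).height = 0 := le_antisymm h0 (zero_le)
    rw [Ideal.height_eq_zero_iff_eq_bot] at h0'
    have : Ideal.Quotient.mk q a ∈ P.asIdeal.map (Ideal.Quotient.mk q) :=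
      Ideal.mem_map_of_mem _ (hDP had)
    rw [h0', Ideal.mem_bot, Ideal.Quotient.eq_zero_iff_mem] at this
    exact ha this

/-- `b ↦ ρ(b)` as a linear map `R ⧸ q → Γ(X, H⁰_{X/Z}((R ⧸ q)~))` -/
noncomputable def ρτ : (R ⧸ q) →ₗ[R] Γ((H0 (Zq R q)).obj (Fq R q), ⊤) :=
  (appLinR R (rhoApp (Zq R q) (Fq R q)) ⊤).comp (τ R q)

theorem injective_ρτ : Function.Injective (ρτ R q) := injective_rho_τ R q

theorem ρτ_apply (b : R ⧸ q) :
    ρτ R q b = (rhoApp (Zq R q) (Fq R q)).app ⊤ (τ R q b) := rfl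

/-- the module of pairs `(g, y)` with `a g = ρ(x̄)` and `ā y = x̄`. -/
def pairs : Submodule R (Γ((H0 (Zq R q)).obj (Fq R q), ⊤) × FractionRing (R ⧸ q)) where
  carrier := {p | ∃ a x : R, a ∉ q ∧ a • p.1 = ρτ R q (Ideal.Quotient.mk q x) ∧
    algebraMap (R ⧸ q) (FractionRing (R ⧸ q)) (Ideal.Quotient.mk q a) * p.2 =
      algebraMap (R ⧸ q) (FractionRing (R ⧸ q)) (Ideal.Quotient.mk q x)}
  add_mem' := by
    rintro ⟨g, y⟩ ⟨g', y'⟩ ⟨a, x, ha, h1, h2⟩ ⟨a', x', ha', h1', h2'⟩
    refine ⟨a * a', a' * x + a * x', fun h ↦ (hq.mem_or_mem h).elim ha ha', ?_, ?_⟩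
    · change (a * a') • (g + g') = _
      change a • g = _ at h1
      change a' • g' = _ at h1'
      calc (a * a') • (g + g') = a' • (a • g) + a • (a' • g') := by
            rw [smul_add, mul_smul a a' g', mul_comm a a', mul_smul]
        _ = a' • ρτ R q (Ideal.Quotient.mk q x) + a • ρτ R q (Ideal.Quotient.mk q x') := by
            rw [h1, h1']
        _ = ρτ R q (Ideal.Quotient.mk q (a' * x + a * x')) := by
            rw [← (ρτ R q).map_smul, ← (ρτ R q).map_smul, ← (ρτ R q).map_add]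
            rfl
    · change _ * (y + y') = _
      change _ * y = _ at h2
      change _ * y' = _ at h2'
      rw [map_mul, map_mul, map_add, map_add, map_mul, map_mul, map_mul, map_mul, ← h2, ← h2']
      ring
  zero_mem' := by
    refine ⟨1, 0, fun h ↦ hq.ne_top ((Ideal.eq_top_iff_one q).2 h), ?_, ?_⟩
    · change (1 : R) • (0 : Γ((H0 (Zq R q)).obj (Fq R q), ⊤)) = _
      rw [smul_zero, map_zero, map_zero]
    · change _ * (0 : FractionRing (R ⧸ q)) = _
      rw [mul_zero, map_zero, map_zero]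
  smul_mem' := by
    rintro c ⟨g, y⟩ ⟨a, x, ha, h1, h2⟩
    refine ⟨a, c * x, ha, ?_, ?_⟩
    · change a • (c • g) = _
      change a • g = _ at h1
      rw [smul_comm, h1, ← (ρτ R q).map_smul]
      rfl
    · change _ * (c • y) = _
      change _ * y = _ at h2
      rw [Algebra.smul_def, IsScalarTower.algebraMap_apply R (R ⧸ q) (FractionRing (R ⧸ q)),
        Ideal.Quotient.algebraMap_eq, mul_left_comm, h2, map_mul, map_mul]

theorem injective_fst_pairs :
    Function.Injective ((LinearMap.fst R _ _).comp (pairs R q).subtype) := by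
  rw [injective_iff_map_eq_zero]
  rintro ⟨⟨g, y⟩, a, x, ha, h1, h2⟩ h0
  change g = 0 at h0
  change a • g = _ at h1
  change _ * y = _ at h2
  have hx : Ideal.Quotient.mk q x = 0 := by
    apply injective_ρτ R q
    rw [← h1, h0, smul_zero, map_zero]
  have ha0 : algebraMap (R ⧸ q) (FractionRing (R ⧸ q)) (Ideal.Quotient.mk q a) ≠ 0 := by
    intro h
    have := IsFractionRing.injective (R ⧸ q) (FractionRing (R ⧸ q)) (h.trans (map_zero _).symm)
    exact ha (Ideal.Quotient.eq_zero_iff_mem.1 this)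
  rw [hx, map_zero] at h2
  have hy : y = 0 := (mul_eq_zero.1 h2).resolve_left ha0
  apply Subtype.ext
  change (g, y) = 0
  rw [h0, hy]
  rfl

/-- b) ⇒ a), for one prime. -/
theorem hullFinite_of_isCoh (hcoh : Coh.IsCoh ((H0 (Zq R q)).obj (Fq R q))) :
    EGA4.HeightOneHullFinite (R ⧸ q) := by
  have := hcoh.1
  have := hcoh.2
  have hfinΓ : Module.Finite Γ(Spec R, ⊤) Γ((H0 (Zq R q)).obj (Fq R q), ⊤) :=
    Groth.Agent.H44.finite_sections_of_isFiniteType _ (isAffineOpen_top _)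
  have : Module.Finite R Γ(Spec R, ⊤) :=
    Module.Finite.of_surjective (Algebra.linearMap R Γ(Spec R, ⊤)) (surjective_algebraMap_top R)
  have hfinR : Module.Finite R Γ((H0 (Zq R q)).obj (Fq R q), ⊤) :=
    Module.Finite.trans Γ(Spec R, ⊤) _
  have : IsNoetherian R Γ((H0 (Zq R q)).obj (Fq R q), ⊤) :=
    isNoetherian_of_isNoetherianRing_of_finite R _
  have hN : Module.Finite R (pairs R q) :=
    Module.Finite.of_injective _ (injective_fst_pairs R q)
  let P : Submodule R (FractionRing (R ⧸ q)) := (pairs R q).map (LinearMap.snd R _ _)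
  have hPfg : P.FG := (Module.Finite.iff_fg.1 hN).map _
  have hPn : IsNoetherian R P :=
    have : Module.Finite R P := Module.Finite.iff_fg.2 hPfg
    isNoetherian_of_isNoetherianRing_of_finite R _
  let H := Groth.Agent.S2666.hull (R ⧸ q)
  have hle : (Subalgebra.toSubmodule H).restrictScalars R ≤ P := by
    intro y hy
    have hy' : y ∈ EGA4.heightOneHull (R ⧸ q) := hy
    obtain ⟨x', a', ha', hxy⟩ := IsFractionRing.div_surjective (A := R ⧸ q) y
    obtain ⟨x, rfl⟩ := Ideal.Quotient.mk_surjective x'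
    obtain ⟨a, rfl⟩ := Ideal.Quotient.mk_surjective a'
    have ha : a ∉ q := fun h ↦
      nonZeroDivisors.ne_zero ha' (Ideal.Quotient.eq_zero_iff_mem.2 h)
    have ha0 : algebraMap (R ⧸ q) (FractionRing (R ⧸ q)) (Ideal.Quotient.mk q a) ≠ 0 := by
      intro h
      have := IsFractionRing.injective (R ⧸ q) (FractionRing (R ⧸ q)) (h.trans (map_zero _).symm)
      exact ha (Ideal.Quotient.eq_zero_iff_mem.1 this)
    have h2 : algebraMap (R ⧸ q) (FractionRing (R ⧸ q)) (Ideal.Quotient.mk q a) * y =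
        algebraMap (R ⧸ q) (FractionRing (R ⧸ q)) (Ideal.Quotient.mk q x) := by
      rw [← hxy, mul_div_cancel₀ _ ha0]
    have had : a ∈ denom R q y := ⟨x, h2⟩
    have hD : ∀ f ∈ denom R q y, ∃ b : R,
        Ideal.Quotient.mk q (f * x) = Ideal.Quotient.mk q (a * b) := by
      rintro f ⟨b, hb⟩
      refine ⟨b, IsFractionRing.injective (R ⧸ q) (FractionRing (R ⧸ q)) ?_⟩
      rw [map_mul, map_mul, map_mul, map_mul, ← h2, ← hb]
      ring
    let T : Cl (Zq R q) := ⟨⟨PrimeSpectrum.zeroLocus (denom R q y : Set R),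
      PrimeSpectrum.isClosed_zeroLocus _⟩, zeroLocus_denom_subset R q y hy' a ha had⟩
    obtain ⟨g, hg⟩ := exists_section R q a x ha (denom R q y) hD T (by
      intro P hP
      obtain ⟨f, hf, hfP⟩ := Set.not_subset.1 hP
      exact ⟨f, hf, hfP⟩)
    exact ⟨(g, y), ⟨a, x, ha, hg, h2⟩, rfl⟩
  have hHn : IsNoetherian R ((Subalgebra.toSubmodule H).restrictScalars R) :=
    isNoetherian_of_le hle
  have hfg : ((Subalgebra.toSubmodule H).restrictScalars R).FG :=
    Module.Finite.iff_fg.1 inferInstance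
  have hfg' : (Subalgebra.toSubmodule H).FG := Submodule.FG.of_restrictScalars R hfg
  exact ⟨H, rfl, Module.Finite.iff_fg.2 hfg'⟩

end Main

end Groth.Agent.H7.HullConv
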