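import Groth.Agent.H58.PushC.Ass
import Groth.Agent.H7.BadDomain
import Groth.Prelude.Def_EGA4b

set_option autoImplicit false
universe u

namespace Groth.Agent.H7.HullPush

open Groth.Agent.H58.PushC Groth.Agent.H58.GenDepth Groth.Agent.H7.BadDepth

section Domain
variable (B : Type u) [CommRing B] [IsDomain B] [IsNoetherianRing B]

/-- if `B^(1)` is finite and `J` has height `≥ 2`, then `H¹_J(B)` is finite. -/
theorem finite_H1_of_hull (B' : Subalgebra B (FractionRing B))
    (hB' : (B' : Set (FractionRing B)) = EGA4.heightOneHull B) [Module.Finite B B']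
    (J : Ideal B) (hJ : (2 : ℕ∞) ≤ J.height) : Module.Finite B (LocCoh.H J 1 B) := by
  have hinj : Function.Injective (algebraMap B (FractionRing B)) :=
    IsFractionRing.injective B (FractionRing B)
  have hJne : J ≠ ⊥ := by
    rintro rfl
    rw [Ideal.height_bot] at hJ
    exact absurd hJ (by decide)
  refine finite_H1_of_finite J B B' (Algebra.linearMap B B') ?_ ?_ ?_
  · intro m hm
    have h1 : algebraMap B (FractionRing B) m = 0 := by
      have := congrArg (Subtype.val) hm
      simpa using this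
    have h2 : m = 0 := hinj (by rw [h1, map_zero])
    exact ⟨0, fun b _ => by rw [h2, smul_zero]⟩
  · intro t n hn
    obtain ⟨x, hxJ, hx0⟩ := Submodule.exists_mem_ne_zero_of_ne_bot hJne
    have h1 := hn (x ^ n) (Ideal.pow_mem_pow hxJ n)
    have h2 : algebraMap B (FractionRing B) (x ^ n) * (t : FractionRing B) = 0 := by
      have := congrArg (Subtype.val) h1
      simpa [Algebra.smul_def] using this
    rcases mul_eq_zero.1 h2 with h3 | h3
    · exact absurd (hinj (by rw [h3, map_zero])) (pow_ne_zero n hx0)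
    · exact Subtype.ext h3
  · intro x hx t n hdiv
    have hx0 : x ≠ 0 := by
      rintro rfl
      have := hx (show (0 : B) • (1 : B') = (0 : B) • (0 : B') by rw [zero_smul, zero_smul])
      exact one_ne_zero this
    have hxK : algebraMap B (FractionRing B) x ≠ 0 := fun h ↦ hx0 (hinj (by rw [h, map_zero]))
    have hs : (t : FractionRing B) / algebraMap B (FractionRing B) x ∈ B' := by
      change _ ∈ (B' : Set (FractionRing B))
      rw [hB']
      intro p hp hp1
      have hJp : ¬ J ^ n ≤ p := by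
        intro hle
        have h1 : J ≤ p := hp.le_of_pow_le hle
        have := (hJ.trans (Ideal.height_mono h1)).trans hp1.le
        exact absurd this (by decide)
      obtain ⟨b, hbJ, hbp⟩ := Set.not_subset.1 hJp
      obtain ⟨u, hu⟩ := hdiv b hbJ
      have hu' : algebraMap B (FractionRing B) b * (t : FractionRing B) =
          algebraMap B (FractionRing B) x * (u : FractionRing B) := by
        have := congrArg (Subtype.val) hu
        simpa [Algebra.smul_def] using this
      have humem : (u : FractionRing B) ∈ EGA4.heightOneHull B := by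
        rw [← hB']
        exact u.2
      obtain ⟨s', hs', a, ha⟩ := humem p hp1
      refine ⟨s' * b, fun h ↦ (hp.mem_or_mem h).elim hs' hbp, a, ?_⟩
      rw [ha, map_mul, mul_assoc, ← mul_div_assoc, hu', mul_div_cancel_left₀ _ hxK]
    refine ⟨⟨_, hs⟩, ?_⟩
    apply Subtype.ext
    change (t : FractionRing B) = ((x • (⟨_, hs⟩ : B') : B') : FractionRing B)
    rw [Subalgebra.coe_smul, Algebra.smul_def]
    change _ = algebraMap B (FractionRing B) x * ((t : FractionRing B) / algebraMap B (FractionRing B) x)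
    field_simp

end Domain

variable (A : Type u) [CommRing A] [IsNoetherianRing A]
  (M : Type u) [AddCommGroup M] [Module A M] [Module.Finite A M]

theorem isCoherentPushCompl_of_hull (J : Ideal A)
    (h1 : ∀ (p : Ideal A) [p.IsPrime], p ∈ associatedPrimes A M → ¬ J ≤ p →
      EGA4.HeightOneHullFinite (A ⧸ p))
    (h2 : ∀ p ∈ associatedPrimes A M, ¬ J ≤ p →
      (2 : ℕ∞) ≤ (J.map (Ideal.Quotient.mk p)).height) :
    EGA4.IsCoherentPushCompl A J M := by
  rw [isCoherentPushCompl_iff_ass]
  intro p hp hJp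
  have := hp.isPrime
  rw [isCoherentPushCompl_iff_finite_H1]
  obtain ⟨B', hB', hfin⟩ := h1 p hp hJp
  exact finite_H1_of_hull (A ⧸ p) B' hB' _ (h2 p hp hJp)

/-- the closed subset of `Z` outside of which `M` has depth `≥ 2` at the points of `Z`, and along
which the direct image is coherent. -/
theorem exists_ideal (Z : Set (PrimeSpectrum A)) (hZ : StableUnderSpecialization Z)
    (ha : ∀ (q : Ideal A) [q.IsPrime], EGA4.HeightOneHullFinite (A ⧸ q))
    (hH : ∀ x : PrimeSpectrum A, x.asIdeal ∈ associatedPrimes A M → x ∉ Z →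
      ∀ y ∈ Z, x.asIdeal ≤ y.asIdeal →
        (2 : ℕ∞) ≤ (y.asIdeal.map (Ideal.Quotient.mk x.asIdeal)).height) :
    ∃ J : Ideal A, PrimeSpectrum.zeroLocus (J : Set A) ⊆ Z ∧
      (∀ z ∈ Z, ¬ (2 : ℕ∞) ≤ dep M z.asIdeal → J ≤ z.asIdeal) ∧
      EGA4.IsCoherentPushCompl A J M := by
  classical
  let Z' : Set (PrimeSpectrum A) := {z | z ∈ Z ∧ ∀ p : PrimeSpectrum A,
    p.asIdeal ∈ associatedPrimes A M → p ∈ Z → ¬ p.asIdeal ≤ z.asIdeal}
  have hgood : Good Z' M := good_of_heightOneHullFinite Z' (fun P _ ↦ ha P.asIdeal)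
    (fun P hP z hz hPz ↦ hH P hP (fun hPZ ↦ hz.2 P hP hPZ hPz) z hz.1 hPz)
  let S₁ : Set (PrimeSpectrum A) := {p | p.asIdeal ∈ associatedPrimes A M ∧ p ∈ Z}
  have hS₁ : S₁.Finite := by
    have : (PrimeSpectrum.asIdeal ⁻¹' (associatedPrimes A M)).Finite :=
      (associatedPrimes.finite A M).preimage (fun x _ y _ h ↦ PrimeSpectrum.ext h)
    exact this.subset fun p hp ↦ hp.1
  have hSfin : (S₁ ∪ bad Z' M).Finite := hS₁.union hgood
  have hSZ : ∀ p ∈ S₁ ∪ bad Z' M, p ∈ Z := by
    rintro p (hp | hp)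
    · exact hp.2
    · exact hp.1.1
  let J : Ideal A := hSfin.toFinset.inf PrimeSpectrum.asIdeal
  have hJle : ∀ p ∈ S₁ ∪ bad Z' M, J ≤ p.asIdeal := fun p hp ↦
    Finset.inf_le (hSfin.mem_toFinset.2 hp)
  have hVJ : PrimeSpectrum.zeroLocus (J : Set A) ⊆ Z := by
    intro y hy
    have hy' : J ≤ y.asIdeal := hy
    obtain ⟨p, hp, hpy⟩ := (Ideal.IsPrime.inf_le' y.2).1 hy'
    exact hZ ((PrimeSpectrum.le_iff_specializes p y).1 hpy) (hSZ p (hSfin.mem_toFinset.1 hp))
  refine ⟨J, hVJ, ?_, ?_⟩
  · intro z hz hd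
    by_cases hz' : z ∈ Z'
    · exact hJle z (Or.inr ⟨hz', hd⟩)
    · have : ∃ p : PrimeSpectrum A, p.asIdeal ∈ associatedPrimes A M ∧ p ∈ Z ∧
          p.asIdeal ≤ z.asIdeal := by
        by_contra hcon
        push Not at hcon
        exact hz' ⟨hz, fun p hp hpZ ↦ hcon p hp hpZ⟩
      obtain ⟨p, hp, hpZ, hpz⟩ := this
      exact (hJle p (Or.inl ⟨hp, hpZ⟩)).trans hpz
  · apply isCoherentPushCompl_of_hull
    · intro p _ _ _
      exact ha p
    · intro p hp hJp
      have hpp := hp.isPrime
      let P : PrimeSpectrum A := ⟨p, hpp⟩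
      have hPZ : P ∉ Z := fun h ↦ hJp (hJle P (Or.inl ⟨hp, h⟩))
      rw [Ideal.height_eq_inf_minimalPrimes]
      refine le_iInf₂ fun Q hQ ↦ ?_
      have hQp : Q.IsPrime := hQ.1.1
      have hJQ : J.map (Ideal.Quotient.mk p) ≤ Q := hQ.1.2
      let y : PrimeSpectrum A := ⟨Q.comap (Ideal.Quotient.mk p), inferInstance⟩
      have hy : y ∈ Z := hVJ (show J ≤ y.asIdeal from Ideal.map_le_iff_le_comap.1 hJQ)
      have hpy : p ≤ y.asIdeal := by
        intro a ha'
        change Ideal.Quotient.mk p a ∈ Q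
        rw [Ideal.Quotient.eq_zero_iff_mem.2 ha']
        exact Q.zero_mem
      have := hH P hp hPZ y hy hpy
      rwa [show y.asIdeal.map (Ideal.Quotient.mk P.asIdeal) = Q from
        Ideal.map_comap_of_surjective _ Ideal.Quotient.mk_surjective Q] at this

end Groth.Agent.H7.HullPush
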