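import Mathlib
import Groth.Agent.H7.GeomSep
import Groth.Agent.H7.GeomPt
import Groth.Agent.H7.PropAIntegral

/-!
# Separating geometric points of an integral morphism by clopen subsets after étale localisation
-/

set_option autoImplicit false
set_option linter.style.haveILetI false
universe u

open AlgebraicGeometry CategoryTheory Limits

namespace Groth.Agent.H7.IntSep

open Groth.Agent.H7.GeomSep

variable {X Y : Scheme.{u}} (f : X ⟶ Y)

/-- The residue field extensions of an integral morphism are algebraic. -/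
theorem isAlgebraic_residueFieldMap [IsIntegralHom f] (p : X) :
    letI := (f.residueFieldMap p).hom.toAlgebra
    Algebra.IsAlgebraic (Y.residueField (f p)) (X.residueField p) := by
  letI := (f.residueFieldMap p).hom.toAlgebra
  let k := Y.residueField (f p)
  let Ω := AlgebraicClosure k
  let incl : CommRingCat.of k ⟶ CommRingCat.of Ω := CommRingCat.ofHom (algebraMap k Ω)
  let ybar : Spec (.of Ω) ⟶ Y := Spec.map incl ≫ Y.fromSpecResidueField (f p)
  have hy : ybar default = f p := by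
    change (Y.fromSpecResidueField (f p)) (Spec.map incl default) = f p
    rw [default_eq_closedPoint]
    have : Spec.map incl (IsLocalRing.closedPoint Ω) = IsLocalRing.closedPoint k :=
      Subsingleton.elim _ _
    rw [this, Scheme.fromSpecResidueField_apply]
  obtain ⟨w, hw1, hw2⟩ := Groth.Agent.H7.GeomPt.exists_lift_of_isIntegralHom f ybar p hy.symm
  obtain ⟨β, hβ⟩ := exists_fac_residueField w p (by rw [← default_eq_closedPoint]; exact hw2)
  have hcomp : (Spec.map β ≫ X.fromSpecResidueField p) ≫ f =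
      Spec.map (f.residueFieldMap p ≫ β) ≫ Y.fromSpecResidueField (f p) := by
    rw [Category.assoc, ← Scheme.Hom.SpecMap_residueFieldMap_fromSpecResidueField, Spec.map_comp,
      Category.assoc]
  have h1 : Spec.map (f.residueFieldMap p ≫ β) ≫ Y.fromSpecResidueField (f p) =
      Spec.map incl ≫ Y.fromSpecResidueField (f p) := by
    rw [← hcomp, ← hβ, hw1]
  have h2 : f.residueFieldMap p ≫ β = incl := Spec.map_injective ((cancel_mono _).1 h1)
  let βa : X.residueField p →ₐ[k] Ω :=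
    { β.hom with commutes' := fun r ↦ congr($(h2).hom r) }
  exact Algebra.IsAlgebraic.of_injective βa β.hom.injective

variable {Ω : Type u} [Field Ω] [IsSepClosed Ω]

/-- separation by an open subset of `X` containing exactly the first of the two points. -/
theorem exists_sep_of_open [IsIntegralHom f] (x₁ x₂ : Spec (.of Ω) ⟶ X) (h : x₁ ≫ f = x₂ ≫ f)
    (U : X.Opens) (hU₁ : x₁ default ∈ U) (hU₂ : x₂ default ∉ U) :
    ∃ (V : Scheme.{u}) (c : V ⟶ Y) (_ : Etale c) (v : Spec (.of Ω) ⟶ V) (hv : v ≫ c = x₁ ≫ f)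
      (W : (pullback f c).Opens), IsClosed (W : Set ↥(pullback f c)) ∧
      (pullback.lift x₁ v hv.symm) default ∈ W ∧
      (pullback.lift x₂ v (h ▸ hv.symm)) default ∉ W := by
  let u₁ : (U : Scheme.{u}) := ⟨x₁ default, hU₁⟩
  obtain ⟨V, c, hc, W₀, hW₀, k, hk, w₀, hw₀⟩ :=
    Groth.Agent.H7.propA_of_isIntegralHom f U U.ι u₁
  haveI : Etale c := hc
  have hr : Set.range x₁ ⊆ Set.range U.ι := by
    rintro _ ⟨t, rfl⟩
    rw [U.range_ι, Subsingleton.elim t default]
    exact hU₁
  let l₁ : Spec (.of Ω) ⟶ (U : Scheme.{u}) := IsOpenImmersion.lift U.ι x₁ hr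
  have hl₁ : l₁ ≫ U.ι = x₁ := IsOpenImmersion.lift_fac _ _ _
  have hl₁pt : l₁ default = u₁ := by
    apply U.ι.injective
    rw [← Scheme.Hom.comp_apply, hl₁]
    rfl
  haveI : Etale (k ≫ U.ι) := by rw [hk]; infer_instance
  haveI : Etale k := Etale.of_comp k U.ι
  obtain ⟨l, hl1, hl2⟩ := Scheme.exists_fac_of_etale_of_isSepClosed k l₁ w₀ (hw₀.trans hl₁pt.symm)
  have hlx : l ≫ W₀.ι ≫ pullback.fst f c = x₁ := by
    rw [← hk, ← Category.assoc, hl1, hl₁]
  let v : Spec (.of Ω) ⟶ V := l ≫ W₀.ι ≫ pullback.snd f c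
  have hv : v ≫ c = x₁ ≫ f := by
    change (l ≫ W₀.ι ≫ pullback.snd f c) ≫ c = x₁ ≫ f
    rw [Category.assoc, Category.assoc, ← pullback.condition, ← Category.assoc, ← Category.assoc,
      Category.assoc l, hlx]
  have e1 : pullback.lift x₁ v hv.symm = l ≫ W₀.ι := by
    apply pullback.hom_ext
    · rw [pullback.lift_fst, Category.assoc, hlx]
    · rw [pullback.lift_snd, Category.assoc]
  refine ⟨V, c, hc, v, hv, W₀, hW₀, ?_, ?_⟩
  · rw [e1, Scheme.Hom.comp_apply]
    exact (l default).2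
  · intro hmem
    apply hU₂
    let w₂ : (W₀ : Scheme.{u}) := ⟨_, hmem⟩
    have h1 : (pullback.fst f c) (W₀.ι w₂) = U.ι (k w₂) := by
      rw [← Scheme.Hom.comp_apply, ← Scheme.Hom.comp_apply, hk]
    have h2 : (pullback.fst f c) (W₀.ι w₂) = x₂ default := by
      change (pullback.fst f c) ((pullback.lift x₂ v (h ▸ hv.symm)) default) = x₂ default
      rw [← Scheme.Hom.comp_apply, pullback.lift_fst]
    rw [← h2, h1]
    exact (k w₂).2

/-- Case of distinct underlying points. -/
theorem exists_sep_of_ne_pt [IsIntegralHom f] (x₁ x₂ : Spec (.of Ω) ⟶ X) (h : x₁ ≫ f = x₂ ≫ f)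
    (hne : x₁ default ≠ x₂ default) :
    ∃ (V : Scheme.{u}) (c : V ⟶ Y) (_ : Etale c) (v : Spec (.of Ω) ⟶ V) (hv : v ≫ c = x₁ ≫ f)
      (W : (pullback f c).Opens), IsClosed (W : Set ↥(pullback f c)) ∧
      (pullback.lift x₁ v hv.symm) default ∈ W ∧
      (pullback.lift x₂ v (h ▸ hv.symm)) default ∉ W := by
  obtain ⟨U, hUo, hU⟩ := exists_isOpen_xor_mem hne
  rcases hU with ⟨h1, h2⟩ | ⟨h2, h1⟩
  · exact exists_sep_of_open f x₁ x₂ h ⟨U, hUo⟩ h1 h2
  · obtain ⟨V, c, hc, v, hv, W, hW, hm, hnm⟩ := exists_sep_of_open f x₂ x₁ h.symm ⟨U, hUo⟩ h2 h1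
    refine ⟨V, c, hc, v, hv.trans h.symm, ⟨(W : Set ↥(pullback f c))ᶜ, hW.isOpen_compl⟩, ?_, ?_, ?_⟩
    · exact W.2.isClosed_compl
    · exact hnm
    · exact fun hc' ↦ hc' hm

omit [IsSepClosed Ω] in
/-- Case of equal underlying points: after an étale base change the points become distinct. -/
theorem exists_ne_pt_of_eq_pt [IsIntegralHom f] (x₁ x₂ : Spec (.of Ω) ⟶ X) (h : x₁ ≫ f = x₂ ≫ f)
    (hne : x₁ ≠ x₂) (hpt : x₁ default = x₂ default) :
    ∃ (V : Scheme.{u}) (c : V ⟶ Y) (_ : Etale c) (v : Spec (.of Ω) ⟶ V) (hv : v ≫ c = x₁ ≫ f),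
      (pullback.lift x₁ v hv.symm) default ≠ (pullback.lift x₂ v (h ▸ hv.symm)) default := by
  let p : X := x₁ default
  obtain ⟨φ₁, hφ₁⟩ := exists_fac_residueField x₁ p (by rw [← default_eq_closedPoint])
  obtain ⟨φ₂, hφ₂⟩ := exists_fac_residueField x₂ p (by rw [← default_eq_closedPoint]; exact hpt.symm)
  have hφne : φ₁ ≠ φ₂ := fun e ↦ hne (by rw [hφ₁, hφ₂, e])
  have hcomp : ∀ φ : X.residueField p ⟶ .of Ω, (Spec.map φ ≫ X.fromSpecResidueField p) ≫ f =
      Spec.map (f.residueFieldMap p ≫ φ) ≫ Y.fromSpecResidueField (f p) := by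
    intro φ
    rw [Category.assoc, ← Scheme.Hom.SpecMap_residueFieldMap_fromSpecResidueField, Spec.map_comp,
      Category.assoc]
  have hψ : f.residueFieldMap p ≫ φ₁ = f.residueFieldMap p ≫ φ₂ := by
    have h1 : Spec.map (f.residueFieldMap p ≫ φ₁) ≫ Y.fromSpecResidueField (f p) =
        Spec.map (f.residueFieldMap p ≫ φ₂) ≫ Y.fromSpecResidueField (f p) := by
      rw [← hcomp, ← hcomp, ← hφ₁, ← hφ₂, h]
    exact Spec.map_injective ((cancel_mono _).1 h1)
  -- algebra structures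
  let k := Y.residueField (f p)
  let K := X.residueField p
  letI : Algebra k K := (f.residueFieldMap p).hom.toAlgebra
  haveI : Algebra.IsAlgebraic k K := isAlgebraic_residueFieldMap f p
  letI : Algebra k Ω := (f.residueFieldMap p ≫ φ₁).hom.toAlgebra
  let φ₁a : K →ₐ[k] Ω := { φ₁.hom with commutes' := fun r ↦ rfl }
  let φ₂a : K →ₐ[k] Ω := { φ₂.hom with commutes' := fun r ↦ (congr($(hψ).hom r)).symm }
  -- a separable element on which the two maps differ
  obtain ⟨a, hasep, hane⟩ : ∃ a : K, IsSeparable k a ∧ φ₁.hom a ≠ φ₂.hom a := by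
    by_contra hcon
    push Not at hcon
    apply hφne
    ext1
    haveI : IsPurelyInseparable (separableClosure k K) K := inferInstance
    apply IsPurelyInseparable.injective_comp_algebraMap (separableClosure k K) K Ω
    ext ⟨a, ha⟩
    exact hcon a (mem_separableClosure_iff.1 ha)
  let α : Ω := φ₁.hom a
  have hα : IsSeparable k α := by
    have : minpoly k (φ₁a a) = minpoly k a := minpoly.algHom_eq φ₁a φ₁a.injective a
    change (minpoly k (φ₁a a)).Separable
    rw [this]
    exact hasep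
  let L : IntermediateField k Ω := IntermediateField.adjoin k {α}
  haveI : FiniteDimensional k L := IntermediateField.adjoin.finiteDimensional hα.isIntegral
  haveI : Algebra.IsSeparable k L :=
    (IntermediateField.isSeparable_adjoin_simple_iff_isSeparable k Ω).2 hα
  obtain ⟨U, g, t, hUaff, hg, hmono, ht⟩ := Groth.Agent.H7.exists_etale_nbhd_Spec_field Y (f p) L
  let u : U := t (IsLocalRing.closedPoint L)
  let δ : U.residueField u ⟶ .of L := U.descResidueField (Scheme.stalkClosedPointTo t)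
  have hδ : Spec.map δ ≫ U.fromSpecResidueField u = t :=
    Scheme.descResidueField_stalkClosedPointTo_fromSpecResidueField L U t
  have hδsurj : Function.Surjective δ.hom := by
    have hδmono : Mono (Spec.map δ) := by
      have : Mono (Spec.map δ ≫ U.fromSpecResidueField u) := hδ ▸ hmono
      exact mono_of_mono _ (U.fromSpecResidueField u)
    have hδepi : Epi δ := by
      have : Mono δ.op := Scheme.Spec.mono_of_mono_map hδmono
      exact unop_epi_of_mono δ.op
    exact @Groth.Agent.H7.surjective_of_epi_of_field' (IsLocalRing.ResidueField _) _ _ _ δ hδepi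
  let incl : CommRingCat.of L ⟶ CommRingCat.of Ω := CommRingCat.ofHom (algebraMap L Ω)
  let v : Spec (.of Ω) ⟶ U := Spec.map incl ≫ t
  have hv : v ≫ g = x₁ ≫ f := by
    rw [hφ₁, hcomp, Category.assoc, ht, ← Category.assoc, ← Spec.map_comp]
    rfl
  refine ⟨U, g, hg, v, hv, ?_⟩
  intro hz
  set zA := pullback.lift x₁ v hv.symm with hzA
  set zB := pullback.lift x₂ v (h ▸ hv.symm) with hzB
  let z : ↥(pullback f g) := zA default
  obtain ⟨ε₁, hε₁⟩ := exists_fac_residueField zA z (by rw [← default_eq_closedPoint])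
  obtain ⟨ε₂, hε₂⟩ := exists_fac_residueField zB z (by rw [← default_eq_closedPoint]; exact hz.symm)
  let ιz := (pullback f g).fromSpecResidueField z
  have hz1 : (ιz ≫ pullback.fst f g) (IsLocalRing.closedPoint _) = p := by
    rw [Scheme.Hom.comp_apply, Scheme.fromSpecResidueField_apply]
    change pullback.fst f g (zA default) = x₁ default
    rw [← Scheme.Hom.comp_apply, pullback.lift_fst]
  have hz2 : (ιz ≫ pullback.snd f g) (IsLocalRing.closedPoint _) = u := by
    rw [Scheme.Hom.comp_apply, Scheme.fromSpecResidueField_apply]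
    change pullback.snd f g (zA default) = _
    rw [← Scheme.Hom.comp_apply, pullback.lift_snd]
    change t (Spec.map incl default) = _
    congr 1
    exact Subsingleton.elim _ _
  obtain ⟨β₁, hβ₁⟩ := exists_fac_residueField (ιz ≫ pullback.fst f g) p hz1
  obtain ⟨β₂, hβ₂⟩ := exists_fac_residueField (ιz ≫ pullback.snd f g) u hz2
  have e1 : ∀ (ε : (pullback f g).residueField z ⟶ .of Ω) (φ : X.residueField p ⟶ .of Ω)
      (zz : Spec (.of Ω) ⟶ pullback f g), zz = Spec.map ε ≫ ιz →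
      zz ≫ pullback.fst f g = Spec.map φ ≫ X.fromSpecResidueField p → β₁ ≫ ε = φ := by
    intro ε φ zz hzz hfst
    apply Spec.map_injective
    rw [← cancel_mono (X.fromSpecResidueField p)]
    calc Spec.map (β₁ ≫ ε) ≫ X.fromSpecResidueField p
        = Spec.map ε ≫ (Spec.map β₁ ≫ X.fromSpecResidueField p) :=
          (congrArg (fun t ↦ t ≫ X.fromSpecResidueField p) (Spec.map_comp β₁ ε)).trans
            (Category.assoc _ _ _)
      _ = Spec.map ε ≫ (ιz ≫ pullback.fst f g) := congrArg (fun t ↦ Spec.map ε ≫ t) hβ₁.symm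
      _ = (Spec.map ε ≫ ιz) ≫ pullback.fst f g := (Category.assoc _ _ _).symm
      _ = zz ≫ pullback.fst f g := congrArg (fun t ↦ t ≫ pullback.fst f g) hzz.symm
      _ = _ := hfst
  have e2 : ∀ (ε : (pullback f g).residueField z ⟶ .of Ω)
      (zz : Spec (.of Ω) ⟶ pullback f g), zz = Spec.map ε ≫ ιz →
      zz ≫ pullback.snd f g = v → β₂ ≫ ε = δ ≫ incl := by
    intro ε zz hzz hsnd
    apply Spec.map_injective
    rw [← cancel_mono (U.fromSpecResidueField u)]
    calc Spec.map (β₂ ≫ ε) ≫ U.fromSpecResidueField u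
        = Spec.map ε ≫ (Spec.map β₂ ≫ U.fromSpecResidueField u) :=
          (congrArg (fun t ↦ t ≫ U.fromSpecResidueField u) (Spec.map_comp β₂ ε)).trans
            (Category.assoc _ _ _)
      _ = Spec.map ε ≫ (ιz ≫ pullback.snd f g) := congrArg (fun t ↦ Spec.map ε ≫ t) hβ₂.symm
      _ = (Spec.map ε ≫ ιz) ≫ pullback.snd f g := (Category.assoc _ _ _).symm
      _ = zz ≫ pullback.snd f g := congrArg (fun t ↦ t ≫ pullback.snd f g) hzz.symm
      _ = Spec.map incl ≫ t := hsnd
      _ = Spec.map incl ≫ (Spec.map δ ≫ U.fromSpecResidueField u) :=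
          congrArg (fun t' ↦ Spec.map incl ≫ t') hδ.symm
      _ = _ := by rw [Spec.map_comp, Category.assoc]
  have h11 := e1 ε₁ φ₁ zA hε₁ (by rw [hzA, pullback.lift_fst]; exact hφ₁)
  have h12 := e1 ε₂ φ₂ zB hε₂ (by rw [hzB, pullback.lift_fst]; exact hφ₂)
  have h21 := e2 ε₁ zA hε₁ (by rw [hzA, pullback.lift_snd])
  have h22 := e2 ε₂ zB hε₂ (by rw [hzB, pullback.lift_snd])
  obtain ⟨b, hb⟩ := hδsurj ⟨α, IntermediateField.mem_adjoin_simple_self k α⟩
  have hbα : incl.hom (δ.hom b) = α := congrArg incl.hom hb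
  have hη1 : ε₁.hom (β₁.hom a - β₂.hom b) = 0 := by
    have a1 : ε₁.hom (β₁.hom a) = φ₁.hom a := congr($(h11).hom a)
    have a2 : ε₁.hom (β₂.hom b) = incl.hom (δ.hom b) := congr($(h21).hom b)
    exact (map_sub ε₁.hom (β₁.hom a) (β₂.hom b)).trans
      ((congrArg₂ (fun s t ↦ s - t) a1 (a2.trans hbα)).trans (sub_self α))
  have hη0 : β₁.hom a - β₂.hom b = 0 := (map_eq_zero_iff ε₁.hom ε₁.hom.injective).1 hη1
  have hη2 : ε₂.hom (β₁.hom a) - ε₂.hom (β₂.hom b) = 0 :=
    (map_sub ε₂.hom (β₁.hom a) (β₂.hom b)).symm.trans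
      ((congrArg ε₂.hom hη0).trans (map_zero ε₂.hom))
  have a1 : ε₂.hom (β₁.hom a) = φ₂.hom a := congr($(h12).hom a)
  have a2 : ε₂.hom (β₂.hom b) = incl.hom (δ.hom b) := congr($(h22).hom b)
  exact hane (a1.symm.trans ((sub_eq_zero.1 hη2).trans (a2.trans hbα))).symm


/-- **Separation of geometric points.** Two distinct geometric points of `X` over the same
geometric point of `Y` (`f` integral) are separated by a clopen subset of `X ×_Y V` for a suitable
étale neighbourhood `V` of the geometric point of `Y`. -/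
theorem exists_sep [IsIntegralHom f] (x₁ x₂ : Spec (.of Ω) ⟶ X) (h : x₁ ≫ f = x₂ ≫ f)
    (hne : x₁ ≠ x₂) :
    ∃ (V : Scheme.{u}) (c : V ⟶ Y) (_ : Etale c) (v : Spec (.of Ω) ⟶ V) (hv : v ≫ c = x₁ ≫ f)
      (W : (pullback f c).Opens), IsClosed (W : Set ↥(pullback f c)) ∧
      (pullback.lift x₁ v hv.symm) default ∈ W ∧
      (pullback.lift x₂ v (h ▸ hv.symm)) default ∉ W := by
  by_cases hpt : x₁ default = x₂ default
  · obtain ⟨V₁, c₁, hc₁, v₁, hv₁, hzne⟩ := exists_ne_pt_of_eq_pt f x₁ x₂ h hne hpt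
    let f₁ := pullback.snd f c₁
    let zA : Spec (.of Ω) ⟶ pullback f c₁ := pullback.lift x₁ v₁ hv₁.symm
    let zB : Spec (.of Ω) ⟶ pullback f c₁ := pullback.lift x₂ v₁ (h ▸ hv₁.symm)
    have hA : zA ≫ f₁ = v₁ := pullback.lift_snd _ _ _
    have hB : zB ≫ f₁ = v₁ := pullback.lift_snd _ _ _
    obtain ⟨V₂, c₂, hc₂, v₂, hv₂, W₂, hW₂, hmem, hnmem⟩ :=
      exists_sep_of_ne_pt f₁ zA zB (hA.trans hB.symm) hzne
    have hv : v₂ ≫ c₂ ≫ c₁ = x₁ ≫ f := by
      rw [← Category.assoc, hv₂, hA, hv₁]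
    let e : pullback f₁ c₂ ≅ pullback f (c₂ ≫ c₁) := pullbackLeftPullbackSndIso f c₁ c₂
    have key : ∀ (x : Spec (.of Ω) ⟶ X) (hx : x ≫ f = v₁ ≫ c₁) (hx' : x ≫ f = v₂ ≫ c₂ ≫ c₁)
        (hz : pullback.lift x v₁ hx ≫ f₁ = v₂ ≫ c₂),
        e.inv ((pullback.lift x v₂ hx') default) =
          (pullback.lift (pullback.lift x v₁ hx) v₂ hz) default := by
      intro x hx hx' hz
      have : pullback.lift x v₂ hx' = pullback.lift (pullback.lift x v₁ hx) v₂ hz ≫ e.hom := by
        apply pullback.hom_ext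
        · rw [pullback.lift_fst, Category.assoc, pullbackLeftPullbackSndIso_hom_fst,
            pullback.lift_fst_assoc, pullback.lift_fst]
        · rw [pullback.lift_snd, Category.assoc, pullbackLeftPullbackSndIso_hom_snd,
            pullback.lift_snd]
      rw [this, Scheme.Hom.comp_apply, ← Scheme.Hom.comp_apply, Iso.hom_inv_id]
      rfl
    haveI : Etale c₂ := hc₂
    haveI : Etale c₁ := hc₁
    refine ⟨V₂, c₂ ≫ c₁, inferInstance, v₂, hv, e.inv ⁻¹ᵁ W₂, ?_, ?_, ?_⟩
    · exact hW₂.preimage e.inv.continuous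
    · change e.inv _ ∈ W₂
      rw [key x₁ hv₁.symm hv.symm (by rw [hA]; exact (hv₂.trans hA).symm)]
      exact hmem
    · change e.inv _ ∉ W₂
      rw [key x₂ (h ▸ hv₁.symm) (h ▸ hv.symm) (by rw [hB]; exact (hv₂.trans hA).symm)]
      exact hnmem
  · exact exists_sep_of_ne_pt f x₁ x₂ h hpt


end Groth.Agent.H7.IntSep
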