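import Groth.Agent.H7.FinPushBC
import Groth.Agent.H7.IntSep

/-!
# Degree-zero base change for the push-forward along an integral morphism
-/

set_option autoImplicit false
set_option linter.style.haveILetI false
universe u

open AlgebraicGeometry CategoryTheory Limits Opposite EtCoh
open Groth.Agent.H4.Stalks Groth.Agent.H4.StalkPull Groth.Agent.H4.GlueSec
open Groth.Agent.H7.FinPush

namespace Groth.Agent.H7.IntPush

variable {X Y : Scheme.{u}} (f : X ⟶ Y) {Ω : Type u} [Field Ω] [IsAlgClosed Ω]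

section basic

/-- Separation of geometric points of an integral morphism, in the language of the small étale
sites. -/
theorem exists_sep_et [IsIntegralHom f] (y : Spec (.of Ω) ⟶ Y) (x₁ x₂ : Spec (.of Ω) ⟶ X)
    (h₁ : x₁ ≫ f = y) (h₂ : x₂ ≫ f = y) (hne : x₁ ≠ x₂) :
    ∃ (V : Y.Etale) (v : Fib y V) (W : ((bc f).obj V).left.Opens),
      IsClosed (W : Set ((bc f).obj V).left) ∧ (ptFib f y x₁ h₁ v).pt ∈ W ∧
      (ptFib f y x₂ h₂ v).pt ∉ W := by
  obtain ⟨Vs, c, hc, v₀, hv₀, W₀, hW₀, hmem, hnmem⟩ :=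
    Groth.Agent.H7.IntSep.exists_sep f x₁ x₂ (h₁.trans h₂.symm) hne
  haveI : Etale c := hc
  let V : Y.Etale := Scheme.Etale.mk c
  let v : Fib y V := Over.homMk v₀ (hv₀.trans h₁)
  let sym : pullback c f ⟶ pullback f c := (pullbackSymmetry c f).hom
  have hsym1 : sym ≫ pullback.fst f c = pullback.snd c f := pullbackSymmetry_hom_comp_fst c f
  have hsym2 : sym ≫ pullback.snd f c = pullback.fst c f := pullbackSymmetry_hom_comp_snd c f
  have key : ∀ (x : Spec (.of Ω) ⟶ X) (hx : x ≫ f = y) (hx' : x ≫ f = v₀ ≫ c),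
      sym ((ptFib f y x hx v).pt) = (pullback.lift x v₀ hx') default := by
    intro x hx hx'
    have : (ptFib f y x hx v).left ≫ sym = pullback.lift x v₀ hx' := by
      apply pullback.hom_ext
      · exact ((Category.assoc _ _ _).trans (congrArg (fun t ↦ (ptFib f y x hx v).left ≫ t)
          hsym1)).trans ((ptFib_left_snd f y x hx v).trans (pullback.lift_fst _ _ _).symm)
      · exact ((Category.assoc _ _ _).trans (congrArg (fun t ↦ (ptFib f y x hx v).left ≫ t)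
          hsym2)).trans ((ptFib_left_fst f y x hx v).trans (pullback.lift_snd _ _ _).symm)
    rw [← this]
    rfl
  refine ⟨V, v, sym ⁻¹ᵁ W₀, hW₀.preimage sym.continuous, ?_, ?_⟩
  · change sym _ ∈ W₀
    rw [key x₁ h₁ hv₀.symm]
    exact hmem
  · change sym _ ∉ W₀
    rw [key x₂ h₂ (h₂.trans (hv₀.trans h₁).symm)]
    exact hnmem

/-- an element of the stalk of `f_* F` (`f` integral) is determined by its images under the
`ρ`. -/
theorem eq_of_rho'_eq [IsIntegralHom f] (F : Ab X) (η : Spec (.of Ω) ⟶ Y)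
    (σ₁ σ₂ : (stalk η).obj ((push f).obj F))
    (h : ∀ (x : Spec (.of Ω) ⟶ X) (hx : x ≫ f = η), rho' f η x hx F σ₁ = rho' f η x hx F σ₂) :
    σ₁ = σ₂ := by
  obtain ⟨V, v, s, hs⟩ := germ_surjective _ (σ₁ - σ₂)
  have h0 : germ ((push f).obj F) v s = 0 := by
    apply germ_push_eq_zero' f η F v s
    intro x hx
    rw [← rho'_germ, hs, map_sub, h x hx, sub_self]
  exact sub_eq_zero.1 (hs.symm.trans h0)

/-- every element of the stalk of `F` at `x` is the image of an element of the stalk of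
`f_* F`. -/
theorem exists_stalk_elt [IsIntegralHom f] (y : Spec (.of Ω) ⟶ Y) (x : Spec (.of Ω) ⟶ X)
    (hx : x ≫ f = y) (F : Ab X) (τ : (stalk x).obj F) :
    ∃ σ : (stalk y).obj ((push f).obj F), rho' f y x hx F σ = τ := by
  obtain ⟨U, ū, s, rfl⟩ := germ_surjective F τ
  obtain ⟨V, v, W, hW, k, w, hw1, hw2⟩ := exists_pointed_nbhd f y x hx ū
  obtain ⟨t, ht1, -⟩ := exists_extend_zero F ((bc f).obj V) W hW (F.obj.map k.op s)
  refine ⟨germ ((push f).obj F) v t, ?_⟩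
  rw [rho'_germ, ← hw1, ← germ_res, ht1, germ_res, hw2]

end basic

section trace

variable {Z : Scheme.{u}} {p : Z ⟶ X} {q : Z ⟶ Spec (.of Ω)} {y : Spec (.of Ω) ⟶ Y}
  (hZ : IsPullback p q f y)

/-- the section of the geometric fibre `Z` determined by a geometric point `x` over `y`. -/
noncomputable def sec (x : Spec (.of Ω) ⟶ X) (hx : x ≫ f = y) : Spec (.of Ω) ⟶ Z :=
  hZ.lift x (𝟙 _) (by rw [hx, Category.id_comp])

omit [IsAlgClosed Ω] in
theorem sec_p (x : Spec (.of Ω) ⟶ X) (hx : x ≫ f = y) : sec f hZ x hx ≫ p = x :=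
  hZ.lift_fst _ _ _

omit [IsAlgClosed Ω] in
theorem sec_q (x : Spec (.of Ω) ⟶ X) (hx : x ≫ f = y) : sec f hZ x hx ≫ q = 𝟙 _ :=
  hZ.lift_snd _ _ _

/-- the morphism from the geometric fibre to `X ×_Y V` determined by `v`. -/
noncomputable def mV {V : Y.Etale} (v : Fib y V) : Z ⟶ ((bc f).obj V).left :=
  pullback.lift (q ≫ v.left) p (by
    rw [Category.assoc, hZ.w]
    exact congrArg (fun t ↦ q ≫ t) (Over.w v))

theorem mV_fst {V : Y.Etale} (v : Fib y V) :
    mV f hZ v ≫ pullback.fst V.hom f = q ≫ v.left := pullback.lift_fst _ _ _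

theorem mV_snd {V : Y.Etale} (v : Fib y V) :
    mV f hZ v ≫ pullback.snd V.hom f = p := pullback.lift_snd _ _ _

theorem sec_mV (x : Spec (.of Ω) ⟶ X) (hx : x ≫ f = y) {V : Y.Etale} (v : Fib y V) :
    sec f hZ x hx ≫ mV f hZ v = (ptFib f y x hx v).left := by
  apply pullback.hom_ext
  · have h1 : (sec f hZ x hx ≫ mV f hZ v) ≫ pullback.fst V.hom f = v.left := calc
      (sec f hZ x hx ≫ mV f hZ v) ≫ pullback.fst V.hom f
        = sec f hZ x hx ≫ (mV f hZ v ≫ pullback.fst V.hom f) := Category.assoc _ _ _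
      _ = sec f hZ x hx ≫ (q ≫ v.left) := congrArg (fun t ↦ sec f hZ x hx ≫ t) (mV_fst f hZ v)
      _ = (sec f hZ x hx ≫ q) ≫ v.left := (Category.assoc _ _ _).symm
      _ = (𝟙 _) ≫ v.left := congrArg (fun t ↦ t ≫ v.left) (sec_q f hZ x hx)
      _ = v.left := Category.id_comp _
    exact h1.trans (ptFib_left_fst f y x hx v).symm
  · exact calc
      (sec f hZ x hx ≫ mV f hZ v) ≫ pullback.snd V.hom f
        = sec f hZ x hx ≫ (mV f hZ v ≫ pullback.snd V.hom f) := Category.assoc _ _ _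
      _ = sec f hZ x hx ≫ p := congrArg (fun t ↦ sec f hZ x hx ≫ t) (mV_snd f hZ v)
      _ = x := sec_p f hZ x hx
      _ = (ptFib f y x hx v).left ≫ pullback.snd V.hom f := (ptFib_left_snd f y x hx v).symm

theorem mV_map {V₁ V : Y.Etale} (c : V₁ ⟶ V) (v₁ : Fib y V₁) :
    mV f hZ v₁ ≫ ((bc f).map c).left = mV f hZ ((Scheme.pointSmallEtale y).fiber.map c v₁) := by
  apply pullback.hom_ext
  · exact calc
      (mV f hZ v₁ ≫ ((bc f).map c).left) ≫ pullback.fst V.hom f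
        = mV f hZ v₁ ≫ (((bc f).map c).left ≫ pullback.fst V.hom f) := Category.assoc _ _ _
      _ = mV f hZ v₁ ≫ (pullback.fst V₁.hom f ≫ c.left) :=
          congrArg (fun t ↦ mV f hZ v₁ ≫ t) (bc_map_left_fst f c)
      _ = (mV f hZ v₁ ≫ pullback.fst V₁.hom f) ≫ c.left := (Category.assoc _ _ _).symm
      _ = (q ≫ v₁.left) ≫ c.left := congrArg (fun t ↦ t ≫ c.left) (mV_fst f hZ v₁)
      _ = q ≫ (v₁.left ≫ c.left) := Category.assoc _ _ _
      _ = mV f hZ ((Scheme.pointSmallEtale y).fiber.map c v₁) ≫ pullback.fst V.hom f :=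
          (mV_fst f hZ ((Scheme.pointSmallEtale y).fiber.map c v₁)).symm
  · exact calc
      (mV f hZ v₁ ≫ ((bc f).map c).left) ≫ pullback.snd V.hom f
        = mV f hZ v₁ ≫ (((bc f).map c).left ≫ pullback.snd V.hom f) := Category.assoc _ _ _
      _ = mV f hZ v₁ ≫ pullback.snd V₁.hom f :=
          congrArg (fun t ↦ mV f hZ v₁ ≫ t) (bc_map_left_snd f c)
      _ = p := mV_snd f hZ v₁
      _ = mV f hZ ((Scheme.pointSmallEtale y).fiber.map c v₁) ≫ pullback.snd V.hom f :=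
          (mV_snd f hZ ((Scheme.pointSmallEtale y).fiber.map c v₁)).symm

theorem mem_preimage_mV_iff (x : Spec (.of Ω) ⟶ X) (hx : x ≫ f = y) {V : Y.Etale} (v : Fib y V)
    (W : Set ((bc f).obj V).left) :
    (sec f hZ x hx) default ∈ mV f hZ v ⁻¹' W ↔ (ptFib f y x hx v).pt ∈ W := by
  rw [Set.mem_preimage, ← Scheme.Hom.comp_apply, sec_mV]
  rfl

omit [IsAlgClosed Ω] in
include hZ in
theorem isIntegralHom_q [IsIntegralHom f] : IsIntegralHom q :=
  MorphismProperty.of_isPullback hZ inferInstance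

theorem exists_sec [IsIntegralHom f] (z : Z) :
    ∃ (x : Spec (.of Ω) ⟶ X) (hx : x ≫ f = y), (sec f hZ x hx) default = z := by
  haveI := isIntegralHom_q f hZ
  obtain ⟨σ, hσ1, hσ2⟩ := Groth.Agent.H7.GeomPt.exists_section_of_isIntegralHom q z
  have hx : (σ ≫ p) ≫ f = y := by
    rw [Category.assoc, hZ.w, ← Category.assoc, hσ1, Category.id_comp]
  refine ⟨σ ≫ p, hx, ?_⟩
  have : sec f hZ (σ ≫ p) hx = σ := by
    apply hZ.hom_ext
    · rw [sec_p]
    · rw [sec_q, hσ1]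
  rw [this, hσ2]

omit [IsAlgClosed Ω] in
include hZ in
theorem compactSpace_Z [IsIntegralHom f] : CompactSpace Z := by
  haveI := isIntegralHom_q f hZ
  haveI : IsAffine Z := isAffine_of_isAffineHom q
  infer_instance

/-- a subset of the geometric fibre is a *trace* if it is the preimage of a clopen subset of
`X ×_Y V` for some étale neighbourhood `V` of `y`. -/
def IsTrace (T : Set Z) : Prop :=
  ∃ (V : Y.Etale) (v : Fib y V) (W : ((bc f).obj V).left.Opens),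
    IsClosed (W : Set ((bc f).obj V).left) ∧ T = mV f hZ v ⁻¹' (W : Set ((bc f).obj V).left)

variable {f hZ}

theorem IsTrace.isOpen {T : Set Z} (hT : IsTrace f hZ T) : IsOpen T := by
  obtain ⟨V, v, W, hW, rfl⟩ := hT
  exact W.2.preimage (mV f hZ v).continuous

theorem IsTrace.isClosed {T : Set Z} (hT : IsTrace f hZ T) : IsClosed T := by
  obtain ⟨V, v, W, hW, rfl⟩ := hT
  exact hW.preimage (mV f hZ v).continuous

theorem IsTrace.compl {T : Set Z} (hT : IsTrace f hZ T) : IsTrace f hZ Tᶜ := by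
  obtain ⟨V, v, W, hW, rfl⟩ := hT
  exact ⟨V, v, ⟨(W : Set ((bc f).obj V).left)ᶜ, hW.isOpen_compl⟩, W.2.isClosed_compl, rfl⟩

theorem IsTrace.inter {T₁ T₂ : Set Z} (h₁ : IsTrace f hZ T₁) (h₂ : IsTrace f hZ T₂) :
    IsTrace f hZ (T₁ ∩ T₂) := by
  obtain ⟨Va, va, Wa, hWa, rfl⟩ := h₁
  obtain ⟨Vb, vb, Wb, hWb, rfl⟩ := h₂
  let ea : (Scheme.pointSmallEtale y).fiber.Elements := ⟨Va, va⟩
  let eb : (Scheme.pointSmallEtale y).fiber.Elements := ⟨Vb, vb⟩
  let m : (Scheme.pointSmallEtale y).fiber.Elements := IsCofiltered.min ea eb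
  let l : m ⟶ ea := IsCofiltered.minToLeft _ _
  let r : m ⟶ eb := IsCofiltered.minToRight _ _
  let V : Y.Etale := m.1
  let v : Fib y V := m.2
  let ca : V ⟶ Va := l.1
  let cb : V ⟶ Vb := r.1
  have hva : (Scheme.pointSmallEtale y).fiber.map ca v = va := l.2
  have hvb : (Scheme.pointSmallEtale y).fiber.map cb v = vb := r.2
  let W : ((bc f).obj V).left.Opens :=
    ((bc f).map ca).left ⁻¹ᵁ Wa ⊓ ((bc f).map cb).left ⁻¹ᵁ Wb
  have hWcl : IsClosed (W : Set ((bc f).obj V).left) :=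
    (hWa.preimage ((bc f).map ca).left.continuous).inter
      (hWb.preimage ((bc f).map cb).left.continuous)
  refine ⟨V, v, W, hWcl, ?_⟩
  have ha : mV f hZ v ≫ ((bc f).map ca).left = mV f hZ va := by rw [mV_map, hva]
  have hb : mV f hZ v ≫ ((bc f).map cb).left = mV f hZ vb := by rw [mV_map, hvb]
  ext z
  constructor
  · rintro ⟨h1, h2⟩
    refine ⟨?_, ?_⟩
    · change ((bc f).map ca).left (mV f hZ v z) ∈ Wa
      rw [← Scheme.Hom.comp_apply, ha]; exact h1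
    · change ((bc f).map cb).left (mV f hZ v z) ∈ Wb
      rw [← Scheme.Hom.comp_apply, hb]; exact h2
  · rintro ⟨h1, h2⟩
    refine ⟨?_, ?_⟩
    · change mV f hZ va z ∈ Wa
      rw [← ha, Scheme.Hom.comp_apply]; exact h1
    · change mV f hZ vb z ∈ Wb
      rw [← hb, Scheme.Hom.comp_apply]; exact h2

variable (f hZ) in
theorem isTrace_univ : IsTrace f hZ (Set.univ : Set Z) := by
  let e : (Scheme.pointSmallEtale y).fiber.Elements :=
    (IsCofiltered.nonempty (C := (Scheme.pointSmallEtale y).fiber.Elements)).some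
  exact ⟨e.1, e.2, ⊤, isClosed_univ, rfl⟩

variable (f hZ) in
theorem exists_isTrace_sep [IsIntegralHom f] (z₁ z₂ : Z) (hne : z₁ ≠ z₂) :
    ∃ T, IsTrace f hZ T ∧ z₁ ∈ T ∧ z₂ ∉ T := by
  obtain ⟨x₁, hx₁, rfl⟩ := exists_sec f hZ z₁
  obtain ⟨x₂, hx₂, rfl⟩ := exists_sec f hZ z₂
  have hx : x₁ ≠ x₂ := by
    rintro rfl
    exact hne rfl
  obtain ⟨V, v, W, hW, hm, hnm⟩ := exists_sep_et f y x₁ x₂ hx₁ hx₂ hx
  refine ⟨_, ⟨V, v, W, hW, rfl⟩, ?_, ?_⟩
  · rw [mem_preimage_mV_iff]; exact hm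
  · rw [mem_preimage_mV_iff]; exact hnm

end trace

section topology

/-- In a compact space, a family of clopen subsets which is stable under finite intersections
and separates points contains arbitrarily small neighbourhoods of every point. -/
theorem exists_mem_subset_of_sep {Z : Type*} [TopologicalSpace Z] [CompactSpace Z]
    (𝒯 : Set Z → Prop) (hclosed : ∀ T, 𝒯 T → IsClosed T) (huniv : 𝒯 Set.univ)
    (hinter : ∀ T₁ T₂, 𝒯 T₁ → 𝒯 T₂ → 𝒯 (T₁ ∩ T₂))
    (hsep : ∀ z₁ z₂, z₁ ≠ z₂ → ∃ T, 𝒯 T ∧ z₁ ∈ T ∧ z₂ ∉ T) (O : Set Z) (hO : IsOpen O) (z₀ : Z)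
    (hz₀ : z₀ ∈ O) : ∃ T, 𝒯 T ∧ z₀ ∈ T ∧ T ⊆ O := by
  classical
  have key : ∀ z : Z, ∃ T, 𝒯 T ∧ z₀ ∈ T ∧ (z ∉ O → z ∉ T) := by
    intro z
    by_cases hz : z ∈ O
    · exact ⟨Set.univ, huniv, Set.mem_univ _, fun h ↦ (h hz).elim⟩
    · have hne : z₀ ≠ z := fun e ↦ hz (e ▸ hz₀)
      obtain ⟨T, hT, h1, h2⟩ := hsep z₀ z hne
      exact ⟨T, hT, h1, fun _ ↦ h2⟩
  choose T hT h0 hz using key
  have hK : IsCompact Oᶜ := hO.isClosed_compl.isCompact
  obtain ⟨S, hS⟩ := hK.elim_finite_subcover (fun z ↦ (T z)ᶜ)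
    (fun z ↦ (hclosed _ (hT z)).isOpen_compl) (fun z hzK ↦ Set.mem_iUnion.2 ⟨z, hz z hzK⟩)
  have hfin : ∀ S : Finset Z, 𝒯 (⋂ z ∈ S, T z) ∧ z₀ ∈ ⋂ z ∈ S, T z := by
    intro S
    induction S using Finset.induction_on with
    | empty => simp [huniv]
    | insert a S ha IH =>
      rw [Finset.set_biInter_insert]
      exact ⟨hinter _ _ (hT a) IH.1, h0 a, IH.2⟩
  refine ⟨⋂ z ∈ S, T z, (hfin S).1, (hfin S).2, ?_⟩
  intro w hw
  by_contra hwO
  obtain ⟨z, hzS, hwz⟩ : ∃ z ∈ S, w ∈ (T z)ᶜ := by simpa using hS hwO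
  exact hwz (Set.mem_iInter₂.1 hw z hzS)

end topology

section glue

variable {Z : Scheme.{u}} {p : Z ⟶ X} {q : Z ⟶ Spec (.of Ω)} {y : Spec (.of Ω) ⟶ Y}
  (hZ : IsPullback p q f y)

/-- cutting an element of the stalk of `f_* F` down to a trace. -/
theorem exists_cut (F : Ab X) (σ : (stalk y).obj ((push f).obj F)) {T : Set Z}
    (hT : IsTrace f hZ T) :
    ∃ σ' : (stalk y).obj ((push f).obj F),
      (∀ (x : Spec (.of Ω) ⟶ X) (hx : x ≫ f = y), (sec f hZ x hx) default ∈ T →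
        rho' f y x hx F σ' = rho' f y x hx F σ) ∧
      (∀ (x : Spec (.of Ω) ⟶ X) (hx : x ≫ f = y), (sec f hZ x hx) default ∉ T →
        rho' f y x hx F σ' = 0) := by
  obtain ⟨Va, va, Wa, hWa, rfl⟩ := hT
  obtain ⟨Vb, vb, s, rfl⟩ := germ_surjective _ σ
  let ea : (Scheme.pointSmallEtale y).fiber.Elements := ⟨Va, va⟩
  let eb : (Scheme.pointSmallEtale y).fiber.Elements := ⟨Vb, vb⟩
  let m : (Scheme.pointSmallEtale y).fiber.Elements := IsCofiltered.min ea eb
  let l : m ⟶ ea := IsCofiltered.minToLeft _ _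
  let r : m ⟶ eb := IsCofiltered.minToRight _ _
  let V : Y.Etale := m.1
  let v : Fib y V := m.2
  let ca : V ⟶ Va := l.1
  let cb : V ⟶ Vb := r.1
  have hva : (Scheme.pointSmallEtale y).fiber.map ca v = va := l.2
  have hvb : (Scheme.pointSmallEtale y).fiber.map cb v = vb := r.2
  let W : ((bc f).obj V).left.Opens := ((bc f).map ca).left ⁻¹ᵁ Wa
  have hWcl : IsClosed (W : Set ((bc f).obj V).left) :=
    hWa.preimage ((bc f).map ca).left.continuous
  let s₂ : F.obj.obj (op ((bc f).obj V)) := F.obj.map ((bc f).map cb).op s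
  have hs₂ : germ ((push f).obj F) v s₂ = germ ((push f).obj F) vb s := by
    have := germ_res ((push f).obj F) cb v s
    rw [hvb] at this
    exact this
  have hpt : ∀ (x : Spec (.of Ω) ⟶ X) (hx : x ≫ f = y),
      ((ptFib f y x hx v).pt ∈ W ↔ (ptFib f y x hx va).pt ∈ Wa) := by
    intro x hx
    change ((bc f).map ca).left _ ∈ Wa ↔ _
    rw [← ptFib_pt_map, hva]
  obtain ⟨t, ht1, ht2⟩ := exists_extend_zero F ((bc f).obj V) W hWcl
    (F.obj.map (opnι _ W).op s₂)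
  refine ⟨germ ((push f).obj F) v t, ?_, ?_⟩
  · intro x hx hmem
    rw [mem_preimage_mV_iff] at hmem
    have hmemW : (ptFib f y x hx v).pt ∈ W := (hpt x hx).2 hmem
    obtain ⟨w, hw, -⟩ := Fib.exists_lift (opnι ((bc f).obj V) W) (ptFib f y x hx v)
      ⟨_, hmemW⟩ rfl
    rw [← hs₂, rho'_germ, rho'_germ, ← hw, ← germ_res, ← germ_res, ht1]
  · intro x hx hnmem
    rw [mem_preimage_mV_iff] at hnmem
    have hnmemW : (ptFib f y x hx v).pt ∉ W := fun h ↦ hnmem ((hpt x hx).1 h)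
    let Wc : ((bc f).obj V).left.Opens := ⟨(W : Set ((bc f).obj V).left)ᶜ, hWcl.isOpen_compl⟩
    obtain ⟨w', hw', -⟩ := Fib.exists_lift (opnι ((bc f).obj V) Wc) (ptFib f y x hx v)
      ⟨_, hnmemW⟩ rfl
    rw [rho'_germ, ← hw', ← germ_res, ht2]
    exact map_zero _

/-- **Gluing**: a family of elements of the stalks of `F` at the geometric points over `y` which
is, locally for the topology of traces, induced by elements of the stalk of `f_* F`, is induced
by an element of the stalk of `f_* F`. -/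
theorem exists_glue_stalk [IsIntegralHom f] (F : Ab X) {ι : Type*}
    (κ : ι → (Spec (.of Ω) ⟶ X)) (hκ : ∀ i, κ i ≫ f = y) (t : ∀ i, (stalk (κ i)).obj F)
    (hloc : ∀ z : Z, ∃ T, IsTrace f hZ T ∧ z ∈ T ∧ ∃ σ₀ : (stalk y).obj ((push f).obj F),
      ∀ i, (sec f hZ (κ i) (hκ i)) default ∈ T → rho' f y (κ i) (hκ i) F σ₀ = t i) :
    ∃ σ : (stalk y).obj ((push f).obj F), ∀ i, rho' f y (κ i) (hκ i) F σ = t i := by
  classical
  choose T hT hz σ₀ hσ₀ using hloc
  haveI := compactSpace_Z f hZ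
  obtain ⟨S, hS⟩ := isCompact_univ.elim_finite_subcover T (fun z ↦ (hT z).isOpen)
    (fun z _ ↦ Set.mem_iUnion.2 ⟨z, hz z⟩)
  have key : ∀ S : Finset Z, ∃ σ : (stalk y).obj ((push f).obj F), ∀ i,
      (sec f hZ (κ i) (hκ i)) default ∈ ⋃ z ∈ S, T z → rho' f y (κ i) (hκ i) F σ = t i := by
    intro S
    induction S using Finset.induction_on with
    | empty => exact ⟨0, fun i h ↦ by simp at h⟩
    | insert a S ha IH =>
      obtain ⟨σS, hσS⟩ := IH
      obtain ⟨α, hα1, hα2⟩ := exists_cut f hZ F (σ₀ a) (hT a)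
      obtain ⟨β, hβ1, hβ2⟩ := exists_cut f hZ F σS (hT a).compl
      refine ⟨α + β, fun i h ↦ ?_⟩
      rw [map_add]
      by_cases hxa : (sec f hZ (κ i) (hκ i)) default ∈ T a
      · rw [hα1 _ _ hxa, hβ2 _ _ (fun h' ↦ h' hxa), add_zero, hσ₀ a i hxa]
      · have : (sec f hZ (κ i) (hκ i)) default ∈ ⋃ z ∈ S, T z := by
          rw [Finset.set_biUnion_insert] at h
          exact h.resolve_left hxa
        rw [hα2 _ _ hxa, hβ1 _ _ hxa, zero_add, hσS i this]
  obtain ⟨σ, hσ⟩ := key S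
  exact ⟨σ, fun i ↦ hσ i (hS (Set.mem_univ _))⟩

/-- the vanishing locus of the images of an element of the stalk of `f_* F` is open in the
geometric fibre. -/
theorem exists_open_of_rho'_eq_zero (F : Ab X) (d : (stalk y).obj ((push f).obj F))
    (x₀ : Spec (.of Ω) ⟶ X) (hx₀ : x₀ ≫ f = y) (h0 : rho' f y x₀ hx₀ F d = 0) :
    ∃ O : Set Z, IsOpen O ∧ (sec f hZ x₀ hx₀) default ∈ O ∧
      ∀ (x : Spec (.of Ω) ⟶ X) (hx : x ≫ f = y), (sec f hZ x hx) default ∈ O →
        rho' f y x hx F d = 0 := by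
  obtain ⟨V, v, s, rfl⟩ := germ_surjective _ d
  rw [rho'_germ, germ_eq_zero_iff] at h0
  obtain ⟨N, a, n0, hn0, hs⟩ := h0
  obtain ⟨m, hm⟩ : ∃ m : Z ⟶ ((bc f).obj V).left, m = mV f hZ v := ⟨_, rfl⟩
  let π₁ : pullback m a.left ⟶ Z := pullback.fst m a.left
  let π₂ : pullback m a.left ⟶ N.left := pullback.snd m a.left
  have hcond : π₁ ≫ m = π₂ ≫ a.left := pullback.condition
  refine ⟨Set.range π₁, π₁.isOpenMap.isOpen_range, ?_, ?_⟩
  · have hc : sec f hZ x₀ hx₀ ≫ m = n0.left ≫ a.left := by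
      rw [hm, sec_mV]
      exact (congrArg (fun t : Fib x₀ ((bc f).obj V) ↦ t.left) hn0).symm
    refine ⟨(pullback.lift (sec f hZ x₀ hx₀) n0.left hc) default, ?_⟩
    have h1 : pullback.lift (sec f hZ x₀ hx₀) n0.left hc ≫ π₁ = sec f hZ x₀ hx₀ :=
      pullback.lift_fst _ _ _
    exact congrArg (fun t : Spec (.of Ω) ⟶ Z ↦ t default) h1
  · rintro x hx ⟨qpt, hq⟩
    obtain ⟨l, hl1, hl2⟩ := Scheme.exists_fac_of_etale_of_isSepClosed π₁ (sec f hZ x hx) qpt hq
    have ha : a.left ≫ pullback.snd V.hom f = N.hom := Over.w a.hom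
    have hN : (l ≫ π₂) ≫ N.hom = x :=
      calc (l ≫ π₂) ≫ N.hom = (l ≫ π₂) ≫ (a.left ≫ pullback.snd V.hom f) :=
            congrArg (fun t ↦ (l ≫ π₂) ≫ t) ha.symm
        _ = l ≫ ((π₂ ≫ a.left) ≫ pullback.snd V.hom f) := by simp only [Category.assoc]
        _ = l ≫ ((π₁ ≫ m) ≫ pullback.snd V.hom f) :=
            congrArg (fun t ↦ l ≫ (t ≫ pullback.snd V.hom f)) hcond.symm
        _ = (l ≫ π₁) ≫ (m ≫ pullback.snd V.hom f) := by simp only [Category.assoc]
        _ = sec f hZ x hx ≫ p := by rw [hl1, hm, mV_snd]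
        _ = x := sec_p f hZ x hx
    let nx : Fib x N := Over.homMk (l ≫ π₂) hN
    have hnx : (Scheme.pointSmallEtale x).fiber.map a nx = ptFib f y x hx v := by
      apply fib_ext
      exact calc (l ≫ π₂) ≫ a.left = l ≫ (π₂ ≫ a.left) := Category.assoc _ _ _
        _ = l ≫ (π₁ ≫ m) := congrArg (fun t ↦ l ≫ t) hcond.symm
        _ = (l ≫ π₁) ≫ m := (Category.assoc _ _ _).symm
        _ = sec f hZ x hx ≫ mV f hZ v := by rw [hl1, hm]
        _ = _ := sec_mV f hZ x hx v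
    rw [rho'_germ, ← hnx, ← germ_res, hs, map_zero]

end glue

section main

variable {X' Y' : Scheme.{u}} (g : Y' ⟶ Y) (f' : X' ⟶ Y') (g' : X' ⟶ X) (F : Ab X)

theorem bijective_Psi [IsIntegralHom f] (hpb : IsPullback g' f' f g) (y' : Spec (.of Ω) ⟶ Y') :
    Function.Bijective (Psi f g f' g' hpb.w F y') := by
  haveI : IsIntegralHom f' := MorphismProperty.of_isPullback hpb inferInstance
  have hlift : ∀ (x : Spec (.of Ω) ⟶ X) (hx : x ≫ f = y' ≫ g),
      ∃ ξ' : Spec (.of Ω) ⟶ X', ξ' ≫ f' = y' ∧ ξ' ≫ g' = x :=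
    fun x hx ↦ ⟨hpb.lift x y' hx, hpb.lift_snd _ _ _, hpb.lift_fst _ _ _⟩
  have hξ : ∀ (ξ' : Spec (.of Ω) ⟶ X'), ξ' ≫ f' = y' → (ξ' ≫ g') ≫ f = y' ≫ g := by
    intro ξ' h
    rw [Category.assoc, hpb.w, ← Category.assoc, h]
  constructor
  · change Function.Injective (Psi f g f' g' hpb.w F y').hom
    rw [injective_iff_map_eq_zero]
    intro σ hσ
    apply eq_of_rho'_eq f F (y' ≫ g)
    intro x hx
    rw [map_zero]
    obtain ⟨ξ', h1, h2⟩ := hlift x hx
    have h0 : rho' f' y' ξ' h1 ((pull g').obj F) (Psi f g f' g' hpb.w F y' σ) = 0 := by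
      have : Psi f g f' g' hpb.w F y' σ = 0 := hσ
      rw [this]; exact map_zero _
    rw [rho'_Psi f g f' g' hpb.w F y' ξ' h1 (hξ ξ' h1)] at h0
    have h3 : rho' f (y' ≫ g) (ξ' ≫ g') (hξ ξ' h1) F σ = 0 := by
      have hinj : Function.Injective ((stalkPullIso g' ξ').hom.app F) :=
        (ConcreteCategory.bijective_of_isIso _).1
      exact hinj (h0.trans (map_zero _).symm)
    subst h2
    exact h3
  · intro τ'
    let J' := {ξ' : Spec (.of Ω) ⟶ X' // ξ' ≫ f' = y'}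
    let κ : J' → (Spec (.of Ω) ⟶ X) := fun ξ' ↦ ξ'.1 ≫ g'
    have hκ : ∀ ξ' : J', κ ξ' ≫ f = y' ≫ g := fun ξ' ↦ hξ ξ'.1 ξ'.2
    let t : ∀ ξ' : J', (stalk (κ ξ')).obj F := fun ξ' ↦
      (stalkPullIso g' ξ'.1).inv.app F (rho' f' y' ξ'.1 ξ'.2 ((pull g').obj F) τ')
    have ht : ∀ ξ' : J', (stalkPullIso g' ξ'.1).hom.app F (t ξ') =
        rho' f' y' ξ'.1 ξ'.2 ((pull g').obj F) τ' := by
      intro ξ'
      change (stalkPullIso g' ξ'.1).hom.app F ((stalkPullIso g' ξ'.1).inv.app F _) = _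
      rw [← ConcreteCategory.comp_apply, ← NatTrans.comp_app, Iso.inv_hom_id]
      rfl
    -- the geometric fibre
    have hZ' : IsPullback (pullback.fst f' y') (pullback.snd f' y') f' y' :=
      IsPullback.of_hasPullback _ _
    have hZ : IsPullback (pullback.fst f' y' ≫ g') (pullback.snd f' y') f (y' ≫ g) :=
      hZ'.paste_horiz hpb
    have hsec : ∀ ξ' : J', sec f hZ (κ ξ') (hκ ξ') = sec f' hZ' ξ'.1 ξ'.2 := by
      intro ξ'
      apply hZ'.hom_ext
      · apply hpb.hom_ext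
        · rw [Category.assoc, sec_p f hZ, sec_p f' hZ']
        · rw [Category.assoc, hZ'.w, ← Category.assoc, sec_q f hZ, sec_p f' hZ', Category.id_comp,
            ξ'.2]
      · rw [sec_q f hZ, sec_q f' hZ']
    obtain ⟨σ, hσ⟩ := exists_glue_stalk f hZ F κ hκ t (by
      intro z
      obtain ⟨ξ₀, hξ₀, rfl⟩ := exists_sec f' hZ' z
      obtain ⟨σ₀, hσ₀⟩ := exists_stalk_elt f (y' ≫ g) (ξ₀ ≫ g') (hξ ξ₀ hξ₀) F (t ⟨ξ₀, hξ₀⟩)
      let d := Psi f g f' g' hpb.w F y' σ₀ - τ'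
      have hd : ∀ ξ' : J', rho' f' y' ξ'.1 ξ'.2 ((pull g').obj F) d = 0 ↔
          (stalkPullIso g' ξ'.1).hom.app F (rho' f (y' ≫ g) (κ ξ') (hκ ξ') F σ₀) =
            rho' f' y' ξ'.1 ξ'.2 ((pull g').obj F) τ' := by
        intro ξ'
        rw [map_sub, rho'_Psi f g f' g' hpb.w F y' ξ'.1 ξ'.2 (hκ ξ'), sub_eq_zero]
      have hd0 : rho' f' y' ξ₀ hξ₀ ((pull g').obj F) d = 0 := by
        rw [hd ⟨ξ₀, hξ₀⟩, hσ₀, ht]
      obtain ⟨O, hO, hmemO, hOz⟩ :=
        exists_open_of_rho'_eq_zero f' hZ' ((pull g').obj F) d ξ₀ hξ₀ hd0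
      haveI := compactSpace_Z f hZ
      obtain ⟨T, hT, hzT, hTO⟩ := exists_mem_subset_of_sep (IsTrace f hZ)
        (fun T hT ↦ hT.isClosed) (isTrace_univ f hZ) (fun T₁ T₂ h₁ h₂ ↦ h₁.inter h₂)
        (exists_isTrace_sep f hZ) O hO _ hmemO
      refine ⟨T, hT, hzT, σ₀, ?_⟩
      intro ξ' hmem
      rw [hsec] at hmem
      have h1 := hOz ξ'.1 ξ'.2 (hTO hmem)
      rw [hd ξ', ← ht] at h1
      have hinj : Function.Injective ((stalkPullIso g' ξ'.1).hom.app F) :=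
        (ConcreteCategory.bijective_of_isIso _).1
      exact hinj h1)
    refine ⟨σ, ?_⟩
    apply eq_of_rho'_eq f' ((pull g').obj F) y'
    intro x' hx'
    rw [rho'_Psi f g f' g' hpb.w F y' x' hx' (hξ x' hx')]
    have := hσ ⟨x', hx'⟩
    rw [← ht ⟨x', hx'⟩, ← this]

/-- **Degree-zero base change for integral morphisms.** -/
theorem isIso_baseChange0_of_isIntegralHom [IsIntegralHom f] (hpb : IsPullback g' f' f g) :
    IsIso (baseChange0 f g f' g' hpb.w F) := by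
  have H : ∀ Φ : (PXA Y').FullSubcategory,
      IsIso ((Φ.obj.sheafFiber (A := AddCommGrpCat.{u + 1})).map
        (baseChange0 f g f' g' hpb.w F)) := by
    rintro ⟨_, ⟨s⟩⟩
    let y' := geomPtA s
    have hb := bijective_Psi f g f' g' F hpb y'
    have h1 : IsIso (Psi f g f' g' hpb.w F y') := (ConcreteCategory.isIso_iff_bijective _).2 hb
    unfold Psi at h1
    exact IsIso.of_isIso_comp_left ((stalkPullIso g y').hom.app ((push f).obj F)) _
  exact (jriA Y').isIso _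

end main

end Groth.Agent.H7.IntPush
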