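import Mathlib

/-!
# Extending integral surjective morphisms from a retrocompact open

Helper lemmas for S1377.
-/

namespace Groth.Agent.H7

open AlgebraicGeometry CategoryTheory Limits

universe u

/-- For `v : V ⟶ U` integral and `U ⊆ S` a retrocompact open, the normalization of `S` in `V`
restricts to `V` over `U`. -/
theorem isPullback_toNormalization_of_isIntegralHom {S V : Scheme.{u}} (U : S.Opens)
    [QuasiCompact U.ι] (v : V ⟶ (U : Scheme.{u})) [IsIntegralHom v] :
    IsPullback (v ≫ U.ι).toNormalization v (v ≫ U.ι).fromNormalization U.ι := by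
  set f := v ≫ U.ι with hf
  set g := U.ι with hg
  have h1 : IsPullback (𝟙 V) v f g := by
    have ha : IsPullback (𝟙 V) v v (𝟙 _) := IsPullback.of_horiz_isIso ⟨by simp⟩
    have hb : IsPullback (𝟙 (U : Scheme.{u})) (𝟙 _) g g := IsKernelPair.id_of_mono g
    simpa using ha.paste_vert hb
  have hsnd : pullback.snd f g = h1.isoPullback.inv ≫ v := by
    rw [Iso.eq_inv_comp]; simp
  have : IsIntegralHom (pullback.snd f g) := by
    rw [hsnd]; infer_instance
  let φ : V ⟶ pullback f.fromNormalization g :=
    pullback.lift f.toNormalization v f.toNormalization_fromNormalization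
  have hφ : φ = h1.isoPullback.hom ≫ (pullback.snd f g).toNormalization ≫
      f.normalizationPullback g := by
    apply pullback.hom_ext
    · simp only [φ, Category.assoc, Scheme.Hom.toNormalization_normalizationPullback_fst,
        IsPullback.isoPullback_hom_fst_assoc, Category.id_comp]
      exact pullback.lift_fst _ _ _
    · simp only [φ, Category.assoc, Scheme.Hom.normalizationPullback_snd,
        Scheme.Hom.toNormalization_fromNormalization, IsPullback.isoPullback_hom_snd]
      exact pullback.lift_snd _ _ _
  have : IsIso φ := by rw [hφ]; infer_instance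
  exact IsPullback.of_iso_pullback ⟨f.toNormalization_fromNormalization⟩ (asIso φ)
    (pullback.lift_fst _ _ _) (pullback.lift_snd _ _ _)

/-- Stacks-style extension: a surjective integral morphism over a retrocompact open extends to a
surjective integral morphism over the whole scheme. -/
theorem exists_integral_surjective_extension {S V : Scheme.{u}} (U : S.Opens) [QuasiCompact U.ι]
    (v : V ⟶ (U : Scheme.{u})) [IsIntegralHom v] [Surjective v] :
    ∃ (V' : Scheme.{u}) (π : V' ⟶ S) (i : V ⟶ V'),
      Surjective π ∧ IsIntegralHom π ∧ IsPullback i v π U.ι := by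
  have h0 := isPullback_toNormalization_of_isIntegralHom U v
  set f := v ≫ U.ι with hf
  let Zc : TopologicalSpace.Closeds S := ⟨(U : Set S)ᶜ, U.2.isClosed_compl⟩
  let I := Scheme.IdealSheafData.vanishingIdeal Zc
  let z : I.subscheme ⟶ S := I.subschemeι
  have hz : Set.range z = (U : Set S)ᶜ := by
    rw [I.range_subschemeι]; simp [I, Zc]
  let π : f.normalization ⨿ I.subscheme ⟶ S := coprod.desc f.fromNormalization z
  have hinl : (coprod.inl : f.normalization ⟶ f.normalization ⨿ I.subscheme) ≫ π =
      f.fromNormalization := coprod.inl_desc _ _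
  have hinr : (coprod.inr : I.subscheme ⟶ f.normalization ⨿ I.subscheme) ≫ π = z :=
    coprod.inr_desc _ _
  -- key range fact
  have hrange : ∀ {T : Scheme.{u}} (a : T ⟶ f.normalization ⨿ I.subscheme)
      (b : T ⟶ (U : Scheme.{u})), a ≫ π = b ≫ U.ι →
      Set.range a ⊆ Set.range (coprod.inl : f.normalization ⟶ f.normalization ⨿ I.subscheme) := by
    rintro T a b hab _ ⟨t, rfl⟩
    have hx : a t ∈ Set.range (coprod.inl : f.normalization ⟶ f.normalization ⨿ I.subscheme) ∪
        Set.range (coprod.inr : I.subscheme ⟶ f.normalization ⨿ I.subscheme) := by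
      have := (isCompl_range_inl_inr (f.normalization) I.subscheme).sup_eq_top
      have h' : a t ∈ (⊤ : Set ↥(f.normalization ⨿ I.subscheme)) := Set.mem_univ _
      rw [← this] at h'
      exact h'
    rcases hx with hx | ⟨ζ, hζ⟩
    · exact hx
    · exfalso
      have h1 : π (a t) = z ζ := by
        rw [← hζ, ← Scheme.Hom.comp_apply, hinr]
      have h2 : π (a t) = U.ι (b t) := by
        rw [← Scheme.Hom.comp_apply, hab, Scheme.Hom.comp_apply]
      have h3 : z ζ ∈ (U : Set S)ᶜ := by rw [← hz]; exact ⟨ζ, rfl⟩
      apply h3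
      rw [← h1, h2]
      exact (b t).2
  refine ⟨f.normalization ⨿ I.subscheme, π, f.toNormalization ≫ coprod.inl, ⟨fun s ↦ ?_⟩,
    inferInstance, ?_⟩
  · by_cases hs : s ∈ U
    · obtain ⟨x, hx⟩ := v.surjective ⟨s, hs⟩
      refine ⟨(f.toNormalization ≫ coprod.inl) x, ?_⟩
      rw [← Scheme.Hom.comp_apply, Category.assoc, hinl, f.toNormalization_fromNormalization, hf,
        Scheme.Hom.comp_apply, hx]
      rfl
    · have : s ∈ Set.range z := by rw [hz]; exact hs
      obtain ⟨ζ, rfl⟩ := this
      exact ⟨(coprod.inr : I.subscheme ⟶ f.normalization ⨿ I.subscheme) ζ,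
        by rw [← Scheme.Hom.comp_apply, hinr]⟩
  · have hw : (f.toNormalization ≫ coprod.inl) ≫ π = v ≫ U.ι := by
      rw [Category.assoc, hinl, f.toNormalization_fromNormalization]
    refine IsPullback.of_isLimit' ⟨hw⟩ (PullbackCone.IsLimit.mk _
      (fun s ↦ h0.lift (IsOpenImmersion.lift coprod.inl s.fst (hrange s.fst s.snd s.condition))
        s.snd ?_) ?_ ?_ ?_)
    · rw [← hinl, IsOpenImmersion.lift_fac_assoc]; exact s.condition
    · intro s
      rw [← Category.assoc, h0.lift_fst, IsOpenImmersion.lift_fac]
    · intro s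
      exact h0.lift_snd _ _ _
    · intro s m hm1 hm2
      apply h0.hom_ext
      · rw [h0.lift_fst, ← cancel_mono (coprod.inl : f.normalization ⟶ f.normalization ⨿ I.subscheme),
          IsOpenImmersion.lift_fac, Category.assoc]
        exact hm1
      · rw [h0.lift_snd]; exact hm2

end Groth.Agent.H7
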