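import Mathlib

/-!
# Minimal primes of a directed colimit with faithfully flat transition maps (helper for S1409)
-/

namespace Groth.Agent.H7

/-- elements of a minimal prime are nilpotent up to something outside the prime. -/
theorem exists_notMem_mul_pow_eq_zero_of_mem_minimalPrimes {R : Type*} [CommRing R] {P : Ideal R}
    (hP : P ∈ minimalPrimes R) {a : R} (ha : a ∈ P) : ∃ s ∉ P, ∃ n : ℕ, s * a ^ n = 0 := by
  have := hP.1.1
  have h := IsLocalization.AtPrime.radical_map_of_mem_minimalPrimes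
    (A := Localization.AtPrime P) P ⊥ hP
  have ha' : algebraMap R (Localization.AtPrime P) a ∈
      ((⊥ : Ideal R).map (algebraMap R (Localization.AtPrime P))).radical := by
    rw [h]; exact Ideal.mem_map_of_mem _ ha
  rw [Ideal.map_bot] at ha'
  obtain ⟨n, hn⟩ := ha'
  rw [Ideal.mem_bot, ← map_pow, IsLocalization.map_eq_zero_iff P.primeCompl] at hn
  obtain ⟨s, hs⟩ := hn
  exact ⟨s.1, s.2, n, hs⟩

section

variable {ι : Type*} [Preorder ι] [IsDirected ι (· ≤ ·)] [Nonempty ι]
    (G : ι → Type*) [∀ i, CommRing (G i)] {R : Type*} [CommRing R]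
    (f : ∀ i j, i ≤ j → G i →+* G j) (φ : ∀ i, G i →+* R)
    (hφf : ∀ i j (h : i ≤ j) x, φ j (f i j h x) = φ i x)
    (hcomp : ∀ i j k (hij : i ≤ j) (hjk : j ≤ k) x, f j k hjk (f i j hij x) = f i k (hij.trans hjk) x)
    (hsurj : ∀ z : R, ∃ i x, φ i x = z)
    (hzero : ∀ i x, φ i x = 0 → ∃ j, ∃ h : i ≤ j, f i j h x = 0)
    (hflat : ∀ i j (h : i ≤ j), letI := (f i j h).toAlgebra; Module.FaithfullyFlat (G i) (G j))

omit [IsDirected ι (· ≤ ·)] [Nonempty ι] in
include hzero hflat in
theorem directed_of_injective (i : ι) : Function.Injective (φ i) := by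
  rw [injective_iff_map_eq_zero]
  intro x hx
  obtain ⟨j, h, hj⟩ := hzero i x hx
  let := (f i j h).toAlgebra
  have := hflat i j h
  have hinj : Function.Injective (algebraMap (G i) (G j)) := FaithfulSMul.algebraMap_injective _ _
  exact hinj (by rw [map_zero]; exact hj)

omit [Nonempty ι] in
include hφf hcomp hsurj hzero hflat in
theorem comap_mem_minimalPrimes_of_directed {P : Ideal R} (hP : P ∈ minimalPrimes R) (i : ι) :
    P.comap (φ i) ∈ minimalPrimes (G i) := by
  have hPp : P.IsPrime := hP.1.1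
  refine ⟨⟨inferInstance, bot_le⟩, fun q ⟨hq, _⟩ hqp a ha ↦ ?_⟩
  obtain ⟨s, hsP, n, hsn⟩ := exists_notMem_mul_pow_eq_zero_of_mem_minimalPrimes hP
    (Ideal.mem_comap.mp ha)
  obtain ⟨j₀, s₀, rfl⟩ := hsurj s
  obtain ⟨j, hij, hj₀j⟩ := exists_ge_ge i j₀
  have h0 : φ j (f j₀ j hj₀j s₀ * (f i j hij a) ^ n) = 0 := by
    rw [map_mul, map_pow, hφf, hφf]; exact hsn
  obtain ⟨k, hjk, hk⟩ := hzero j _ h0
  rw [map_mul, map_pow, hcomp, hcomp] at hk
  have hik : i ≤ k := hij.trans hjk
  let := (f i k hik).toAlgebra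
  have := hflat i k hik
  have hlo : (P.comap (φ k)).LiesOver (P.comap (φ i)) := by
    constructor
    ext x
    simp only [Ideal.mem_comap, Ideal.under, RingHom.algebraMap_toAlgebra, hφf]
  obtain ⟨Q, hQle, hQp, hQlo⟩ := Ideal.exists_ideal_le_liesOver_of_le (p := q)
    (q := P.comap (φ i)) (P.comap (φ k)) hqp
  have hs'' : f j₀ k (hj₀j.trans hjk) s₀ ∉ Q := fun h ↦ hsP (by
    have := hQle h
    rwa [Ideal.mem_comap, hφf] at this)
  have : f j₀ k (hj₀j.trans hjk) s₀ * f i k hik a ^ n ∈ Q := by rw [hk]; exact Q.zero_mem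
  have ha'' : f i k hik a ∈ Q :=
    hQp.mem_of_pow_mem n ((hQp.mem_or_mem this).resolve_left hs'')
  rw [hQlo.over]
  exact ha''

include hφf hcomp hsurj hzero hflat in
theorem encard_minimalPrimes_of_directed :
    (minimalPrimes R).encard = ⨆ i, (minimalPrimes (G i)).encard := by
  have hinj := directed_of_injective G f φ hzero hflat
  have hN1 := fun {P : Ideal R} (hP : P ∈ minimalPrimes R) (i : ι) ↦
    comap_mem_minimalPrimes_of_directed G f φ hφf hcomp hsurj hzero hflat hP i
  apply le_antisymm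
  · -- `n ≤ sup`
    by_contra hlt
    rw [not_le] at hlt
    obtain ⟨N, hN⟩ := ENat.ne_top_iff_exists.mp (ne_top_of_lt hlt)
    rw [← hN] at hlt
    have hk : ((N + 1 : ℕ) : ℕ∞) ≤ (minimalPrimes R).encard := by
      rw [Nat.cast_add, Nat.cast_one]; exact Order.add_one_le_of_lt hlt
    obtain ⟨T, hTs, hTc⟩ := Set.exists_subset_encard_eq hk
    have hTfin : T.Finite := Set.finite_of_encard_eq_coe hTc
    -- for each pair of distinct elements choose a separating index
    have hsep : ∀ P ∈ T, ∀ P' ∈ T, P ≠ P' → ∃ i, ∀ j, i ≤ j → P.comap (φ j) ≠ P'.comap (φ j) := by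
      intro P hP P' hP' hne
      have hnle : ¬ P ≤ P' := fun hle ↦ hne (hle.antisymm ((hTs hP').2 (hTs hP).1 hle))
      obtain ⟨a, haP, haP'⟩ := SetLike.not_le_iff_exists.mp hnle
      obtain ⟨i, x, rfl⟩ := hsurj a
      refine ⟨i, fun j hij heq ↦ haP' ?_⟩
      have : f i j hij x ∈ P.comap (φ j) := by rw [Ideal.mem_comap, hφf]; exact haP
      rw [heq, Ideal.mem_comap, hφf] at this
      exact this
    classical
    choose! ii hii using hsep
    obtain ⟨i₀, hi₀⟩ := ((hTfin.toFinset ×ˢ hTfin.toFinset).image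
      (fun PP : Ideal R × Ideal R ↦ ii PP.1 PP.2)).exists_le
    have hinjT : Set.InjOn (Ideal.comap (φ i₀)) T := by
      intro P hP P' hP' heq
      by_contra hne
      refine hii P hP P' hP' hne i₀ (hi₀ _ ?_) heq
      exact Finset.mem_image.mpr ⟨(P, P'), Finset.mem_product.mpr
        ⟨hTfin.mem_toFinset.mpr hP, hTfin.mem_toFinset.mpr hP'⟩, rfl⟩
    have h1 : ((N + 1 : ℕ) : ℕ∞) ≤ (minimalPrimes (G i₀)).encard := by
      rw [← hTc, ← hinjT.encard_image]
      refine Set.encard_le_encard ?_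
      rintro _ ⟨P, hP, rfl⟩
      exact hN1 (hTs hP) i₀
    have h2 : (minimalPrimes (G i₀)).encard ≤ (N : ℕ∞) := by
      rw [hN]; exact le_iSup (fun i ↦ (minimalPrimes (G i)).encard) i₀
    have := h1.trans h2
    rw [Nat.cast_le] at this
    omega
  · -- `sup ≤ n`
    refine iSup_le fun i ↦ ?_
    have hsub : minimalPrimes (G i) ⊆ Ideal.comap (φ i) '' minimalPrimes R := by
      intro p hp
      have hp' : p ∈ ((⊥ : Ideal R).comap (φ i)).minimalPrimes := by
        rw [Ideal.comap_bot_of_injective _ (hinj i)]; exact hp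
      obtain ⟨P, hP, rfl⟩ := Ideal.exists_minimalPrimes_comap_eq (φ i) p hp'
      exact ⟨P, hP, rfl⟩
    exact (Set.encard_le_encard hsub).trans (Set.encard_image_le _ _)

end

end Groth.Agent.H7
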