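import Groth.Agent.H7.ShImm

set_option autoImplicit false
set_option linter.style.haveILetI false
universe u

open AlgebraicGeometry CategoryTheory Limits Opposite EtCoh
open Groth.Agent.H4.Stalks Groth.Agent.H4.StalkPull Groth.Agent.H4.StalkPullSh
open Groth.Agent.H4.GlueSec Groth.Agent.H4.PropBSh
open Groth.Agent.H7.ShStalks Groth.Agent.H7.FinPush Groth.Agent.H7.ShFinPush Groth.Agent.H7.ShImm

namespace Groth.Agent.H7.ShImm2

variable {Z X U : Scheme.{u}} (i : Z ⟶ X) (j : U ⟶ X)

section E1

variable {Ω : Type u} [Field Ω] [IsAlgClosed Ω]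

/-- a sheaf of sets has exactly one section over the empty scheme. -/
theorem nonempty_of_isEmpty_sh (G : EtDesc.Sh Z) (T : Z.Etale) [IsEmpty T.left] :
    Nonempty (G.obj.obj (op T)) := by
  obtain ⟨s, -⟩ := exists_glue_sh G (U := T) (ι := PEmpty.{1}) (fun a ↦ a.elim) (fun a ↦ a.elim)
    (by
      ext p
      exact (IsEmpty.false p).elim) (fun a ↦ a.elim) (fun a ↦ a.elim)
  exact ⟨s⟩

/-- if an étale neighbourhood of the geometric point `x` has empty preimage in `Z`, the stalk of
`i_* G` at `x` is a singleton. -/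
theorem unique_stalk_pushSh_of_isEmpty [IsIntegralHom i] (x : Spec (.of Ω) ⟶ X) (V : X.Etale)
    (v : Fib x V) [IsEmpty ((bc i).obj V).left] (G : EtDesc.Sh Z) :
    Nonempty (Unique ((stalkSh x).obj ((EtDesc.pushSh i).obj G))) := by
  obtain ⟨t⟩ := nonempty_of_isEmpty_sh G ((bc i).obj V)
  refine ⟨⟨⟨germSh ((EtDesc.pushSh i).obj G) v t⟩, ?_⟩⟩
  intro σ
  apply eq_of_rho'Sh_eq i G x
  intro z hz
  exact (IsEmpty.false (ptFib i x z hz v).pt).elim

end E1

section E2

variable {Ω : Type u} [Field Ω] [IsSepClosed Ω]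

/-- the stalk of a terminal sheaf is a singleton. -/
theorem unique_stalk_terminal (x : Spec (.of Ω) ⟶ X) :
    Nonempty (Unique ((stalkSh x).obj (⊤_ (EtDesc.Sh X)))) :=
  ⟨Types.isTerminalEquivUnique _ (IsTerminal.isTerminalObj (stalkSh x) _ terminalIsTerminal)⟩

theorem bijective_of_unique {α β : Type*} (hα : Nonempty (Unique α)) (hβ : Nonempty (Unique β))
    (φ : α → β) : Function.Bijective φ := by
  obtain ⟨_⟩ := hα
  obtain ⟨_⟩ := hβ
  exact ⟨fun a b _ ↦ Subsingleton.elim a b, fun b ↦ ⟨default, Subsingleton.elim _ _⟩⟩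

/-- if `A` has singleton stalks, `A ⟶ ⊤` is an isomorphism. -/
theorem unique_stalk_of_isIso_terminal_from (x : Spec (.of Ω) ⟶ X) (A : EtDesc.Sh X)
    [IsIso (terminal.from A)] : Nonempty (Unique ((stalkSh x).obj A)) := by
  obtain ⟨h⟩ := unique_stalk_terminal x
  exact ⟨Equiv.unique ((stalkSh x).mapIso (asIso (terminal.from A))).toEquiv⟩

end E2

section E3

variable [IsClosedImmersion i] [IsOpenImmersion j]

omit [IsClosedImmersion i] in
theorem isEmpty_pullback (hU : Set.range j.base = (Set.range i.base)ᶜ) :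
    IsEmpty ((bc i).obj (Scheme.Etale.mk j)).left := by
  constructor
  intro p
  change ↥(pullback j i) at p
  have h1 : j (pullback.fst j i p) = i (pullback.snd j i p) := by
    rw [← Scheme.Hom.comp_apply, ← Scheme.Hom.comp_apply, pullback.condition]
  have h2 : j (pullback.fst j i p) ∈ Set.range j.base := ⟨_, rfl⟩
  rw [hU, h1] at h2
  exact h2 ⟨_, rfl⟩

/-- the stalk of `i_* G` at a geometric point of the open complement is a singleton. -/
theorem unique_stalk_pushSh_compl (hU : Set.range j.base = (Set.range i.base)ᶜ)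
    {Ω : Type u} [Field Ω] [IsAlgClosed Ω] (y : Spec (.of Ω) ⟶ U) (G : EtDesc.Sh Z) :
    Nonempty (Unique ((stalkSh (y ≫ j)).obj ((EtDesc.pushSh i).obj G))) := by
  haveI := isEmpty_pullback i j hU
  exact unique_stalk_pushSh_of_isEmpty i (y ≫ j) (Scheme.Etale.mk j)
    (Over.homMk y rfl) G

/-- `j^* i_* G` is a terminal sheaf. -/
theorem isIso_terminal_from_pull_push (hU : Set.range j.base = (Set.range i.base)ᶜ)
    (G : EtDesc.Sh Z) :
    IsIso (terminal.from ((EtDesc.pullSh j).obj ((EtDesc.pushSh i).obj G))) := by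
  have H : ∀ Φ : (PXA U).FullSubcategory,
      IsIso ((Φ.obj.sheafFiber (A := Type (u + 1))).map
        (terminal.from ((EtDesc.pullSh j).obj ((EtDesc.pushSh i).obj G)))) := by
    rintro ⟨_, ⟨s⟩⟩
    let y := geomPtA s
    change IsIso ((stalkSh y).map _)
    rw [isIso_iff_bijective]
    apply bijective_of_unique _ (unique_stalk_terminal y)
    obtain ⟨h⟩ := unique_stalk_pushSh_compl i j hU y G
    exact ⟨Equiv.unique ((stalkPullIsoSh j y).app ((EtDesc.pushSh i).obj G)).symm.toEquiv⟩
  exact (jriASh U).isIso _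

/-- if `j^* F` is terminal, the unit `F ⟶ i_* i^* F` is an isomorphism. -/
theorem isIso_unit_of_isIso_terminal_from (hU : Set.range j.base = (Set.range i.base)ᶜ)
    (F : EtDesc.Sh X) [IsIso (terminal.from ((EtDesc.pullSh j).obj F))] :
    IsIso ((EtDesc.adjSh i).unit.app F) := by
  have H : ∀ Φ : (PXA X).FullSubcategory,
      IsIso ((Φ.obj.sheafFiber (A := Type (u + 1))).map ((EtDesc.adjSh i).unit.app F)) := by
    rintro ⟨_, ⟨s⟩⟩
    let x := geomPtA s
    change IsIso ((stalkSh x).map _)
    by_cases hs : s ∈ Set.range i.base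
    · -- points of the closed subscheme
      obtain ⟨z₀, hz₀⟩ := hs
      obtain ⟨z, hz, -⟩ := Groth.Agent.H7.GeomPt.exists_lift_of_isIntegralHom i x z₀
        (hz₀.trans (geomPtA_default s).symm)
      have key : ∀ (x' : Spec (.of (AlgebraicClosure (X.residueField s))) ⟶ X), z ≫ i = x' →
          IsIso ((stalkSh x').map ((EtDesc.adjSh i).unit.app F)) := by
        rintro _ rfl
        haveI := isIso_counit_of_finite_mono i ((EtDesc.pullSh i).obj F)
        have h1 : IsIso ((EtDesc.pullSh i).map ((EtDesc.adjSh i).unit.app F)) :=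
          isIso_of_comp_hom_eq_id _ ((EtDesc.adjSh i).left_triangle_components F)
        have h2 : IsIso ((stalkSh z).map ((EtDesc.pullSh i).map ((EtDesc.adjSh i).unit.app F))) :=
          inferInstance
        have nat := (stalkPullIsoSh i z).hom.naturality ((EtDesc.adjSh i).unit.app F)
        have h3 : IsIso ((stalkSh (z ≫ i)).map ((EtDesc.adjSh i).unit.app F) ≫
            (stalkPullIsoSh i z).hom.app _) := by
          rw [nat]
          haveI : IsIso ((EtDesc.pullSh i ⋙ stalkSh z).map ((EtDesc.adjSh i).unit.app F)) := h2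
          infer_instance
        exact IsIso.of_isIso_comp_right _ ((stalkPullIsoSh i z).hom.app _)
      exact key x hz
    · -- points of the open complement
      have hs' : s ∈ Set.range j.base := by rw [hU]; exact hs
      have hr : Set.range x ⊆ Set.range j := by
        rintro _ ⟨p, rfl⟩
        rw [Subsingleton.elim p default, geomPtA_default]
        exact hs'
      let y := IsOpenImmersion.lift j x hr
      have hy : y ≫ j = x := IsOpenImmersion.lift_fac _ _ _
      have key : ∀ (x' : Spec (.of (AlgebraicClosure (X.residueField s))) ⟶ X), y ≫ j = x' →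
          IsIso ((stalkSh x').map ((EtDesc.adjSh i).unit.app F)) := by
        rintro _ rfl
        rw [isIso_iff_bijective]
        apply bijective_of_unique _ (unique_stalk_pushSh_compl i j hU y _)
        obtain ⟨h⟩ := unique_stalk_of_isIso_terminal_from y ((EtDesc.pullSh j).obj F)
        exact ⟨Equiv.unique ((stalkPullIsoSh j y).app F).toEquiv⟩
      exact key x hy
  exact (jriASh X).isIso _

/-- **closed immersions**: `i_*` is fully faithful on sheaves of sets, with essential image the
sheaves whose restriction to the open complement is terminal. -/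
theorem pushSh_closedImmersion (hU : Set.range j.base = (Set.range i.base)ᶜ) :
    (EtDesc.pushSh i).Full ∧ (EtDesc.pushSh i).Faithful ∧
    ∀ F : EtDesc.Sh X, (EtDesc.pushSh i).essImage F ↔
      IsIso (terminal.from ((EtDesc.pullSh j).obj F)) := by
  have ff := fullyFaithful_pushSh_of_finite_mono i
  haveI := ff.full
  haveI := ff.faithful
  refine ⟨inferInstance, inferInstance, fun F ↦ ?_⟩
  rw [← Adjunction.isIso_unit_app_iff_mem_essImage (EtDesc.adjSh i)]
  constructor
  · intro h
    obtain ⟨G, ⟨e⟩⟩ := (Adjunction.isIso_unit_app_iff_mem_essImage (EtDesc.adjSh i)).1 h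
    haveI := isIso_terminal_from_pull_push i j hU G
    have : terminal.from ((EtDesc.pullSh j).obj F) =
        (EtDesc.pullSh j).map e.inv ≫
          terminal.from ((EtDesc.pullSh j).obj ((EtDesc.pushSh i).obj G)) :=
      Subsingleton.elim _ _
    rw [this]
    infer_instance
  · intro h
    exact isIso_unit_of_isIso_terminal_from i j hU F

end E3

end Groth.Agent.H7.ShImm2
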