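import Groth.Agent.H7.ShSecDesc
import Groth.Agent.H7.ShImm2
import Groth.Prelude.Def_EtAcyc
import Mathlib

set_option autoImplicit false
set_option linter.style.haveILetI false
universe u

open AlgebraicGeometry CategoryTheory Limits Opposite EtCoh
open Groth.Agent.H4.Stalks Groth.Agent.H4.StalkPull Groth.Agent.H4.StalkPullSh
open Groth.Agent.H4.GlueSec Groth.Agent.H4.PropBSh
open Groth.Agent.H7.ShStalks Groth.Agent.H7.FinPush Groth.Agent.H7.ShFinPush Groth.Agent.H7.ShImm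
open Groth.Agent.H7.ShSecBC Groth.Agent.H7.ShSecDesc Groth.Agent.H7.ShImm2

namespace Groth.Agent.H7.MinusOne

/-- a prime outside the image of `Spec B → Spec A` has a locally closed neighbourhood
`V(I) ∩ D(f)` disjoint from the image. -/
theorem exists_locallyClosed_of_not_mem_range {A B : Type*} [CommRing A] [CommRing B] (φ : A →+* B)
    (p : PrimeSpectrum A) (hp : p ∉ Set.range (PrimeSpectrum.comap φ)) :
    ∃ (f : A) (I : Ideal A), f ∉ p.asIdeal ∧ I ≤ p.asIdeal ∧ I.FG ∧ φ f ∈ I.map φ := by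
  rw [PrimeSpectrum.mem_range_comap_iff] at hp
  have hle : p.asIdeal ≤ (p.asIdeal.map φ).comap φ := Ideal.le_comap_map
  obtain ⟨f, hf1, hf2⟩ : ∃ f, f ∈ (p.asIdeal.map φ).comap φ ∧ f ∉ p.asIdeal := by
    by_contra hcon
    push Not at hcon
    exact hp (le_antisymm hcon hle)
  have hf3 : φ f ∈ Ideal.span (φ '' (p.asIdeal : Set A)) := hf1
  obtain ⟨T, hT, hfT⟩ := Submodule.mem_span_finite_of_mem_span hf3
  obtain ⟨T', hT'p, hT'⟩ : ∃ T' : Finset A, (T' : Set A) ⊆ p.asIdeal ∧ (T : Set B) ⊆ φ '' T' := by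
    classical
    have hch : ∀ b ∈ T, ∃ a ∈ p.asIdeal, φ a = b := fun b hb ↦ hT hb
    choose! c hc1 hc2 using hch
    refine ⟨T.image c, ?_, ?_⟩
    · intro a ha
      simp only [Finset.coe_image, Set.mem_image, Finset.mem_coe] at ha
      obtain ⟨b, hb, rfl⟩ := ha
      exact hc1 b hb
    · intro b hb
      refine ⟨c b, ?_, hc2 b hb⟩
      simp only [Finset.coe_image, Set.mem_image, Finset.mem_coe]
      exact ⟨b, hb, rfl⟩
  refine ⟨f, Ideal.span T', hf2, Ideal.span_le.2 hT'p, ⟨T', rfl⟩, ?_⟩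
  rw [Ideal.map_span]
  exact Submodule.span_mono hT' hfT


/-- a point outside the image of a quasi-compact morphism `g : X ⟶ Y` lies on a closed subscheme
of an open subscheme of `Y` which does not meet the image of `g`. -/
theorem exists_closed_of_not_mem_range {X Y : Scheme.{u}} (g : X ⟶ Y) [QuasiCompact g] (y : Y)
    (hy : y ∉ Set.range g) :
    ∃ (V Z : Scheme.{u}) (j : V ⟶ Y) (_ : IsOpenImmersion j) (i : Z ⟶ V) (_ : IsClosedImmersion i),
      Nonempty Z ∧ ∀ t : ↥(pullback j g), pullback.fst j g t ∉ Set.range i := by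
  obtain ⟨V₀, hV₀, hyV₀, -⟩ := exists_isAffineOpen_mem_and_subset (x := y) (U := ⊤) trivial
  have hc : IsCompact ((g ⁻¹ᵁ V₀ : X.Opens) : Set X) := g.isCompact_preimage hV₀.isCompact
  obtain ⟨R, a, ha⟩ := isCompact_iff_exists.1 hc
  have hr : Set.range (a ≫ g) ⊆ Set.range V₀.ι := by
    rintro _ ⟨r, rfl⟩
    rw [Scheme.Opens.range_ι]
    have : a r ∈ ((g ⁻¹ᵁ V₀ : X.Opens) : Set X) := by rw [← ha]; exact ⟨r, rfl⟩
    exact this
  let b : Spec R ⟶ V₀ := IsOpenImmersion.lift V₀.ι (a ≫ g) hr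
  have hb : b ≫ V₀.ι = a ≫ g := IsOpenImmersion.lift_fac _ _ _
  let A : CommRingCat.{u} := Γ(Y, V₀)
  let c : Spec R ⟶ Spec A := b ≫ hV₀.isoSpec.hom
  let φ : A ⟶ R := Spec.preimage c
  have hφ : Spec.map φ = c := Spec.map_preimage c
  let p : Spec A := hV₀.isoSpec.hom ⟨y, hyV₀⟩
  have hp : p ∉ Set.range (PrimeSpectrum.comap φ.hom) := by
    rintro ⟨r, hr⟩
    have h1 : (Spec.map φ) r = p := hr
    rw [hφ] at h1
    have h2 : hV₀.isoSpec.hom (b r) = hV₀.isoSpec.hom ⟨y, hyV₀⟩ := h1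
    have hinj : Function.Injective hV₀.isoSpec.hom :=
      (ConcreteCategory.bijective_of_isIso (hV₀.isoSpec.hom.base)).1
    have h3 : b r = ⟨y, hyV₀⟩ := hinj h2
    apply hy
    refine ⟨a r, ?_⟩
    have h4 : (a ≫ g) r = V₀.ι (b r) := by rw [← hb]; rfl
    rw [h3] at h4
    exact h4
  obtain ⟨f, I, hfp, hIp, -, hfI⟩ := exists_locallyClosed_of_not_mem_range φ.hom p hp
  let A' := Localization.Away f
  let ι' : (A : Type u) →+* A' := algebraMap A A'
  let I' : Ideal A' := I.map ι'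
  let j : Spec (CommRingCat.of A') ⟶ Y :=
    Spec.map (CommRingCat.ofHom ι') ≫ hV₀.isoSpec.inv ≫ V₀.ι
  let i : Spec (CommRingCat.of (A' ⧸ I')) ⟶ Spec (CommRingCat.of A') :=
    Spec.map (CommRingCat.ofHom (Ideal.Quotient.mk I'))
  have : IsClosedImmersion i := IsClosedImmersion.spec_of_surjective _ Ideal.Quotient.mk_surjective
  refine ⟨Spec (CommRingCat.of A'), Spec (CommRingCat.of (A' ⧸ I')), j, inferInstance, i,
    inferInstance, ?_, ?_⟩
  · -- nonempty
    have hdisj : Disjoint (Submonoid.powers f : Set A) (p.asIdeal : Set A) := by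
      rw [Set.disjoint_left]
      rintro _ ⟨n, rfl⟩ hmem
      exact hfp (p.isPrime.mem_of_pow_mem n hmem)
    have hP' : (Ideal.map ι' p.asIdeal).IsPrime :=
      IsLocalization.isPrime_of_isPrime_disjoint (Submonoid.powers f) A' _ p.isPrime hdisj
    have hle : I' ≤ Ideal.map ι' p.asIdeal := Ideal.map_mono hIp
    have hne : I' ≠ ⊤ := fun h ↦ hP'.ne_top (top_le_iff.1 (h ▸ hle))
    haveI : Nontrivial (A' ⧸ I') := Ideal.Quotient.nontrivial_iff.2 hne
    exact (inferInstance : Nonempty (PrimeSpectrum (A' ⧸ I')))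
  · rintro t ⟨w, hw⟩
    obtain ⟨v, hv⟩ : ∃ v : Spec (CommRingCat.of A'), v = pullback.fst j g t := ⟨_, rfl⟩
    obtain ⟨x, hx⟩ : ∃ x : X, x = pullback.snd j g t := ⟨_, rfl⟩
    have hcond : j v = g x := by
      rw [hv, hx, ← Scheme.Hom.comp_apply, ← Scheme.Hom.comp_apply, pullback.condition]
    rw [← hv] at hw
    -- `I' ≤ v`
    have hI'v : I' ≤ v.asIdeal := by
      intro e he
      rw [← hw]
      change Ideal.Quotient.mk I' e ∈ w.asIdeal
      rw [Ideal.Quotient.eq_zero_iff_mem.2 he]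
      exact w.asIdeal.zero_mem
    -- `x` comes from `Spec R`
    have hjv : j v = V₀.ι (hV₀.isoSpec.inv ((Spec.map (CommRingCat.ofHom ι')) v)) := rfl
    have hxV₀ : x ∈ ((g ⁻¹ᵁ V₀ : X.Opens) : Set X) := by
      change g x ∈ V₀
      rw [← hcond, hjv]
      exact (hV₀.isoSpec.inv ((Spec.map (CommRingCat.ofHom ι')) v)).2
    rw [← ha] at hxV₀
    obtain ⟨r, rfl⟩ := hxV₀
    have h4 : g (a r) = V₀.ι (b r) := by
      have : (a ≫ g) r = (b ≫ V₀.ι) r := by rw [hb]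
      exact this
    rw [h4, hjv] at hcond
    have h5 : hV₀.isoSpec.inv ((Spec.map (CommRingCat.ofHom ι')) v) = b r :=
      V₀.ι.isOpenEmbedding.injective hcond
    have h6 : (Spec.map (CommRingCat.ofHom ι')) v = (Spec.map φ) r := by
      rw [hφ]
      change _ = hV₀.isoSpec.hom (b r)
      rw [← h5, ← Scheme.Hom.comp_apply, Iso.inv_hom_id]
      rfl
    have h7 : PrimeSpectrum.comap ι' v = PrimeSpectrum.comap φ.hom r := h6
    have hIq : I ≤ (PrimeSpectrum.comap φ.hom r).asIdeal := by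
      rw [← h7]
      intro e he
      exact hI'v (Ideal.mem_map_of_mem ι' he)
    have h8 : I.map φ.hom ≤ r.asIdeal := Ideal.map_le_iff_le_comap.2 hIq
    have h9 : f ∈ (PrimeSpectrum.comap φ.hom r).asIdeal := h8 hfI
    rw [← h7] at h9
    have h10 : ι' f ∈ v.asIdeal := h9
    have hu : IsUnit (ι' f) := IsLocalization.Away.algebraMap_isUnit f
    exact v.isPrime.ne_top (Ideal.eq_top_of_isUnit_mem _ h10 hu)


section sheaf

/-- the sections of a terminal sheaf form a singleton. -/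
theorem uniqueTop (Z : Scheme.{u}) (W : Z.Etale) :
    Nonempty (Unique ((⊤_ (EtDesc.Sh Z)).obj.obj (op W))) :=
  ⟨Types.isTerminalEquivUnique _
    (IsTerminal.isTerminalObj (sheafToPresheaf Z.smallEtaleTopology (Type (u + 1)) ⋙
      (evaluation _ _).obj (op W)) _ terminalIsTerminal)⟩

/-- the two coprojections `⊤ ⟶ ⊤ ⨿ ⊤` differ on sections over any nonempty étale scheme. -/
theorem inl_ne_inr (Z : Scheme.{u}) (W : Z.Etale) (w₀ : W.left)
    (e : (⊤_ (EtDesc.Sh Z)).obj.obj (op W)) :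
    (coprod.inl : ⊤_ (EtDesc.Sh Z) ⟶ (⊤_ (EtDesc.Sh Z)) ⨿ (⊤_ (EtDesc.Sh Z))).hom.app (op W) e ≠
      (coprod.inr : ⊤_ (EtDesc.Sh Z) ⟶ (⊤_ (EtDesc.Sh Z)) ⨿ (⊤_ (EtDesc.Sh Z))).hom.app (op W) e := by
  intro h
  let ξ := geomPtA (W.hom w₀)
  obtain ⟨x, -⟩ := Fib.exists_of_point (ξ := ξ) W w₀ (geomPtA_default _).symm
  have hc := isColimitOfHasBinaryCoproductOfPreservesColimit (stalkSh ξ)
    (⊤_ (EtDesc.Sh Z)) (⊤_ (EtDesc.Sh Z))
  obtain ⟨-, -, h3⟩ := (Types.binaryCofan_isColimit_iff _).1 ⟨hc⟩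
  have h1 : (stalkSh ξ).map (coprod.inl : ⊤_ (EtDesc.Sh Z) ⟶ _)
        (germSh (⊤_ (EtDesc.Sh Z)) x e) =
      (stalkSh ξ).map (coprod.inr : ⊤_ (EtDesc.Sh Z) ⟶ _) (germSh (⊤_ (EtDesc.Sh Z)) x e) := by
    rw [germSh_map, germSh_map, h]
  have hmem : (stalkSh ξ).map (coprod.inl : ⊤_ (EtDesc.Sh Z) ⟶ _)
      (germSh (⊤_ (EtDesc.Sh Z)) x e) ∈
      Set.range ((stalkSh ξ).map (coprod.inl : ⊤_ (EtDesc.Sh Z) ⟶ (⊤_ _) ⨿ (⊤_ _))) ⊓
      Set.range ((stalkSh ξ).map (coprod.inr : ⊤_ (EtDesc.Sh Z) ⟶ (⊤_ _) ⨿ (⊤_ _))) :=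
    ⟨⟨_, rfl⟩, ⟨_, h1.symm⟩⟩
  exact h3.disjoint.le_bot hmem

variable {V Z X' : Scheme.{u}} (i : Z ⟶ V) [IsClosedImmersion i] (g' : X' ⟶ V)

/-- if a nonempty closed subscheme `Z ⊆ V` does not meet the image of `g' : X' ⟶ V`, the unit
`F ⟶ g'_* g'^* F` is not a monomorphism for `F = i_* (⊤ ⨿ ⊤)`. -/
theorem not_mono_unit (hZ : Nonempty Z) (hdisj : ∀ t : X', g' t ∉ Set.range i) :
    ¬ Mono ((EtDesc.adjSh g').unit.app
      ((EtDesc.pushSh i).obj ((⊤_ (EtDesc.Sh Z)) ⨿ (⊤_ (EtDesc.Sh Z))))) := by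
  intro hmono
  let G : EtDesc.Sh Z := (⊤_ (EtDesc.Sh Z)) ⨿ (⊤_ (EtDesc.Sh Z))
  let F : EtDesc.Sh V := (EtDesc.pushSh i).obj G
  let T : V.Etale := EtCoh.top V
  let B : Z.Etale := (bc i).obj T
  obtain ⟨uB⟩ := uniqueTop Z B
  let e : (⊤_ (EtDesc.Sh Z)).obj.obj (op B) := default
  let s : F.obj.obj (op T) := (coprod.inl : ⊤_ (EtDesc.Sh Z) ⟶ G).hom.app (op B) e
  let t : F.obj.obj (op T) := (coprod.inr : ⊤_ (EtDesc.Sh Z) ⟶ G).hom.app (op B) e
  obtain ⟨z₀⟩ := hZ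
  have hne : s ≠ t := inl_ne_inr Z B ((EtCore.bcTopIso i).inv.left z₀) e
  let u := (EtDesc.adjSh g').unit.app F
  have heq : u.hom.app (op T) s = u.hom.app (op T) t := by
    apply eq_of_locally_eq ((EtDesc.pullSh g').obj F)
    intro p
    let U' : X'.Etale := (bc g').obj T
    let w₀ := geomPtA p
    let ξ : Spec (.of (AlgebraicClosure (U'.left.residueField p))) ⟶ X' := w₀ ≫ U'.hom
    let x : Fib ξ U' := mkFib w₀
    let v : Fib (ξ ≫ g') T := fibPush g' ξ x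
    have hx : fibPull g' ξ v = x := fibPull_fibPush g' ξ x
    have key : ∀ r : F.obj.obj (op T), germSh ((EtDesc.pullSh g').obj F) x (u.hom.app (op T) r) =
        (stalkPullIsoSh g' ξ).hom.app F (germSh F v r) := by
      intro r
      rw [stalkPullIsoSh_germ_apply, hx]
    have hsub : germSh F v s = germSh F v t := by
      let Uc : V.Opens := ⟨(Set.range i)ᶜ, i.isClosedEmbedding.isClosed_range.isOpen_compl⟩
      let V' : V.Etale := Scheme.Etale.mk Uc.ι
      have hpt : (ξ ≫ g') default ∈ Uc := hdisj _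
      obtain ⟨v', -⟩ := Fib.exists_of_point (ξ := ξ ≫ g') V' (show V'.left from (⟨_, hpt⟩ : ↥Uc)) rfl
      haveI : IsEmpty ((bc i).obj V').left := by
        constructor
        intro q
        change ↥(pullback Uc.ι i) at q
        have h1 : Uc.ι (pullback.fst Uc.ι i q) = i (pullback.snd Uc.ι i q) := by
          rw [← Scheme.Hom.comp_apply, ← Scheme.Hom.comp_apply, pullback.condition]
        have h2 : Uc.ι (pullback.fst Uc.ι i q) ∈ Uc := (pullback.fst Uc.ι i q).2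
        rw [h1] at h2
        exact h2 ⟨_, rfl⟩
      obtain ⟨hU⟩ := unique_stalk_pushSh_of_isEmpty i (ξ ≫ g') V' v' G
      exact Subsingleton.elim _ _
    have hg : germSh ((EtDesc.pullSh g').obj F) x (u.hom.app (op T) s) =
        germSh ((EtDesc.pullSh g').obj F) x (u.hom.app (op T) t) := by
      rw [key s, key t, hsub]
    obtain ⟨W, gW, w, hw, hs⟩ := (germSh_eq_iff' ((EtDesc.pullSh g').obj F) x _ _).1 hg
    refine ⟨W, gW, w, hw.trans ?_, hs⟩
    rw [mkFib_pt]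
    exact geomPtA_default p
  exact hne (injective_app_of_mono u (op T) heq)

end sheaf


/-- a quasi-compact morphism for which all units `F ⟶ g'_* g'^* F` are monomorphisms is
surjective. -/
theorem surjective_of_isMinusOneAcyclic {X Y : Scheme.{u}} (g : X ⟶ Y) [QuasiCompact g]
    (h : EtAcyc.IsMinusOneAcyclic g) : Function.Surjective g.base := by
  intro y
  by_contra hy
  obtain ⟨V, Z, j, hj, i, hi, hZ, hdisj⟩ := exists_closed_of_not_mem_range g y hy
  exact not_mono_unit i (pullback.fst j g) hZ hdisj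
    (h (Scheme.Etale.mk j) ((EtDesc.pushSh i).obj ((⊤_ (EtDesc.Sh Z)) ⨿ (⊤_ (EtDesc.Sh Z)))))

/-- a surjective morphism is `(-1)`-acyclic. -/
theorem isMinusOneAcyclic_of_surjective {X Y : Scheme.{u}} (g : X ⟶ Y)
    (hg : Function.Surjective g.base) : EtAcyc.IsMinusOneAcyclic g := by
  intro V F
  haveI : Surjective g := ⟨hg⟩
  have hs : Surjective (pullback.fst V.hom g) := inferInstance
  exact mono_unit_of_surjective _ hs.surj F

end Groth.Agent.H7.MinusOne
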