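import Mathlib
import Groth.Agent.H7.NilpotentLift
set_option autoImplicit false
universe u

namespace Groth.Agent.H7

/-- Finite type lifts along a surjection with finitely generated nilpotent kernel. -/
theorem ringHom_finiteType_of_surjective_of_fg_of_isNilpotent {A B' B : Type*} [CommRing A]
    [CommRing B'] [CommRing B] (φ' : A →+* B') (β : B' →+* B) (hβ : Function.Surjective β)
    (hfg : (RingHom.ker β).FG) (hnil : IsNilpotent (RingHom.ker β))
    (h : (β.comp φ').FiniteType) : φ'.FiniteType := by
  classical
  let _ : Algebra A B' := φ'.toAlgebra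
  let _ : Algebra A B := (β.comp φ').toAlgebra
  let βa : B' →ₐ[A] B := { β with commutes' := fun _ ↦ rfl }
  have hft : Algebra.FiniteType A B := h
  obtain ⟨s, hs⟩ := hft.out
  obtain ⟨t, ht⟩ := hfg
  choose lift hlift using hβ
  let C : Subalgebra A B' := Algebra.adjoin A ((s.image lift : Set B') ∪ (t : Set B'))
  suffices hC : C = ⊤ by
    refine ⟨⟨s.image lift ∪ t, ?_⟩⟩
    rw [Finset.coe_union]
    exact hC
  -- `C` surjects onto `B`
  have hCB : ∀ x : B', ∃ c ∈ C, x - c ∈ RingHom.ker β := by
    intro x
    have hx : β x ∈ Algebra.adjoin A (s : Set B) := by rw [hs]; trivial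
    have hmap : Algebra.adjoin A (s : Set B) ≤ C.map βa := by
      rw [Algebra.adjoin_le_iff]
      intro b hb
      refine ⟨lift b, Algebra.subset_adjoin (Or.inl ?_), hlift b⟩
      exact Finset.mem_coe.mpr (Finset.mem_image_of_mem lift hb)
    obtain ⟨c, hc, hcx⟩ := hmap hx
    refine ⟨c, hc, ?_⟩
    rw [RingHom.mem_ker, map_sub, sub_eq_zero]
    exact hcx.symm
  obtain ⟨n, hn⟩ := hnil
  let J : Ideal C := (RingHom.ker β).comap (algebraMap C B')
  have hJ : J ^ n = ⊥ := by
    rw [eq_bot_iff]
    intro x hx
    have h1 : algebraMap C B' x ∈ (RingHom.ker β) ^ n := by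
      have := Ideal.mem_map_of_mem (algebraMap C B') hx
      rw [Ideal.map_pow] at this
      exact Ideal.pow_right_mono (Ideal.map_comap_le) n this
    rw [hn] at h1
    have h2 : algebraMap C B' x = 0 := h1
    exact Subtype.ext h2
  let N : Submodule C B' := LinearMap.range (Algebra.linearMap C B')
  have hN : N ⊔ J • (⊤ : Submodule C B') = ⊤ := by
    rw [eq_top_iff]
    intro x _
    obtain ⟨c, hc, hk⟩ := hCB x
    have h1 : x - c ∈ J • (⊤ : Submodule C B') := by
      rw [← ht] at hk
      refine Submodule.span_induction (p := fun y _ ↦ y ∈ J • (⊤ : Submodule C B')) ?_ ?_ ?_ ?_ hk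
      · intro y hy
        have hyC : y ∈ C := Algebra.subset_adjoin (Or.inr hy)
        have hyJ : (⟨y, hyC⟩ : C) ∈ J := by
          change y ∈ RingHom.ker β
          rw [← ht]
          exact Ideal.subset_span hy
        have : y = (⟨y, hyC⟩ : C) • (1 : B') := by
          rw [Algebra.smul_def, mul_one]; rfl
        rw [this]
        exact Submodule.smul_mem_smul hyJ trivial
      · exact Submodule.zero_mem _
      · intro y z _ _ hy hz
        exact Submodule.add_mem _ hy hz
      · intro a y _ hy
        rw [smul_eq_mul]
        refine Submodule.smul_induction_on hy ?_ ?_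
        · intro r hr m _
          have : a * r • m = r • (a * m) := by
            rw [Algebra.smul_def, Algebra.smul_def]; ring
          rw [this]
          exact Submodule.smul_mem_smul hr trivial
        · intro y z hy hz
          rw [mul_add]
          exact Submodule.add_mem _ hy hz
    have : x = c + (x - c) := by ring
    rw [this]
    exact Submodule.add_mem_sup ⟨⟨c, hc⟩, rfl⟩ h1
  have hNtop := eq_top_of_sup_smul_top_eq_top_of_pow_eq_bot J hJ N hN
  rw [eq_top_iff]
  intro x _
  have : x ∈ N := by rw [hNtop]; trivial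
  obtain ⟨c, rfl⟩ := this
  exact c.2

end Groth.Agent.H7
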