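import Mathlib
import Groth.Agent.H7.NilpotentLift
import Groth.Agent.H7.NilpotentFlat

/-!
# Smoothness lifts along nilpotent thickenings of a base over which the algebra is flat
-/

set_option autoImplicit false
universe u

namespace Groth.Agent.H7

open TensorProduct CategoryTheory

/-- Smoothness lifts along a surjection with nil kernel, for flat algebras of finite
presentation. -/
theorem smooth_of_isPushout_of_nil {A' A B' B : Type u} [CommRing A'] [CommRing A] [CommRing B']
    [CommRing B] [Algebra A' A] [Algebra A' B'] [Algebra A B] [Algebra B' B] [Algebra A' B]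
    [IsScalarTower A' A B] [IsScalarTower A' B' B] [Algebra.IsPushout A' A B' B]
    (hsurj : Function.Surjective (algebraMap A' A))
    (hnil : RingHom.ker (algebraMap A' A) ≤ nilradical A')
    [Module.Flat A' B'] [Algebra.FinitePresentation A' B'] [Algebra.Smooth A B] :
    Algebra.Smooth A' B' := by
  refine Algebra.Smooth.of_formallySmooth_fiber fun p' _ ↦ ?_
  have hle : RingHom.ker (algebraMap A' A) ≤ RingHom.ker (algebraMap A' p'.ResidueField) := by
    intro x hx
    have h1 : IsNilpotent x := hnil hx
    rw [RingHom.mem_ker]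
    exact (h1.map (algebraMap A' p'.ResidueField)).eq_zero
  let g : A →+* p'.ResidueField :=
    RingHom.liftOfSurjective (algebraMap A' A) hsurj ⟨algebraMap A' p'.ResidueField, hle⟩
  let _ : Algebra A p'.ResidueField := g.toAlgebra
  have : IsScalarTower A' A p'.ResidueField := .of_algebraMap_eq fun x ↦
    (RingHom.liftOfSurjective_comp_apply (algebraMap A' A) hsurj
      ⟨algebraMap A' p'.ResidueField, hle⟩ x).symm
  have h1 : Algebra.FormallySmooth p'.ResidueField (p'.ResidueField ⊗[A] B) := inferInstance
  let e1 : p'.ResidueField ⊗[A] (A ⊗[A'] B') ≃ₐ[p'.ResidueField] p'.ResidueField ⊗[A] B :=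
    Algebra.TensorProduct.congr AlgEquiv.refl (Algebra.IsPushout.equiv A' A B' B)
  let e2 : p'.ResidueField ⊗[A] (A ⊗[A'] B') ≃ₐ[p'.ResidueField] p'.ResidueField ⊗[A'] B' :=
    Algebra.TensorProduct.cancelBaseChange A' A p'.ResidueField p'.ResidueField B'
  exact Algebra.FormallySmooth.of_equiv (e1.symm.trans e2)


/-- Smoothness lifts along quotients by a nilpotent ideal of a base over which the target is
flat. -/
theorem ringHom_smooth_of_nilpotent_of_flat {R A' B' A B : Type u} [CommRing R] [CommRing A']
    [CommRing B'] [CommRing A] [CommRing B] (ψ : R →+* A') (φ' : A' →+* B') (αY : A' →+* A)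
    (β : B' →+* B) (φ : A →+* B) (J : Ideal R) {n : ℕ} (hJ : J ^ n = ⊥)
    (hpo : IsPushout (CommRingCat.ofHom φ') (CommRingCat.ofHom αY) (CommRingCat.ofHom β)
      (CommRingCat.ofHom φ))
    (hαY : Function.Surjective αY) (hβ : Function.Surjective β)
    (hkerα : RingHom.ker αY = J.map ψ) (hkerβ : RingHom.ker β = J.map (φ'.comp ψ))
    (hflat : (φ'.comp ψ).Flat) (hφ : φ.Smooth) : φ'.Smooth := by
  have hcomm : β.comp φ' = φ.comp αY := congr($(hpo.w).hom)
  have h1 : φ'.Flat :=
    ringHom_flat_of_nilpotent_of_flat ψ φ' αY β φ J hJ hpo hαY hkerα hflat hφ.flat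
  have h2 : φ'.FinitePresentation :=
    ringHom_finitePresentation_of_nilpotent_of_flat ψ φ' αY β φ J hJ hcomm hαY hβ hkerα hkerβ
      hflat hφ.finitePresentation
  let _ : Algebra A' B' := φ'.toAlgebra
  let _ : Algebra A' A := αY.toAlgebra
  let _ : Algebra A B := φ.toAlgebra
  let _ : Algebra B' B := β.toAlgebra
  let _ : Algebra A' B := (φ.comp αY).toAlgebra
  have : IsScalarTower A' A B := .of_algebraMap_eq fun _ ↦ rfl
  have : IsScalarTower A' B' B := .of_algebraMap_eq fun a ↦ (congr($(hpo.w).hom a)).symm
  have hpo' : Algebra.IsPushout A' B' A B := CommRingCat.isPushout_iff_isPushout.mp hpo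
  have hpo'' : Algebra.IsPushout A' A B' B := hpo'.symm
  have : Module.Flat A' B' := h1
  have : Algebra.FinitePresentation A' B' := h2
  have : Algebra.Smooth A B := hφ
  have hnil : RingHom.ker (algebraMap A' A) ≤ nilradical A' := by
    intro x hx
    have hx' : x ∈ J.map ψ := hkerα ▸ hx
    refine ⟨n, ?_⟩
    have h3 : x ^ n ∈ (J.map ψ) ^ n := Ideal.pow_mem_pow hx' n
    rw [← Ideal.map_pow, hJ, Ideal.map_bot] at h3
    exact h3
  exact smooth_of_isPushout_of_nil (A' := A') (A := A) (B' := B') (B := B) hαY hnil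

end Groth.Agent.H7
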