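import Mathlib
import Groth.Agent.H7.EtaleLocalAlg

set_option autoImplicit false
universe u

namespace Groth.Agent.H7

open TensorProduct

/-- For a finite type algebra, only finitely many primes over a given prime are quasi-finite. -/
theorem finite_quasiFiniteAt_primesOver {R S : Type u} [CommRing R] [CommRing S] [Algebra R S]
    [Algebra.FiniteType R S] (p : Ideal R) [p.IsPrime] :
    Set.Finite {q : p.primesOver S | @Algebra.QuasiFiniteAt R S _ _ _ q.1 q.2.1} := by
  let F := p.Fiber S
  have hN : IsNoetherianRing F := Algebra.FiniteType.isNoetherianRing p.ResidueField F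
  let D : Set (PrimeSpectrum F) := {x | IsOpen ({x} : Set (PrimeSpectrum F))}
  have hDc : IsCompact D := TopologicalSpace.NoetherianSpace.isCompact D
  have hDd : IsDiscrete D := by
    rw [isDiscrete_iff_forall_mem_exists_isOpen]
    intro y hy
    refine ⟨{y}, hy, ?_⟩
    ext z
    simp only [Set.mem_inter_iff, Set.mem_singleton_iff, and_iff_left_iff_imp]
    rintro rfl
    exact hy
  have hDf : D.Finite := hDc.finite hDd
  let φ : p.primesOver S → PrimeSpectrum F := PrimeSpectrum.primesOverOrderIsoFiber R S p
  refine Set.Finite.of_finite_image (f := φ) (hDf.subset ?_)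
    ((PrimeSpectrum.primesOverOrderIsoFiber R S p).injective.injOn)
  rintro _ ⟨q, hq, rfl⟩
  have := q.2.1
  have hq' : Algebra.QuasiFiniteAt R q.1 := hq
  have hcomap : q.1 = (φ q).asIdeal.comap Algebra.TensorProduct.includeRight.toRingHom :=
    congr($((PrimeSpectrum.primesOverOrderIsoFiber R S p).symm_apply_apply q).1).symm
  have : Algebra.QuasiFiniteAt p.ResidueField (φ q).asIdeal := .baseChange q.1 _ hcomap
  exact (Algebra.QuasiFiniteAt.isClopen_singleton (R := p.ResidueField) (φ q)).isOpen


/-- Quasi-finiteness at a prime of the clopen piece `T ⧸ (ε)` (`ε` idempotent) implies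
quasi-finiteness at the corresponding prime of `T`. -/
theorem quasiFiniteAt_comap_quotient_span_idempotent {R T : Type*} [CommRing R] [CommRing T]
    [Algebra R T] {ε : T} (hε : IsIdempotentElem ε) (q' : Ideal (T ⧸ Ideal.span {ε}))
    [q'.IsPrime] [Algebra.QuasiFiniteAt R q'] :
    Algebra.QuasiFiniteAt R (q'.comap (Ideal.Quotient.mk (Ideal.span {ε}))) := by
  let B := T ⧸ Ideal.span {ε}
  let Q : Ideal T := q'.comap (Ideal.Quotient.mk (Ideal.span {ε}))
  have hεQ : ε ∈ Q := by
    change Ideal.Quotient.mk (Ideal.span {ε}) ε ∈ q'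
    rw [Ideal.Quotient.eq_zero_iff_mem.mpr (Ideal.mem_span_singleton_self ε)]
    exact q'.zero_mem
  have h1 : (1 - ε) ∉ Q := fun h => by
    have : (1 : T) ∈ Q := by
      have := Q.add_mem h hεQ
      simpa using this
    exact (Ideal.IsPrime.ne_top inferInstance) ((Ideal.eq_top_iff_one Q).mpr this)
  have hε0 : algebraMap T (Localization.AtPrime Q) ε = 0 := by
    have hu : IsUnit (algebraMap T (Localization.AtPrime Q) (1 - ε)) :=
      IsLocalization.map_units (M := Q.primeCompl) _ ⟨1 - ε, h1⟩
    have : algebraMap T (Localization.AtPrime Q) (1 - ε) * algebraMap T (Localization.AtPrime Q) ε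
        = 0 := by
      rw [← map_mul, sub_mul, one_mul, hε.eq, sub_self, map_zero]
    exact (hu.mul_right_eq_zero).mp this
  let g₀ : B →ₐ[R] Localization.AtPrime Q :=
    Ideal.Quotient.liftₐ (Ideal.span {ε}) (IsScalarTower.toAlgHom R T (Localization.AtPrime Q))
      (by
        intro a ha
        obtain ⟨c, rfl⟩ := Ideal.mem_span_singleton'.mp ha
        simp [hε0])
  have hg₀ : ∀ t : T, g₀ (Ideal.Quotient.mk _ t) = algebraMap T (Localization.AtPrime Q) t :=
    fun t => rfl
  let g : Localization.AtPrime q' →ₐ[R] Localization.AtPrime Q :=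
    IsLocalization.liftAlgHom (M := q'.primeCompl) (f := g₀) (by
      rintro ⟨b, hb⟩
      obtain ⟨t, rfl⟩ := Ideal.Quotient.mk_surjective b
      rw [hg₀]
      exact IsLocalization.map_units (M := Q.primeCompl) _ ⟨t, hb⟩)
  have hg : ∀ b : B, g (algebraMap B (Localization.AtPrime q') b) = g₀ b := fun b => by
    simp only [g, IsLocalization.liftAlgHom_apply]
    exact IsLocalization.lift_eq _ b
  refine Algebra.QuasiFinite.of_surjective_algHom g ?_
  intro x
  obtain ⟨t, ⟨s, hs⟩, rfl⟩ := IsLocalization.exists_mk'_eq Q.primeCompl x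
  have hs' : Ideal.Quotient.mk (Ideal.span {ε}) s ∈ q'.primeCompl := hs
  refine ⟨IsLocalization.mk' (Localization.AtPrime q') (Ideal.Quotient.mk (Ideal.span {ε}) t)
    ⟨_, hs'⟩, ?_⟩
  rw [IsLocalization.eq_mk'_iff_mul_eq, ← hg₀ s, ← hg, ← map_mul, IsLocalization.mk'_spec, hg, hg₀]


/-- Quasi-finiteness at a prime descends along a base change which induces an isomorphism on
residue fields of the base primes. -/
theorem quasiFiniteAt_comap_includeRight {R S R' : Type u} [CommRing R] [CommRing S]
    [Algebra R S] [Algebra.FiniteType R S] [CommRing R'] [Algebra R R'] (p : Ideal R) [p.IsPrime]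
    (P : Ideal R') [P.IsPrime] [P.LiesOver p]
    (hbij : Function.Bijective (Ideal.ResidueField.mapₐ p P (Algebra.ofId _ _) (P.over_def p)))
    (Q : Ideal (R' ⊗[R] S)) [Q.IsPrime] [Q.LiesOver P] [Algebra.QuasiFiniteAt R' Q] :
    Algebra.QuasiFiniteAt R (Q.comap Algebra.TensorProduct.includeRight.toRingHom) := by
  let T := R' ⊗[R] S
  let Qb : PrimeSpectrum (P.Fiber T) :=
    PrimeSpectrum.primesOverOrderIsoFiber R' T P ⟨Q, inferInstance, inferInstance⟩
  have hQ : Q = Qb.asIdeal.comap Algebra.TensorProduct.includeRight.toRingHom :=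
    congr($((PrimeSpectrum.primesOverOrderIsoFiber R' T P).symm_apply_apply
      ⟨Q, inferInstance, inferInstance⟩).1).symm
  have hqfb : Algebra.QuasiFiniteAt P.ResidueField Qb.asIdeal := .baseChange Q _ hQ
  have hopen : IsOpen ({Qb} : Set (PrimeSpectrum (P.Fiber T))) :=
    (Algebra.QuasiFiniteAt.isClopen_singleton (R := P.ResidueField) Qb).isOpen
  let e₁ : p.ResidueField ≃ₐ[R] P.ResidueField := AlgEquiv.ofBijective _ hbij
  let E : P.Fiber T ≃+* p.Fiber S :=
    ((Algebra.TensorProduct.cancelBaseChange R R' P.ResidueField P.ResidueField S).toRingEquiv).trans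
      ((Algebra.TensorProduct.congr e₁.symm (AlgEquiv.refl (R := R) (A₁ := S))).toRingEquiv)
  have hE : ∀ s : S, E ((1 : P.ResidueField) ⊗ₜ[R'] ((1 : R') ⊗ₜ[R] s)) = (1 : p.ResidueField) ⊗ₜ[R] s := by
    intro s
    change (Algebra.TensorProduct.congr e₁.symm (AlgEquiv.refl (R := R) (A₁ := S)))
      ((Algebra.TensorProduct.cancelBaseChange R R' P.ResidueField P.ResidueField S)
        (1 ⊗ₜ[R'] (1 ⊗ₜ[R] s))) = _
    rw [Algebra.TensorProduct.cancelBaseChange_tmul, one_smul, Algebra.TensorProduct.congr_apply,
      Algebra.TensorProduct.map_tmul]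
    simp
  let qb : PrimeSpectrum (p.Fiber S) := PrimeSpectrum.comap E.symm.toRingHom Qb
  have hopen' : IsOpen ({qb} : Set (PrimeSpectrum (p.Fiber S))) := by
    have : ({qb} : Set (PrimeSpectrum (p.Fiber S))) = PrimeSpectrum.comap E.toRingHom ⁻¹' {Qb} := by
      ext x
      simp only [Set.mem_singleton_iff, Set.mem_preimage]
      constructor
      · rintro rfl
        ext y
        simp [qb]
      · intro h
        simp only [qb, ← h]
        ext y
        change y ∈ x.asIdeal ↔ E (E.symm y) ∈ x.asIdeal
        rw [RingEquiv.apply_symm_apply]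
    rw [this]
    exact hopen.preimage (PrimeSpectrum.continuous_comap E.toRingHom)
  have hqf : Algebra.QuasiFiniteAt p.ResidueField qb.asIdeal := .of_isOpen_singleton qb hopen'
  have hq : qb.asIdeal.comap Algebra.TensorProduct.includeRight.toRingHom =
      Q.comap Algebra.TensorProduct.includeRight.toRingHom := by
    ext s
    have key : ∀ t : T, t ∈ Q ↔
        t ∈ Qb.asIdeal.comap Algebra.TensorProduct.includeRight.toRingHom := fun t => by
      rw [← hQ]
    rw [Ideal.mem_comap, Ideal.mem_comap, key, Ideal.mem_comap]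
    change E.symm ((1 : p.ResidueField) ⊗ₜ[R] s) ∈ Qb.asIdeal ↔
      ((1 : P.ResidueField) ⊗ₜ[R'] ((1 : R') ⊗ₜ[R] s)) ∈ Qb.asIdeal
    rw [← hE s, RingEquiv.symm_apply_apply]
  have hlo : (Q.comap Algebra.TensorProduct.includeRight.toRingHom).LiesOver p := by
    constructor
    rw [Ideal.under_def, Ideal.comap_comap]
    have h1 : (Algebra.TensorProduct.includeRight.toRingHom : S →+* R' ⊗[R] S).comp
        (algebraMap R S) = (algebraMap R' (R' ⊗[R] S)).comp (algebraMap R R') := by
      ext r
      simp [Algebra.algebraMap_eq_smul_one]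
    rw [h1, ← Ideal.comap_comap, ← Ideal.under_def, ← Ideal.under_def, ← Q.over_def P,
      ← P.over_def p]
  exact .of_quasiFiniteAt_residueField p _ qb.asIdeal hq


section Ortho

variable {T : Type*} [CommRing T] {n : ℕ} (e : Fin n → T)

/-- Orthogonalization of a finite family of idempotents. -/
noncomputable def orthoIdem (i : Fin n) : T :=
  e i * ∏ j ∈ Finset.univ.filter (· < i), (1 - e j)

theorem isIdempotentElem_finset_prod {ι : Type*} (s : Finset ι) (a : ι → T)
    (ha : ∀ i ∈ s, IsIdempotentElem (a i)) : IsIdempotentElem (∏ i ∈ s, a i) := by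
  classical
  induction s using Finset.induction_on with
  | empty => simp [IsIdempotentElem]
  | insert i s hi IH =>
    rw [Finset.prod_insert hi]
    exact (ha i (Finset.mem_insert_self i s)).mul
      (IH fun j hj => ha j (Finset.mem_insert_of_mem hj))

variable {e}

theorem orthoIdem_isIdempotentElem (he : ∀ i, IsIdempotentElem (e i)) (i : Fin n) :
    IsIdempotentElem (orthoIdem e i) :=
  (he i).mul (isIdempotentElem_finset_prod _ _ fun j _ => (he j).one_sub)

theorem orthoIdem_mul_of_lt (he : ∀ i, IsIdempotentElem (e i)) {i j : Fin n} (hij : j < i) :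
    orthoIdem e i * orthoIdem e j = 0 := by
  classical
  unfold orthoIdem
  have hmem : j ∈ Finset.univ.filter (· < i) := by simp [hij]
  rw [← Finset.mul_prod_erase _ _ hmem]
  have : (1 - e j) * e j = 0 := (he j).one_sub_mul_self
  calc e i * ((1 - e j) * ∏ x ∈ (Finset.univ.filter (· < i)).erase j, (1 - e x)) *
        (e j * ∏ j_1 ∈ Finset.univ.filter (· < j), (1 - e j_1))
      = ((1 - e j) * e j) * (e i * (∏ x ∈ (Finset.univ.filter (· < i)).erase j, (1 - e x)) *
        ∏ j_1 ∈ Finset.univ.filter (· < j), (1 - e j_1)) := by ring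
    _ = 0 := by rw [this, zero_mul]

theorem orthoIdem_orthogonal (he : ∀ i, IsIdempotentElem (e i)) :
    OrthogonalIdempotents (orthoIdem e) where
  idem := orthoIdem_isIdempotentElem he
  ortho := by
    intro i j hij
    rcases lt_or_gt_of_ne hij with h | h
    · rw [mul_comm]; exact orthoIdem_mul_of_lt he h
    · exact orthoIdem_mul_of_lt he h

theorem one_sub_mul_orthoIdem (he : ∀ i, IsIdempotentElem (e i)) (i : Fin n) :
    (1 - e i) * orthoIdem e i = 0 := by
  unfold orthoIdem
  rw [← mul_assoc, (he i).one_sub_mul_self, zero_mul]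

theorem span_one_sub_le_span_one_sub_orthoIdem (he : ∀ i, IsIdempotentElem (e i)) (i : Fin n) :
    Ideal.span {1 - e i} ≤ Ideal.span {1 - orthoIdem e i} := by
  rw [Ideal.span_singleton_le_iff_mem, Ideal.mem_span_singleton']
  refine ⟨1 - e i, ?_⟩
  rw [mul_sub, mul_one, one_sub_mul_orthoIdem he, sub_zero]

theorem mem_of_orthoIdem_notMem {Q : Ideal T} {i : Fin n} (h : orthoIdem e i ∉ Q) : e i ∉ Q :=
  fun h' => h (Q.mul_mem_right _ h')

theorem orthoIdem_notMem {Q : Ideal T} [Q.IsPrime] {i : Fin n}
    (hi : e i ∉ Q) (hj : ∀ j < i, e j ∈ Q) : orthoIdem e i ∉ Q := by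
  classical
  unfold orthoIdem
  intro h
  rcases (Ideal.IsPrime.mem_or_mem inferInstance h) with h | h
  · exact hi h
  · obtain ⟨j, hj', hjQ⟩ := (Ideal.IsPrime.prod_mem_iff).mp h
    have hlt : j < i := by simpa using hj'
    have h1 : (1 : T) ∈ Q := by
      have := Q.add_mem hjQ (hj j hlt)
      simpa using this
    exact (Ideal.IsPrime.ne_top inferInstance) ((Ideal.eq_top_iff_one Q).mpr h1)

end Ortho


/-- The product decomposition attached to a finite family of orthogonal idempotents. -/
theorem bijective_prod_pi_of_orthogonalIdempotents {R' T : Type*} [CommRing R'] [CommRing T]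
    [Algebra R' T] {n : ℕ} {e' : Fin n → T} (he : OrthogonalIdempotents e') :
    Function.Bijective (AlgHom.prod
      (AlgHom.pi (R := R') (A := fun i : Fin n => T ⧸ Ideal.span {1 - e' i})
        (fun i => Ideal.Quotient.mkₐ R' (Ideal.span {1 - e' i})))
      (Ideal.Quotient.mkₐ R' (Ideal.span {1 - (1 - ∑ i, e' i)}))) := by
  have hc := CompleteOrthogonalIdempotents.option he
  have hb := hc.bijective_pi
  have h2 := ((Equiv.piOptionEquivProd
    (β := fun o : Option (Fin n) => T ⧸ Ideal.span {1 - Option.elim o (1 - ∑ i, e' i) e'})).trans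
      (Equiv.prodComm _ _)).bijective.comp hb
  exact h2

/-- The `AlgEquiv` version. -/
noncomputable def prodPiEquivOfOrthogonalIdempotents {R' T : Type*} [CommRing R'] [CommRing T]
    [Algebra R' T] {n : ℕ} {e' : Fin n → T} (he : OrthogonalIdempotents e') :
    T ≃ₐ[R'] ((∀ i : Fin n, T ⧸ Ideal.span {1 - e' i}) × T ⧸ Ideal.span {1 - (1 - ∑ i, e' i)}) :=
  AlgEquiv.ofBijective _ (bijective_prod_pi_of_orthogonalIdempotents (R' := R') he)


theorem closure_range_algebraMap_residueField_eq_top {R R' : Type*} [CommRing R] [CommRing R']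
    [Algebra R R'] (p : Ideal R) [p.IsPrime] (P : Ideal R') [P.IsPrime] [P.LiesOver p]
    (hbij : Function.Bijective (Ideal.ResidueField.mapₐ p P (Algebra.ofId _ _) (P.over_def p))) :
    Subfield.closure (Set.range (algebraMap R P.ResidueField)) = ⊤ := by
  rw [eq_top_iff]
  intro x _
  obtain ⟨y, rfl⟩ := hbij.2 x
  obtain ⟨a, b, -, rfl⟩ := IsFractionRing.div_surjective (A := R ⧸ p) y
  obtain ⟨ra, rfl⟩ := Ideal.Quotient.mk_surjective a
  obtain ⟨rb, rfl⟩ := Ideal.Quotient.mk_surjective b
  have h : ∀ r : R, (Ideal.ResidueField.mapₐ p P (Algebra.ofId _ _) (P.over_def p))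
      (algebraMap (R ⧸ p) p.ResidueField (Ideal.Quotient.mk p r)) =
        algebraMap R P.ResidueField r := by
    intro r
    have : algebraMap (R ⧸ p) p.ResidueField (Ideal.Quotient.mk p r) =
        algebraMap R p.ResidueField r := by
      rw [IsScalarTower.algebraMap_apply R (R ⧸ p) p.ResidueField]
      rfl
    rw [this, AlgHom.commutes]
  rw [map_div₀, h, h]
  exact div_mem (Subfield.subset_closure ⟨ra, rfl⟩) (Subfield.subset_closure ⟨rb, rfl⟩)


/-- Étale localization of a finite type algebra at a prime of the base: after an étale base change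
inducing an isomorphism on the residue field, the algebra splits as a product of finite algebras
with exactly one prime over the base point, and a factor which is nowhere quasi-finite over the
base point. -/
theorem exists_etale_prod_decomposition (R : Type u) [CommRing R] (S : Type u) [CommRing S]
    [Algebra R S] [Algebra.FiniteType R S] (p : Ideal R) [p.IsPrime] :
    ∃ (R' : Type u) (_ : CommRing R') (_ : Algebra R R') (_ : Algebra.Etale R R') (p' : Ideal R')
      (_ : p'.IsPrime) (_ : p'.LiesOver p) (n : ℕ) (A : Fin n → Type u) (_ : ∀ i, CommRing (A i))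
      (_ : ∀ i, Algebra R' (A i)) (B : Type u) (_ : CommRing B) (_ : Algebra R' B),
      Subfield.closure (Set.range (algebraMap R p'.ResidueField)) = ⊤ ∧
      Nonempty ((R' ⊗[R] S) ≃ₐ[R'] ((∀ i, A i) × B)) ∧
        (∀ i, Module.Finite R' (A i) ∧
          ∃! r : Ideal (A i), r.IsPrime ∧ r.comap (algebraMap R' (A i)) = p') ∧
        ∀ (q : Ideal B) [q.IsPrime], q.comap (algebraMap R' B) = p' →
          ¬ Algebra.QuasiFiniteAt R' q := by
  classical
  let QF : Set (p.primesOver S) := {q | @Algebra.QuasiFiniteAt R S _ _ _ q.1 q.2.1}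
  have hQF : QF.Finite := finite_quasiFiniteAt_primesOver p
  have : Finite QF := hQF.to_subtype
  let n := Nat.card QF
  let idx : Fin n ≃ QF := (Finite.equivFin QF).symm
  let q : Fin n → Ideal S := fun i => (idx i).1.1
  have hqp : ∀ i, (q i).IsPrime := fun i => (idx i).1.2.1
  have hqo : ∀ i, (q i).LiesOver p := fun i => (idx i).1.2.2
  have hqf : ∀ i, Algebra.QuasiFiniteAt R (q i) := fun i => (idx i).2
  have hqinj : Function.Injective q := by
    intro i j hij
    apply idx.injective
    apply Subtype.ext
    apply Subtype.ext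
    exact hij
  obtain ⟨R', _, _, _, P, _, _, hbij, hsplit⟩ :=
    exists_etale_forall_splitsAt p (fun _ : Fin n => S) q
  choose e P' he hP'prime hP'over hP'q heP' hfin huniq using hsplit
  let T := R' ⊗[R] S
  let e' : Fin n → T := orthoIdem e
  have horth : OrthogonalIdempotents e' := orthoIdem_orthogonal he
  have hne : ∀ i j, i ≠ j → e j ∈ P' i := by
    intro i j hij
    by_contra h
    have h1 : P' i = P' j := huniq j (P' i) (hP'prime i) (hP'over i) h
    apply hij
    apply hqinj
    rw [← hP'q i, ← hP'q j, h1]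
  have he'notin : ∀ i, e' i ∉ P' i := fun i =>
    have := hP'prime i
    orthoIdem_notMem (heP' i) (fun j hj => hne i j (ne_of_gt hj))
  have hone_sub_mem : ∀ i, 1 - e' i ∈ P' i := fun i => by
    have := hP'prime i
    have h0 : e' i * (1 - e' i) ∈ P' i := by
      rw [(horth.idem i).mul_one_sub_self]
      exact (P' i).zero_mem
    exact ((Ideal.IsPrime.mem_or_mem inferInstance h0).resolve_left (he'notin i))
  refine ⟨R', _, _, ‹_›, P, ‹_›, ‹_›, n, fun i => T ⧸ Ideal.span {1 - e' i},
    fun i => inferInstance, fun i => inferInstance,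
    T ⧸ Ideal.span {1 - (1 - ∑ i, e' i)}, inferInstance, inferInstance,
    closure_range_algebraMap_residueField_eq_top p P hbij,
    ⟨prodPiEquivOfOrthogonalIdempotents horth⟩, ?_, ?_⟩
  · intro i
    have := hP'prime i
    have hle : Ideal.span {1 - e' i} ≤ P' i :=
      (Ideal.span_singleton_le_iff_mem _).mpr (hone_sub_mem i)
    refine ⟨?_, ?_⟩
    · have h1 : Module.Finite R' (T ⧸ Ideal.span {1 - e i}) :=
        (finite_away_iff_finite_quotient (he i)).mp (hfin i)
      have hle' := span_one_sub_le_span_one_sub_orthoIdem he i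
      exact Module.Finite.of_surjective (Ideal.Quotient.factorₐ R' hle').toLinearMap
        (Ideal.Quotient.factor_surjective hle')
    · have hsurj : Function.Surjective (Ideal.Quotient.mk (Ideal.span {1 - e' i})) :=
        Ideal.Quotient.mk_surjective
      have hker : RingHom.ker (Ideal.Quotient.mk (Ideal.span {1 - e' i})) ≤ P' i := by
        rw [Ideal.mk_ker]; exact hle
      have hcm : ((P' i).map (Ideal.Quotient.mk (Ideal.span {1 - e' i}))).comap
          (Ideal.Quotient.mk (Ideal.span {1 - e' i})) = P' i := by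
        rw [Ideal.comap_map_of_surjective _ hsurj, sup_eq_left, ← RingHom.ker_eq_comap_bot]
        exact hker
      refine ⟨(P' i).map (Ideal.Quotient.mk (Ideal.span {1 - e' i})),
        ⟨Ideal.map_isPrime_of_surjective hsurj hker, ?_⟩, ?_⟩
      · have : algebraMap R' (T ⧸ Ideal.span {1 - e' i}) =
            (Ideal.Quotient.mk (Ideal.span {1 - e' i})).comp (algebraMap R' T) := rfl
        rw [this, ← Ideal.comap_comap, hcm]
        exact ((hP'over i).over).symm
      · rintro r ⟨hr, hrP⟩
        let P'' : Ideal T := r.comap (Ideal.Quotient.mk (Ideal.span {1 - e' i}))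
        have hP''p : P''.IsPrime := Ideal.comap_isPrime _ _
        have hP''o : P''.LiesOver P := by
          constructor
          rw [Ideal.under_def, ← hrP]
          rfl
        have h1 : 1 - e' i ∈ P'' := by
          change Ideal.Quotient.mk (Ideal.span {1 - e' i}) (1 - e' i) ∈ r
          rw [Ideal.Quotient.eq_zero_iff_mem.mpr (Ideal.mem_span_singleton_self _)]
          exact r.zero_mem
        have h2 : e' i ∉ P'' := fun h => by
          have : (1 : T) ∈ P'' := by
            have := P''.add_mem h1 h
            simpa using this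
          exact hP''p.ne_top ((Ideal.eq_top_iff_one P'').mpr this)
        have h3 : P'' = P' i := huniq i P'' hP''p hP''o (mem_of_orthoIdem_notMem h2)
        rw [← h3]
        exact (Ideal.map_comap_of_surjective _ hsurj r).symm
  · intro q' _ hq' hqf'
    let ε : T := 1 - (1 - ∑ i, e' i)
    have hε : IsIdempotentElem ε := horth.isIdempotentElem_sum.one_sub.one_sub
    let Q : Ideal T := q'.comap (Ideal.Quotient.mk (Ideal.span {ε}))
    have hQp : Q.IsPrime := Ideal.comap_isPrime _ _
    have hQo : Q.LiesOver P := by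
      constructor
      rw [Ideal.under_def, ← hq']
      rfl
    have hQqf : Algebra.QuasiFiniteAt R' Q :=
      quasiFiniteAt_comap_quotient_span_idempotent hε q'
    have hq0 : Algebra.QuasiFiniteAt R (Q.comap Algebra.TensorProduct.includeRight.toRingHom) :=
      quasiFiniteAt_comap_includeRight p P hbij Q
    let q₀ : Ideal S := Q.comap Algebra.TensorProduct.includeRight.toRingHom
    have hq₀p : q₀.IsPrime := Ideal.comap_isPrime _ _
    have hq₀o : q₀.LiesOver p := by
      constructor
      change p = Ideal.comap (algebraMap R S)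
        (Ideal.comap Algebra.TensorProduct.includeRight.toRingHom Q)
      rw [Ideal.comap_comap]
      have h1 : (Algebra.TensorProduct.includeRight.toRingHom : S →+* R' ⊗[R] S).comp
          (algebraMap R S) = (algebraMap R' (R' ⊗[R] S)).comp (algebraMap R R') := by
        ext r
        simp [Algebra.algebraMap_eq_smul_one]
      rw [h1, ← Ideal.comap_comap, ← Ideal.under_def, ← Ideal.under_def, ← Q.over_def P,
        ← P.over_def p]
    let x : QF := ⟨⟨q₀, hq₀p, hq₀o⟩, hq0⟩
    let i := idx.symm x
    have hi : q i = q₀ := by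
      change (idx (idx.symm x)).1.1 = q₀
      rw [Equiv.apply_symm_apply]
    have := hP'prime i
    have := hP'over i
    have hQP' : Q = P' i := Ideal.eq_of_comap_eq_comap_of_bijective_residueFieldMap hbij Q (P' i)
      (by rw [hP'q i, hi])
    have hεQ : ε ∈ Q := by
      change Ideal.Quotient.mk (Ideal.span {ε}) ε ∈ q'
      rw [Ideal.Quotient.eq_zero_iff_mem.mpr (Ideal.mem_span_singleton_self ε)]
      exact q'.zero_mem
    have he'Q : e' i ∈ Q := by
      have h1 : e' i = e' i * ε := by
        simp only [ε, sub_sub_cancel]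
        rw [horth.mul_sum_of_mem (Finset.mem_univ i)]
      rw [h1]
      exact Q.mul_mem_left _ hεQ
    rw [hQP'] at he'Q
    exact he'notin i he'Q

end Groth.Agent.H7
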