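import Groth.Agent.H7.ShStalks
import Groth.Agent.H7.FinPushStalk

/-!
# Sheaves of sets: the stalk of the push-forward along a finite morphism
-/

set_option autoImplicit false
set_option linter.style.haveILetI false
universe u

open AlgebraicGeometry CategoryTheory Limits Opposite EtCoh
open Groth.Agent.H4.Stalks Groth.Agent.H4.StalkPull Groth.Agent.H4.StalkPullSh
open Groth.Agent.H4.GlueSec Groth.Agent.H4.PropBSh
open Groth.Agent.H7.ShStalks Groth.Agent.H7.FinPush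

namespace Groth.Agent.H7.ShFinPush

variable {X Y : Scheme.{u}} (f : X ⟶ Y)

section local_eq

variable {Ω : Type u} [Field Ω] [IsSepClosed Ω] {ξ : Spec (CommRingCat.of Ω) ⟶ X}

/-- Sections agreeing étale-locally around every point are equal. -/
theorem eq_of_locally_eq (F : EtDesc.Sh X) {V : X.Etale} (s s' : F.obj.obj (op V))
    (h : ∀ p : V.left, ∃ (W : X.Etale) (g : W ⟶ V) (w : W.left),
      g.left w = p ∧ F.obj.map g.op s = F.obj.map g.op s') : s = s' := by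
  choose W g w hw hg using h
  apply eq_of_cover_sh F W g _ s s' hg
  ext p
  simp only [Set.mem_iUnion, Set.mem_range, Set.mem_univ, iff_true]
  exact ⟨p, w p, hw p⟩

/-- germs agree iff the sections agree on an étale neighbourhood of the point. -/
theorem germSh_eq_iff' (F : EtDesc.Sh X) {U : X.Etale} (x : Fib ξ U) (s s' : F.obj.obj (op U)) :
    germSh F x s = germSh F x s' ↔ ∃ (V : X.Etale) (g : V ⟶ U) (v : V.left),
      g.left v = x.pt ∧ F.obj.map g.op s = F.obj.map g.op s' := by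
  rw [germSh_eq_iff]
  constructor
  · rintro ⟨V, g, y, hy, hs⟩
    exact ⟨V, g, y.pt, by rw [← Fib.pt_map, hy], hs⟩
  · rintro ⟨V, g, v, hv, hs⟩
    obtain ⟨y, hy, -⟩ := Fib.exists_lift g x v hv
    exact ⟨V, g, y, hy, hs⟩

end local_eq

section rho

variable {Ω : Type u} [Field Ω] [IsSepClosed Ω]

/-- The canonical map from the stalk of `f_* F` at `x ≫ f` to the stalk of `F` at `x`. -/
noncomputable def rhoSh (x : Spec (.of Ω) ⟶ X) (F : EtDesc.Sh X) :
    (stalkSh (x ≫ f)).obj ((EtDesc.pushSh f).obj F) ⟶ (stalkSh x).obj F :=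
  (stalkPullIsoSh f x).hom.app ((EtDesc.pushSh f).obj F) ≫
    (stalkSh x).map ((EtDesc.adjSh f).counit.app F)

theorem rhoSh_germ (x : Spec (.of Ω) ⟶ X) (F : EtDesc.Sh X) {V : Y.Etale} (v : Fib (x ≫ f) V)
    (s : F.obj.obj (op ((bc f).obj V))) :
    rhoSh f x F (germSh ((EtDesc.pushSh f).obj F) v s) = germSh F (fibPull f x v) s := by
  unfold rhoSh
  rw [ConcreteCategory.comp_apply, stalkPullIsoSh_germ_apply, germSh_map]
  congr 1
  have h := (EtDesc.adjSh f).right_triangle_components F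
  have h2 := congr($(h).hom.app (op V))
  exact ConcreteCategory.congr_hom h2 s

/-- `ρ` with the base geometric point given up to a propositional equality. -/
noncomputable def rho'Sh (y : Spec (.of Ω) ⟶ Y) (x : Spec (.of Ω) ⟶ X) (hx : x ≫ f = y)
    (F : EtDesc.Sh X) : (stalkSh y).obj ((EtDesc.pushSh f).obj F) ⟶ (stalkSh x).obj F := by
  subst hx
  exact rhoSh f x F

theorem rho'Sh_germ (y : Spec (.of Ω) ⟶ Y) (x : Spec (.of Ω) ⟶ X) (hx : x ≫ f = y)
    (F : EtDesc.Sh X) {V : Y.Etale} (v : Fib y V) (s : F.obj.obj (op ((bc f).obj V))) :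
    rho'Sh f y x hx F (germSh ((EtDesc.pushSh f).obj F) v s) = germSh F (ptFib f y x hx v) s := by
  subst hx
  change rhoSh f x F _ = _
  rw [rhoSh_germ, fibPull_eq_ptFib]

end rho

section inj

variable {Ω : Type u} [Field Ω] [IsAlgClosed Ω]

/-- **Injectivity**: two germs of `f_* F` (for `f` integral) at a geometric point `y` agree as
soon as their germs at all geometric points of `X` over `y` agree. -/
theorem germSh_push_eq [IsIntegralHom f] (y : Spec (.of Ω) ⟶ Y) (F : EtDesc.Sh X) {V : Y.Etale}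
    (v : Fib y V) (s s' : F.obj.obj (op ((bc f).obj V)))
    (h : ∀ w : Spec (.of Ω) ⟶ pullback V.hom f, w ≫ pullback.fst V.hom f = v.left →
      germSh F (mkFib (U := (bc f).obj V) w) s = germSh F (mkFib (U := (bc f).obj V) w) s') :
    germSh ((EtDesc.pushSh f).obj F) v s = germSh ((EtDesc.pushSh f).obj F) v s' := by
  have key : ∀ p : ↥(pullback V.hom f), pullback.fst V.hom f p = v.pt →
      ∃ (U : X.Etale) (g : U ⟶ (bc f).obj V) (u : U.left), g.left u = p ∧
        F.obj.map g.op s = F.obj.map g.op s' := by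
    intro p hp
    obtain ⟨w, hw1, hw2⟩ := Groth.Agent.H7.GeomPt.exists_lift_of_isIntegralHom
      (pullback.fst V.hom f) v.left p hp
    obtain ⟨U, g, u, hu, hs⟩ := (germSh_eq_iff' F _ s s').1 (h w hw1)
    exact ⟨U, g, u, hu.trans hw2, hs⟩
  choose U g u hu hs using key
  obtain ⟨V₁, c, v₁, hcv, K, W, -, hcovW, hk⟩ := exists_pieces_et f V v.pt
    (ι := {p : ↥(pullback V.hom f) // pullback.fst V.hom f p = v.pt})
    (fun p ↦ U p.1 p.2) (fun p ↦ g p.1 p.2) (fun p hp ↦ ⟨⟨p, hp⟩, u p hp, hu p hp⟩)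
  obtain ⟨v', hv', -⟩ := Fib.exists_lift c v v₁ hcv
  have heq : F.obj.map ((bc f).map c).op s = F.obj.map ((bc f).map c).op s' := by
    apply eq_of_locally_eq
    intro q
    have hq : q ∈ (⨆ a, W a) := by rw [hcovW]; trivial
    rw [TopologicalSpace.Opens.mem_iSup] at hq
    obtain ⟨a, hqa⟩ := hq
    obtain ⟨i, k, hk'⟩ := hk a
    refine ⟨opn _ (W a), opnι _ (W a), ⟨q, hqa⟩, rfl, ?_⟩
    have e : ∀ t : F.obj.obj (op ((bc f).obj V)),
        F.obj.map (opnι _ (W a)).op (F.obj.map ((bc f).map c).op t) =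
          F.obj.map k.op (F.obj.map (g i.1 i.2).op t) := by
      intro t
      rw [← Functor.map_comp_apply, ← Functor.map_comp_apply, ← op_comp, ← op_comp,
        hk']
    rw [e, e, hs]
  rw [← hv', ← germSh_res ((EtDesc.pushSh f).obj F) c v' s,
    ← germSh_res ((EtDesc.pushSh f).obj F) c v' s']
  change germSh ((EtDesc.pushSh f).obj F) v' (F.obj.map ((bc f).map c).op s) =
    germSh ((EtDesc.pushSh f).obj F) v' (F.obj.map ((bc f).map c).op s')
  rw [heq]

/-- **Injectivity**, in terms of `ptFib`. -/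
theorem germSh_push_eq' [IsIntegralHom f] (y : Spec (.of Ω) ⟶ Y) (F : EtDesc.Sh X)
    {V : Y.Etale} (v : Fib y V) (s s' : F.obj.obj (op ((bc f).obj V)))
    (h : ∀ (x : Spec (.of Ω) ⟶ X) (hx : x ≫ f = y),
      germSh F (ptFib f y x hx v) s = germSh F (ptFib f y x hx v) s') :
    germSh ((EtDesc.pushSh f).obj F) v s = germSh ((EtDesc.pushSh f).obj F) v s' := by
  apply germSh_push_eq f y F v s s'
  intro w hw
  have hx : (w ≫ pullback.snd V.hom f) ≫ f = y :=
    calc (w ≫ pullback.snd V.hom f) ≫ f = w ≫ (pullback.snd V.hom f ≫ f) := Category.assoc _ _ _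
      _ = w ≫ (pullback.fst V.hom f ≫ V.hom) := congrArg (fun t ↦ w ≫ t) pullback.condition.symm
      _ = (w ≫ pullback.fst V.hom f) ≫ V.hom := (Category.assoc _ _ _).symm
      _ = v.left ≫ V.hom := congrArg (fun t ↦ t ≫ V.hom) hw
      _ = y := Over.w v
  have e : mkFib (U := (bc f).obj V) w = ptFib f y (w ≫ pullback.snd V.hom f) hx v :=
    ptFib_eq_of_left f y _ hx v _ hw
  rw [e]
  exact h _ hx

/-- an element of the stalk of `f_* F` (`f` integral) is determined by its images under the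
`ρ`. -/
theorem eq_of_rho'Sh_eq [IsIntegralHom f] (F : EtDesc.Sh X) (η : Spec (.of Ω) ⟶ Y)
    (σ₁ σ₂ : (stalkSh η).obj ((EtDesc.pushSh f).obj F))
    (h : ∀ (x : Spec (.of Ω) ⟶ X) (hx : x ≫ f = η),
      rho'Sh f η x hx F σ₁ = rho'Sh f η x hx F σ₂) : σ₁ = σ₂ := by
  obtain ⟨Va, va, sa, rfl⟩ := germSh_surjective _ σ₁
  obtain ⟨Vb, vb, sb, rfl⟩ := germSh_surjective _ σ₂
  let ea : (Scheme.pointSmallEtale η).fiber.Elements := ⟨Va, va⟩
  let eb : (Scheme.pointSmallEtale η).fiber.Elements := ⟨Vb, vb⟩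
  let m : (Scheme.pointSmallEtale η).fiber.Elements := IsCofiltered.min ea eb
  let l : m ⟶ ea := IsCofiltered.minToLeft _ _
  let r : m ⟶ eb := IsCofiltered.minToRight _ _
  let V : Y.Etale := m.1
  let v : Fib η V := m.2
  let ca : V ⟶ Va := l.1
  let cb : V ⟶ Vb := r.1
  have hva : (Scheme.pointSmallEtale η).fiber.map ca v = va := l.2
  have hvb : (Scheme.pointSmallEtale η).fiber.map cb v = vb := r.2
  have e1 : germSh ((EtDesc.pushSh f).obj F) va sa =
      germSh ((EtDesc.pushSh f).obj F) v (F.obj.map ((bc f).map ca).op sa) := by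
    have := germSh_res ((EtDesc.pushSh f).obj F) ca v sa
    rw [hva] at this
    exact this.symm
  have e2 : germSh ((EtDesc.pushSh f).obj F) vb sb =
      germSh ((EtDesc.pushSh f).obj F) v (F.obj.map ((bc f).map cb).op sb) := by
    have := germSh_res ((EtDesc.pushSh f).obj F) cb v sb
    rw [hvb] at this
    exact this.symm
  rw [e1, e2]
  apply germSh_push_eq' f η F v
  intro x hx
  have := h x hx
  rw [e1, e2, rho'Sh_germ, rho'Sh_germ] at this
  exact this

end inj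

section surj

variable {Ω : Type u} [Field Ω] [IsAlgClosed Ω]

/-- gluing sections of a sheaf of sets along a disjoint open cover. -/
theorem exists_glue_disjoint (F : EtDesc.Sh X) (P : X.Etale) {K : Type*} (W : K → P.left.Opens)
    (hdisj : ∀ a b, a ≠ b → Disjoint (W a) (W b)) (hcov : (⨆ a, W a) = ⊤)
    (x : ∀ a, F.obj.obj (op (opn P (W a)))) :
    ∃ t : F.obj.obj (op P), ∀ a, F.obj.map (opnι P (W a)).op t = x a := by
  classical
  apply exists_glue_sh F (fun a ↦ opn P (W a)) (fun a ↦ opnι P (W a)) _ x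
  · intro i j T gi gj e
    by_cases hij : i = j
    · subst hij
      have : gi = gj := (cancel_mono (opnι P (W i))).1 e
      rw [this]
    · haveI : IsEmpty T.left := by
        constructor
        intro t
        have e1 : gi.left ≫ (W i).ι = gj.left ≫ (W j).ι := congrArg (fun k ↦ k.left) e
        have e' : (W i).ι (gi.left t) = (W j).ι (gj.left t) :=
          congrArg (fun (k : T.left ⟶ P.left) ↦ k t) e1
        have h1 : (W i).ι (gi.left t) ∈ (W i : Set P.left) := (gi.left t).2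
        have h2 : (W j).ι (gj.left t) ∈ (W j : Set P.left) := (gj.left t).2
        rw [← e'] at h2
        exact (hdisj i j hij).le_bot ⟨h1, h2⟩
      haveI := subsingleton_of_isEmpty_sh F T
      exact Subsingleton.elim _ _
  · ext p
    simp only [Set.mem_iUnion, Set.mem_univ, iff_true]
    have hp : p ∈ (⨆ a, W a) := by rw [hcov]; trivial
    rw [TopologicalSpace.Opens.mem_iSup] at hp
    obtain ⟨a, ha⟩ := hp
    refine ⟨a, ?_⟩
    rw [range_opnι]
    exact ha

/-- **Surjectivity** for finite morphisms: every family of elements of the stalks of `F` at the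
geometric points over `y` is induced by an element of the stalk of `f_* F`. -/
theorem exists_stalk_family [IsFinite f] (y : Spec (.of Ω) ⟶ Y) (F : EtDesc.Sh X)
    (t : ∀ ξ : {ξ : Spec (.of Ω) ⟶ X // ξ ≫ f = y}, (stalkSh ξ.1).obj F) :
    ∃ σ : (stalkSh y).obj ((EtDesc.pushSh f).obj F), ∀ ξ, rho'Sh f y ξ.1 ξ.2 F σ = t ξ := by
  classical
  let J := {ξ : Spec (.of Ω) ⟶ X // ξ ≫ f = y}
  haveI : Finite J := finite_geomPts f y
  haveI := Fintype.ofFinite J
  have h1 : ∀ ξ : J, ∃ (U : X.Etale) (ū : Fib ξ.1 U) (s : F.obj.obj (op U)),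
      germSh F ū s = t ξ := fun ξ ↦ germSh_surjective F (t ξ)
  choose U ū s hs using h1
  have h2 : ∀ ξ : J, ∃ (V : Y.Etale) (v : Fib y V) (W : ((bc f).obj V).left.Opens),
      IsClosed (W : Set ((bc f).obj V).left) ∧
      (∃ (k : opn ((bc f).obj V) W ⟶ U ξ) (w : Fib ξ.1 (opn ((bc f).obj V) W)),
        (Scheme.pointSmallEtale ξ.1).fiber.map (opnι _ W) w = ptFib f y ξ.1 ξ.2 v ∧
        (Scheme.pointSmallEtale ξ.1).fiber.map k w = ū ξ) ∧
      ∀ x' ∈ {x' : Spec (.of Ω) ⟶ X | x' ≫ f = y ∧ x' ≠ ξ.1}, ∀ hx' : x' ≫ f = y,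
        (ptFib f y x' hx' v).pt ∉ W := by
    intro ξ
    apply exists_good_clopen f y ξ.1 ξ.2 (ū ξ)
    · apply Set.Finite.subset (Set.finite_range (Subtype.val : J → _))
      rintro x' ⟨h1, -⟩
      exact ⟨⟨x', h1⟩, rfl⟩
    · exact fun x' h ↦ h.2
  choose Vξ vξ Wξ hWξ hkw hex using h2
  choose kξ wξ hw1 hw2 using hkw
  -- common refinement
  let O : Finset (Scheme.pointSmallEtale y).fiber.Elements :=
    Finset.univ.image (fun ξ : J ↦ (⟨Vξ ξ, vξ ξ⟩ : (Scheme.pointSmallEtale y).fiber.Elements))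
  obtain ⟨e, he⟩ := IsCofiltered.inf_objs_exists
    (C := (Scheme.pointSmallEtale y).fiber.Elements) O
  let V : Y.Etale := e.1
  let v : Fib y V := e.2
  have hc : ∀ ξ : J, ∃ c : V ⟶ Vξ ξ, (Scheme.pointSmallEtale y).fiber.map c v = vξ ξ := by
    intro ξ
    obtain ⟨m⟩ := he (Finset.mem_image_of_mem _ (Finset.mem_univ ξ))
    exact ⟨m.1, m.2⟩
  choose c hcv using hc
  let W' : ∀ ξ : J, ((bc f).obj V).left.Opens := fun ξ ↦ ((bc f).map (c ξ)).left ⁻¹ᵁ (Wξ ξ)
  have hptmap : ∀ (ξ : J) (z : Spec (.of Ω) ⟶ X) (hz : z ≫ f = y),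
      ((bc f).map (c ξ)).left (ptFib f y z hz v).pt = (ptFib f y z hz (vξ ξ)).pt := by
    intro ξ z hz
    rw [← hcv ξ, ptFib_pt_map]
  have hmem : ∀ ξ : J, (ptFib f y ξ.1 ξ.2 v).pt ∈ W' ξ := by
    intro ξ
    change ((bc f).map (c ξ)).left _ ∈ Wξ ξ
    rw [hptmap, ← hw1 ξ]
    exact pt_mem_of_fiber_map_opnι _ (Wξ ξ) (wξ ξ)
  have h3 : ∀ ξ : J, ∃ (k' : opn ((bc f).obj V) (W' ξ) ⟶ U ξ)
      (w' : Fib ξ.1 (opn ((bc f).obj V) (W' ξ))),
      (Scheme.pointSmallEtale ξ.1).fiber.map (opnι _ (W' ξ)) w' = ptFib f y ξ.1 ξ.2 v ∧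
      (Scheme.pointSmallEtale ξ.1).fiber.map k' w' = ū ξ := fun ξ ↦
    good_refine f y ξ.1 ξ.2 (ū ξ) (c ξ) v (vξ ξ) (hcv ξ) (Wξ ξ) (kξ ξ) (wξ ξ) (hw1 ξ) (hw2 ξ)
      (W' ξ) le_rfl (hmem ξ)
  choose k' w' hw'1 hw'2 using h3
  -- pieces
  obtain ⟨V₁, c₁, v₁, hcv₁, K, W, hdisj, hcovW, hk⟩ := exists_pieces_et f V v.pt
    (ι := J) (fun ξ ↦ opn ((bc f).obj V) (W' ξ)) (fun ξ ↦ opnι _ (W' ξ)) (by
      intro p hp
      obtain ⟨w, hwa, hwb⟩ := Groth.Agent.H7.GeomPt.exists_lift_of_isIntegralHom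
        (pullback.fst V.hom f) v.left p hp
      have hx : (w ≫ pullback.snd V.hom f) ≫ f = y :=
        calc (w ≫ pullback.snd V.hom f) ≫ f = w ≫ (pullback.snd V.hom f ≫ f) :=
              Category.assoc _ _ _
          _ = w ≫ (pullback.fst V.hom f ≫ V.hom) :=
              congrArg (fun t ↦ w ≫ t) pullback.condition.symm
          _ = (w ≫ pullback.fst V.hom f) ≫ V.hom := (Category.assoc _ _ _).symm
          _ = v.left ≫ V.hom := congrArg (fun t ↦ t ≫ V.hom) hwa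
          _ = y := Over.w v
      have e : mkFib (U := (bc f).obj V) w = ptFib f y (w ≫ pullback.snd V.hom f) hx v :=
        ptFib_eq_of_left f y _ hx v _ hwa
      refine ⟨⟨_, hx⟩, ?_⟩
      rw [range_opnι]
      have : p = (ptFib f y (w ≫ pullback.snd V.hom f) hx v).pt := by
        rw [← e]; exact hwb.symm
      rw [this]
      exact hmem ⟨_, hx⟩)
  obtain ⟨v', hv', -⟩ := Fib.exists_lift c₁ v v₁ hcv₁
  choose ξa ka hka using hk
  obtain ⟨tt, htt⟩ := exists_glue_disjoint F ((bc f).obj V₁) W hdisj hcovW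
    (fun a ↦ F.obj.map (ka a ≫ k' (ξa a)).op (s (ξa a)))
  refine ⟨germSh ((EtDesc.pushSh f).obj F) v' tt, ?_⟩
  intro ξ
  rw [rho'Sh_germ]
  have hp : (ptFib f y ξ.1 ξ.2 v').pt ∈ (⨆ a, W a) := by rw [hcovW]; trivial
  rw [TopologicalSpace.Opens.mem_iSup] at hp
  obtain ⟨a, ha⟩ := hp
  obtain ⟨wa, hwa, -⟩ := Fib.exists_lift (opnι ((bc f).obj V₁) (W a)) (ptFib f y ξ.1 ξ.2 v')
    ⟨_, ha⟩ rfl
  rw [← hwa, ← germSh_res, htt a]
  -- the image of `wa` in the `ξa a`-th piece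
  have himg : ∀ (ξ₁ : J) (k₁ : opn ((bc f).obj V₁) (W a) ⟶ opn ((bc f).obj V) (W' ξ₁))
      (_ : k₁ ≫ opnι _ (W' ξ₁) = opnι _ (W a) ≫ (bc f).map c₁),
      (Scheme.pointSmallEtale ξ.1).fiber.map (opnι _ (W' ξ₁))
        ((Scheme.pointSmallEtale ξ.1).fiber.map k₁ wa) = ptFib f y ξ.1 ξ.2 v := by
    intro ξ₁ k₁ hk₁
    have := congrArg (fun m ↦ (Scheme.pointSmallEtale ξ.1).fiber.map m wa) hk₁
    simp only [Functor.map_comp] at this
    refine this.trans ?_
    change (Scheme.pointSmallEtale ξ.1).fiber.map ((bc f).map c₁)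
      ((Scheme.pointSmallEtale ξ.1).fiber.map (opnι _ (W a)) wa) = _
    rw [hwa, ptFib_map, hv']
  have hξ : ξa a = ξ := by
    by_contra hne
    have hmem' := pt_mem_of_fiber_map_opnι _ (W' (ξa a))
      ((Scheme.pointSmallEtale ξ.1).fiber.map (ka a) wa)
    rw [himg (ξa a) (ka a) (hka a)] at hmem'
    have h4 : ((bc f).map (c (ξa a))).left (ptFib f y ξ.1 ξ.2 v).pt ∈ Wξ (ξa a) := hmem'
    rw [hptmap] at h4
    exact hex (ξa a) ξ.1 ⟨ξ.2, fun h ↦ hne (Subtype.ext h.symm)⟩ ξ.2 h4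
  have key : ∀ (ξ₁ : J) (k₁ : opn ((bc f).obj V₁) (W a) ⟶ opn ((bc f).obj V) (W' ξ₁))
      (_ : k₁ ≫ opnι _ (W' ξ₁) = opnι _ (W a) ≫ (bc f).map c₁) (_ : ξ₁ = ξ),
      germSh F wa (F.obj.map (k₁ ≫ k' ξ₁).op (s ξ₁)) = t ξ := by
    intro ξ₁ k₁ hk₁ hξ₁
    subst hξ₁
    rw [germSh_res, Functor.map_comp]
    change germSh F ((Scheme.pointSmallEtale ξ₁.1).fiber.map (k' ξ₁)
      ((Scheme.pointSmallEtale ξ₁.1).fiber.map k₁ wa)) (s ξ₁) = t ξ₁
    have : (Scheme.pointSmallEtale ξ₁.1).fiber.map k₁ wa = w' ξ₁ := by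
      apply fiber_map_opnι_injective
      rw [himg ξ₁ k₁ hk₁, hw'1]
    rw [this, hw'2, hs]
  exact key (ξa a) (ka a) (hka a) hξ

end surj

section functor

variable {Ω : Type u} [Field Ω] [IsAlgClosed Ω]

/-- `ρ` as a natural transformation. -/
noncomputable def rhoNat (η : Spec (.of Ω) ⟶ Y) (x : Spec (.of Ω) ⟶ X) (hx : x ≫ f = η) :
    EtDesc.pushSh f ⋙ stalkSh η ⟶ stalkSh x where
  app F := rho'Sh f η x hx F
  naturality F G a := by
    subst hx
    change (stalkSh (x ≫ f)).map ((EtDesc.pushSh f).map a) ≫ rhoSh f x G =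
      rhoSh f x F ≫ (stalkSh x).map a
    unfold rhoSh
    have h1 := (stalkPullIsoSh f x).hom.naturality ((EtDesc.pushSh f).map a)
    have h2 := (EtDesc.adjSh f).counit.naturality a
    simp only [Functor.comp_map, Functor.id_map] at h1 h2
    rw [← Category.assoc, h1, Category.assoc, Category.assoc, ← Functor.map_comp,
      ← Functor.map_comp, h2]

/-- **The stalk of `f_* F` for `f` finite**, sheaves of sets, as an isomorphism of functors. -/
theorem stalk_pushSh_finite_iso [IsFinite f] (η : Spec (.of Ω) ⟶ Y) :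
    Nonempty (EtDesc.pushSh f ⋙ (Scheme.pointSmallEtale η).sheafFiber (A := Type (u + 1)) ≅
      ∏ᶜ fun ξ : {ξ : Spec (CommRingCat.of Ω) ⟶ X // ξ ≫ f = η} =>
        ((Scheme.pointSmallEtale ξ.1).sheafFiber (A := Type (u + 1)) :
          EtDesc.Sh X ⥤ Type (u + 1))) := by
  let J := {ξ : Spec (CommRingCat.of Ω) ⟶ X // ξ ≫ f = η}
  let G : J → (EtDesc.Sh X ⥤ Type (u + 1)) := fun ξ ↦ stalkSh ξ.1
  let Φ : EtDesc.pushSh f ⋙ stalkSh η ⟶ ∏ᶜ G := Pi.lift (fun ξ ↦ rhoNat f η ξ.1 ξ.2)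
  have hΦ : ∀ (F : EtDesc.Sh X) (ξ : J) (σ : (stalkSh η).obj ((EtDesc.pushSh f).obj F)),
      (Pi.π G ξ).app F (Φ.app F σ) = rho'Sh f η ξ.1 ξ.2 F σ := by
    intro F ξ σ
    have h : Φ ≫ Pi.π G ξ = rhoNat f η ξ.1 ξ.2 := Pi.lift_π _ _
    have h2 := congrArg (fun (m : EtDesc.pushSh f ⋙ stalkSh η ⟶ G ξ) ↦ m.app F σ) h
    exact h2
  have hext : ∀ (F : EtDesc.Sh X) (e₁ e₂ : (∏ᶜ G).obj F),
      (∀ ξ : J, (Pi.π G ξ).app F e₁ = (Pi.π G ξ).app F e₂) → e₁ = e₂ := by
    intro F e₁ e₂ h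
    have hinj : Function.Injective (piObjIso G F).hom :=
      (ConcreteCategory.bijective_of_isIso (piObjIso G F).hom).1
    apply hinj
    refine Limits.Types.limit_ext _ _ _ ?_
    rintro ⟨ξ⟩
    have h1 : ∀ e : (∏ᶜ G).obj F, (Pi.π (fun s ↦ (G s).obj F) ξ) ((piObjIso G F).hom e) =
        (Pi.π G ξ).app F e := by
      intro e
      have := ConcreteCategory.congr_hom (piObjIso_hom_comp_π G F ξ) e
      rw [ConcreteCategory.comp_apply] at this
      exact this
    change (Pi.π (fun s ↦ (G s).obj F) ξ) ((piObjIso G F).hom e₁) =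
      (Pi.π (fun s ↦ (G s).obj F) ξ) ((piObjIso G F).hom e₂)
    rw [h1, h1]
    exact h ξ
  haveI : IsIso Φ := by
    rw [NatTrans.isIso_iff_isIso_app]
    intro F
    rw [isIso_iff_bijective]
    constructor
    · intro σ₁ σ₂ h
      apply eq_of_rho'Sh_eq f F η
      intro x hx
      rw [← hΦ F ⟨x, hx⟩, ← hΦ F ⟨x, hx⟩, h]
    · intro e
      obtain ⟨σ, hσ⟩ := exists_stalk_family f η F (fun ξ ↦ (Pi.π G ξ).app F e)
      refine ⟨σ, ?_⟩
      apply hext
      intro ξ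
      rw [hΦ, hσ]
  exact ⟨asIso Φ⟩

end functor

end Groth.Agent.H7.ShFinPush
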