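import Groth.Agent.H7.ShFinPush
import Groth.Agent.H7.FinPushBC

set_option autoImplicit false
set_option linter.style.haveILetI false
universe u

open AlgebraicGeometry CategoryTheory Limits Opposite EtCoh
open Groth.Agent.H4.Stalks Groth.Agent.H4.StalkPull Groth.Agent.H4.StalkPullSh
open Groth.Agent.H4.GlueSec Groth.Agent.H4.PropBSh
open Groth.Agent.H7.ShStalks Groth.Agent.H7.FinPush Groth.Agent.H7.ShFinPush

namespace Groth.Agent.H7.ShImm

/-- the algebraically closed geometric points jointly reflect isomorphisms of sheaves of sets. -/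
lemma jriASh (X : Scheme.{u}) : JointlyReflectIsomorphisms
      (fun (Φ : (PXA X).FullSubcategory) ↦ Φ.obj.sheafFiber (A := Type (u + 1))) :=
  jri_of_surjective (fun s : X ↦ geomPtA s) (by
    ext s
    simp only [Set.mem_iUnion, Set.mem_range, Set.mem_univ, iff_true]
    exact ⟨s, default, geomPtA_default s⟩)

instance stalkSh_pfl {X : Scheme.{u}} {Ω : Type u} [Field Ω] [IsSepClosed Ω]
    (ξ : Spec (CommRingCat.of Ω) ⟶ X) : PreservesFiniteLimits (stalkSh ξ) := by
  unfold stalkSh
  infer_instance

variable {X Y : Scheme.{u}} (f : X ⟶ Y)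

section finmono

variable {Ω : Type u} [Field Ω] [IsAlgClosed Ω]

theorem rho'Sh_rfl (x : Spec (.of Ω) ⟶ X) (h : x ≫ f = x ≫ f) (F : EtDesc.Sh X) :
    rho'Sh f (x ≫ f) x h F = rhoSh f x F := rfl

/-- for a finite monomorphism `f`, the stalk of `f_* F` at `x ≫ f` is the stalk of `F` at `x`. -/
theorem bijective_rhoSh_of_mono [IsFinite f] [Mono f] (x : Spec (.of Ω) ⟶ X) (F : EtDesc.Sh X) :
    Function.Bijective (rhoSh f x F) := by
  constructor
  · intro σ₁ σ₂ h
    apply eq_of_rho'Sh_eq f F (x ≫ f)
    intro x' hx'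
    obtain rfl : x' = x := (cancel_mono f).1 hx'
    exact h
  · intro τ
    let t : ∀ ξ : {ξ : Spec (.of Ω) ⟶ X // ξ ≫ f = x ≫ f}, (stalkSh ξ.1).obj F :=
      fun ξ ↦ cast (congrArg (fun z ↦ (stalkSh z).obj F) ((cancel_mono f).1 ξ.2).symm) τ
    obtain ⟨σ, hσ⟩ := exists_stalk_family f (x ≫ f) F t
    exact ⟨σ, hσ ⟨x, rfl⟩⟩

end finmono

/-- the counit `f^* f_* F ⟶ F` is an isomorphism for a finite monomorphism. -/
theorem isIso_counit_of_finite_mono [IsFinite f] [Mono f] (F : EtDesc.Sh X) :
    IsIso ((EtDesc.adjSh f).counit.app F) := by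
  have H : ∀ Φ : (PXA X).FullSubcategory,
      IsIso ((Φ.obj.sheafFiber (A := Type (u + 1))).map ((EtDesc.adjSh f).counit.app F)) := by
    rintro ⟨_, ⟨s⟩⟩
    let x := geomPtA s
    have hb := bijective_rhoSh_of_mono f x F
    have h1 : IsIso (rhoSh f x F) := (isIso_iff_bijective _).2 hb
    unfold rhoSh at h1
    exact IsIso.of_isIso_comp_left ((stalkPullIsoSh f x).hom.app ((EtDesc.pushSh f).obj F)) _
  exact (jriASh X).isIso _

section etmono

variable [Etale f]

/-- an étale `X`-scheme, viewed as an étale `Y`-scheme via the étale morphism `f`. -/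
noncomputable def shriek (W : X.Etale) : Y.Etale :=
  haveI : Etale W.hom := W.prop
  Scheme.Etale.mk (W.hom ≫ f)

@[simp] lemma shriek_hom (W : X.Etale) : (shriek f W).hom = W.hom ≫ f := rfl

/-- the canonical map `W ⟶ X ×_Y W`. -/
noncomputable def shriekσ (W : X.Etale) : W ⟶ (bc f).obj (shriek f W) :=
  MorphismProperty.Over.homMk (pullback.lift (𝟙 _) W.hom (Category.id_comp _)) (pullback.lift_snd _ _ _) trivial

lemma shriekσ_left_fst (W : X.Etale) :
    (shriekσ f W).left ≫ pullback.fst (shriek f W).hom f = 𝟙 _ := pullback.lift_fst _ _ _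

lemma shriekσ_left_snd (W : X.Etale) :
    (shriekσ f W).left ≫ pullback.snd (shriek f W).hom f = W.hom := pullback.lift_snd _ _ _

lemma fst_hom_eq_snd [Mono f] (W : X.Etale) :
    pullback.fst (shriek f W).hom f ≫ W.hom = pullback.snd (shriek f W).hom f := by
  rw [← cancel_mono f, Category.assoc]
  exact pullback.condition

/-- the inverse of `shriekσ`. -/
noncomputable def shriekτ [Mono f] (W : X.Etale) : (bc f).obj (shriek f W) ⟶ W :=
  MorphismProperty.Over.homMk (pullback.fst (shriek f W).hom f) (fst_hom_eq_snd f W) trivial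

lemma shriekσ_τ [Mono f] (W : X.Etale) : shriekσ f W ≫ shriekτ f W = 𝟙 _ := by
  apply MorphismProperty.Over.Hom.ext
  exact shriekσ_left_fst f W

lemma shriekτ_σ [Mono f] (W : X.Etale) : shriekτ f W ≫ shriekσ f W = 𝟙 _ := by
  apply MorphismProperty.Over.Hom.ext
  change pullback.fst (shriek f W).hom f ≫ (shriekσ f W).left = 𝟙 _
  apply pullback.hom_ext
  · exact (Category.assoc _ _ _).trans ((congrArg (fun t ↦ pullback.fst (shriek f W).hom f ≫ t)
      (shriekσ_left_fst f W)).trans ((Category.comp_id _).trans (Category.id_comp _).symm))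
  · exact (Category.assoc _ _ _).trans ((congrArg (fun t ↦ pullback.fst (shriek f W).hom f ≫ t)
      (shriekσ_left_snd f W)).trans ((fst_hom_eq_snd f W).trans (Category.id_comp _).symm))

section stalk

variable {Ω : Type u} [Field Ω] [IsSepClosed Ω]

/-- two elements of a stalk are germs of sections over a common neighbourhood. -/
theorem exists_common_germ {x : Spec (.of Ω) ⟶ X} (F : EtDesc.Sh X)
    (σ₁ σ₂ : (stalkSh x).obj F) :
    ∃ (V : X.Etale) (v : Fib x V) (s s' : F.obj.obj (op V)),
      σ₁ = germSh F v s ∧ σ₂ = germSh F v s' := by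
  obtain ⟨Va, va, sa, rfl⟩ := germSh_surjective _ σ₁
  obtain ⟨Vb, vb, sb, rfl⟩ := germSh_surjective _ σ₂
  let ea : (Scheme.pointSmallEtale x).fiber.Elements := ⟨Va, va⟩
  let eb : (Scheme.pointSmallEtale x).fiber.Elements := ⟨Vb, vb⟩
  let m : (Scheme.pointSmallEtale x).fiber.Elements := IsCofiltered.min ea eb
  let l : m ⟶ ea := IsCofiltered.minToLeft _ _
  let r : m ⟶ eb := IsCofiltered.minToRight _ _
  refine ⟨m.1, m.2, F.obj.map l.1.op sa, F.obj.map r.1.op sb, ?_, ?_⟩
  · have := germSh_res F l.1 m.2 sa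
    have e : (Scheme.pointSmallEtale x).fiber.map l.1 m.2 = va := l.2
    rw [this, e]
  · have := germSh_res F r.1 m.2 sb
    have e : (Scheme.pointSmallEtale x).fiber.map r.1 m.2 = vb := r.2
    rw [this, e]

/-- the point of `shriek f W` over `x ≫ f` induced by a point of `W` over `x`. -/
noncomputable def shriekFib (x : Spec (.of Ω) ⟶ X) {W : X.Etale} (w : Fib x W) :
    Fib (x ≫ f) (shriek f W) :=
  Over.homMk w.left (by
    change w.left ≫ W.hom ≫ f = x ≫ f
    exact (Category.assoc _ _ _).symm.trans (congrArg (fun t ↦ t ≫ f) (Over.w w)))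

@[simp] lemma shriekFib_left (x : Spec (.of Ω) ⟶ X) {W : X.Etale} (w : Fib x W) :
    (shriekFib f x w).left = w.left := rfl

lemma fibPull_shriekFib (x : Spec (.of Ω) ⟶ X) {W : X.Etale} (w : Fib x W) :
    fibPull f x (shriekFib f x w) = (Scheme.pointSmallEtale x).fiber.map (shriekσ f W) w := by
  rw [fibPull_eq_ptFib]
  refine (ptFib_eq_of_left f _ x rfl _ _ ?_).symm
  change (w.left ≫ (shriekσ f W).left) ≫ pullback.fst (shriek f W).hom f = w.left
  exact (Category.assoc _ _ _).trans ((congrArg (fun t ↦ w.left ≫ t)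
    (shriekσ_left_fst f W)).trans (Category.comp_id _))

/-- for an étale monomorphism `f` (e.g. an open immersion), the stalk of `f_* F` at `x ≫ f` is
the stalk of `F` at `x`. -/
theorem bijective_rhoSh_of_etale_mono [Mono f] (x : Spec (.of Ω) ⟶ X) (F : EtDesc.Sh X) :
    Function.Bijective (rhoSh f x F) := by
  constructor
  · intro σ₁ σ₂ h
    obtain ⟨V, v, s, s', rfl, rfl⟩ := exists_common_germ ((EtDesc.pushSh f).obj F) σ₁ σ₂
    rw [rhoSh_germ, rhoSh_germ, germSh_eq_iff] at h
    obtain ⟨W, g, w, hw, hs⟩ := h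
    have hc : (g.left ≫ pullback.fst V.hom f) ≫ V.hom = (shriek f W).hom := by
      change _ = W.hom ≫ f
      calc
        (g.left ≫ pullback.fst V.hom f) ≫ V.hom = g.left ≫ (pullback.fst V.hom f ≫ V.hom) :=
          Category.assoc _ _ _
        _ = g.left ≫ (pullback.snd V.hom f ≫ f) :=
          congrArg (fun t ↦ g.left ≫ t) pullback.condition
        _ = (g.left ≫ pullback.snd V.hom f) ≫ f := (Category.assoc _ _ _).symm
        _ = W.hom ≫ f := congrArg (fun t ↦ t ≫ f) (Over.w g.hom)
    let c : shriek f W ⟶ V := MorphismProperty.Over.homMk (g.left ≫ pullback.fst V.hom f) hc trivial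
    have hσc : shriekσ f W ≫ (bc f).map c = g := by
      apply MorphismProperty.Over.Hom.ext
      change (shriekσ f W).left ≫ ((bc f).map c).left = g.left
      apply pullback.hom_ext
      · exact calc
          ((shriekσ f W).left ≫ ((bc f).map c).left) ≫ pullback.fst V.hom f
            = (shriekσ f W).left ≫ (((bc f).map c).left ≫ pullback.fst V.hom f) :=
              Category.assoc _ _ _
          _ = (shriekσ f W).left ≫ (pullback.fst (shriek f W).hom f ≫ c.left) :=
              congrArg (fun t ↦ (shriekσ f W).left ≫ t) (bc_map_left_fst f c)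
          _ = ((shriekσ f W).left ≫ pullback.fst (shriek f W).hom f) ≫ c.left :=
              (Category.assoc _ _ _).symm
          _ = (𝟙 _) ≫ c.left := congrArg (fun t ↦ t ≫ c.left) (shriekσ_left_fst f W)
          _ = c.left := Category.id_comp _
      · calc
          ((shriekσ f W).left ≫ ((bc f).map c).left) ≫ pullback.snd V.hom f
            = (shriekσ f W).left ≫ (((bc f).map c).left ≫ pullback.snd V.hom f) :=
              Category.assoc _ _ _
          _ = (shriekσ f W).left ≫ pullback.snd (shriek f W).hom f :=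
              congrArg (fun t ↦ (shriekσ f W).left ≫ t) (bc_map_left_snd f c)
          _ = W.hom := shriekσ_left_snd f W
          _ = g.left ≫ pullback.snd V.hom f := (Over.w g.hom).symm
    have hbc : (bc f).map c = shriekτ f W ≫ g := by
      rw [← hσc, ← Category.assoc, shriekτ_σ, Category.id_comp]
    have hv : (Scheme.pointSmallEtale (x ≫ f)).fiber.map c (shriekFib f x w) = v := by
      apply fib_ext
      change w.left ≫ (g.left ≫ pullback.fst V.hom f) = v.left
      have h1 : w.left ≫ g.left = (fibPull f x v).left := congrArg (fun t : Fib x _ ↦ t.left) hw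
      exact (Category.assoc _ _ _).symm.trans ((congrArg (fun t ↦ t ≫ pullback.fst V.hom f)
        h1).trans (fibPull_left_fst f x v))
    rw [← hv, ← germSh_res, ← germSh_res]
    congr 1
    change F.obj.map ((bc f).map c).op s = F.obj.map ((bc f).map c).op s'
    rw [hbc, op_comp, Functor.map_comp_apply, Functor.map_comp_apply, hs]
  · intro τ
    obtain ⟨W, w, t, rfl⟩ := germSh_surjective F τ
    refine ⟨germSh ((EtDesc.pushSh f).obj F) (shriekFib f x w) (F.obj.map (shriekτ f W).op t), ?_⟩
    rw [rhoSh_germ, fibPull_shriekFib, ← germSh_res, ← Functor.map_comp_apply, ← op_comp,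
      shriekσ_τ]
    simp

end stalk

end etmono


/-- the counit `f^* f_* F ⟶ F` is an isomorphism for an étale monomorphism. -/
theorem isIso_counit_of_etale_mono [Etale f] [Mono f] (F : EtDesc.Sh X) :
    IsIso ((EtDesc.adjSh f).counit.app F) := by
  have H : ∀ Φ : (PXA X).FullSubcategory,
      IsIso ((Φ.obj.sheafFiber (A := Type (u + 1))).map ((EtDesc.adjSh f).counit.app F)) := by
    rintro ⟨_, ⟨s⟩⟩
    let x := geomPtA s
    have hb := bijective_rhoSh_of_etale_mono f x F
    have h1 : IsIso (rhoSh f x F) := (isIso_iff_bijective _).2 hb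
    unfold rhoSh at h1
    exact IsIso.of_isIso_comp_left ((stalkPullIsoSh f x).hom.app ((EtDesc.pushSh f).obj F)) _
  exact (jriASh X).isIso _

/-- `f_*` is fully faithful for a finite monomorphism (e.g. a closed immersion). -/
noncomputable def fullyFaithful_pushSh_of_finite_mono [IsFinite f] [Mono f] :
    (EtDesc.pushSh f).FullyFaithful :=
  haveI : ∀ F, IsIso ((EtDesc.adjSh f).counit.app F) := isIso_counit_of_finite_mono f
  haveI : IsIso (EtDesc.adjSh f).counit := NatIso.isIso_of_isIso_app _
  (EtDesc.adjSh f).fullyFaithfulROfIsIsoCounit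

/-- `f_*` is fully faithful for an étale monomorphism (e.g. an open immersion). -/
noncomputable def fullyFaithful_pushSh_of_etale_mono [Etale f] [Mono f] :
    (EtDesc.pushSh f).FullyFaithful :=
  haveI : ∀ F, IsIso ((EtDesc.adjSh f).counit.app F) := isIso_counit_of_etale_mono f
  haveI : IsIso (EtDesc.adjSh f).counit := NatIso.isIso_of_isIso_app _
  (EtDesc.adjSh f).fullyFaithfulROfIsIsoCounit

/-- the counit `f^* f_* F ⟶ F` is an isomorphism for an immersion. -/
theorem isIso_counit_of_isImmersion [IsImmersion f] (F : EtDesc.Sh X) :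
    IsIso ((EtDesc.adjSh f).counit.app F) := by
  have key : ∀ (f' : X ⟶ Y), f.liftCoborder ≫ f.coborderRange.ι = f' →
      IsIso ((EtDesc.adjSh f').counit.app F) := by
    rintro _ rfl
    have h1 := fullyFaithful_pushSh_of_finite_mono f.liftCoborder
    have h2 := fullyFaithful_pushSh_of_etale_mono f.coborderRange.ι
    haveI := h1.full
    haveI := h1.faithful
    haveI := h2.full
    haveI := h2.faithful
    let e := EtDesc.pushCompSh f.coborderRange.ι f.liftCoborder
    haveI : (EtDesc.pushSh (f.liftCoborder ≫ f.coborderRange.ι)).Full := Functor.Full.of_iso e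
    haveI : (EtDesc.pushSh (f.liftCoborder ≫ f.coborderRange.ι)).Faithful :=
      Functor.Faithful.of_iso e
    infer_instance
  exact key f f.liftCoborder_ι

end Groth.Agent.H7.ShImm
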