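import Groth.Agent.H7.ShImm
import Groth.Agent.H7.IntPush
import Groth.Prelude.Def_EtBCD

/-!
# Degree-zero base change for the push-forward of sheaves of sets along an integral morphism
-/

set_option autoImplicit false
set_option linter.style.haveILetI false
universe u

open AlgebraicGeometry CategoryTheory Limits Opposite EtCoh
open Groth.Agent.H4.Stalks Groth.Agent.H4.StalkPull Groth.Agent.H4.StalkPullSh
open Groth.Agent.H4.GlueSec Groth.Agent.H4.PropBSh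
open Groth.Agent.H7.ShStalks Groth.Agent.H7.FinPush Groth.Agent.H7.ShFinPush Groth.Agent.H7.ShImm
open Groth.Agent.H7.IntPush

namespace Groth.Agent.H7.ShIntBC

section partA

variable {X Y X' Y' : Scheme.{u}} (f : X ⟶ Y) (g : Y' ⟶ Y) (f' : X' ⟶ Y') (g' : X' ⟶ X)
  (w : g' ≫ f = f' ≫ g) (F : EtDesc.Sh X)

section gam

/-- the adjoint of the base change map, sheaves of sets -/
noncomputable def gamSh :
    (EtDesc.pushSh f).obj F ⟶ (EtDesc.pushSh g).obj ((EtDesc.pushSh f').obj ((EtDesc.pullSh g').obj F)) :=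
  (EtDesc.pushSh f).map ((EtDesc.adjSh g').unit.app F) ≫ (EtDesc.pushCompSh f g').hom.app _ ≫
      (EtBC.pushCongrSh w).hom.app _ ≫ (EtDesc.pushCompSh g f').inv.app _

theorem gamSh_app (V : Y.Etale) (s : F.obj.obj (op ((bc f).obj V))) :
    (gamSh f g f' g' w F).hom.app (op V) s =
      ((EtDesc.pullSh g').obj F).obj.map (kap f g f' g' w V).op
        (((EtDesc.adjSh g').unit.app F).hom.app (op ((bc f).obj V)) s) := by
  unfold gamSh kap
  simp only [EtDesc.pushCompSh, EtBC.pushCongrSh]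
  rw [op_comp, op_comp, Functor.map_comp, Functor.map_comp, ConcreteCategory.comp_apply,
    ConcreteCategory.comp_apply]
  rfl

theorem unit_comp_baseChange0Sh :
    (EtDesc.adjSh g).unit.app ((EtDesc.pushSh f).obj F) ≫
        (EtDesc.pushSh g).map (EtBC.baseChange0Sh f g f' g' w F) =
      gamSh f g f' g' w F :=
  ((EtDesc.adjSh g).homEquiv _ _).apply_symm_apply (gamSh f g f' g' w F)

end gam

section Psi

variable {Ω : Type u} [Field Ω] [IsSepClosed Ω] (y' : Spec (.of Ω) ⟶ Y')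

/-- the base change map on stalks, precomposed with the identification of the stalk of a
pullback. -/
noncomputable def PsiSh :
    (stalkSh (y' ≫ g)).obj ((EtDesc.pushSh f).obj F) ⟶
      (stalkSh y').obj ((EtDesc.pushSh f').obj ((EtDesc.pullSh g').obj F)) :=
  (stalkPullIsoSh g y').hom.app ((EtDesc.pushSh f).obj F) ≫
    (stalkSh y').map (EtBC.baseChange0Sh f g f' g' w F)

theorem PsiSh_germ {V : Y.Etale} (v : Fib (y' ≫ g) V) (s : F.obj.obj (op ((bc f).obj V))) :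
    PsiSh f g f' g' w F y' (germSh ((EtDesc.pushSh f).obj F) v s) =
      germSh ((EtDesc.pushSh f').obj ((EtDesc.pullSh g').obj F)) (fibPull g y' v)
        ((gamSh f g f' g' w F).hom.app (op V) s) := by
  unfold PsiSh
  rw [ConcreteCategory.comp_apply, stalkPullIsoSh_germ_apply, germSh_map]
  congr 1
  have h := unit_comp_baseChange0Sh f g f' g' w F
  have h2 := congr($(h).hom.app (op V))
  exact ConcreteCategory.congr_hom h2 s

/-- **Compatibility of the base change map with the maps `ρ`.** -/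
theorem rho'Sh_PsiSh (ξ' : Spec (.of Ω) ⟶ X') (hξ' : ξ' ≫ f' = y')
    (hξ : (ξ' ≫ g') ≫ f = y' ≫ g)
    (σ : (stalkSh (y' ≫ g)).obj ((EtDesc.pushSh f).obj F)) :
    rho'Sh f' y' ξ' hξ' ((EtDesc.pullSh g').obj F) (PsiSh f g f' g' w F y' σ) =
      (stalkPullIsoSh g' ξ').hom.app F (rho'Sh f (y' ≫ g) (ξ' ≫ g') hξ F σ) := by
  obtain ⟨V, v, s, rfl⟩ := germSh_surjective _ σ
  have key : (Scheme.pointSmallEtale ξ').fiber.map (kap f g f' g' w V)
      (ptFib f' y' ξ' hξ' (fibPull g y' v)) =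
      fibPull g' ξ' (ptFib f (y' ≫ g) (ξ' ≫ g') hξ v) := by
    rw [fibPull_eq_ptFib g' ξ' (ptFib f (y' ≫ g) (ξ' ≫ g') hξ v)]
    apply ptFib_eq_of_left
    exact key_aux f g f' g' w y' ξ' hξ' hξ v
  rw [PsiSh_germ, rho'Sh_germ, rho'Sh_germ, stalkPullIsoSh_germ_apply, gamSh_app, germSh_res, key]

end Psi

end partA

variable {X Y : Scheme.{u}} (f : X ⟶ Y)

section fib

variable {Ω : Type u} [Field Ω] [IsSepClosed Ω]

theorem fibPull_map (x : Spec (.of Ω) ⟶ X) {V₁ V : Y.Etale} (c : V₁ ⟶ V) (v₁ : Fib (x ≫ f) V₁) :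
    (Scheme.pointSmallEtale x).fiber.map ((bc f).map c) (fibPull f x v₁) =
      fibPull f x ((Scheme.pointSmallEtale (x ≫ f)).fiber.map c v₁) := by
  rw [fibPull_eq_ptFib, fibPull_eq_ptFib, ptFib_map]

theorem fibPush_map (x : Spec (.of Ω) ⟶ X) {V₁ V : Y.Etale} (c : V₁ ⟶ V)
    (a : Fib x ((bc f).obj V₁)) :
    (Scheme.pointSmallEtale (x ≫ f)).fiber.map c (fibPush f x a) =
      fibPush f x ((Scheme.pointSmallEtale x).fiber.map ((bc f).map c) a) := by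
  have h := fibPull_map f x c (fibPush f x a)
  rw [fibPull_fibPush] at h
  have h2 := congrArg (fibPush f x) h
  rw [fibPush_fibPull] at h2
  exact h2.symm

end fib

section lift

/-- a morphism into `X ×_Y Q` landing over the open `W ⊆ Q` factors through `X ×_Y W`. -/
theorem exists_lift_bc_opn (Q : Y.Etale) (W : Q.left.Opens) {T : X.Etale} (m : T ⟶ (bc f).obj Q)
    (h : Set.range (m.left ≫ pullback.fst Q.hom f) ⊆ (W : Set Q.left)) :
    ∃ l : T ⟶ (bc f).obj (opn Q W), l ≫ (bc f).map (opnι Q W) = m := by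
  have hr : Set.range (m.left ≫ pullback.fst Q.hom f) ⊆ Set.range W.ι := by
    rw [W.range_ι]; exact h
  let l₀ : T.left ⟶ (W : Scheme.{u}) := IsOpenImmersion.lift W.ι (m.left ≫ pullback.fst Q.hom f) hr
  have hl₀ : l₀ ≫ W.ι = m.left ≫ pullback.fst Q.hom f := IsOpenImmersion.lift_fac _ _ _
  have hm : m.left ≫ pullback.snd Q.hom f = T.hom := Over.w m.hom
  have hcond : l₀ ≫ (opn Q W).hom = T.hom ≫ f := by
    change l₀ ≫ W.ι ≫ Q.hom = T.hom ≫ f
    calc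
      l₀ ≫ W.ι ≫ Q.hom = (l₀ ≫ W.ι) ≫ Q.hom := (Category.assoc _ _ _).symm
      _ = (m.left ≫ pullback.fst Q.hom f) ≫ Q.hom := congrArg (fun t ↦ t ≫ Q.hom) hl₀
      _ = m.left ≫ (pullback.fst Q.hom f ≫ Q.hom) := Category.assoc _ _ _
      _ = m.left ≫ (pullback.snd Q.hom f ≫ f) := congrArg (fun t ↦ m.left ≫ t) pullback.condition
      _ = (m.left ≫ pullback.snd Q.hom f) ≫ f := (Category.assoc _ _ _).symm
      _ = T.hom ≫ f := congrArg (fun t ↦ t ≫ f) hm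
  let l : T ⟶ (bc f).obj (opn Q W) :=
    MorphismProperty.Over.homMk (pullback.lift l₀ T.hom hcond) (pullback.lift_snd _ _ _) trivial
  refine ⟨l, ?_⟩
  apply MorphismProperty.Over.Hom.ext
  change l.left ≫ ((bc f).map (opnι Q W)).left = m.left
  have hl1 : l.left ≫ pullback.fst (opn Q W).hom f = l₀ := pullback.lift_fst _ _ _
  have hl2 : l.left ≫ pullback.snd (opn Q W).hom f = T.hom := pullback.lift_snd _ _ _
  apply pullback.hom_ext
  · calc
      (l.left ≫ ((bc f).map (opnι Q W)).left) ≫ pullback.fst Q.hom f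
        = l.left ≫ (((bc f).map (opnι Q W)).left ≫ pullback.fst Q.hom f) := Category.assoc _ _ _
      _ = l.left ≫ (pullback.fst (opn Q W).hom f ≫ (opnι Q W).left) :=
          congrArg (fun t ↦ l.left ≫ t) (bc_map_left_fst f (opnι Q W))
      _ = (l.left ≫ pullback.fst (opn Q W).hom f) ≫ (opnι Q W).left := (Category.assoc _ _ _).symm
      _ = l₀ ≫ W.ι := congrArg (fun t ↦ t ≫ (opnι Q W).left) hl1
      _ = m.left ≫ pullback.fst Q.hom f := hl₀
  · calc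
      (l.left ≫ ((bc f).map (opnι Q W)).left) ≫ pullback.snd Q.hom f
        = l.left ≫ (((bc f).map (opnι Q W)).left ≫ pullback.snd Q.hom f) := Category.assoc _ _ _
      _ = l.left ≫ pullback.snd (opn Q W).hom f :=
          congrArg (fun t ↦ l.left ≫ t) (bc_map_left_snd f (opnι Q W))
      _ = T.hom := hl2
      _ = m.left ≫ pullback.snd Q.hom f := hm.symm

end lift

section glue

variable {Ω : Type u} [Field Ω] [IsAlgClosed Ω]
variable {Z : Scheme.{u}} {p : Z ⟶ X} {q : Z ⟶ Spec (.of Ω)} {y : Spec (.of Ω) ⟶ Y}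
  (hZ : IsPullback p q f y)

/-- **Gluing**, sheaves of sets: a family of elements of the stalks of `F` at geometric points over
`y` which is, locally on the geometric fibre, induced by sections over open subschemes of the
`X ×_Y V`, is induced by an element of the stalk of `f_* F`. -/
theorem exists_glue_stalkSh [IsIntegralHom f] (F : EtDesc.Sh X) {ι : Type*}
    (κ : ι → (Spec (.of Ω) ⟶ X)) (hκ : ∀ i, κ i ≫ f = y) (t : ∀ i, (stalkSh (κ i)).obj F)
    (hloc : ∀ z : Z, ∃ (V : Y.Etale) (v : Fib y V) (W : ((bc f).obj V).left.Opens)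
      (s : F.obj.obj (op (opn ((bc f).obj V) W))),
      mV f hZ v z ∈ (W : Set ((bc f).obj V).left) ∧
      ∀ (i : ι) (w : Fib (κ i) (opn ((bc f).obj V) W)),
        (Scheme.pointSmallEtale (κ i)).fiber.map (opnι _ W) w = ptFib f y (κ i) (hκ i) v →
        germSh F w s = t i) :
    ∃ σ : (stalkSh y).obj ((EtDesc.pushSh f).obj F), ∀ i, rho'Sh f y (κ i) (hκ i) F σ = t i := by
  classical
  choose V₀ v₀ W₀ s₀ hz₀ hs₀ using hloc
  haveI := compactSpace_Z f hZ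
  obtain ⟨S, hS⟩ := isCompact_univ.elim_finite_subcover
    (fun z ↦ mV f hZ (v₀ z) ⁻¹' (W₀ z : Set ((bc f).obj (V₀ z)).left))
    (fun z ↦ (W₀ z).2.preimage (mV f hZ (v₀ z)).continuous)
    (fun z _ ↦ Set.mem_iUnion.2 ⟨z, hz₀ z⟩)
  -- common refinement
  let O : Finset (Scheme.pointSmallEtale y).fiber.Elements :=
    S.image (fun z ↦ (⟨V₀ z, v₀ z⟩ : (Scheme.pointSmallEtale y).fiber.Elements))
  obtain ⟨e, he⟩ := IsCofiltered.inf_objs_exists
    (C := (Scheme.pointSmallEtale y).fiber.Elements) O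
  let V : Y.Etale := e.1
  let v : Fib y V := e.2
  have hc : ∀ z : S, ∃ c : V ⟶ V₀ z.1, (Scheme.pointSmallEtale y).fiber.map c v = v₀ z.1 := by
    intro z
    obtain ⟨m⟩ := he (Finset.mem_image_of_mem _ z.2)
    exact ⟨m.1, m.2⟩
  choose c hcv using hc
  let W' : ∀ z : S, ((bc f).obj V).left.Opens := fun z ↦ ((bc f).map (c z)).left ⁻¹ᵁ (W₀ z.1)
  have hr : ∀ z : S, ∃ r : opn ((bc f).obj V) (W' z) ⟶ opn ((bc f).obj (V₀ z.1)) (W₀ z.1),
      r ≫ opnι _ (W₀ z.1) = opnι _ (W' z) ≫ (bc f).map (c z) := by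
    intro z
    exact exists_lift_opn _ _ _ (by rintro _ ⟨a, rfl⟩; exact (a : ↥(W' z)).2)
  choose r hr using hr
  have hptmap : ∀ (z : S) (x : Spec (.of Ω) ⟶ X) (hx : x ≫ f = y),
      ((bc f).map (c z)).left (ptFib f y x hx v).pt = (ptFib f y x hx (v₀ z.1)).pt := by
    intro z x hx
    rw [← hcv z, ptFib_pt_map]
  -- pieces
  obtain ⟨V₁, c₁, v₁, hcv₁, K, W, hdisj, hcovW, hk⟩ := exists_pieces_et f V v.pt
    (ι := S) (fun z ↦ opn ((bc f).obj V) (W' z)) (fun z ↦ opnι _ (W' z)) (by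
      intro p hp
      obtain ⟨w, hwa, hwb⟩ := Groth.Agent.H7.GeomPt.exists_lift_of_isIntegralHom
        (pullback.fst V.hom f) v.left p hp
      have hx : (w ≫ pullback.snd V.hom f) ≫ f = y :=
        calc (w ≫ pullback.snd V.hom f) ≫ f = w ≫ (pullback.snd V.hom f ≫ f) :=
              Category.assoc _ _ _
          _ = w ≫ (pullback.fst V.hom f ≫ V.hom) :=
              congrArg (fun t ↦ w ≫ t) pullback.condition.symm
          _ = (w ≫ pullback.fst V.hom f) ≫ V.hom := (Category.assoc _ _ _).symm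
          _ = v.left ≫ V.hom := congrArg (fun t ↦ t ≫ V.hom) hwa
          _ = y := Over.w v
      have e : mkFib (U := (bc f).obj V) w = ptFib f y (w ≫ pullback.snd V.hom f) hx v :=
        ptFib_eq_of_left f y _ hx v _ hwa
      have hp' : p = (ptFib f y (w ≫ pullback.snd V.hom f) hx v).pt := by
        rw [← e]; exact hwb.symm
      have hmem := hS (Set.mem_univ ((sec f hZ _ hx) default))
      rw [Set.mem_iUnion₂] at hmem
      obtain ⟨z, hzS, hz⟩ := hmem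
      rw [mem_preimage_mV_iff] at hz
      refine ⟨⟨z, hzS⟩, ?_⟩
      rw [range_opnι, hp']
      change ((bc f).map (c ⟨z, hzS⟩)).left _ ∈ W₀ z
      rw [hptmap]; exact hz)
  obtain ⟨v', hv', -⟩ := Fib.exists_lift c₁ v v₁ hcv₁
  choose za ka hka using hk
  obtain ⟨tt, htt⟩ := exists_glue_disjoint F ((bc f).obj V₁) W hdisj hcovW
    (fun a ↦ F.obj.map (ka a ≫ r (za a)).op (s₀ (za a).1))
  refine ⟨germSh ((EtDesc.pushSh f).obj F) v' tt, ?_⟩
  intro i
  rw [rho'Sh_germ]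
  have hp : (ptFib f y (κ i) (hκ i) v').pt ∈ (⨆ a, W a) := by rw [hcovW]; trivial
  rw [TopologicalSpace.Opens.mem_iSup] at hp
  obtain ⟨a, ha⟩ := hp
  obtain ⟨wa, hwa, -⟩ := Fib.exists_lift (opnι ((bc f).obj V₁) (W a))
    (ptFib f y (κ i) (hκ i) v') ⟨_, ha⟩ rfl
  rw [← hwa, ← germSh_res, htt a, germSh_res]
  apply hs₀ (za a).1 i
  have h1 : (ka a ≫ r (za a)) ≫ opnι _ (W₀ (za a).1) =
      opnι _ (W a) ≫ (bc f).map c₁ ≫ (bc f).map (c (za a)) :=
    calc (ka a ≫ r (za a)) ≫ opnι _ (W₀ (za a).1)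
        = ka a ≫ (r (za a) ≫ opnι _ (W₀ (za a).1)) := Category.assoc _ _ _
      _ = ka a ≫ (opnι _ (W' (za a)) ≫ (bc f).map (c (za a))) :=
          congrArg (fun t ↦ ka a ≫ t) (hr (za a))
      _ = (ka a ≫ opnι _ (W' (za a))) ≫ (bc f).map (c (za a)) := (Category.assoc _ _ _).symm
      _ = (opnι _ (W a) ≫ (bc f).map c₁) ≫ (bc f).map (c (za a)) :=
          congrArg (fun t ↦ t ≫ (bc f).map (c (za a))) (hka a)
      _ = _ := Category.assoc _ _ _
  have h2 := congrArg (fun m ↦ (Scheme.pointSmallEtale (κ i)).fiber.map m wa) h1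
  simp only [Functor.map_comp] at h2
  refine h2.trans ?_
  change (Scheme.pointSmallEtale (κ i)).fiber.map ((bc f).map (c (za a)))
    ((Scheme.pointSmallEtale (κ i)).fiber.map ((bc f).map c₁)
      ((Scheme.pointSmallEtale (κ i)).fiber.map (opnι _ (W a)) wa)) = _
  rw [hwa, ptFib_map, ptFib_map, hv', hcv]

end glue

section main

variable {X' Y' : Scheme.{u}} (g : Y' ⟶ Y) (f' : X' ⟶ Y') (g' : X' ⟶ X)
  (w : g' ≫ f = f' ≫ g) (F : EtDesc.Sh X)
variable {Ω : Type u} [Field Ω] [IsAlgClosed Ω] (y' : Spec (.of Ω) ⟶ Y')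

omit [IsAlgClosed Ω] in
theorem kap_ptFib [IsSepClosed Ω] (ξ' : Spec (.of Ω) ⟶ X') (hξ' : ξ' ≫ f' = y')
    (hξ : (ξ' ≫ g') ≫ f = y' ≫ g) {V : Y.Etale} (v : Fib (y' ≫ g) V) :
    (Scheme.pointSmallEtale ξ').fiber.map (kap f g f' g' w V)
      (ptFib f' y' ξ' hξ' (fibPull g y' v)) =
      fibPull g' ξ' (ptFib f (y' ≫ g) (ξ' ≫ g') hξ v) := by
  rw [fibPull_eq_ptFib g' ξ' (ptFib f (y' ≫ g) (ξ' ≫ g') hξ v)]
  apply ptFib_eq_of_left
  exact key_aux f g f' g' w y' ξ' hξ' hξ v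

variable {Z' : Scheme.{u}} {p' : Z' ⟶ X'} {q' : Z' ⟶ Spec (.of Ω)} (hZ' : IsPullback p' q' f' y')

include w in
/-- the locus of the geometric fibre where the germs of a section `s` over an open of `X ×_Y V`
induce a given element `τ'` of the stalk of `f'_* g'^* F` is open. -/
theorem exists_open_of_agree
    (τ' : (stalkSh y').obj ((EtDesc.pushSh f').obj ((EtDesc.pullSh g').obj F)))
    (hξ : ∀ (ξ' : Spec (.of Ω) ⟶ X'), ξ' ≫ f' = y' → (ξ' ≫ g') ≫ f = y' ≫ g)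
    {V : Y.Etale} (v : Fib (y' ≫ g) V) (W : ((bc f).obj V).left.Opens)
    (s : F.obj.obj (op (opn ((bc f).obj V) W)))
    (ξ₀ : Spec (.of Ω) ⟶ X') (hξ₀ : ξ₀ ≫ f' = y')
    (w₀ : Fib (ξ₀ ≫ g') (opn ((bc f).obj V) W))
    (hw₀ : (Scheme.pointSmallEtale (ξ₀ ≫ g')).fiber.map (opnι _ W) w₀ =
      ptFib f (y' ≫ g) (ξ₀ ≫ g') (hξ ξ₀ hξ₀) v)
    (h₀ : (stalkPullIsoSh g' ξ₀).hom.app F (germSh F w₀ s) =
      rho'Sh f' y' ξ₀ hξ₀ ((EtDesc.pullSh g').obj F) τ') :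
    ∃ O : Set Z', IsOpen O ∧ (sec f' hZ' ξ₀ hξ₀) default ∈ O ∧
      ∀ (ξ' : Spec (.of Ω) ⟶ X') (hξ' : ξ' ≫ f' = y'), (sec f' hZ' ξ' hξ') default ∈ O →
        ∀ w₁ : Fib (ξ' ≫ g') (opn ((bc f).obj V) W),
          (Scheme.pointSmallEtale (ξ' ≫ g')).fiber.map (opnι _ W) w₁ =
            ptFib f (y' ≫ g) (ξ' ≫ g') (hξ ξ' hξ') v →
          (stalkPullIsoSh g' ξ').hom.app F (germSh F w₁ s) =
            rho'Sh f' y' ξ' hξ' ((EtDesc.pullSh g').obj F) τ' := by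
  -- (a) represent τ'
  obtain ⟨V'₀, v'₀, b, rfl⟩ := germSh_surjective _ τ'
  -- (b) common refinement
  let ea : (Scheme.pointSmallEtale y').fiber.Elements := ⟨V'₀, v'₀⟩
  let eb : (Scheme.pointSmallEtale y').fiber.Elements := ⟨(bc g).obj V, fibPull g y' v⟩
  let mm : (Scheme.pointSmallEtale y').fiber.Elements := IsCofiltered.min ea eb
  let lm : mm ⟶ ea := IsCofiltered.minToLeft _ _
  let rm : mm ⟶ eb := IsCofiltered.minToRight _ _
  obtain ⟨V', hV'⟩ : ∃ V' : Y'.Etale, V' = mm.1 := ⟨_, rfl⟩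
  obtain ⟨v', hv'⟩ : ∃ v' : Fib y' V', HEq v' mm.2 := by subst hV'; exact ⟨_, HEq.rfl⟩
  obtain ⟨l, c₀, hl, hc₀⟩ : ∃ (l : V' ⟶ V'₀) (c₀ : V' ⟶ (bc g).obj V),
      (Scheme.pointSmallEtale y').fiber.map l v' = v'₀ ∧
      (Scheme.pointSmallEtale y').fiber.map c₀ v' = fibPull g y' v := by
    subst hV'
    obtain rfl := eq_of_heq hv'
    exact ⟨lm.1, rm.1, lm.2, rm.2⟩
  clear hv' hV' lm rm mm ea eb
  let G : EtDesc.Sh X' := (EtDesc.pullSh g').obj F
  let P : X.Etale := opn ((bc f).obj V) W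
  obtain ⟨ηs, hηs⟩ : ∃ ηs : G.obj.obj (op ((bc g').obj P)),
      ηs = ((EtDesc.adjSh g').unit.app F).hom.app (op P) s := ⟨_, rfl⟩
  obtain ⟨b', hb'⟩ : ∃ b' : G.obj.obj (op ((bc f').obj V')),
      b' = G.obj.map ((bc f').map l).op b := ⟨_, rfl⟩
  have hτ' : ∀ (ξ' : Spec (.of Ω) ⟶ X') (hξ' : ξ' ≫ f' = y'),
      rho'Sh f' y' ξ' hξ' G (germSh ((EtDesc.pushSh f').obj G) v'₀ b) =
        germSh G (ptFib f' y' ξ' hξ' v') b' := by
    intro ξ' hξ'
    rw [rho'Sh_germ, hb', germSh_res, ptFib_map, hl]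
  have hpull : ∀ (ξ' : Spec (.of Ω) ⟶ X') (w₁ : Fib (ξ' ≫ g') P),
      (stalkPullIsoSh g' ξ').hom.app F (germSh F w₁ s) = germSh G (fibPull g' ξ' w₁) ηs := by
    intro ξ' w₁
    rw [stalkPullIsoSh_germ_apply, hηs]
  -- (c) the comparison morphism
  let M : X'.Etale := (bc f').obj V'
  obtain ⟨θ, hθ⟩ : ∃ θ : M ⟶ (bc g').obj ((bc f).obj V),
      θ = (bc f').map c₀ ≫ kap f g f' g' w V := ⟨_, rfl⟩
  have hθpt : ∀ (ξ' : Spec (.of Ω) ⟶ X') (hξ' : ξ' ≫ f' = y'),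
      (Scheme.pointSmallEtale ξ').fiber.map θ (ptFib f' y' ξ' hξ' v') =
        fibPull g' ξ' (ptFib f (y' ≫ g) (ξ' ≫ g') (hξ ξ' hξ') v) := by
    intro ξ' hξ'
    rw [hθ, Functor.map_comp]
    change (Scheme.pointSmallEtale ξ').fiber.map (kap f g f' g' w V)
      ((Scheme.pointSmallEtale ξ').fiber.map ((bc f').map c₀) (ptFib f' y' ξ' hξ' v')) = _
    rw [ptFib_map, hc₀, kap_ptFib]
  -- (d) the open `W''` and the lift `θW`
  let θfst : M.left ⟶ ((bc f).obj V).left := θ.left ≫ pullback.fst ((bc f).obj V).hom g'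
  let W'' : M.left.Opens := θfst ⁻¹ᵁ W
  obtain ⟨θW, hθW⟩ := exists_lift_bc_opn g' ((bc f).obj V) W (opnι M W'' ≫ θ) (by
    rintro _ ⟨a, rfl⟩
    exact (a : ↥W'').2)
  -- (e) key claim
  have K : ∀ (ξ' : Spec (.of Ω) ⟶ X') (hξ' : ξ' ≫ f' = y') (m' : Fib ξ' (opn M W'')),
      (Scheme.pointSmallEtale ξ').fiber.map (opnι M W'') m' = ptFib f' y' ξ' hξ' v' →
      ∀ w₁ : Fib (ξ' ≫ g') P,
        (Scheme.pointSmallEtale (ξ' ≫ g')).fiber.map (opnι _ W) w₁ =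
          ptFib f (y' ≫ g) (ξ' ≫ g') (hξ ξ' hξ') v →
        (Scheme.pointSmallEtale ξ').fiber.map θW m' = fibPull g' ξ' w₁ := by
    intro ξ' hξ' m' hm' w₁ hw₁
    have h1 : fibPush g' ξ' ((Scheme.pointSmallEtale ξ').fiber.map θW m') = w₁ := by
      apply fiber_map_opnι_injective
      rw [fibPush_map, hw₁]
      have h2 := congrArg (fun t ↦ (Scheme.pointSmallEtale ξ').fiber.map t m') hθW
      simp only [Functor.map_comp] at h2
      have h3 : (Scheme.pointSmallEtale ξ').fiber.map ((bc g').map (opnι _ W))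
          ((Scheme.pointSmallEtale ξ').fiber.map θW m') =
          (Scheme.pointSmallEtale ξ').fiber.map θ
            ((Scheme.pointSmallEtale ξ').fiber.map (opnι M W'') m') := h2
      rw [h3, hm', hθpt, fibPush_fibPull]
    rw [← h1, fibPull_fibPush]
  -- (f) the point `m₀`
  obtain ⟨m₀, hm₀⟩ : ∃ m₀ : Fib ξ₀ M, m₀ = ptFib f' y' ξ₀ hξ₀ v' := ⟨_, rfl⟩
  have hmem : m₀.pt ∈ W'' := by
    change θfst (m₀.left (default : Spec (CommRingCat.of Ω))) ∈ W
    have e1 : m₀.left ≫ θfst = (ptFib f (y' ≫ g) (ξ₀ ≫ g') (hξ ξ₀ hξ₀) v).left := by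
      have h1 := hθpt ξ₀ hξ₀
      rw [← hm₀] at h1
      have e2 : ((Scheme.pointSmallEtale ξ₀).fiber.map θ m₀).left ≫
          pullback.fst ((bc f).obj V).hom g' =
          (fibPull g' ξ₀ (ptFib f (y' ≫ g) (ξ₀ ≫ g') (hξ ξ₀ hξ₀) v)).left ≫
            pullback.fst ((bc f).obj V).hom g' := by rw [h1]
      exact (Category.assoc _ _ _).symm.trans (e2.trans (fibPull_left_fst g' ξ₀ _))
    have e3 : θfst (m₀.left (default : Spec (CommRingCat.of Ω))) =
        (m₀.left ≫ θfst) (default : Spec (CommRingCat.of Ω)) := rfl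
    rw [e3, e1, ← hw₀]
    exact pt_mem_of_fiber_map_opnι _ W w₀
  obtain ⟨m₀', hm₀', -⟩ := Fib.exists_lift (opnι M W'') m₀ ⟨_, hmem⟩ rfl
  -- (g) the germ equation
  have hgerm : germSh G m₀' (G.obj.map θW.op ηs) = germSh G m₀' (G.obj.map (opnι M W'').op b') := by
    rw [germSh_res, germSh_res, K ξ₀ hξ₀ m₀' (hm₀'.trans hm₀) w₀ hw₀, ← hpull, h₀, hτ', hm₀', hm₀]
  rw [germSh_eq_iff] at hgerm
  obtain ⟨N, a, n₀, hn₀, hs⟩ := hgerm
  -- (h) the open set
  obtain ⟨β, hβ⟩ : ∃ β : N ⟶ M, β = a ≫ opnι M W'' := ⟨_, rfl⟩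
  obtain ⟨m, hm⟩ : ∃ m : Z' ⟶ M.left, m = mV f' hZ' v' := ⟨_, rfl⟩
  let π₁ : pullback m β.left ⟶ Z' := pullback.fst m β.left
  let π₂ : pullback m β.left ⟶ N.left := pullback.snd m β.left
  have hcond : π₁ ≫ m = π₂ ≫ β.left := pullback.condition
  have hβn₀ : (Scheme.pointSmallEtale ξ₀).fiber.map β n₀ = ptFib f' y' ξ₀ hξ₀ v' := by
    rw [hβ, Functor.map_comp]
    change (Scheme.pointSmallEtale ξ₀).fiber.map (opnι M W'')
      ((Scheme.pointSmallEtale ξ₀).fiber.map a n₀) = _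
    rw [hn₀, hm₀', hm₀]
  refine ⟨Set.range π₁, π₁.isOpenMap.isOpen_range, ?_, ?_⟩
  · have hc : sec f' hZ' ξ₀ hξ₀ ≫ m = n₀.left ≫ β.left := by
      rw [hm, sec_mV]
      exact (congrArg (fun t : Fib ξ₀ M ↦ t.left) hβn₀).symm
    refine ⟨(pullback.lift (sec f' hZ' ξ₀ hξ₀) n₀.left hc) default, ?_⟩
    have h1 : pullback.lift (sec f' hZ' ξ₀ hξ₀) n₀.left hc ≫ π₁ = sec f' hZ' ξ₀ hξ₀ :=
      pullback.lift_fst _ _ _
    exact congrArg (fun t : Spec (.of Ω) ⟶ Z' ↦ t default) h1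
  · rintro ξ' hξ' ⟨qpt, hq⟩ w₁ hw₁
    obtain ⟨lq, hl1, hl2⟩ :=
      Scheme.exists_fac_of_etale_of_isSepClosed π₁ (sec f' hZ' ξ' hξ') qpt hq
    have hβ' : β.left ≫ pullback.snd V'.hom f' = N.hom := Over.w β.hom
    have hN : (lq ≫ π₂) ≫ N.hom = ξ' :=
      calc (lq ≫ π₂) ≫ N.hom = (lq ≫ π₂) ≫ (β.left ≫ pullback.snd V'.hom f') :=
            congrArg (fun t ↦ (lq ≫ π₂) ≫ t) hβ'.symm
        _ = lq ≫ ((π₂ ≫ β.left) ≫ pullback.snd V'.hom f') := by simp only [Category.assoc]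
        _ = lq ≫ ((π₁ ≫ m) ≫ pullback.snd V'.hom f') :=
            congrArg (fun t ↦ lq ≫ (t ≫ pullback.snd V'.hom f')) hcond.symm
        _ = (lq ≫ π₁) ≫ (m ≫ pullback.snd V'.hom f') := by simp only [Category.assoc]
        _ = sec f' hZ' ξ' hξ' ≫ p' := by rw [hl1, hm, mV_snd]
        _ = ξ' := sec_p f' hZ' ξ' hξ'
    let nx : Fib ξ' N := Over.homMk (lq ≫ π₂) hN
    have hnx : (Scheme.pointSmallEtale ξ').fiber.map β nx = ptFib f' y' ξ' hξ' v' := by
      apply fib_ext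
      exact calc (lq ≫ π₂) ≫ β.left = lq ≫ (π₂ ≫ β.left) := Category.assoc _ _ _
        _ = lq ≫ (π₁ ≫ m) := congrArg (fun t ↦ lq ≫ t) hcond.symm
        _ = (lq ≫ π₁) ≫ m := (Category.assoc _ _ _).symm
        _ = sec f' hZ' ξ' hξ' ≫ mV f' hZ' v' := by rw [hl1, hm]
        _ = _ := sec_mV f' hZ' ξ' hξ' v'
    obtain ⟨m', hm'⟩ : ∃ m' : Fib ξ' (opn M W''),
        m' = (Scheme.pointSmallEtale ξ').fiber.map a nx := ⟨_, rfl⟩
    have hm'2 : (Scheme.pointSmallEtale ξ').fiber.map (opnι M W'') m' = ptFib f' y' ξ' hξ' v' := by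
      rw [hm', ← hnx, hβ, Functor.map_comp]
      rfl
    rw [hpull, ← K ξ' hξ' m' hm'2 w₁ hw₁, ← germSh_res, hm', ← germSh_res, hs, germSh_res,
      germSh_res, ← hm', hm'2, hτ']


omit w in
theorem bijective_PsiSh [IsIntegralHom f] (hpb : IsPullback g' f' f g) :
    Function.Bijective (PsiSh f g f' g' hpb.w F y') := by
  haveI : IsIntegralHom f' := MorphismProperty.of_isPullback hpb inferInstance
  have hlift : ∀ (x : Spec (.of Ω) ⟶ X) (hx : x ≫ f = y' ≫ g),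
      ∃ ξ' : Spec (.of Ω) ⟶ X', ξ' ≫ f' = y' ∧ ξ' ≫ g' = x :=
    fun x hx ↦ ⟨hpb.lift x y' hx, hpb.lift_snd _ _ _, hpb.lift_fst _ _ _⟩
  have hξ : ∀ (ξ' : Spec (.of Ω) ⟶ X'), ξ' ≫ f' = y' → (ξ' ≫ g') ≫ f = y' ≫ g := by
    intro ξ' h
    rw [Category.assoc, hpb.w, ← Category.assoc, h]
  have hinj : ∀ ξ' : Spec (.of Ω) ⟶ X', Function.Injective ((stalkPullIsoSh g' ξ').hom.app F) :=
    fun ξ' ↦ ((isIso_iff_bijective _).1 inferInstance).1
  constructor
  · intro σ₁ σ₂ h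
    apply eq_of_rho'Sh_eq f F (y' ≫ g)
    intro x hx
    obtain ⟨ξ', h1, h2⟩ := hlift x hx
    have h0 := congrArg (rho'Sh f' y' ξ' h1 ((EtDesc.pullSh g').obj F)) h
    rw [rho'Sh_PsiSh f g f' g' hpb.w F y' ξ' h1 (hξ ξ' h1),
      rho'Sh_PsiSh f g f' g' hpb.w F y' ξ' h1 (hξ ξ' h1)] at h0
    have h3 := hinj ξ' h0
    subst h2
    exact h3
  · intro τ'
    let J' := {ξ' : Spec (.of Ω) ⟶ X' // ξ' ≫ f' = y'}
    let κ : J' → (Spec (.of Ω) ⟶ X) := fun ξ' ↦ ξ'.1 ≫ g'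
    have hκ : ∀ ξ' : J', κ ξ' ≫ f = y' ≫ g := fun ξ' ↦ hξ ξ'.1 ξ'.2
    let t : ∀ ξ' : J', (stalkSh (κ ξ')).obj F := fun ξ' ↦
      (stalkPullIsoSh g' ξ'.1).inv.app F (rho'Sh f' y' ξ'.1 ξ'.2 ((EtDesc.pullSh g').obj F) τ')
    have ht : ∀ ξ' : J', (stalkPullIsoSh g' ξ'.1).hom.app F (t ξ') =
        rho'Sh f' y' ξ'.1 ξ'.2 ((EtDesc.pullSh g').obj F) τ' := by
      intro ξ'
      change (stalkPullIsoSh g' ξ'.1).hom.app F ((stalkPullIsoSh g' ξ'.1).inv.app F _) = _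
      rw [← ConcreteCategory.comp_apply, ← NatTrans.comp_app, Iso.inv_hom_id]
      rfl
    -- the geometric fibre
    have hZ' : IsPullback (pullback.fst f' y') (pullback.snd f' y') f' y' :=
      IsPullback.of_hasPullback _ _
    have hZ : IsPullback (pullback.fst f' y' ≫ g') (pullback.snd f' y') f (y' ≫ g) :=
      hZ'.paste_horiz hpb
    have hsec : ∀ ξ' : J', sec f hZ (κ ξ') (hκ ξ') = sec f' hZ' ξ'.1 ξ'.2 := by
      intro ξ'
      apply hZ'.hom_ext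
      · apply hpb.hom_ext
        · rw [Category.assoc, sec_p f hZ, sec_p f' hZ']
        · rw [Category.assoc, hZ'.w, ← Category.assoc, sec_q f hZ, sec_p f' hZ', Category.id_comp,
            ξ'.2]
      · rw [sec_q f hZ, sec_q f' hZ']
    obtain ⟨σ, hσ⟩ := exists_glue_stalkSh f hZ F κ hκ t (by
      intro z
      obtain ⟨ξ₀, hξ₀, rfl⟩ := exists_sec f' hZ' z
      obtain ⟨U, ū, a, ha⟩ := germSh_surjective F (t ⟨ξ₀, hξ₀⟩)
      obtain ⟨V, v, W, hW, k, w₀, hw1, hw2⟩ :=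
        exists_pointed_nbhd f (y' ≫ g) (ξ₀ ≫ g') (hξ ξ₀ hξ₀) ū
      obtain ⟨s, hs⟩ : ∃ s : F.obj.obj (op (opn ((bc f).obj V) W)), s = F.obj.map k.op a :=
        ⟨_, rfl⟩
      have hs0 : germSh F w₀ s = t ⟨ξ₀, hξ₀⟩ := by rw [hs, germSh_res, hw2, ha]
      obtain ⟨O, hO, hmemO, hOz⟩ := exists_open_of_agree f g f' g' hpb.w F y' hZ' τ' hξ v W s ξ₀
        hξ₀ w₀ hw1 (by rw [hs0]; exact ht ⟨ξ₀, hξ₀⟩)
      haveI := compactSpace_Z f hZ
      obtain ⟨T, hT, hzT, hTO⟩ := exists_mem_subset_of_sep (IsTrace f hZ)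
        (fun T hT ↦ hT.isClosed) (isTrace_univ f hZ) (fun T₁ T₂ h₁ h₂ ↦ h₁.inter h₂)
        (exists_isTrace_sep f hZ) O hO _ hmemO
      obtain ⟨V_T, v_T, W_T, hW_T, rfl⟩ := hT
      -- common refinement
      let ea : (Scheme.pointSmallEtale (y' ≫ g)).fiber.Elements := ⟨V, v⟩
      let eb : (Scheme.pointSmallEtale (y' ≫ g)).fiber.Elements := ⟨V_T, v_T⟩
      let mm : (Scheme.pointSmallEtale (y' ≫ g)).fiber.Elements := IsCofiltered.min ea eb
      let lm : mm ⟶ ea := IsCofiltered.minToLeft _ _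
      let rm : mm ⟶ eb := IsCofiltered.minToRight _ _
      obtain ⟨Vf, hVf⟩ : ∃ Vf : Y.Etale, Vf = mm.1 := ⟨_, rfl⟩
      obtain ⟨vf, hvf⟩ : ∃ vf : Fib (y' ≫ g) Vf, HEq vf mm.2 := by subst hVf; exact ⟨_, HEq.rfl⟩
      obtain ⟨cV, cT, hcV, hcT⟩ : ∃ (cV : Vf ⟶ V) (cT : Vf ⟶ V_T),
          (Scheme.pointSmallEtale (y' ≫ g)).fiber.map cV vf = v ∧
          (Scheme.pointSmallEtale (y' ≫ g)).fiber.map cT vf = v_T := by
        subst hVf
        obtain rfl := eq_of_heq hvf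
        exact ⟨lm.1, rm.1, lm.2, rm.2⟩
      clear hvf hVf lm rm mm ea eb
      let Wf : ((bc f).obj Vf).left.Opens :=
        ((bc f).map cV).left ⁻¹ᵁ W ⊓ ((bc f).map cT).left ⁻¹ᵁ W_T
      obtain ⟨r, hr⟩ := exists_lift_opn ((bc f).obj V) W (opnι _ Wf ≫ (bc f).map cV) (by
        rintro _ ⟨e, rfl⟩
        exact (e : ↥Wf).2.1)
      have hptV : ∀ (x : Spec (.of Ω) ⟶ X) (hx : x ≫ f = y' ≫ g),
          ((bc f).map cV).left (ptFib f (y' ≫ g) x hx vf).pt = (ptFib f (y' ≫ g) x hx v).pt := by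
        intro x hx
        rw [← hcV, ptFib_pt_map]
      have hptT : ∀ (x : Spec (.of Ω) ⟶ X) (hx : x ≫ f = y' ≫ g),
          ((bc f).map cT).left (ptFib f (y' ≫ g) x hx vf).pt = (ptFib f (y' ≫ g) x hx v_T).pt := by
        intro x hx
        rw [← hcT, ptFib_pt_map]
      refine ⟨Vf, vf, Wf, F.obj.map r.op s, ?_, ?_⟩
      · have h1 := (mem_preimage_mV_iff f hZ (κ ⟨ξ₀, hξ₀⟩) (hκ ⟨ξ₀, hξ₀⟩) vf
          (Wf : Set ((bc f).obj Vf).left)).2
        rw [hsec ⟨ξ₀, hξ₀⟩] at h1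
        apply h1
        constructor
        · change ((bc f).map cV).left _ ∈ W
          rw [hptV, ← hw1]
          exact pt_mem_of_fiber_map_opnι _ W w₀
        · change ((bc f).map cT).left _ ∈ W_T
          rw [hptT]
          have h2 := (mem_preimage_mV_iff f hZ (κ ⟨ξ₀, hξ₀⟩) (hκ ⟨ξ₀, hξ₀⟩) v_T
            (W_T : Set ((bc f).obj V_T).left)).1
          rw [hsec ⟨ξ₀, hξ₀⟩] at h2
          exact h2 hzT
      · intro ξ' w₂ hw₂
        have hmemf : (ptFib f (y' ≫ g) (κ ξ') (hκ ξ') vf).pt ∈ Wf := by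
          rw [← hw₂]
          exact pt_mem_of_fiber_map_opnι _ Wf w₂
        have hmemT : (sec f hZ (κ ξ') (hκ ξ')) default ∈
            mV f hZ v_T ⁻¹' (W_T : Set ((bc f).obj V_T).left) := by
          rw [mem_preimage_mV_iff, ← hptT]
          exact hmemf.2
        have hmemO' : (sec f' hZ' ξ'.1 ξ'.2) default ∈ O := by
          rw [← hsec ξ']
          exact hTO hmemT
        obtain ⟨w₁, hw₁⟩ : ∃ w₁ : Fib (κ ξ') (opn ((bc f).obj V) W),
            w₁ = (Scheme.pointSmallEtale (κ ξ')).fiber.map r w₂ := ⟨_, rfl⟩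
        have hw₁' : (Scheme.pointSmallEtale (κ ξ')).fiber.map (opnι _ W) w₁ =
            ptFib f (y' ≫ g) (κ ξ') (hκ ξ') v := by
          have h2 := congrArg (fun m ↦ (Scheme.pointSmallEtale (κ ξ')).fiber.map m w₂) hr
          simp only [Functor.map_comp] at h2
          rw [hw₁]
          refine h2.trans ?_
          change (Scheme.pointSmallEtale (κ ξ')).fiber.map ((bc f).map cV)
            ((Scheme.pointSmallEtale (κ ξ')).fiber.map (opnι _ Wf) w₂) = _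
          rw [hw₂, ptFib_map, hcV]
        have h3 := hOz ξ'.1 ξ'.2 hmemO' w₁ hw₁'
        rw [← ht ξ'] at h3
        have h4 := hinj ξ'.1 h3
        rw [germSh_res, ← hw₁]
        exact h4)
    refine ⟨σ, ?_⟩
    apply eq_of_rho'Sh_eq f' ((EtDesc.pullSh g').obj F) y'
    intro x' hx'
    rw [rho'Sh_PsiSh f g f' g' hpb.w F y' x' hx' (hξ x' hx')]
    have := hσ ⟨x', hx'⟩
    rw [← ht ⟨x', hx'⟩, ← this]

omit w in
/-- **Degree-zero base change for integral morphisms, sheaves of sets.** -/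
theorem isIso_baseChange0Sh_of_isIntegralHom [IsIntegralHom f] (hpb : IsPullback g' f' f g) :
    IsIso (EtBC.baseChange0Sh f g f' g' hpb.w F) := by
  have H : ∀ Φ : (PXA Y').FullSubcategory,
      IsIso ((Φ.obj.sheafFiber (A := Type (u + 1))).map
        (EtBC.baseChange0Sh f g f' g' hpb.w F)) := by
    rintro ⟨_, ⟨s⟩⟩
    let y' := geomPtA s
    have hb := bijective_PsiSh f g f' g' F y' hpb
    have h1 : IsIso (PsiSh f g f' g' hpb.w F y') := (isIso_iff_bijective _).2 hb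
    unfold PsiSh at h1
    exact IsIso.of_isIso_comp_left
      ((stalkPullIsoSh g y').hom.app ((EtDesc.pushSh f).obj F)) _
  exact (jriASh Y').isIso _

end main

end Groth.Agent.H7.ShIntBC
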