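import Groth.Agent.H7.ShIntBC

set_option autoImplicit false
set_option linter.style.haveILetI false
universe u

open AlgebraicGeometry CategoryTheory Limits Opposite EtCoh
open Groth.Agent.H7.FinPush Groth.Agent.H7.ShIntBC

namespace Groth.Agent.H7.ShSecBC

variable {X Y X' Y' : Scheme.{u}} (f : X ⟶ Y) (g : Y' ⟶ Y) (f' : X' ⟶ Y') (g' : X' ⟶ X)
  (w : g' ≫ f = f' ≫ g) (F : EtDesc.Sh X)

/-- **global sections and base change**: the pull-back of global sections along `g'` is the
pull-back along `g` of global sections of `f_* F`, followed by the base change map. -/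
theorem baseChange0Sh_secPull (s' : EtDesc.sect F (EtCoh.top X)) :
    (EtBC.baseChange0Sh f g f' g' w F).hom.app (op (EtCoh.top Y'))
      (EtDesc.secPull g ((EtDesc.pushSh f).obj F) (F.obj.map (EtCore.bcTopIso f).hom.op s')) =
    ((EtDesc.pullSh g').obj F).obj.map (EtCore.bcTopIso f').hom.op (EtDesc.secPull g' F s') := by
  let G := (EtDesc.pushSh f).obj F
  let s : G.obj.obj (op (EtCoh.top Y)) := F.obj.map (EtCore.bcTopIso f).hom.op s'
  let BC := EtBC.baseChange0Sh f g f' g' w F
  have h1 : BC.hom.app (op (EtCoh.top Y'))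
      (((EtDesc.pullSh g).obj G).obj.map (EtCore.bcTopIso g).inv.op
        (((EtDesc.adjSh g).unit.app G).hom.app (op (EtCoh.top Y)) s)) =
      ((EtDesc.pullSh g').obj F).obj.map ((bc f').map (EtCore.bcTopIso g).inv).op
        (BC.hom.app (op ((bc g).obj (EtCoh.top Y)))
          (((EtDesc.adjSh g).unit.app G).hom.app (op (EtCoh.top Y)) s)) := by
    have := BC.hom.naturality (EtCore.bcTopIso g).inv.op
    exact ConcreteCategory.congr_hom this _
  have h2 : BC.hom.app (op ((bc g).obj (EtCoh.top Y)))
      (((EtDesc.adjSh g).unit.app G).hom.app (op (EtCoh.top Y)) s) =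
      (gamSh f g f' g' w F).hom.app (op (EtCoh.top Y)) s := by
    have h := unit_comp_baseChange0Sh f g f' g' w F
    have h2 := congr($(h).hom.app (op (EtCoh.top Y)))
    exact ConcreteCategory.congr_hom h2 s
  have h3 : ((EtDesc.adjSh g').unit.app F).hom.app (op ((bc f).obj (EtCoh.top Y))) s =
      ((EtDesc.pullSh g').obj F).obj.map ((bc g').map (EtCore.bcTopIso f).hom).op
        (((EtDesc.adjSh g').unit.app F).hom.app (op (EtCoh.top X)) s') := by
    have := ((EtDesc.adjSh g').unit.app F).hom.naturality (EtCore.bcTopIso f).hom.op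
    exact ConcreteCategory.congr_hom this s'
  unfold EtDesc.secPull
  change BC.hom.app (op (EtCoh.top Y'))
      (((EtDesc.pullSh g).obj G).obj.map (EtCore.bcTopIso g).inv.op
        (((EtDesc.adjSh g).unit.app G).hom.app (op (EtCoh.top Y)) s)) = _
  rw [h1, h2, gamSh_app, h3]
  simp only [← Functor.map_comp_apply, ← op_comp]
  have e : (bc f').map (EtCore.bcTopIso g).inv ≫ kap f g f' g' w (top Y) ≫
      (bc g').map (EtCore.bcTopIso f).hom = (EtCore.bcTopIso f').hom ≫ (EtCore.bcTopIso g').inv :=
    (EtCore.bcTopIsTerminal g').hom_ext _ _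
  rw [e]

theorem injective_map_iso (G : EtDesc.Sh X) {A B : X.Etale} (e : A ≅ B) :
    Function.Bijective (G.obj.map e.hom.op) := by
  have : IsIso (G.obj.map e.hom.op) := inferInstance
  exact (isIso_iff_bijective _).1 this

theorem injective_app_of_mono {A B : EtDesc.Sh X} (φ : A ⟶ B) [Mono φ] (V : X.Etaleᵒᵖ) :
    Function.Injective (φ.hom.app V) := by
  haveI : Mono φ.hom := (sheafToPresheaf _ _).map_mono φ
  haveI : Mono (φ.hom.app V) := inferInstance
  exact (mono_iff_injective _).1 inferInstance

theorem bijective_app_of_isIso {A B : EtDesc.Sh X} (φ : A ⟶ B) [IsIso φ] (V : X.Etaleᵒᵖ) :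
    Function.Bijective (φ.hom.app V) := by
  haveI : IsIso φ.hom := (sheafToPresheaf _ _).map_isIso φ
  haveI : IsIso (φ.hom.app V) := inferInstance
  exact (isIso_iff_bijective _).1 inferInstance

/-- injectivity of pull-back of global sections passes to the base change, if the base change
map is a monomorphism. -/
theorem injective_secPull_of_mono
    (hinj : Function.Injective (EtDesc.secPull g ((EtDesc.pushSh f).obj F)))
    [Mono (EtBC.baseChange0Sh f g f' g' w F)] :
    Function.Injective (EtDesc.secPull g' F) := by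
  intro s₁ s₂ h
  have h1 := baseChange0Sh_secPull f g f' g' w F s₁
  have h2 := baseChange0Sh_secPull f g f' g' w F s₂
  rw [h] at h1
  have h3 := h1.trans h2.symm
  have h4 := hinj (injective_app_of_mono (EtBC.baseChange0Sh f g f' g' w F) _ h3)
  exact (injective_map_iso F (EtCore.bcTopIso f)).1 h4

/-- bijectivity of pull-back of global sections passes to the base change, if the base change
map is an isomorphism. -/
theorem bijective_secPull_of_isIso
    (hbij : Function.Bijective (EtDesc.secPull g ((EtDesc.pushSh f).obj F)))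
    [IsIso (EtBC.baseChange0Sh f g f' g' w F)] :
    Function.Bijective (EtDesc.secPull g' F) := by
  refine ⟨injective_secPull_of_mono f g f' g' w F hbij.1, ?_⟩
  intro t
  obtain ⟨u, hu⟩ := (bijective_app_of_isIso (EtBC.baseChange0Sh f g f' g' w F)
    (op (EtCoh.top Y'))).2 (((EtDesc.pullSh g').obj F).obj.map (EtCore.bcTopIso f').hom.op t)
  obtain ⟨s, hs⟩ := hbij.2 u
  obtain ⟨s', hs'⟩ := (injective_map_iso F (EtCore.bcTopIso f)).2 s
  refine ⟨s', ?_⟩
  have h1 := baseChange0Sh_secPull f g f' g' w F s'
  rw [hs', hs, hu] at h1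
  exact ((injective_map_iso ((EtDesc.pullSh g').obj F) (EtCore.bcTopIso f')).1 h1).symm

end Groth.Agent.H7.ShSecBC
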