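import Groth.Agent.H7.ShSecBC

set_option autoImplicit false
set_option linter.style.haveILetI false
universe u

open AlgebraicGeometry CategoryTheory Limits Opposite EtCoh
open Groth.Agent.H4.Stalks Groth.Agent.H4.StalkPull Groth.Agent.H4.StalkPullSh
open Groth.Agent.H4.GlueSec Groth.Agent.H4.PropBSh
open Groth.Agent.H7.ShStalks Groth.Agent.H7.FinPush Groth.Agent.H7.ShFinPush Groth.Agent.H7.ShImm
open Groth.Agent.H7.ShSecBC

namespace Groth.Agent.H7.ShSecDesc

variable {X Y : Scheme.{u}}

/-- naturality of the pull-back of global sections. -/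
theorem secPull_naturality (f : X ⟶ Y) {F G : EtDesc.Sh Y} (φ : F ⟶ G)
    (s : EtDesc.sect F (EtCoh.top Y)) :
    EtDesc.secPull f G (φ.hom.app (op (EtCoh.top Y)) s) =
      ((EtDesc.pullSh f).map φ).hom.app (op (EtCoh.top X)) (EtDesc.secPull f F s) := by
  unfold EtDesc.secPull
  have h1 := (EtDesc.adjSh f).unit.naturality φ
  have h2 := congr($(h1).hom.app (op (EtCoh.top Y)))
  have h3 := ConcreteCategory.congr_hom h2 s
  have h4 := ((EtDesc.pullSh f).map φ).hom.naturality (EtCore.bcTopIso f).inv.op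
  have h5 := ConcreteCategory.congr_hom h4
    (((EtDesc.adjSh f).unit.app F).hom.app (op (EtCoh.top Y)) s)
  rw [ConcreteCategory.comp_apply, ConcreteCategory.comp_apply] at h5
  refine Eq.trans ?_ h5.symm
  congr 1

/-- the inverse image functor preserves monomorphisms of sheaves of sets. -/
theorem mono_pullSh_map (f : X ⟶ Y) {F G : EtDesc.Sh Y} (φ : F ⟶ G) [Mono φ] :
    Mono ((EtDesc.pullSh f).map φ) := by
  haveI : ∀ Φ : (PXA X).FullSubcategory,
      Mono ((Φ.obj.sheafFiber (A := Type (u + 1))).map ((EtDesc.pullSh f).map φ)) := by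
    rintro ⟨_, ⟨s⟩⟩
    let x := geomPtA s
    change Mono ((stalkSh x).map ((EtDesc.pullSh f).map φ))
    have nat := (stalkPullIsoSh f x).hom.naturality φ
    have h1 : Mono ((stalkSh (x ≫ f)).map φ) := inferInstance
    have h2 : Mono ((stalkPullIsoSh f x).hom.app F ≫
        (stalkSh x).map ((EtDesc.pullSh f).map φ)) := by
      have : (stalkPullIsoSh f x).hom.app F ≫ (stalkSh x).map ((EtDesc.pullSh f).map φ) =
          (stalkSh (x ≫ f)).map φ ≫ (stalkPullIsoSh f x).hom.app G := nat.symm
      rw [this]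
      infer_instance
    have h3 : (stalkSh x).map ((EtDesc.pullSh f).map φ) =
        (stalkPullIsoSh f x).inv.app F ≫ ((stalkPullIsoSh f x).hom.app F ≫
          (stalkSh x).map ((EtDesc.pullSh f).map φ)) := by
      rw [← Category.assoc, ← NatTrans.comp_app, Iso.inv_hom_id, NatTrans.id_app, Category.id_comp]
    rw [h3]
    infer_instance
  haveI : ∀ Φ : (PXA X).FullSubcategory,
      PreservesLimitsOfShape WalkingCospan (Φ.obj.sheafFiber (A := Type (u + 1))) :=
    fun Φ ↦ inferInstance
  exact (jriASh X).mono _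

/-- for a surjective morphism `p`, the unit `F ⟶ p_* p^* F` is a monomorphism. -/
theorem mono_unit_of_surjective (p : X ⟶ Y) (hp : Function.Surjective p.base) (F : EtDesc.Sh Y) :
    Mono ((EtDesc.adjSh p).unit.app F) := by
  have hjri := jri_of_surjective (fun s : X ↦ geomPtA s ≫ p) (by
    ext y
    simp only [Set.mem_iUnion, Set.mem_range, Set.mem_univ, iff_true]
    obtain ⟨x, rfl⟩ := hp y
    refine ⟨x, default, ?_⟩
    rw [Scheme.Hom.comp_apply, geomPtA_default])
  haveI : ∀ Φ : (ObjectProperty.ofObj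
      (fun s : X ↦ Scheme.pointSmallEtale (geomPtA s ≫ p))).FullSubcategory,
      Mono ((Φ.obj.sheafFiber (A := Type (u + 1))).map ((EtDesc.adjSh p).unit.app F)) := by
    rintro ⟨_, ⟨s⟩⟩
    let x := geomPtA s
    change Mono ((stalkSh (x ≫ p)).map ((EtDesc.adjSh p).unit.app F))
    have nat := (stalkPullIsoSh p x).hom.naturality ((EtDesc.adjSh p).unit.app F)
    haveI : IsSplitMono ((EtDesc.pullSh p).map ((EtDesc.adjSh p).unit.app F)) :=
      ⟨⟨⟨_, (EtDesc.adjSh p).left_triangle_components F⟩⟩⟩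
    have h1 : Mono ((stalkSh x).map ((EtDesc.pullSh p).map ((EtDesc.adjSh p).unit.app F))) :=
      inferInstance
    have h2 : Mono ((stalkSh (x ≫ p)).map ((EtDesc.adjSh p).unit.app F) ≫
        (stalkPullIsoSh p x).hom.app _) := by
      rw [nat]
      haveI : Mono ((EtDesc.pullSh p ⋙ stalkSh x).map ((EtDesc.adjSh p).unit.app F)) := h1
      infer_instance
    exact mono_of_mono _ ((stalkPullIsoSh p x).hom.app _)
  haveI : ∀ Φ : (ObjectProperty.ofObj
      (fun s : X ↦ Scheme.pointSmallEtale (geomPtA s ≫ p))).FullSubcategory,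
      PreservesLimitsOfShape WalkingCospan (Φ.obj.sheafFiber (A := Type (u + 1))) :=
    fun Φ ↦ inferInstance
  exact hjri.mono _

section equalizer

instance stalkSh_pfc {X : Scheme.{u}} {Ω : Type u} [Field Ω] [IsSepClosed Ω]
    (ξ : Spec (CommRingCat.of Ω) ⟶ X) : PreservesFiniteColimits (stalkSh ξ) := by
  unfold stalkSh
  infer_instance

/-- a monomorphism of sheaves of sets is the equalizer of its cokernel pair, on sections. -/
theorem exists_of_inl_eq_inr {X : Scheme.{u}} {F G : EtDesc.Sh X} (φ : F ⟶ G) [Mono φ]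
    (V : X.Etale) (s₀ : G.obj.obj (op V))
    (h : (pushout.inl φ φ).hom.app (op V) s₀ = (pushout.inr φ φ).hom.app (op V) s₀) :
    ∃ s : F.obj.obj (op V), φ.hom.app (op V) s = s₀ := by
  have hφ : ∀ W : X.Etaleᵒᵖ, Function.Injective (φ.hom.app W) := injective_app_of_mono φ
  -- local lifts
  have hloc : ∀ v : V.left, ∃ (N : X.Etale) (c : N ⟶ V) (n : N.left) (t : F.obj.obj (op N)),
      c.left n = v ∧ φ.hom.app (op N) t = G.obj.map c.op s₀ := by
    intro v
    let ξ := geomPtA (V.hom v)
    obtain ⟨x, hx⟩ := Fib.exists_of_point (ξ := ξ) V v (geomPtA_default _).symm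
    have hc := isColimitOfHasPushoutOfPreservesColimit (stalkSh ξ) φ φ
    have hinj : Function.Injective ((stalkSh ξ).map φ) := by
      have : Mono ((stalkSh ξ).map φ) := inferInstance
      exact (mono_iff_injective _).1 this
    have h1 : (stalkSh ξ).map (pushout.inl φ φ) (germSh G x s₀) =
        (stalkSh ξ).map (pushout.inr φ φ) (germSh G x s₀) := by
      rw [germSh_map, germSh_map, h]
    obtain ⟨σ, hσ, -⟩ := (Types.pushoutCocone_inl_eq_inr_iff_of_isColimit hc hinj
      (germSh G x s₀) (germSh G x s₀)).1 h1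
    obtain ⟨W, wpt, t, rfl⟩ := germSh_surjective F σ
    rw [germSh_map] at hσ
    let ea : (Scheme.pointSmallEtale ξ).fiber.Elements := ⟨W, wpt⟩
    let eb : (Scheme.pointSmallEtale ξ).fiber.Elements := ⟨V, x⟩
    let m : (Scheme.pointSmallEtale ξ).fiber.Elements := IsCofiltered.min ea eb
    let l : m ⟶ ea := IsCofiltered.minToLeft _ _
    let r : m ⟶ eb := IsCofiltered.minToRight _ _
    have hl : (Scheme.pointSmallEtale ξ).fiber.map l.1 m.2 = wpt := l.2
    have hr : (Scheme.pointSmallEtale ξ).fiber.map r.1 m.2 = x := r.2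
    rw [← hl, ← hr, ← germSh_res, ← germSh_res, germSh_eq_iff'] at hσ
    obtain ⟨N, c, n, hn, hs⟩ := hσ
    refine ⟨N, c ≫ r.1, n, F.obj.map (c ≫ l.1).op t, ?_, ?_⟩
    · change r.1.left (c.left n) = v
      rw [hn]
      have e1 : r.1.left (Fib.pt (ξ := ξ) m.2) =
          Fib.pt (ξ := ξ) ((Scheme.pointSmallEtale ξ).fiber.map r.1 m.2) :=
        (Fib.pt_map r.1 m.2).symm
      rw [e1, hr, hx]
    · have nat := ConcreteCategory.congr_hom (φ.hom.naturality (c ≫ l.1).op) t
      rw [ConcreteCategory.comp_apply, ConcreteCategory.comp_apply] at nat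
      rw [nat, op_comp, Functor.map_comp_apply, hs, op_comp, Functor.map_comp_apply]
  choose N c n t hn ht using hloc
  obtain ⟨s, hs⟩ := exists_glue_sh F N c (by
      ext v
      simp only [Set.mem_iUnion, Set.mem_range, Set.mem_univ, iff_true]
      exact ⟨v, n v, hn v⟩) t (by
    intro i j T gi gj e
    apply hφ
    have n1 := ConcreteCategory.congr_hom (φ.hom.naturality gi.op) (t i)
    have n2 := ConcreteCategory.congr_hom (φ.hom.naturality gj.op) (t j)
    rw [ConcreteCategory.comp_apply, ConcreteCategory.comp_apply] at n1 n2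
    rw [n1, n2, ht, ht, ← Functor.map_comp_apply, ← Functor.map_comp_apply, ← op_comp, ← op_comp, e])
  refine ⟨s, ?_⟩
  apply eq_of_cover_sh G N c (by
      ext v
      simp only [Set.mem_iUnion, Set.mem_range, Set.mem_univ, iff_true]
      exact ⟨v, n v, hn v⟩)
  intro i
  have n1 := ConcreteCategory.congr_hom (φ.hom.naturality (c i).op) s
  rw [ConcreteCategory.comp_apply, ConcreteCategory.comp_apply] at n1
  rw [← n1, hs, ht]

end equalizer

section descent

variable {X Y Xb Yb : Scheme.{u}} (h : Y ⟶ X) (p : Xb ⟶ X) (hb : Yb ⟶ Xb) (pY : Yb ⟶ Y)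
  (w : hb ≫ p = pY ≫ h)

include w in
/-- injectivity of pull-back of global sections descends along a surjective morphism. -/
theorem injective_secPull_of_surjective (hp : Function.Surjective p.base)
    (hinj : ∀ Fb : EtDesc.Sh Xb, Function.Injective (EtDesc.secPull hb Fb)) (F : EtDesc.Sh X) :
    Function.Injective (EtDesc.secPull h F) := by
  intro s₁ s₂ hs
  let Fb := (EtDesc.pullSh p).obj F
  let u : F ⟶ (EtDesc.pushSh p).obj Fb := (EtDesc.adjSh p).unit.app F
  haveI : Mono u := mono_unit_of_surjective p hp F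
  have hu := injective_app_of_mono u (op (EtCoh.top X))
  apply hu
  have h1 : EtDesc.secPull h ((EtDesc.pushSh p).obj Fb) (u.hom.app (op (EtCoh.top X)) s₁) =
      EtDesc.secPull h ((EtDesc.pushSh p).obj Fb) (u.hom.app (op (EtCoh.top X)) s₂) := by
    rw [secPull_naturality h u, secPull_naturality h u, hs]
  obtain ⟨s₁', hs₁'⟩ := (injective_map_iso Fb (EtCore.bcTopIso p)).2 (u.hom.app (op (EtCoh.top X)) s₁)
  obtain ⟨s₂', hs₂'⟩ := (injective_map_iso Fb (EtCore.bcTopIso p)).2 (u.hom.app (op (EtCoh.top X)) s₂)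
  have e1 := baseChange0Sh_secPull p h pY hb w Fb s₁'
  have e2 := baseChange0Sh_secPull p h pY hb w Fb s₂'
  rw [hs₁'] at e1
  rw [hs₂'] at e2
  rw [h1] at e1
  have e3 := e1.symm.trans e2
  have e4 := hinj Fb ((injective_map_iso ((EtDesc.pullSh hb).obj Fb) (EtCore.bcTopIso pY)).1 e3)
  rw [← hs₁', ← hs₂', e4]

include w in
/-- if pull-back of global sections along `hb` is bijective and the base change maps are
monomorphisms, then pull-back of global sections of `p_* Fb` along `h` is bijective. -/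
theorem bijective_secPull_pushSh (hp : Function.Surjective p.base)
    (hbij : ∀ Fb : EtDesc.Sh Xb, Function.Bijective (EtDesc.secPull hb Fb))
    (hmono : ∀ Fb : EtDesc.Sh Xb, Mono (EtBC.baseChange0Sh p h pY hb w Fb)) (Fb : EtDesc.Sh Xb) :
    Function.Bijective (EtDesc.secPull h ((EtDesc.pushSh p).obj Fb)) := by
  refine ⟨injective_secPull_of_surjective h p hb pY w hp (fun Fb ↦ (hbij Fb).1) _, ?_⟩
  intro u
  haveI := hmono Fb
  have hBC := injective_app_of_mono (EtBC.baseChange0Sh p h pY hb w Fb) (op (EtCoh.top Y))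
  obtain ⟨t, ht⟩ := (injective_map_iso ((EtDesc.pullSh hb).obj Fb) (EtCore.bcTopIso pY)).2
    ((EtBC.baseChange0Sh p h pY hb w Fb).hom.app (op (EtCoh.top Y)) u)
  obtain ⟨s', hs'⟩ := (hbij Fb).2 t
  refine ⟨Fb.obj.map (EtCore.bcTopIso p).hom.op s', ?_⟩
  apply hBC
  rw [baseChange0Sh_secPull p h pY hb w Fb s', hs', ht]

include w in
/-- bijectivity of pull-back of global sections descends along a surjective morphism, if the
base change maps are monomorphisms. -/
theorem bijective_secPull_of_surjective (hp : Function.Surjective p.base)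
    (hbij : ∀ Fb : EtDesc.Sh Xb, Function.Bijective (EtDesc.secPull hb Fb))
    (hmono : ∀ Fb : EtDesc.Sh Xb, Mono (EtBC.baseChange0Sh p h pY hb w Fb)) (F : EtDesc.Sh X) :
    Function.Bijective (EtDesc.secPull h F) := by
  have hinjall : ∀ F : EtDesc.Sh X, Function.Injective (EtDesc.secPull h F) :=
    injective_secPull_of_surjective h p hb pY w hp (fun Fb ↦ (hbij Fb).1)
  refine ⟨hinjall F, ?_⟩
  intro t
  let Fb := (EtDesc.pullSh p).obj F
  let G₀ := (EtDesc.pushSh p).obj Fb
  let u : F ⟶ G₀ := (EtDesc.adjSh p).unit.app F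
  haveI : Mono u := mono_unit_of_surjective p hp F
  haveI : Mono ((EtDesc.pullSh h).map u) := mono_pullSh_map h u
  have hhu := injective_app_of_mono ((EtDesc.pullSh h).map u) (op (EtCoh.top Y))
  obtain ⟨s₀, hs₀⟩ := (bijective_secPull_pushSh h p hb pY w hp hbij hmono Fb).2
    (((EtDesc.pullSh h).map u).hom.app (op (EtCoh.top Y)) t)
  have hab : (pushout.inl u u).hom.app (op (EtCoh.top X)) s₀ =
      (pushout.inr u u).hom.app (op (EtCoh.top X)) s₀ := by
    apply hinjall (pushout u u)
    rw [secPull_naturality h (pushout.inl u u), secPull_naturality h (pushout.inr u u), hs₀]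
    have e1 : ∀ (k : G₀ ⟶ pushout u u),
        ((EtDesc.pullSh h).map k).hom.app (op (EtCoh.top Y))
          (((EtDesc.pullSh h).map u).hom.app (op (EtCoh.top Y)) t) =
        ((EtDesc.pullSh h).map (u ≫ k)).hom.app (op (EtCoh.top Y)) t := by
      intro k
      rw [Functor.map_comp]
      rfl
    rw [e1, e1, pushout.condition]
  obtain ⟨s, hs⟩ := exists_of_inl_eq_inr u (EtCoh.top X) s₀ hab
  refine ⟨s, ?_⟩
  apply hhu
  rw [← secPull_naturality h u, hs, hs₀]

end descent

end Groth.Agent.H7.ShSecDesc
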