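import Mathlib
import Groth.Agent.H4.StalkPullSh
import Groth.Agent.H4.PropBSh

/-!
# Germs of sections of sheaves of sets on the small étale site
-/

set_option autoImplicit false
set_option linter.style.haveILetI false
universe u

open AlgebraicGeometry CategoryTheory Limits Opposite EtCoh
open Groth.Agent.H4.Stalks Groth.Agent.H4.StalkPull Groth.Agent.H4.StalkPullSh

namespace Groth.Agent.H7.ShStalks

variable {X : Scheme.{u}} {Ω : Type u} [Field Ω] [IsSepClosed Ω] {ξ : Spec (CommRingCat.of Ω) ⟶ X}

/-- the germ map for sheaves of sets. -/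
noncomputable def germSh (F : EtDesc.Sh X) {U : X.Etale} (x : Fib ξ U) :
    F.obj.obj (op U) ⟶ (stalkSh ξ).obj F :=
  (Scheme.pointSmallEtale ξ).toPresheafFiber U x F.obj

lemma germSh_surjective (F : EtDesc.Sh X) (t : (stalkSh ξ).obj F) :
    ∃ (U : X.Etale) (x : Fib ξ U) (s : F.obj.obj (op U)), germSh F x s = t :=
  (Scheme.pointSmallEtale ξ).toPresheafFiber_jointly_surjective (P := F.obj)
    (show ToType ((Scheme.pointSmallEtale ξ).presheafFiber.obj F.obj) from t)

lemma germSh_res (F : EtDesc.Sh X) {U V : X.Etale} (g : V ⟶ U) (y : Fib ξ V)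
    (s : F.obj.obj (op U)) :
    germSh F y (F.obj.map g.op s) = germSh F ((Scheme.pointSmallEtale ξ).fiber.map g y) s :=
  (Scheme.pointSmallEtale ξ).toPresheafFiber_w_apply g y F.obj s

lemma germSh_eq_iff (F : EtDesc.Sh X) {U : X.Etale} (x : Fib ξ U) (s s' : F.obj.obj (op U)) :
    germSh F x s = germSh F x s' ↔ ∃ (V : X.Etale) (g : V ⟶ U) (y : Fib ξ V),
      (Scheme.pointSmallEtale ξ).fiber.map g y = x ∧ F.obj.map g.op s = F.obj.map g.op s' :=
  (Scheme.pointSmallEtale ξ).toPresheafFiber_eq_iff' (P := F.obj) U x s s'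

lemma germSh_map {F G : EtDesc.Sh X} (a : F ⟶ G) {U : X.Etale} (x : Fib ξ U)
    (s : F.obj.obj (op U)) :
    (stalkSh ξ).map a (germSh F x s) = germSh G x (a.hom.app (op U) s) :=
  (Scheme.pointSmallEtale ξ).toPresheafFiber_naturality_apply a.hom U x s

section pull

variable {X Y : Scheme.{u}} (f : Y ⟶ X) {Ω : Type u} [Field Ω] [IsSepClosed Ω]
  (y : Spec (CommRingCat.of Ω) ⟶ Y)

/-- **Germ formula for the stalk of a pullback**, sheaves of sets. -/
theorem germSh_stalkPullIsoSh (F : EtDesc.Sh X) {V : X.Etale} (v : Fib (y ≫ f) V) :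
    germSh F v ≫ (stalkPullIsoSh f y).hom.app F =
      ((EtDesc.adjSh f).unit.app F).hom.app (op V) ≫
        germSh ((EtDesc.pullSh f).obj F) (fibPull f y v) := by
  have h1 : germSh F v ≫ (sheafFiberIsoOfIso (A := Type (u + 1)) (comapIso f y)).inv.app F =
      ((Scheme.pointSmallEtale y).comap (bc f) (coverPreserving_bc f)).toPresheafFiber V
        (fibPull f y v) F.obj := by
    exact (Scheme.pointSmallEtale (y ≫ f)).toPresheafFiber_presheafFiberDesc
      (A := Type (u + 1)) (P := F.obj) _ _ V v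
  have h2 := toPresheafFiber_sheafFiberComapIso_hom (Scheme.pointSmallEtale y) (bc f)
    (coverPreserving_bc f) (Type (u + 1)) F V (fibPull f y v)
  calc germSh F v ≫ (stalkPullIsoSh f y).hom.app F
      = (germSh F v ≫ (sheafFiberIsoOfIso (A := Type (u + 1)) (comapIso f y)).inv.app F) ≫
          ((Scheme.pointSmallEtale y).sheafFiberComapIso (bc f) (coverPreserving_bc f)
            (Type (u + 1))).hom.app F := by
        simp only [stalkPullIsoSh, Iso.trans_hom, Iso.symm_hom, NatTrans.comp_app, Category.assoc]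
    _ = _ := by rw [h1]; exact h2

/-- elementwise germ formula for the stalk of a pullback, sheaves of sets. -/
theorem stalkPullIsoSh_germ_apply (F : EtDesc.Sh X) {V : X.Etale} (v : Fib (y ≫ f) V)
    (σ : F.obj.obj (op V)) :
    (stalkPullIsoSh f y).hom.app F (germSh F v σ) =
      germSh ((EtDesc.pullSh f).obj F) (fibPull f y v)
        (((EtDesc.adjSh f).unit.app F).hom.app (op V) σ) := by
  have key2 := ConcreteCategory.congr_hom (germSh_stalkPullIsoSh f y F v) σ
  rw [ConcreteCategory.comp_apply, ConcreteCategory.comp_apply] at key2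
  exact key2

end pull

end Groth.Agent.H7.ShStalks
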