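import Mathlib

/-!
# Stein factorization, universally closed case (helper for S1340)
-/

namespace Groth.Agent.H7

open AlgebraicGeometry CategoryTheory Limits TopologicalSpace Opposite

universe u

/-- pure algebra: a map between localizations away from `r` and `φ r` compatible with a
bijective `φ` is bijective. -/
lemma bijective_of_isLocalization_away {A B A' B' : Type*} [CommRing A] [CommRing B]
    [CommRing A'] [CommRing B'] [Algebra A A'] [Algebra B B'] (r : A) [IsLocalization.Away r A']
    (φ : A →+* B) (hφ : Function.Bijective φ) [IsLocalization.Away (φ r) B'] (ψ : A' →+* B')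
    (h : ψ.comp (algebraMap A A') = (algebraMap B B').comp φ) : Function.Bijective ψ := by
  let e : A ≃+* B := RingEquiv.ofBijective φ hφ
  have H : (Submonoid.powers r).map e.toMonoidHom = Submonoid.powers (φ r) := by
    rw [Submonoid.map_powers]; rfl
  let E : A' ≃+* B' := IsLocalization.ringEquivOfRingEquiv A' B' e H
  have : ψ = E.toRingHom := by
    apply IsLocalization.ringHom_ext (Submonoid.powers r)
    rw [h]
    ext x
    simp [E, e]
  rw [this]
  exact E.bijective

/-- Sections of a universally closed morphism over an affine open are integral. -/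
theorem isIntegral_app_of_universallyClosed {X S : Scheme.{u}} (f : X ⟶ S) [UniversallyClosed f]
    {V : S.Opens} (hV : IsAffineOpen V) : (f.app V).hom.IsIntegral := by
  have : IsAffine V := hV
  have h := isIntegral_appTop_of_universallyClosed (f ∣_ V)
  rw [Scheme.Hom.appTop, morphismRestrict_app'] at h
  rw [← Scheme.Hom.appLE_eq_app]
  exact (Scheme.Hom.appLE_congr f _ (by simp) (by simp)
    (fun φ ↦ φ.hom.IsIntegral)).mp h

/-- (a) over preimages of affine opens. -/
theorem isIso_toNormalization_app_preimage {X S : Scheme.{u}} (f : X ⟶ S) [UniversallyClosed f]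
    [QuasiSeparated f] (V : S.affineOpens) :
    IsIso (f.toNormalization.app (f.fromNormalization ⁻¹ᵁ V.1)) := by
  have hint := isIntegral_app_of_universallyClosed f V.2
  rw [f.toNormalization_app_preimage V]
  let := (f.app V.1).hom.toAlgebra
  have htop : integralClosure Γ(S, V.1) Γ(X, f ⁻¹ᵁ V.1) = ⊤ := by
    rw [integralClosure_eq_top_iff, ← algebraMap_isIntegral_iff, RingHom.algebraMap_toAlgebra]
    exact hint
  refine @IsIso.comp_isIso _ _ _ _ _ _ _ inferInstance
    (@IsIso.comp_isIso _ _ _ _ _ _ _ ?_ inferInstance)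
  rw [ConcreteCategory.isIso_iff_bijective]
  refine ⟨Subtype.val_injective, fun x ↦ ⟨⟨x, ?_⟩, rfl⟩⟩
  rw [htop]; trivial

/-- (b) if `t.app W` is an isomorphism for an affine open `W` with qcqs preimage, then so is
`t.app` on any basic open of `W`. -/
theorem isIso_app_basicOpen_of_isIso_app {X Y : Scheme.{u}} (t : X ⟶ Y) {W : Y.Opens}
    (hW : IsAffineOpen W) (hc : IsCompact (t ⁻¹ᵁ W : Set X))
    (hqs : IsQuasiSeparated (t ⁻¹ᵁ W : Set X)) [IsIso (t.app W)] (r : Γ(Y, W)) :
    IsIso (t.app (Y.basicOpen r)) := by
  have hpre : t ⁻¹ᵁ Y.basicOpen r = X.basicOpen (t.app W r) := Scheme.preimage_basicOpen t r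
  have := hW.isLocalization_basicOpen r
  have := isLocalization_basicOpen_of_qcqs hc hqs (t.app W r)
  have hbij : Function.Bijective
      (t.appLE (Y.basicOpen r) (X.basicOpen (t.app W r)) hpre.ge).hom := by
    refine bijective_of_isLocalization_away (A' := Γ(Y, Y.basicOpen r))
      (B' := Γ(X, X.basicOpen (t.app W r))) r (t.app W).hom
      (ConcreteCategory.bijective_of_isIso (t.app W)) _ ?_
    rw [RingHom.algebraMap_toAlgebra, RingHom.algebraMap_toAlgebra, ← CommRingCat.hom_comp,
      ← CommRingCat.hom_comp, Scheme.Hom.map_appLE]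
    rfl
  have hiso : IsIso (t.appLE (Y.basicOpen r) (X.basicOpen (t.app W r)) hpre.ge) :=
    (ConcreteCategory.isIso_iff_bijective _).mpr hbij
  rw [Scheme.Hom.appLE] at hiso
  have : IsIso (X.presheaf.map (homOfLE hpre.ge).op) := by
    have : homOfLE hpre.ge = eqToHom hpre.symm := rfl
    rw [this]; infer_instance
  exact IsIso.of_isIso_comp_right _ (X.presheaf.map (homOfLE hpre.ge).op)

/-- Stein factorization, universally closed case: `𝒪_{X'} → t_* 𝒪_X` is an isomorphism. -/
theorem isIso_toNormalization_app {X S : Scheme.{u}} (f : X ⟶ S) [UniversallyClosed f]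
    [QuasiSeparated f] (U : f.normalization.Opens) : IsIso (f.toNormalization.app U) := by
  let F : TopCat.Sheaf CommRingCat f.normalization.toTopCat := f.normalization.sheaf
  let G : TopCat.Sheaf CommRingCat f.normalization.toTopCat :=
    (TopCat.Sheaf.pushforward CommRingCat f.toNormalization.base).obj X.sheaf
  let φ : F ⟶ G := ObjectProperty.homMk f.toNormalization.c
  let ι := Σ V : S.affineOpens, Γ(f.normalization, f.fromNormalization ⁻¹ᵁ V.1)
  let B : ι → Opens f.normalization := fun i ↦ f.normalization.basicOpen i.2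
  have hB : Opens.IsBasis (Set.range B) := by
    rw [Opens.isBasis_iff_nbhd]
    intro U x hx
    obtain ⟨_, ⟨V, hV, rfl⟩, hxV, -⟩ := S.isBasis_affineOpens.exists_subset_of_mem_open
      (Set.mem_univ (f.fromNormalization x)) isOpen_univ
    have hW : IsAffineOpen (f.fromNormalization ⁻¹ᵁ V) := hV.preimage _
    obtain ⟨r, hr1, hr2⟩ := hW.exists_basicOpen_le (V := U) ⟨x, hx⟩ hxV
    exact ⟨_, ⟨⟨⟨V, hV⟩, r⟩, rfl⟩, hr2, hr1⟩
  have hφ : IsIso φ := by
    refine TopCat.Sheaf.isIso_iff_isIso_basis (B := B) hB (fun i ↦ ?_)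
    obtain ⟨V, r⟩ := i
    have := isIso_toNormalization_app_preimage f V
    have hpre : f.toNormalization ⁻¹ᵁ f.fromNormalization ⁻¹ᵁ V.1 = f ⁻¹ᵁ V.1 := by
      rw [← Scheme.Hom.comp_preimage, f.toNormalization_fromNormalization]
    exact isIso_app_basicOpen_of_isIso_app f.toNormalization (V.2.preimage _)
      (by rw [hpre]; exact f.isCompact_preimage V.2.isCompact)
      (by rw [hpre]; exact f.isQuasiSeparated_preimage V.2.isQuasiSeparated) r
  have : IsIso φ.hom := (TopCat.Sheaf.forget CommRingCat f.normalization.toTopCat).map_isIso φ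
  exact NatIso.isIso_app_of_isIso φ.hom (op U)

end Groth.Agent.H7
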