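import Mathlib.RingTheory.LocalRing.Module
import Mathlib.RingTheory.LocalRing.ResidueField.Ideal
import Mathlib.RingTheory.Flat.FaithfullyFlat.Basic
import Mathlib.RingTheory.Spectrum.Prime.Module
import Mathlib.RingTheory.Support

set_option autoImplicit false

namespace Groth.Agent.H7

open TensorProduct

lemma nontrivial_field_tensor_iff {B K : Type*} [CommRing B] [Field K] [Algebra B K]
    (N : Type*) [AddCommGroup N] [Module B N] [Module.Finite B N] :
    Nontrivial (K ⊗[B] N) ↔
      (⟨RingHom.ker (algebraMap B K), RingHom.ker_isPrime _⟩ : PrimeSpectrum B) ∈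
        Module.support B N := by
  set y : Ideal B := RingHom.ker (algebraMap B K) with hy
  have : y.IsPrime := RingHom.ker_isPrime _
  have hunit : y.primeCompl ≤ (IsUnit.submonoid K).comap (algebraMap B K) := by
    intro b hb
    simp only [Submonoid.mem_comap, IsUnit.mem_submonoid_iff, isUnit_iff_ne_zero]
    exact fun h => hb (by simpa [hy] using h)
  let _ : Algebra y.ResidueField K :=
    (Ideal.ResidueField.lift y (algebraMap B K) le_rfl hunit).toAlgebra
  have : IsScalarTower B y.ResidueField K := IsScalarTower.of_algebraMap_eq fun r =>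
    (Ideal.ResidueField.lift_algebraMap y (algebraMap B K) le_rfl hunit r).symm
  let e := AlgebraTensorModule.cancelBaseChange B y.ResidueField K K N
  rw [Module.mem_support_iff_nontrivial_residueField_tensorProduct, ← e.nontrivial_congr,
    Module.FaithfullyFlat.nontrivial_tensorProduct_iff_right]

lemma mem_support_baseChange_iff {B F : Type*} [CommRing B] [CommRing F] [Algebra B F]
    (N : Type*) [AddCommGroup N] [Module B N] [Module.Finite B N] (x : PrimeSpectrum F) :
    x ∈ Module.support F (F ⊗[B] N) ↔ x.comap (algebraMap B F) ∈ Module.support B N := by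
  rw [Module.mem_support_iff_nontrivial_residueField_tensorProduct]
  let e := AlgebraTensorModule.cancelBaseChange B F x.asIdeal.ResidueField x.asIdeal.ResidueField N
  rw [e.nontrivial_congr, nontrivial_field_tensor_iff]
  suffices h : (⟨RingHom.ker (algebraMap B x.asIdeal.ResidueField), RingHom.ker_isPrime _⟩ :
      PrimeSpectrum B) = x.comap (algebraMap B F) by rw [h]
  ext b
  simp only [RingHom.mem_ker, PrimeSpectrum.comap_asIdeal, Ideal.mem_comap]
  rw [IsScalarTower.algebraMap_apply B F x.asIdeal.ResidueField, Ideal.algebraMap_residueField_eq_zero]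

end Groth.Agent.H7
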