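import Mathlib
import Groth.Prelude.Def_MoreMor
import Groth.Agent.H7.Thickening
import Groth.Agent.S1304
import Groth.Agent.S1312

set_option autoImplicit false
universe u

namespace Groth.Agent.H7

open AlgebraicGeometry CategoryTheory Limits TopologicalSpace

/-- A morphism is separated as soon as its restriction to a thickened subscheme is. -/
theorem isSeparated_of_isSeparated_comp {X X' Y' : Scheme.{u}} (i : X ⟶ X') [IsClosedImmersion i]
    [Surjective i] (g : X' ⟶ Y') [IsSeparated (i ≫ g)] : IsSeparated g := by
  have hm : IsClosedImmersion (pullback.map (i ≫ g) (i ≫ g) g g i i (𝟙 _)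
      ((Category.comp_id _).trans rfl) ((Category.comp_id _).trans rfl)) :=
    MorphismProperty.pullbackMap (P := @IsClosedImmersion) ‹IsClosedImmersion i›
      ‹IsClosedImmersion i› rfl rfl
  have hnat : i ≫ pullback.diagonal g = pullback.diagonal (i ≫ g) ≫
      pullback.map (i ≫ g) (i ≫ g) g g i i (𝟙 _)
        ((Category.comp_id _).trans rfl) ((Category.comp_id _).trans rfl) := by
    apply pullback.hom_ext
    · rw [Category.assoc, Category.assoc, pullback.diagonal_fst, Category.comp_id,
        pullback.lift_fst, pullback.diagonal_fst_assoc]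
    · rw [Category.assoc, Category.assoc, pullback.diagonal_snd, Category.comp_id,
        pullback.lift_snd, pullback.diagonal_snd_assoc]
  have hcl : IsClosed (Set.range (pullback.diagonal g)) := by
    have h1 : Set.range (pullback.diagonal g) = Set.range (i ≫ pullback.diagonal g) := by
      ext z
      constructor
      · rintro ⟨x', rfl⟩
        obtain ⟨x, rfl⟩ := i.surjective x'
        exact ⟨x, by rw [Scheme.Hom.comp_apply]⟩
      · rintro ⟨x, rfl⟩
        exact ⟨i x, by rw [Scheme.Hom.comp_apply]⟩
    rw [h1, hnat]
    exact (pullback.diagonal (i ≫ g) ≫ _).isClosedEmbedding.isClosed_range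
  have := IsClosedImmersion.of_isPreimmersion (pullback.diagonal g) hcl
  exact ⟨this⟩

/-- Finiteness lifts along thickenings, for morphisms locally of finite type. -/
theorem isFinite_of_thickening {X X' Y Y' : Scheme.{u}} (iX : X ⟶ X') (iY : Y ⟶ Y') (f : X ⟶ Y)
    (f' : X' ⟶ Y') (hY : MoreMor.IsThickening iY) (hc : IsPullback iX f f' iY)
    [LocallyOfFiniteType f'] [IsFinite f] : IsFinite f' := by
  have hX := isThickening_of_isPullback hc hY
  have := hX.1
  have := hX.2
  have := hY.1
  have : IsSeparated (iX ≫ f') := by rw [hc.w]; infer_instance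
  have : IsSeparated f' := isSeparated_of_isSeparated_comp iX f'
  have : UniversallyClosed f' :=
    (Groth.Agent.S1304.result iX iY f f' hX hY hc.w).mp inferInstance
  have : LocallyQuasiFinite f' :=
    (Groth.Agent.S1312.result iX iY f f' hY hc).mp inferInstance
  have : IsProper f' := {}
  exact IsFinite.of_isProper_of_locallyQuasiFinite f'

end Groth.Agent.H7
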