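import Mathlib
import Groth.Prelude.Def_MoreMor
import Groth.Agent.H7.Thickening
import Groth.Agent.H7.NilpotentLift
import Groth.Agent.H7.ThickeningAffine

/-!
# Base change of finite order thickenings, and monomorphisms
-/

set_option autoImplicit false
universe u

namespace Groth.Agent.H7

open AlgebraicGeometry CategoryTheory Limits TopologicalSpace

/-- The base change of a finite order thickening is a finite order thickening. -/
theorem isFiniteOrderThickening_of_isPullback {X X' S S' : Scheme.{u}} {iX : X ⟶ X'}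
    {iS : S ⟶ S'} {f : X ⟶ S} {f' : X' ⟶ S'} (hc : IsPullback iX f f' iS)
    (hS : MoreMor.IsFiniteOrderThickening iS) : MoreMor.IsFiniteOrderThickening iX := by
  have hX := isThickening_of_isPullback hc hS.1
  refine ⟨hX, ?_⟩
  obtain ⟨n, hn⟩ := finiteOrderThickening_ker_pow hS
  refine ⟨n, ?_⟩
  have := hX.1
  let ι := {U' : X'.affineOpens // ∃ W' : S'.Opens, IsAffineOpen W' ∧ U'.1 ≤ f' ⁻¹ᵁ W'}
  refine Scheme.IdealSheafData.ext_of_iSup_eq_top (ι := ι) (fun i ↦ i.1) ?_ ?_
  · rw [eq_top_iff]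
    intro x _
    obtain ⟨V', hxV, hV', W', hW', e⟩ := exists_affine_nhds_over_affine f' x
    exact Opens.mem_iSup.mpr ⟨⟨⟨V', hV'⟩, W', hW', e⟩, hxV⟩
  · rintro ⟨U', W', hW', e⟩
    rw [Scheme.IdealSheafData.ideal_pow, Pi.pow_apply, Scheme.Hom.ker_apply]
    obtain ⟨-, -, e', hpo, hsurj, -⟩ := thickening_affine_data hS.1 hc hW' U'.2 e
    obtain ⟨-, hker⟩ := surjective_and_ker_of_isPushout hpo hsurj
    rw [hker, ← Ideal.map_pow, hn W' hW', Ideal.map_bot]
    rfl

/-- Monomorphisms lift along finite order thickenings. -/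
theorem mono_of_finiteOrderThickening {X X' S S' : Scheme.{u}} (iX : X ⟶ X') (iS : S ⟶ S')
    (f : X ⟶ S) (f' : X' ⟶ S') (hS : MoreMor.IsFiniteOrderThickening iS)
    (hc : IsPullback iX f f' iS) [Mono f] [FormallyUnramified f'] : Mono f' := by
  refine ⟨fun {T} a b h ↦ ?_⟩
  have hp := IsPullback.of_hasPullback (a ≫ f') iS
  have hT := isFiniteOrderThickening_of_isPullback hp hS
  have := hT.1.1
  have h1 : pullback.fst (a ≫ f') iS ≫ a = pullback.fst (a ≫ f') iS ≫ b := by
    have ea : (pullback.fst (a ≫ f') iS ≫ a) ≫ f' = pullback.snd (a ≫ f') iS ≫ iS := by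
      rw [Category.assoc, pullback.condition]
    have eb : (pullback.fst (a ≫ f') iS ≫ b) ≫ f' = pullback.snd (a ≫ f') iS ≫ iS := by
      rw [Category.assoc, ← h, pullback.condition]
    have h2 : hc.lift _ _ ea = hc.lift _ _ eb := by
      rw [← cancel_mono f, hc.lift_snd, hc.lift_snd]
    rw [← hc.lift_fst _ _ ea, ← hc.lift_fst _ _ eb, h2]
  exact FormallyUnramified.hom_ext (pullback.fst (a ≫ f') iS) hT.2 f' h1 h

end Groth.Agent.H7
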