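import Mathlib
import Groth.Agent.H7.WeightingFubini

set_option autoImplicit false
universe u

namespace Groth.Agent.H7

open AlgebraicGeometry CategoryTheory Limits MorphismProperty

/-- Core of the composition theorem for weightings: the Fubini computation over a finite piece. -/
theorem exists_nhds_fibreIntegral_comp_const {X Y Z : Scheme.{u}} (f : X ⟶ Y) (g : Y ⟶ Z)
    (wf : X → ℤ) (wg : Y → ℤ) (hf : MoreMor.IsWeighting f wf) (hg : MoreMor.IsWeighting g wg)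
    {V Y' X' : Scheme.{u}} (c : V ⟶ Z) [Etale c] (q : Y' ⟶ Y) (b : Y' ⟶ V)
    (sqY : IsPullback q b g c) (p : X' ⟶ X) (a : X' ⟶ Y') (sqX : IsPullback p a f q)
    (W : Y'.Opens) (hW : IsFinite (W.ι ≫ b))
    (U : X'.Opens) (hU : IsFinite (U.ι ≫ a ≫ b)) (hUW : U ≤ a ⁻¹ᵁ W)
    (v : V) (y₁ : Y') (hy₁ : y₁ ∈ W) (huniq : ∀ y ∈ W, b y = v → y = y₁) :
    ∃ N : Set V, IsOpen N ∧ v ∈ N ∧ ∀ v' ∈ N,
      MoreMor.fibreIntegral (U.ι ≫ a ≫ b) (fun u ↦ wf (p (U.ι u)) * wg (f (p (U.ι u)))) v' =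
      MoreMor.fibreIntegral (U.ι ≫ a ≫ b) (fun u ↦ wf (p (U.ι u)) * wg (f (p (U.ι u)))) v := by
  have hq : Etale q := MorphismProperty.of_isPullback sqY.flip inferInstance
  -- the induced morphism `U ⟶ W`
  have hrange : Set.range (U.ι ≫ a) ⊆ Set.range W.ι := by
    rintro _ ⟨u, rfl⟩
    rw [Scheme.Opens.range_ι]
    exact hUW u.2
  let aU : (U : Scheme.{u}) ⟶ (W : Scheme.{u}) := IsOpenImmersion.lift W.ι (U.ι ≫ a) hrange
  have haU : aU ≫ W.ι = U.ι ≫ a := IsOpenImmersion.lift_fac _ _ _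
  have hmor : U.ι ≫ a ≫ b = aU ≫ W.ι ≫ b := by rw [← Category.assoc, ← haU, Category.assoc]
  have hfinU : IsFinite (aU ≫ W.ι ≫ b) := hmor ▸ hU
  have hsep : IsSeparated (W.ι ≫ b) := inferInstance
  have haUfin : IsFinite aU := IsFinite.of_comp aU (W.ι ≫ b)
  -- `U` is an open of the pullback of `f` along `W ⟶ Y`
  have hcond : (U.ι ≫ p) ≫ f = aU ≫ W.ι ≫ q := by
    rw [Category.assoc, sqX.w, ← Category.assoc, ← haU, Category.assoc]
  let ℓ : (U : Scheme.{u}) ⟶ pullback f (W.ι ≫ q) := pullback.lift (U.ι ≫ p) aU hcond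
  have hℓ1 : ℓ ≫ pullback.fst f (W.ι ≫ q) = U.ι ≫ p := pullback.lift_fst _ _ _
  have hℓ2 : ℓ ≫ pullback.snd f (W.ι ≫ q) = aU := pullback.lift_snd _ _ _
  obtain ⟨jW, hjW1, hjW2⟩ : ∃ jW : pullback f (W.ι ≫ q) ⟶ X',
      jW ≫ p = pullback.fst f (W.ι ≫ q) ∧ jW ≫ a = pullback.snd f (W.ι ≫ q) ≫ W.ι :=
    ⟨sqX.lift (pullback.fst f (W.ι ≫ q)) (pullback.snd f (W.ι ≫ q) ≫ W.ι)
      (by rw [pullback.condition, Category.assoc]), sqX.lift_fst _ _ _, sqX.lift_snd _ _ _⟩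
  have hsqW : IsPullback jW (pullback.snd f (W.ι ≫ q)) a W.ι := by
    apply IsPullback.of_right (h₁₂ := p) (v₁₃ := f) (h₂₂ := q)
    · rw [hjW1]
      exact IsPullback.of_hasPullback f (W.ι ≫ q)
    · exact hjW2
    · exact sqX
  have hjWo : IsOpenImmersion jW := MorphismProperty.of_isPullback hsqW.flip inferInstance
  have hℓj : ℓ ≫ jW = U.ι := by
    apply sqX.hom_ext
    · rw [Category.assoc, hjW1, hℓ1]
    · rw [Category.assoc, hjW2, ← Category.assoc, hℓ2, haU]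
  have hℓo : IsOpenImmersion ℓ := by
    have : IsOpenImmersion (ℓ ≫ jW) := hℓj ▸ inferInstance
    exact IsOpenImmersion.of_comp ℓ jW
  -- the inner integral
  let IT : ↥(W : Scheme.{u}) → ℤ := MoreMor.fibreIntegral aU (fun u ↦ wf (p (U.ι u)))
  have hIT : IsLocallyConstant IT := by
    have h1 := isLocallyConstant_fibreIntegral_of_isPullback f wf hf
      (pullback.fst f (W.ι ≫ q)) (pullback.snd f (W.ι ≫ q)) (W.ι ≫ q)
      (IsPullback.of_hasPullback f (W.ι ≫ q)) ℓ (by rw [hℓ2]; exact haUfin)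
    have h2 : MoreMor.fibreIntegral (ℓ ≫ pullback.snd f (W.ι ≫ q))
        (fun t ↦ wf (pullback.fst f (W.ι ≫ q) (ℓ t))) = IT := by
      simp only [IT]
      rw [hℓ2]
      congr 1
      funext t
      have := congr($hℓ1 t)
      simp only [Scheme.Hom.comp_apply] at this
      rw [this]
    rw [← h2]
    exact h1
  -- Fubini
  have hfub : ∀ v', MoreMor.fibreIntegral (U.ι ≫ a ≫ b)
      (fun u ↦ wf (p (U.ι u)) * wg (f (p (U.ι u)))) v' =
      MoreMor.fibreIntegral (W.ι ≫ b) (fun y ↦ wg (q (W.ι y)) * IT y) v' := by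
    intro v'
    rw [hmor]
    have h1 : (fun u : ↥(U : Scheme.{u}) ↦ wf (p (U.ι u)) * wg (f (p (U.ι u)))) =
        fun u ↦ wf (p (U.ι u)) * wg (q (W.ι (aU u))) := by
      funext u
      have := congr($hcond u)
      simp only [Scheme.Hom.comp_apply] at this
      rw [this]
    rw [h1]
    exact fibreIntegral_comp aU (W.ι ≫ b) (fun u ↦ wf (p (U.ι u))) (fun y ↦ wg (q (W.ι y))) v'
      ((W.ι ≫ b).finite_preimage_singleton v') (fun y _ ↦ aU.finite_preimage_singleton y)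
      (fun u _ ↦ (finite_residueFieldMap_of_quasiFiniteAt aU u (aU.quasiFiniteAt u)).to_isIntegral)
  -- shrink so that `IT` is constant
  let y₁' : ↥(W : Scheme.{u}) := ⟨y₁, hy₁⟩
  let O : Set ↥(W : Scheme.{u}) := {y | IT y = IT y₁'}
  have hO : IsOpen O := hIT.isOpen_fiber _
  have hcl : IsClosed ((W.ι ≫ b) '' Oᶜ) := (W.ι ≫ b).isClosedMap _ hO.isClosed_compl
  have hvN₁ : v ∉ (W.ι ≫ b) '' Oᶜ := by
    rintro ⟨y, hy, hyv⟩
    apply hy
    have : W.ι y = y₁ := huniq _ y.2 (by simpa only [Scheme.Hom.comp_apply] using hyv)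
    have : y = y₁' := Subtype.ext this
    rw [this]
    rfl
  -- the outer integral
  let J : V → ℤ := MoreMor.fibreIntegral (W.ι ≫ b) (fun y ↦ wg (q (W.ι y)))
  have hJ : IsLocallyConstant J :=
    isLocallyConstant_fibreIntegral_of_isPullback g wg hg q b c sqY W.ι hW
  have key : ∀ v' ∈ ((W.ι ≫ b) '' Oᶜ)ᶜ, MoreMor.fibreIntegral (U.ι ≫ a ≫ b)
      (fun u ↦ wf (p (U.ι u)) * wg (f (p (U.ι u)))) v' = IT y₁' * J v' := by
    intro v' hv'
    rw [hfub]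
    apply fibreIntegral_mul_eq_of_forall
    intro y hy
    by_contra hne
    exact hv' ⟨y, hne, hy⟩
  refine ⟨((W.ι ≫ b) '' Oᶜ)ᶜ ∩ {v' | J v' = J v}, hcl.isOpen_compl.inter (hJ.isOpen_fiber _),
    ⟨hvN₁, rfl⟩, ?_⟩
  rintro v' ⟨hv'1, hv'2⟩
  rw [key v' hv'1, key v hvN₁, hv'2]

end Groth.Agent.H7
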