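import Mathlib
import Groth.Agent.H7.WeightingCompCore

set_option autoImplicit false
universe u

namespace Groth.Agent.H7

open AlgebraicGeometry CategoryTheory Limits MorphismProperty

/-- One level of a tower of base changes. -/
theorem exists_lift_tower {P Y' V V' : Scheme.{u}} (a : P ⟶ Y') (b : Y' ⟶ V) (s : P ⟶ V)
    (hs : a ≫ b = s) (c : V' ⟶ V) :
    ∃ a' : pullback s c ⟶ pullback b c,
      a' ≫ pullback.fst b c = pullback.fst s c ≫ a ∧ a' ≫ pullback.snd b c = pullback.snd s c ∧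
      IsPullback (pullback.fst s c) a' a (pullback.fst b c) := by
  subst hs
  refine ⟨pullback.lift (pullback.fst (a ≫ b) c ≫ a) (pullback.snd (a ≫ b) c)
    (by rw [Category.assoc, pullback.condition]), pullback.lift_fst _ _ _, pullback.lift_snd _ _ _,
    ?_⟩
  apply IsPullback.flip
  apply IsPullback.of_right (h₁₂ := pullback.snd b c) (v₁₃ := c) (h₂₂ := b)
  · rw [pullback.lift_snd]
    exact (IsPullback.of_hasPullback (a ≫ b) c).flip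
  · exact pullback.lift_fst _ _ _
  · exact (IsPullback.of_hasPullback b c).flip

theorem isWeighting_comp {X Y Z : Scheme.{u}} (f : X ⟶ Y) (g : Y ⟶ Z)
    [LocallyQuasiFinite g] [LocallyOfFiniteType g]
    (wf : X → ℤ) (wg : Y → ℤ) (hf : MoreMor.IsWeighting f wf) (hg : MoreMor.IsWeighting g wg) :
    MoreMor.IsWeighting (f ≫ g) (fun x ↦ wf x * wg (f x)) := by
  apply isWeighting_of_local_criterion
  intro V g' _ U hU v u₀ hu₀ hu₀v huniq hpi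
  let p₀ := pullback.fst (f ≫ g) g'
  let s₀ := pullback.snd (f ≫ g) g'
  let q₀ := pullback.fst g g'
  let b₀ := pullback.snd g g'
  have hcond₀ : (p₀ ≫ f) ≫ g = s₀ ≫ g' := by
    rw [Category.assoc]
    exact pullback.condition
  obtain ⟨a₀, ha₀q, ha₀b⟩ : ∃ a₀ : pullback (f ≫ g) g' ⟶ pullback g g',
      a₀ ≫ q₀ = p₀ ≫ f ∧ a₀ ≫ b₀ = s₀ :=
    ⟨pullback.lift (p₀ ≫ f) s₀ hcond₀, pullback.lift_fst _ _ _, pullback.lift_snd _ _ _⟩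
  have sqX₀ : IsPullback p₀ a₀ f q₀ := by
    apply IsPullback.flip
    apply IsPullback.of_right (h₁₂ := b₀) (v₁₃ := g') (h₂₂ := g)
    · rw [ha₀b]
      exact (IsPullback.of_hasPullback (f ≫ g) g').flip
    · exact ha₀q
    · exact (IsPullback.of_hasPullback g g').flip
  -- level 1
  have hb₀v : b₀ (a₀ u₀) = v := by
    rw [← Scheme.Hom.comp_apply, ha₀b]
    exact hu₀v
  obtain ⟨V₁, c₁, v₁, hc₁et, hc₁v, J, hJ, Wj, yj, hWj, -, hcov⟩ :=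
    Groth.Agent.S1482.result b₀ v (fun _ : Unit ↦ a₀ u₀) (fun _ _ _ ↦ rfl) (fun _ ↦ hb₀v)
      (fun _ ↦ b₀.quasiFiniteAt _)
  let b₁ := pullback.snd b₀ c₁
  let s₁ := pullback.snd s₀ c₁
  let m₁ := pullback.fst s₀ c₁
  obtain ⟨a₁, ha₁f, ha₁b, sqL₁⟩ := exists_lift_tower a₀ b₀ s₀ ha₀b c₁
  have sq₁ : IsPullback m₁ s₁ s₀ c₁ := IsPullback.of_hasPullback s₀ c₁
  let U₁ := m₁ ⁻¹ᵁ U
  have hU₁ : IsFinite (U₁.ι ≫ s₁) := isFinite_preimage_piece' sq₁ U hU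
  obtain ⟨u₁, hu₁, hu₁v⟩ := Scheme.Pullback.exists_preimage_pullback (f := s₀) (g := c₁) u₀ v₁
    (by rw [hu₀v, hc₁v])
  subst hu₁
  have hu₁U : u₁ ∈ U₁ := hu₀
  have huniq₁ : ∀ p ∈ U₁, s₁ p = v₁ → p = u₁ := by
    intro p hp hpv
    have h1 : m₁ p = m₁ u₁ := by
      apply huniq _ hp
      have := congr($(sq₁.w) p)
      simp only [Scheme.Hom.comp_apply] at this
      rw [this, hpv, hc₁v]
    exact eq_of_isPullback_of_isPurelyInseparable sq₁ p u₁ h1 (hpv.trans hu₁v.symm) hpi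
  have hy₁f : pullback.fst b₀ c₁ (a₁ u₁) = a₀ (m₁ u₁) := by
    have := congr($ha₁f u₁)
    simpa only [Scheme.Hom.comp_apply] using this
  have hy₁b : b₁ (a₁ u₁) = v₁ := by
    have := congr($ha₁b u₁)
    simp only [Scheme.Hom.comp_apply] at this
    rw [this]
    exact hu₁v
  obtain ⟨j, hj⟩ := hcov (a₁ u₁) () hy₁b hy₁f
  obtain ⟨hmem, hW₁, hsnd, huniqW, -, -⟩ := hWj () j
  let W₁ := Wj () j
  have hy₁W : a₁ u₁ ∈ W₁ := hj ▸ hmem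
  have huniqW' : ∀ y ∈ W₁, b₁ y = v₁ → y = a₁ u₁ := fun y hy hyv ↦ by
    rw [hj]
    exact huniqW y hy hyv
  -- shrink
  let σ₁ := U₁.ι ≫ s₁
  let Cl : Set ↥(U₁ : Scheme.{u}) := {t | a₁ (U₁.ι t) ∉ W₁}
  have hCl : IsClosed Cl :=
    ((W₁.2.preimage a₁.continuous).preimage U₁.ι.continuous).isClosed_compl
  have hσCl : IsClosed (σ₁ '' Cl) := σ₁.isClosedMap _ hCl
  have hv₁N : v₁ ∉ σ₁ '' Cl := by
    rintro ⟨t, ht, htv⟩
    apply ht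
    have : U₁.ι t = u₁ := huniq₁ _ t.2 (by simpa only [σ₁, Scheme.Hom.comp_apply] using htv)
    rw [this]
    exact hy₁W
  let No : V₁.Opens := ⟨(σ₁ '' Cl)ᶜ, hσCl.isOpen_compl⟩
  -- level 2
  let c₂ := No.ι
  let v₂ : ↥(No : Scheme.{u}) := ⟨v₁, hv₁N⟩
  have hc₂v : c₂ v₂ = v₁ := rfl
  let r := pullback.fst b₁ c₂
  let b₂ := pullback.snd b₁ c₂
  let m₂ := pullback.fst s₁ c₂
  let s₂ := pullback.snd s₁ c₂
  obtain ⟨a₂, ha₂f, ha₂b, sqL₂⟩ := exists_lift_tower a₁ b₁ s₁ ha₁b c₂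
  have sq₂ : IsPullback m₂ s₂ s₁ c₂ := IsPullback.of_hasPullback s₁ c₂
  have sqr : IsPullback r b₂ b₁ c₂ := IsPullback.of_hasPullback b₁ c₂
  let U₂ := m₂ ⁻¹ᵁ U₁
  have hU₂ : IsFinite (U₂.ι ≫ s₂) := isFinite_preimage_piece' sq₂ U₁ hU₁
  let W₂ := r ⁻¹ᵁ W₁
  have hW₂ : IsFinite (W₂.ι ≫ b₂) := isFinite_preimage_piece' sqr W₁ hW₁
  have hUW : U₂ ≤ a₂ ⁻¹ᵁ W₂ := by
    intro x hx
    change r (a₂ x) ∈ W₁
    have h1 : r (a₂ x) = a₁ (m₂ x) := by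
      have := congr($ha₂f x)
      simpa only [Scheme.Hom.comp_apply] using this
    rw [h1]
    by_contra hne
    have hx' : m₂ x ∈ U₁ := hx
    have h2 : σ₁ ⟨m₂ x, hx'⟩ ∈ σ₁ '' Cl := ⟨⟨m₂ x, hx'⟩, hne, rfl⟩
    have h3 : σ₁ ⟨m₂ x, hx'⟩ = c₂ (s₂ x) := by
      have := congr($(sq₂.w) x)
      simp only [Scheme.Hom.comp_apply] at this
      exact this
    rw [h3] at h2
    exact (s₂ x).2 h2
  obtain ⟨y₂, hy₂r, hy₂b⟩ := Scheme.Pullback.exists_preimage_pullback (f := b₁) (g := c₂)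
    (a₁ u₁) v₂ (by rw [hy₁b, hc₂v])
  have hy₂W : y₂ ∈ W₂ := by
    change r y₂ ∈ W₁
    rw [hy₂r]
    exact hy₁W
  have huniq₂ : ∀ y ∈ W₂, b₂ y = v₂ → y = y₂ := by
    intro y hy hyv
    have h1 : r y = a₁ u₁ := by
      apply huniqW' _ hy
      have := congr($(sqr.w) y)
      simp only [Scheme.Hom.comp_apply] at this
      rw [this, hyv, hc₂v]
    exact r.injective (h1.trans hy₂r.symm)
  have sqY : IsPullback (r ≫ pullback.fst b₀ c₁ ≫ q₀) b₂ g (c₂ ≫ c₁ ≫ g') :=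
    sqr.paste_horiz ((IsPullback.of_hasPullback b₀ c₁).paste_horiz
      (IsPullback.of_hasPullback g g'))
  have sqX : IsPullback (m₂ ≫ m₁ ≫ p₀) a₂ f (r ≫ pullback.fst b₀ c₁ ≫ q₀) :=
    sqL₂.paste_horiz (sqL₁.paste_horiz sqX₀)
  have hU₂' : IsFinite (U₂.ι ≫ a₂ ≫ b₂) := by
    rw [ha₂b]
    exact hU₂
  obtain ⟨N₂, hN₂o, hv₂N₂, hN₂⟩ := exists_nhds_fibreIntegral_comp_const f g wf wg hf hg
    (c₂ ≫ c₁ ≫ g') (r ≫ pullback.fst b₀ c₁ ≫ q₀) b₂ sqY (m₂ ≫ m₁ ≫ p₀) a₂ sqX W₂ hW₂ U₂ hU₂' hUW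
    v₂ y₂ hy₂W huniq₂
  -- transport back
  let Wt : ↥(pullback (f ≫ g) g') → ℤ := fun p ↦ wf (p₀ p) * wg (f (p₀ p))
  have htr : ∀ v' : ↥(No : Scheme.{u}),
      MoreMor.fibreIntegral (U₂.ι ≫ a₂ ≫ b₂)
        (fun u ↦ wf ((m₂ ≫ m₁ ≫ p₀) (U₂.ι u)) * wg (f ((m₂ ≫ m₁ ≫ p₀) (U₂.ι u)))) v' =
      MoreMor.fibreIntegral (U.ι ≫ s₀) (fun u ↦ Wt (U.ι u)) (c₁ (c₂ v')) := by
    intro v'
    rw [← fibreIntegral_preimage_piece' sq₁ U hU Wt (c₂ v'),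
      ← fibreIntegral_preimage_piece' sq₂ U₁ hU₁ (fun p ↦ Wt (m₁ p)) v', ha₂b]
    rfl
  refine ⟨(c₂ ≫ c₁) '' N₂, (c₂ ≫ c₁).isOpenMap _ hN₂o, ⟨v₂, hv₂N₂, ?_⟩, ?_⟩
  · rw [Scheme.Hom.comp_apply, hc₂v, hc₁v]
  · rintro _ ⟨v', hv', rfl⟩
    have h1 := hN₂ v' hv'
    rw [htr v', htr v₂, hc₂v, hc₁v] at h1
    rw [Scheme.Hom.comp_apply]
    exact h1

end Groth.Agent.H7
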