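import Mathlib
import Groth.Agent.H7.WeightingMax
import Groth.Agent.S1419

set_option autoImplicit false
universe u

namespace Groth.Agent.H7

open AlgebraicGeometry CategoryTheory Limits MorphismProperty Topology

/-- Additivity of the fibre integral over open pieces which are disjoint on the fibre and cover
it. -/
theorem sum_fibreIntegral_ι_comp_eq' {P B : Scheme.{u}} (ρ : P ⟶ B) {K : Type*} [Finite K]
    (Vo : K → P.Opens) (W : P → ℤ) (b : B) (hfib : (ρ ⁻¹' {b}).Finite)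
    (hdisj : ∀ k l p, ρ p = b → p ∈ Vo k → p ∈ Vo l → k = l)
    (hcov : ∀ p, ρ p = b → ∃ k, p ∈ Vo k) :
    ∑ᶠ k, MoreMor.fibreIntegral ((Vo k).ι ≫ ρ) (fun u ↦ W ((Vo k).ι u)) b =
      MoreMor.fibreIntegral ρ W b := by
  simp only [fibreIntegral_ι_comp_eq_finsum_mem]
  rw [fibreIntegral_eq_finsum_mem]
  have hpw : Pairwise (Function.onFun Disjoint fun k ↦ ρ ⁻¹' {b} ∩ (Vo k : Set P)) := by
    intro k l hkl
    rw [Function.onFun, Set.disjoint_iff]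
    rintro p ⟨⟨hp0, hp1⟩, ⟨-, hp2⟩⟩
    exact hkl (hdisj k l p hp0 hp1 hp2)
  rw [← finsum_mem_iUnion hpw fun k ↦ hfib.inter_of_left _]
  have hU : (⋃ k, ρ ⁻¹' {b} ∩ (Vo k : Set P)) = ρ ⁻¹' {b} := by
    ext p
    simp only [Set.mem_iUnion, Set.mem_inter_iff, Set.mem_preimage, Set.mem_singleton_iff,
      SetLike.mem_coe]
    constructor
    · rintro ⟨k, hk1, -⟩
      exact hk1
    · intro hp
      obtain ⟨k, hk⟩ := hcov p hp
      exact ⟨k, hp, hk⟩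
  rw [hU]

/-- Every point of the base has a constructible "neighbourhood" on which the fibre integral of a
weighting is constant. -/
theorem exists_isConstructible_fibreIntegral_const {X Y : Scheme.{u}} (f : X ⟶ Y)
    [LocallyQuasiFinite f] [LocallyOfFinitePresentation f] [QuasiCompact f] [QuasiSeparated f]
    [CompactSpace Y] [QuasiSeparatedSpace Y]
    (w : X → ℤ) (hw : MoreMor.IsWeighting f w) (y : Y) :
    ∃ C : Set Y, IsConstructible C ∧ y ∈ C ∧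
      ∀ y' ∈ C, MoreMor.fibreIntegral f w y' = MoreMor.fibreIntegral f w y := by
  have hfin : ∀ y, (f ⁻¹' {y}).Finite := fun y ↦ f.finite_preimage_singleton y
  have hF : Finite (f ⁻¹' {y}) := (hfin y).to_subtype
  let e := Finite.equivFin (f ⁻¹' {y})
  let xs : Fin (Nat.card (f ⁻¹' {y})) → X := fun i ↦ (e.symm i).1
  have hxinj : Function.Injective xs := fun i i' h ↦ e.symm.injective (Subtype.ext h)
  have hxs : ∀ i, f (xs i) = y := fun i ↦ (e.symm i).2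
  obtain ⟨V, g, v, hget, hgv, J, hJ, Vo, vo, hVo, hinj, hcov⟩ :=
    Groth.Agent.S1482.result f y xs hxinj hxs (fun i ↦ f.quasiFiniteAt _)
  have : ∀ i, Finite (J i) := hJ
  obtain ⟨V₀, hV₀, hvV₀, -⟩ := exists_isAffineOpen_mem_and_subset
    (U := (⊤ : V.Opens)) (x := v) trivial
  have : IsAffine (V₀ : Scheme.{u}) := hV₀
  let g₀ : (V₀ : Scheme.{u}) ⟶ Y := V₀.ι ≫ g
  let ρ := pullback.snd f g
  let ρ₀ := pullback.snd f g₀
  let p₀ := pullback.fst f g₀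
  obtain ⟨m, hm1, hm2⟩ : ∃ m : pullback f g₀ ⟶ pullback f g,
      m ≫ pullback.fst f g = p₀ ∧ m ≫ ρ = ρ₀ ≫ V₀.ι :=
    ⟨pullback.lift p₀ (ρ₀ ≫ V₀.ι) (by rw [Category.assoc]; exact pullback.condition),
      pullback.lift_fst _ _ _, pullback.lift_snd _ _ _⟩
  have sqm : IsPullback m ρ₀ ρ V₀.ι := by
    apply IsPullback.of_right (h₁₂ := pullback.fst f g) (v₁₃ := f) (h₂₂ := g)
    · rw [hm1]
      exact IsPullback.of_hasPullback f g₀
    · exact hm2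
    · exact IsPullback.of_hasPullback f g
  have hm1' : ∀ p, pullback.fst f g (m p) = p₀ p := fun p ↦ by
    have := congr($hm1 p)
    simpa only [Scheme.Hom.comp_apply] using this
  have hm2' : ∀ p, ρ (m p) = V₀.ι (ρ₀ p) := fun p ↦ by
    have := congr($hm2 p)
    simpa only [Scheme.Hom.comp_apply] using this
  let U : (Σ i, J i) → (pullback f g₀).Opens := fun k ↦ m ⁻¹ᵁ (Vo k.1 k.2)
  have hUfin : ∀ k, IsFinite ((U k).ι ≫ ρ₀) := fun k ↦
    isFinite_preimage_piece' sqm _ (hVo k.1 k.2).2.1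
  let I : (Σ i, J i) → ↥(V₀ : Scheme.{u}) → ℤ := fun k ↦
    MoreMor.fibreIntegral ((U k).ι ≫ ρ₀) (fun u ↦ w (p₀ ((U k).ι u)))
  have hI : ∀ k, IsLocallyConstant (I k) := fun k ↦ hw _ g₀ (U k) (hUfin k)
  let v₀ : ↥(V₀ : Scheme.{u}) := ⟨v, hvV₀⟩
  have hg₀v₀ : g₀ v₀ = y := hgv
  let N : (V₀ : Scheme.{u}).Opens := ⟨⋂ k, {v' | I k v' = I k v₀},
    isOpen_iInter_of_finite fun k ↦ (hI k).isOpen_fiber _⟩
  obtain ⟨V₁, hV₁, hv₀V₁, hV₁N⟩ := exists_isAffineOpen_mem_and_subset (U := N) (x := v₀)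
    (Set.mem_iInter.mpr fun k ↦ rfl)
  have hV₁c : IsConstructible (V₁ : Set ↥(V₀ : Scheme.{u})) := hV₁.isCompact.isConstructible V₁.2
  have : QuasiSeparatedSpace ↥(pullback f g₀) := quasiSeparatedSpace_of_quasiSeparated ρ₀
  have hUc : ∀ k, IsCompact (U k : Set ↥(pullback f g₀)) := fun k ↦ by
    have h1 : IsAffine (U k : Scheme.{u}) := by
      have := hUfin k
      exact isAffine_of_isAffineHom ((U k).ι ≫ ρ₀)
    have h2 : IsAffineOpen (U k) := h1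
    exact h2.isCompact
  let R : Set ↥(pullback f g₀) := (⋃ k, (U k : Set ↥(pullback f g₀)))ᶜ
  have hR : IsConstructible R :=
    ((isCompact_iUnion hUc).isConstructible (isOpen_iUnion fun k ↦ (U k).2)).compl
  have hRim : IsConstructible (ρ₀ '' R) := ρ₀.isConstructible_image hR
  let Pairs := {kl : (Σ i, J i) × (Σ i, J i) // kl.1 ≠ kl.2}
  have hOv : ∀ kl : Pairs, IsConstructible (ρ₀ '' ((U kl.1.1 : Set ↥(pullback f g₀)) ∩ U kl.1.2)) :=
    fun kl ↦ ρ₀.isConstructible_image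
      (((hUc kl.1.1).inter_of_isOpen (hUc kl.1.2) (U kl.1.1).2 (U kl.1.2).2).isConstructible
        ((U kl.1.1).2.inter (U kl.1.2).2))
  let Bad : Set ↥(V₀ : Scheme.{u}) :=
    ρ₀ '' R ∪ ⋃ kl : Pairs, ρ₀ '' ((U kl.1.1 : Set ↥(pullback f g₀)) ∩ U kl.1.2)
  have hBad : IsConstructible Bad := hRim.union (IsConstructible.iUnion hOv)
  let CV : Set ↥(V₀ : Scheme.{u}) := (V₁ : Set ↥(V₀ : Scheme.{u})) \ Bad
  have hCV : IsConstructible CV := hV₁c.sdiff hBad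
  -- points over `v₀`
  have hpt : ∀ p, ρ₀ p = v₀ → ∃ k, p ∈ U k ∧ m p = vo k.1 k.2 := by
    intro p hp
    have h1 : ρ (m p) = v := by rw [hm2', hp]; rfl
    have h2 : f (pullback.fst f g (m p)) = y := by
      have := congr($(pullback.condition (f := f) (g := g)) (m p))
      simp only [Scheme.Hom.comp_apply] at this
      rw [this, h1, hgv]
    have h3 : xs (e ⟨_, h2⟩) = pullback.fst f g (m p) := by
      simp only [xs, Equiv.symm_apply_apply]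
    obtain ⟨j, hj⟩ := hcov (m p) (e ⟨_, h2⟩) h1 h3.symm
    refine ⟨⟨_, j⟩, ?_, hj⟩
    have h4 := (hVo _ j).1
    rw [← hj] at h4
    exact h4
  have hv₀Bad : v₀ ∉ Bad := by
    rintro (⟨p, hpR, hpv⟩ | hx)
    · obtain ⟨k, hk, -⟩ := hpt p hpv
      exact hpR (Set.mem_iUnion.mpr ⟨k, hk⟩)
    · obtain ⟨kl, p, ⟨hp1, hp2⟩, hpv⟩ := Set.mem_iUnion.mp hx
      have h1 : ρ (m p) = v := by rw [hm2', hpv]; rfl
      have e1 := (hVo kl.1.1.1 kl.1.1.2).2.2.2.1 (m p) hp1 h1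
      have e2 := (hVo kl.1.2.1 kl.1.2.2).2.2.2.1 (m p) hp2 h1
      obtain ⟨h3, h4⟩ := hinj _ _ _ _ (e1.symm.trans e2)
      exact kl.2 (Sigma.ext h3 h4)
  have hv₀CV : v₀ ∈ CV := ⟨hv₀V₁, hv₀Bad⟩
  have hfibρ₀ : ∀ v', (ρ₀ ⁻¹' {v'}).Finite := fun v' ↦ ρ₀.finite_preimage_singleton v'
  have hsum : ∀ v' ∈ CV, MoreMor.fibreIntegral ρ₀ (fun p ↦ w (p₀ p)) v' = ∑ᶠ k, I k v' := by
    intro v' hv'
    rw [← sum_fibreIntegral_ι_comp_eq' ρ₀ U (fun p ↦ w (p₀ p)) v' (hfibρ₀ v')]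
    · intro k l p hp hpk hpl
      by_contra hne
      exact hv'.2 (Or.inr (Set.mem_iUnion.mpr ⟨⟨(k, l), hne⟩, p, ⟨hpk, hpl⟩, hp⟩))
    · intro p hp
      by_contra hne
      push Not at hne
      refine hv'.2 (Or.inl ⟨p, ?_, hp⟩)
      simp only [R, Set.mem_compl_iff, Set.mem_iUnion, not_exists]
      exact hne
  have hbc : ∀ v', MoreMor.fibreIntegral ρ₀ (fun p ↦ w (p₀ p)) v' =
      MoreMor.fibreIntegral f w (g₀ v') := fun v' ↦
    fibreIntegral_baseChange f hfin ρ₀ p₀ g₀ (IsPullback.of_hasPullback f g₀) w v'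
  refine ⟨g₀ '' CV, g₀.isConstructible_image hCV, ⟨v₀, hv₀CV, hg₀v₀⟩, ?_⟩
  rintro _ ⟨v', hv', rfl⟩
  rw [← hg₀v₀, ← hbc, ← hbc, hsum v' hv', hsum v₀ hv₀CV]
  refine finsum_congr fun k ↦ ?_
  exact Set.mem_iInter.mp (hV₁N hv'.1) k

/-- The level sets of the fibre integral of a weighting are locally constructible. -/
theorem isLocallyConstructible_fibreIntegral_levelSet {X Y : Scheme.{u}} (f : X ⟶ Y)
    [LocallyQuasiFinite f] [LocallyOfFinitePresentation f] [QuasiCompact f] [QuasiSeparated f]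
    (w : X → ℤ) (hw : MoreMor.IsWeighting f w) (n : ℤ) :
    IsLocallyConstructible {y : Y | MoreMor.fibreIntegral f w y = n} := by
  intro y
  obtain ⟨Y₀, hY₀, hyY₀, -⟩ := exists_isAffineOpen_mem_and_subset
    (U := (⊤ : Y.Opens)) (x := y) trivial
  have : IsAffine (Y₀ : Scheme.{u}) := hY₀
  refine ⟨Y₀, Y₀.2.mem_nhds hyY₀, Y₀.2, ?_⟩
  have hfin : ∀ y, (f ⁻¹' {y}).Finite := fun y ↦ f.finite_preimage_singleton y
  have sq : IsPullback (f ⁻¹ᵁ Y₀).ι (f ∣_ Y₀) f Y₀.ι := (isPullback_morphismRestrict f Y₀).flip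
  have hw₀ : MoreMor.IsWeighting (f ∣_ Y₀) (w ∘ ⇑(f ⁻¹ᵁ Y₀).ι) :=
    Groth.Agent.S1419.result f w hw (f ∣_ Y₀) (f ⁻¹ᵁ Y₀).ι Y₀.ι sq
  have hbc : ∀ y' : ↥(Y₀ : Scheme.{u}),
      MoreMor.fibreIntegral (f ∣_ Y₀) (w ∘ ⇑(f ⁻¹ᵁ Y₀).ι) y' =
      MoreMor.fibreIntegral f w (Y₀.ι y') := fun y' ↦
    fibreIntegral_baseChange f hfin (f ∣_ Y₀) (f ⁻¹ᵁ Y₀).ι Y₀.ι sq w y'
  refine isConstructible_setOf_eq_of_forall_exists (S := ↥(Y₀ : Scheme.{u}))
    (fun y' ↦ MoreMor.fibreIntegral f w (Y₀.ι y')) (fun y' ↦ ?_) n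
  obtain ⟨C, hC, hyC, hCc⟩ := exists_isConstructible_fibreIntegral_const (f ∣_ Y₀) _ hw₀ y'
  refine ⟨C, hC, hyC, fun y'' hy'' ↦ ?_⟩
  rw [← hbc, ← hbc]
  exact hCc y'' hy''

end Groth.Agent.H7
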