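import Groth.Agent.H7.ZClosSec
import Groth.Agent.H12.RestrictLim

set_option autoImplicit false
universe u

open CategoryTheory CategoryTheory.Limits AlgebraicGeometry TopologicalSpace Opposite
open ZClos Groth.Agent.H7.ZClosBase Groth.Agent.H7.ZClosMain Groth.Agent.H7.ZClosSec

namespace Groth.Agent.H7.ZClosExact

variable {X : Scheme.{u}}

/-- filtered colimits are exact in `X.Modules`. -/
theorem hasExactColimitsOfShape_modules (J : Type u) [SmallCategory J] [IsFiltered J] :
    HasExactColimitsOfShape J X.Modules := by
  have h0 : HasExactColimitsOfShape J Ab.{u} := AB5OfSize.ofShape J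
  have h1 : HasExactColimitsOfShape J (Sheaf (Opens.grothendieckTopology X) Ab.{u}) :=
    inferInstance
  have h2 : PreservesColimitsOfShape J (SheafOfModules.toSheaf.{u} X.ringCatSheaf) :=
    (Groth.Agent.H31.toSheaf_preservesColimits X.ringCatSheaf).preservesColimitsOfShape
  exact HasExactColimitsOfShape.domain_of_functor (C := SheafOfModules.{u} X.ringCatSheaf) J
    (SheafOfModules.toSheaf.{u} X.ringCatSheaf)


theorem preservesFiniteLimits_resPush (U : X.Opens) : PreservesFiniteLimits (resPush U) := by
  have h1 : PreservesFiniteLimits (Scheme.Modules.restrictFunctor U.ι) :=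
    Groth.Agent.H12.RestrictLim.preservesFiniteLimits_restrictFunctor U.ι
  have h2 : PreservesLimitsOfSize.{0, 0} (Scheme.Modules.pushforward U.ι) :=
    (Scheme.Modules.restrictAdjunction U.ι).rightAdjoint_preservesLimits
  have h3 : PreservesFiniteLimits (Scheme.Modules.pushforward U.ι) :=
    PreservesLimitsOfSize.preservesFiniteLimits _
  exact comp_preservesFiniteLimits _ _

theorem preservesFiniteLimits_diagram (Z : Set X) : PreservesFiniteLimits (diagram Z) := by
  constructor
  intro J _ _
  apply preservesLimitsOfShape_of_evaluation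
  intro T
  have h1 : PreservesFiniteLimits (resPush T.U) := preservesFiniteLimits_resPush T.U
  have h2 : PreservesLimitsOfShape J (resPush T.U) := h1.preservesFiniteLimits J
  exact preservesLimitsOfShape_of_natIso
    (NatIso.ofComponents (fun F ↦ Iso.refl _) (fun φ ↦ by
      simp only [Iso.refl_hom]
      rfl) : resPush T.U ≅ diagram Z ⋙ (evaluation (Cl Z) X.Modules).obj T)

/-- S5840 -/
theorem preservesFiniteLimits_H0 (Z : Set X) : PreservesFiniteLimits (H0 Z) := by
  have h1 : PreservesFiniteLimits (diagram Z) := preservesFiniteLimits_diagram Z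
  have h2 : HasExactColimitsOfShape (Cl Z) X.Modules := hasExactColimitsOfShape_modules (Cl Z)
  have h3 : PreservesFiniteLimits (colim : (Cl Z ⥤ X.Modules) ⥤ X.Modules) :=
    h2.preservesFiniteLimits
  exact comp_preservesFiniteLimits (diagram Z) colim

end Groth.Agent.H7.ZClosExact
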