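import Groth.Agent.H7.ZClosLoc

set_option autoImplicit false
universe u

open CategoryTheory CategoryTheory.Limits AlgebraicGeometry TopologicalSpace Opposite
open ZClos Groth.Agent.H7.ZClosBase Groth.Agent.H7.ZClosMain Groth.Agent.H7.ZClosSec
open Groth.Agent.H7.ZClosSupp Groth.Agent.H7.ZClosLoc

namespace Groth.Agent.H7.ZClosIso

variable {X : Scheme.{u}} [IsLocallyNoetherian X] (Z : Set X) (hZ : StableUnderSpecialization Z)
  {G G' : X.Modules} (φ : G ⟶ G')

include hZ in
/-- a morphism from a `Z`-pure module which is injective on stalks outside `Z` is injective on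
sections. -/
theorem injective_app_of_injective_stalk_of_isZPure (hG : IsZPure Z G)
    (hφ : ∀ x : X, x ∉ Z → Function.Injective ((stalkF x).map φ)) (V : X.Opens) :
    Function.Injective (φ.app V) := by
  rw [injective_iff_map_eq_zero]
  intro s hs
  have hsupp : supp G s ⊆ Z := by
    rintro x ⟨hx, hne⟩
    by_contra hxZ
    apply hne
    apply hφ x hxZ
    rw [stalkF_map_germ, hs, map_zero]
    exact germ_zero G' V x hx
  obtain ⟨T, hT⟩ := exists_cl_res_eq_zero Z hZ G V s hsupp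
  have h0 := hT (UV T.U V) (UV_le T.U V) (UV_le_left T.U V)
  have hinj := (isZPure_iff_injective_res Z G).1 hG V (UV T.U V) (UV_le T.U V)
    ⟨T, by rw [UV_eq, inf_comm]⟩
  apply hinj
  rw [h0, res_zero]


/-- the locus where a section of `G'` is not locally in the image of `φ`. -/
def nonImage (V : X.Opens) (b : Γ(G', V)) : Set X :=
  {x | ∃ hx : x ∈ V, germ G' V x hx b ∉ Set.range ((stalkF x).map φ)}

omit [IsLocallyNoetherian X] in
theorem exists_local_preimage (V : X.Opens) (b : Γ(G', V)) (x : X) (hx : x ∈ V)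
    (h : germ G' V x hx b ∈ Set.range ((stalkF x).map φ)) :
    ∃ (W : X.Opens) (_ : x ∈ W) (hWV : W ≤ V) (a : Γ(G, W)), φ.app W a = res G' hWV b := by
  obtain ⟨γ, hγ⟩ := h
  obtain ⟨W₁, hxW₁, a₁, rfl⟩ := TopCat.Presheaf.exists_germ_eq G.presheaf γ
  have h1 : G'.presheaf.germ W₁ x hxW₁ (φ.app W₁ a₁) = G'.presheaf.germ V x hx b :=
    (stalkF_map_germ φ x W₁ hxW₁ a₁).symm.trans hγ
  obtain ⟨W, hxW, i₁, i, hW⟩ := TopCat.Presheaf.germ_eq G'.presheaf x hxW₁ hx _ _ h1
  refine ⟨W, hxW, i.le, G.presheaf.map i₁.op a₁, ?_⟩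
  rw [app_res]
  exact hW.trans (map_eq_res G' i b)

omit [IsLocallyNoetherian X] in
theorem closure_nonImage_inter_subset (V : X.Opens) (b : Γ(G', V)) :
    closure (nonImage φ V b) ∩ V ⊆ nonImage φ V b := by
  rintro x ⟨hx1, hx2⟩
  by_contra hx3
  have h0 : germ G' V x hx2 b ∈ Set.range ((stalkF x).map φ) := by
    by_contra h
    exact hx3 ⟨hx2, h⟩
  obtain ⟨W, hxW, hWV, a, ha⟩ := exists_local_preimage φ V b x hx2 h0
  obtain ⟨x', hx'1, hx'2⟩ := mem_closure_iff.1 hx1 W W.isOpen hxW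
  obtain ⟨hx'V, hx'ne⟩ := hx'2
  apply hx'ne
  refine ⟨germ G W x' hx'1 a, ?_⟩
  rw [stalkF_map_germ, ha]
  exact germ_res' G' hWV x' hx'1 b

include hZ in
/-- a morphism from a `Z`-closed module to a `Z`-pure module which is bijective on stalks outside
`Z` is an isomorphism. -/
theorem isIso_of_bijective_stalk_of_isZClosed (hG : IsZClosed Z G) (hG' : IsZPure Z G')
    (hφ : ∀ x : X, x ∉ Z → Function.Bijective ((stalkF x).map φ)) : IsIso φ := by
  have hGp : IsZPure Z G := by
    have : IsIso (rhoApp Z G) := hG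
    change Mono (rhoApp Z G)
    infer_instance
  have hinj : ∀ V : X.Opens, Function.Injective (φ.app V) :=
    injective_app_of_injective_stalk_of_isZPure Z hZ φ hGp (fun x hx ↦ (hφ x hx).1)
  apply isIso_of_bijective_app
  intro V
  refine ⟨hinj V, ?_⟩
  intro b
  have hSZ : nonImage φ V b ⊆ Z := by
    rintro x ⟨hx, hne⟩
    by_contra hxZ
    exact hne ((hφ x hxZ).2 _)
  have hcl : closure (nonImage φ V b) ⊆ Z :=
    closure_subset_of_stableUnderSpecialization Z hZ V (nonImage φ V b) (fun _ hx ↦ hx.1)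
      (closure_nonImage_inter_subset φ V b) hSZ
  let T : Cl Z := ⟨⟨closure (nonImage φ V b), isClosed_closure⟩, hcl⟩
  -- local preimages on `V ∖ T`
  have hloc : ∀ x : (UV T.U V : X.Opens), ∃ (W : X.Opens) (_ : x.1 ∈ W) (hWV : W ≤ UV T.U V)
      (a : Γ(G, W)), φ.app W a = res G' (hWV.trans (UV_le T.U V)) b := by
    intro x
    have hxV : x.1 ∈ V := UV_le T.U V x.2
    have hxT : x.1 ∈ T.U := UV_le_left T.U V x.2
    have h0 : germ G' V x.1 hxV b ∈ Set.range ((stalkF x.1).map φ) := by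
      by_contra h
      exact hxT (subset_closure ⟨hxV, h⟩)
    obtain ⟨W, hxW, hWV, a, ha⟩ := exists_local_preimage φ V b x.1 hxV h0
    refine ⟨W ⊓ UV T.U V, ⟨hxW, x.2⟩, inf_le_right, res G inf_le_left a, ?_⟩
    rw [app_res', ha, res_res]
  choose W hxW hWV a ha using hloc
  have hcover : UV T.U V ≤ iSup W := fun x hx ↦ Opens.mem_iSup.2 ⟨⟨x, hx⟩, hxW ⟨x, hx⟩⟩
  obtain ⟨g, hg⟩ := exists_gluing G W (UV T.U V) (fun x ↦ homOfLE (hWV x)) hcover a (by
    intro x y
    apply hinj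
    rw [map_eq_res, map_eq_res, app_res', app_res', ha, ha, res_res, res_res])
  -- extend over `T`
  obtain ⟨g', hg'⟩ := ((isZClosed_iff_bijective_res Z G).1 hG V (UV T.U V) (UV_le T.U V)
    ⟨T, by rw [UV_eq, inf_comm]⟩).2 g
  refine ⟨g', ?_⟩
  apply (isZPure_iff_injective_res Z G').1 hG' V (UV T.U V) (UV_le T.U V)
    ⟨T, by rw [UV_eq, inf_comm]⟩
  rw [← app_res', hg']
  apply eq_of_locally_eq G' W (UV T.U V) (fun x ↦ homOfLE (hWV x)) hcover
  intro x
  rw [map_eq_res, map_eq_res, ← app_res', res_res]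
  have hgx : res G (hWV x) g = a x := hg x
  rw [hgx, ha]

include hZ in
/-- S5852 -/
theorem isIso_of_fac_rhoApp (F F' : X.Modules) (hF' : IsZClosed Z F') (u : F ⟶ F')
    (hu : ∀ x : X, x ∉ Z → Function.Bijective ((stalkF x).map u))
    (v : (H0 Z).obj F ⟶ F') (hv : rhoApp Z F ≫ v = u) : IsIso v := by
  have hF'p : IsZPure Z F' := by
    have : IsIso (rhoApp Z F') := hF'
    change Mono (rhoApp Z F')
    infer_instance
  apply isIso_of_bijective_stalk_of_isZClosed Z hZ v (isZClosed_H0 Z F) hF'p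
  intro x hx
  have h1 : Function.Bijective ((stalkF x).map (rhoApp Z F)) := isZClosedAt_of_not_mem Z F x hx
  have h2 := hu x hx
  rw [← hv, Functor.map_comp] at h2
  have h3 : (⇑((stalkF x).map (rhoApp Z F) ≫ (stalkF x).map v) : _ → _) =
      ⇑((stalkF x).map v) ∘ ⇑((stalkF x).map (rhoApp Z F)) := by
    funext γ; rfl
  rw [h3] at h2
  exact (Function.Bijective.of_comp_iff _ h1).1 h2

end Groth.Agent.H7.ZClosIso
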