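import Groth.Agent.H7.ZClosSupp

set_option autoImplicit false
universe u

open CategoryTheory CategoryTheory.Limits AlgebraicGeometry TopologicalSpace Opposite
open ZClos Groth.Agent.H7.ZClosBase Groth.Agent.H7.ZClosMain Groth.Agent.H7.ZClosSec
open Groth.Agent.H7.ZClosSupp

namespace Groth.Agent.H7.ZClosLoc

variable {X : Scheme.{u}} (Z : Set X) (F : X.Modules)

/-- criterion for `Z`-purity in terms of restriction maps. -/
theorem isZPure_iff_injective_res :
    IsZPure Z F ↔ ∀ (A B : X.Opens) (h : B ≤ A), (∃ T : Cl Z, A ⊓ T.U ≤ B) →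
      Function.Injective (res F h) := by
  rw [isZPure_iff_forall_mono_toDiagram]
  constructor
  · rintro hm A B h ⟨T, hT⟩
    have := hm T
    have h1 : Function.Injective (res F (UV_le T.U A)) := injective_app_of_mono (toDiagram Z F T) A
    have hle : UV T.U A ≤ B := by rw [UV_eq, inf_comm]; exact hT
    have h2 : res F (UV_le T.U A) = res F hle ∘ res F h := by
      funext s
      exact (res_res F hle h s).symm
    rw [h2] at h1
    exact h1.of_comp
  · intro h T
    apply mono_of_injective_app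
    intro V
    exact h V (UV T.U V) (UV_le T.U V) ⟨T, by rw [UV_eq, inf_comm]⟩

variable [IsLocallyNoetherian X]

/-- criterion for `Z`-closedness in terms of restriction maps. -/
theorem isZClosed_iff_bijective_res :
    IsZClosed Z F ↔ ∀ (A B : X.Opens) (h : B ≤ A), (∃ T : Cl Z, A ⊓ T.U ≤ B) →
      Function.Bijective (res F h) := by
  rw [isZClosed_iff_forall_isIso_toDiagram]
  constructor
  · rintro hm A B h ⟨T, hT⟩
    have := hm T
    have h1 : Function.Bijective (res F (UV_le T.U A)) := bijective_app_of_isIso (toDiagram Z F T) A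
    have h1' : Function.Bijective (res F (UV_le T.U B)) := bijective_app_of_isIso (toDiagram Z F T) B
    have hle : UV T.U A ≤ B := by rw [UV_eq, inf_comm]; exact hT
    have hle' : UV T.U A ≤ UV T.U B := by
      intro x hx
      exact mem_UV.2 ⟨(mem_UV.1 hx).1, hle hx⟩
    have h2 : res F (UV_le T.U A) = res F hle ∘ res F h := by
      funext s
      exact (res_res F hle h s).symm
    have h3 : res F hle = res F hle' ∘ res F (UV_le T.U B) := by
      funext s
      exact (res_res F hle' (UV_le T.U B) s).symm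
    have h4 : Function.Bijective (res F hle') := by
      have e : UV T.U A = UV T.U B := le_antisymm hle' (UV_mono le_rfl h)
      have h5 : Function.Bijective (res F (le_refl (UV T.U B))) := by
        have : res F (le_refl (UV T.U B)) = id := funext (fun s ↦ res_self F _ s)
        rw [this]; exact Function.bijective_id
      exact (bijective_res_congr F e hle' le_rfl).2 h5
    have h6 : Function.Bijective (res F hle) := by rw [h3]; exact h4.comp h1'
    rw [h2] at h1
    exact (Function.Bijective.of_comp_iff' h6 (res F h)).1 h1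
  · intro h T
    apply isIso_of_bijective_app
    intro V
    exact h V (UV T.U V) (UV_le T.U V) ⟨T, by rw [UV_eq, inf_comm]⟩


section Restrict

omit [IsLocallyNoetherian X]

variable (U : X.Opens)

/-- restriction maps of `F|_U` are restriction maps of `F`. -/
theorem res_restrict {A' B' : (U : Scheme.{u}).Opens} (h : B' ≤ A')
    (t : Γ((Scheme.Modules.restrictFunctor U.ι).obj F, A')) :
    res ((Scheme.Modules.restrictFunctor U.ι).obj F) h t =
      res F (U.ι.image_mono h) (show Γ(F, U.ι ''ᵁ A') from t) :=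
  map_eq_res F (U.ι.opensFunctor.map (homOfLE h)) (show Γ(F, U.ι ''ᵁ A') from t)

theorem injective_res_restrict_iff {A' B' : (U : Scheme.{u}).Opens} (h : B' ≤ A') :
    Function.Injective (res ((Scheme.Modules.restrictFunctor U.ι).obj F) h) ↔
      Function.Injective (res F (U.ι.image_mono h)) := by
  have : res ((Scheme.Modules.restrictFunctor U.ι).obj F) h = res F (U.ι.image_mono h) :=
    funext (fun t ↦ res_restrict F U h t)
  rw [this]
  exact Iff.rfl

theorem bijective_res_restrict_iff {A' B' : (U : Scheme.{u}).Opens} (h : B' ≤ A') :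
    Function.Bijective (res ((Scheme.Modules.restrictFunctor U.ι).obj F) h) ↔
      Function.Bijective (res F (U.ι.image_mono h)) := by
  have : res ((Scheme.Modules.restrictFunctor U.ι).obj F) h = res F (U.ι.image_mono h) :=
    funext (fun t ↦ res_restrict F U h t)
  rw [this]
  exact Iff.rfl

end Restrict


section Local

variable (hZ : StableUnderSpecialization Z) (U : X.Opens)

include hZ in
/-- the closure in `X` of a closed subset of `U` contained in `Z`. -/
theorem exists_cl_of_cl_restrict (T' : Cl (U.ι.base ⁻¹' Z)) :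
    ∃ T : Cl Z, ∀ x : (U : Scheme.{u}), U.ι x ∈ (T.1 : Set X) ↔ x ∈ (T'.1 : Set (U : Scheme.{u})) := by
  let S : Set X := U.ι '' (T'.1 : Set (U : Scheme.{u}))
  have hSV : S ⊆ U := by
    rintro _ ⟨x, -, rfl⟩
    exact x.2
  have hcl : ∀ x : (U : Scheme.{u}), U.ι x ∈ closure S → x ∈ (T'.1 : Set (U : Scheme.{u})) := by
    intro x hx
    have h1 : x ∈ closure (T'.1 : Set (U : Scheme.{u})) := by
      rw [U.ι.isOpenEmbedding.isInducing.closure_eq_preimage_closure_image]
      exact hx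
    rwa [T'.1.isClosed.closure_eq] at h1
  have hS : closure S ∩ U ⊆ S := by
    rintro x ⟨hx1, hx2⟩
    exact ⟨⟨x, hx2⟩, hcl ⟨x, hx2⟩ hx1, rfl⟩
  have hSZ : S ⊆ Z := by
    rintro _ ⟨x, hx, rfl⟩
    exact T'.2 hx
  exact ⟨⟨⟨closure S, isClosed_closure⟩,
    closure_subset_of_stableUnderSpecialization Z hZ U S hSV hS hSZ⟩,
    fun x ↦ ⟨hcl x, fun hx ↦ subset_closure ⟨x, hx, rfl⟩⟩⟩

omit [IsLocallyNoetherian X] in
/-- the trace on `U` of a closed subset of `X` contained in `Z`. -/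
def clRestrict (T : Cl Z) : Cl (U.ι.base ⁻¹' Z) :=
  ⟨⟨U.ι.base ⁻¹' (T.1 : Set X), T.1.isClosed.preimage U.ι.continuous⟩, fun _ hx ↦ T.2 hx⟩

include hZ in
theorem isZPure_restrict (h : IsZPure Z F) :
    IsZPure (U.ι.base ⁻¹' Z) ((Scheme.Modules.restrictFunctor U.ι).obj F) := by
  rw [isZPure_iff_injective_res] at h ⊢
  rintro A' B' hBA ⟨T', hT'⟩
  rw [injective_res_restrict_iff]
  obtain ⟨T, hT⟩ := exists_cl_of_cl_restrict Z hZ U T'
  refine h _ _ _ ⟨T, ?_⟩
  rintro _ ⟨⟨a', ha', rfl⟩, hx2⟩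
  exact ⟨a', hT' ⟨ha', fun hmem ↦ hx2 ((hT a').2 hmem)⟩, rfl⟩


include hZ in
theorem isZClosed_restrict (h : IsZClosed Z F) :
    IsZClosed (U.ι.base ⁻¹' Z) ((Scheme.Modules.restrictFunctor U.ι).obj F) := by
  rw [isZClosed_iff_bijective_res] at h ⊢
  rintro A' B' hBA ⟨T', hT'⟩
  rw [bijective_res_restrict_iff]
  obtain ⟨T, hT⟩ := exists_cl_of_cl_restrict Z hZ U T'
  refine h _ _ _ ⟨T, ?_⟩
  rintro _ ⟨⟨a', ha', rfl⟩, hx2⟩
  exact ⟨a', hT' ⟨ha', fun hmem ↦ hx2 ((hT a').2 hmem)⟩, rfl⟩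

end Local

section Cover

variable {ι : Type u} (V : ι → X.Opens) (hV : iSup V = ⊤)

include hV in
omit [IsLocallyNoetherian X] in
theorem le_iSup_UV (A : X.Opens) : A ≤ iSup (fun i ↦ UV (V i) A) := by
  intro x hx
  have h1 : x ∈ iSup V := by rw [hV]; trivial
  obtain ⟨i, hi⟩ := Opens.mem_iSup.1 h1
  exact Opens.mem_iSup.2 ⟨i, mem_UV.2 ⟨hi, hx⟩⟩

omit [IsLocallyNoetherian X] in
theorem clRestrict_cond (i : ι) {A B : X.Opens} (T : Cl Z) (hT : A ⊓ T.U ≤ B) :
    (V i).ι ⁻¹ᵁ A ⊓ (clRestrict Z (V i) T).U ≤ (V i).ι ⁻¹ᵁ B :=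
  fun _ hx ↦ hT ⟨hx.1, hx.2⟩

include hV in
omit [IsLocallyNoetherian X] in
theorem isZPure_of_cover
    (h : ∀ i, IsZPure ((V i).ι.base ⁻¹' Z) ((Scheme.Modules.restrictFunctor (V i).ι).obj F)) :
    IsZPure Z F := by
  rw [isZPure_iff_injective_res]
  rintro A B hBA ⟨T, hT⟩ s₁ s₂ hs
  apply eq_of_locally_eq F (fun i ↦ UV (V i) A) A (fun i ↦ homOfLE (UV_le (V i) A))
    (le_iSup_UV V hV A)
  intro i
  have hi := (isZPure_iff_injective_res _ _).1 (h i) ((V i).ι ⁻¹ᵁ A) ((V i).ι ⁻¹ᵁ B)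
    ((V i).ι.preimage_mono hBA) ⟨clRestrict Z (V i) T, clRestrict_cond Z V i T hT⟩
  rw [injective_res_restrict_iff] at hi
  apply hi
  change res F _ (res F (UV_le (V i) A) s₁) = res F _ (res F (UV_le (V i) A) s₂)
  rw [res_res, res_res, ← res_res F (UV_le (V i) B) hBA s₁, ← res_res F (UV_le (V i) B) hBA s₂, hs]


include hV in
theorem isZClosed_of_cover
    (h : ∀ i, IsZClosed ((V i).ι.base ⁻¹' Z) ((Scheme.Modules.restrictFunctor (V i).ι).obj F)) :
    IsZClosed Z F := by
  have hpure : IsZPure Z F := isZPure_of_cover Z F V hV (fun i ↦ by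
    have h1 : IsIso (rhoApp ((V i).ι.base ⁻¹' Z) ((Scheme.Modules.restrictFunctor (V i).ι).obj F)) :=
      h i
    change Mono (rhoApp ((V i).ι.base ⁻¹' Z) ((Scheme.Modules.restrictFunctor (V i).ι).obj F))
    infer_instance)
  have hinj := (isZPure_iff_injective_res Z F).1 hpure
  rw [isZClosed_iff_bijective_res]
  rintro A B hBA ⟨T, hT⟩
  refine ⟨hinj A B hBA ⟨T, hT⟩, ?_⟩
  intro t
  have hloc : ∀ i, ∃ s : Γ(F, UV (V i) A),
      res F (UV_mono (le_refl (V i)) hBA) s = res F (UV_le (V i) B) t := by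
    intro i
    have hi := (isZClosed_iff_bijective_res _ _).1 (h i) ((V i).ι ⁻¹ᵁ A) ((V i).ι ⁻¹ᵁ B)
      ((V i).ι.preimage_mono hBA) ⟨clRestrict Z (V i) T, clRestrict_cond Z V i T hT⟩
    rw [bijective_res_restrict_iff] at hi
    exact hi.2 (res F (UV_le (V i) B) t)
  choose s hs using hloc
  obtain ⟨g, hg⟩ := exists_gluing F (fun i ↦ UV (V i) A) A (fun i ↦ homOfLE (UV_le (V i) A))
    (le_iSup_UV V hV A) s (by
      intro i j
      have hBij : UV (V i) A ⊓ UV (V j) A ⊓ B ≤ UV (V i) A ⊓ UV (V j) A := inf_le_left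
      apply hinj _ _ hBij ⟨T, fun x hx ↦ ⟨hx.1, hT ⟨UV_le _ _ hx.1.1, hx.2⟩⟩⟩
      rw [map_eq_res, map_eq_res, res_res, res_res]
      have hi : UV (V i) A ⊓ UV (V j) A ⊓ B ≤ UV (V i) B :=
        fun x hx ↦ mem_UV.2 ⟨UV_le_left _ _ hx.1.1, hx.2⟩
      have hj : UV (V i) A ⊓ UV (V j) A ⊓ B ≤ UV (V j) B :=
        fun x hx ↦ mem_UV.2 ⟨UV_le_left _ _ hx.1.2, hx.2⟩
      rw [← res_res F hi (UV_mono (le_refl (V i)) hBA) (s i),
        ← res_res F hj (UV_mono (le_refl (V j)) hBA) (s j), hs, hs, res_res, res_res])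
  refine ⟨g, ?_⟩
  apply eq_of_locally_eq F (fun i ↦ UV (V i) B) B (fun i ↦ homOfLE (UV_le (V i) B))
    (le_iSup_UV V hV B)
  intro i
  change res F (UV_le (V i) B) (res F hBA g) = res F (UV_le (V i) B) t
  rw [← hs i, ← hg i]
  change _ = res F _ (res F (UV_le (V i) A) g)
  rw [res_res, res_res]


include hV in
/-- S5846 -/
theorem isZPure_iff_openCover (hZ : StableUnderSpecialization Z) :
    IsZPure Z F ↔
      ∀ i, IsZPure ((V i).ι.base ⁻¹' Z) ((Scheme.Modules.restrictFunctor (V i).ι).obj F) :=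
  ⟨fun h i ↦ isZPure_restrict Z F hZ (V i) h, isZPure_of_cover Z F V hV⟩

include hV in
/-- S5847 -/
theorem isZClosed_iff_openCover (hZ : StableUnderSpecialization Z) :
    IsZClosed Z F ↔
      ∀ i, IsZClosed ((V i).ι.base ⁻¹' Z) ((Scheme.Modules.restrictFunctor (V i).ι).obj F) :=
  ⟨fun h i ↦ isZClosed_restrict Z F hZ (V i) h, isZClosed_of_cover Z F V hV⟩

end Cover


end Groth.Agent.H7.ZClosLoc
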