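import Groth.Agent.H7.ZClosStalk

set_option autoImplicit false
universe u

open CategoryTheory CategoryTheory.Limits AlgebraicGeometry TopologicalSpace Opposite
open ZClos Groth.Agent.H7.ZClosBase Groth.Agent.H7.ZClosMain

namespace Groth.Agent.H7.ZClosSec

variable {X : Scheme.{u}} (Z : Set X) (F : X.Modules)

theorem ιH_map_app {T T' : Cl Z} (h : T ≤ T') (W : X.Opens) (a : Γ((resPush T.U).obj F, W)) :
    (ιH Z F T').app W ((((diagram Z).obj F).map (homOfLE h)).app W a) = (ιH Z F T).app W a :=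
  ι_map_app (cc Z F) h W a

theorem ιH_app_zero (T : Cl Z) (W : X.Opens) :
    (ιH Z F T).app W (0 : Γ((resPush T.U).obj F, W)) = 0 :=
  ((ιH Z F T).app W).hom.map_zero

variable [IsLocallyNoetherian X]

omit [IsLocallyNoetherian X] in
/-- (A1) for `H⁰_{X/Z}`. -/
theorem exists_res_eq_zero_of_ιH_eq_zero (W : X.Opens) (hW : IsCompact (W : Set X)) (T : Cl Z)
    (a : Γ((resPush T.U).obj F, W)) (ha : (ιH Z F T).app W a = 0) :
    ∃ (T' : Cl Z) (h : T ≤ T'), res F (UV_mono (Cl.U_anti h) (le_refl W)) a = 0 := by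
  obtain ⟨T', h, h0⟩ := exists_map_eq_zero_of_ι_eq_zero (hcc Z F) W hW T a ha
  exact ⟨T', h, (diagram_map_app Z F h W a).symm.trans h0⟩

/-- (A2) for `H⁰_{X/Z}`, with the index above a given one. -/
theorem exists_ιH_app_eq (V : X.Opens) (hV : IsCompact (V : Set X)) (T₀ : Cl Z)
    (s : Γ((H0 Z).obj F, V)) :
    ∃ (T : Cl Z) (_ : T₀ ≤ T) (a : Γ((resPush T.U).obj F, V)), (ιH Z F T).app V a = s := by
  obtain ⟨T', a', ha'⟩ := exists_ι_app_eq (hcc Z F) V
    (fun W hWV ↦ isCompact_of_le_of_isCompact V W hV hWV) s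
  refine ⟨T' ⊔ T₀, le_sup_right,
    (((diagram Z).obj F).map (homOfLE (le_sup_left : T' ≤ T' ⊔ T₀))).app V a', ?_⟩
  rw [ιH_map_app]
  exact ha'

omit [IsLocallyNoetherian X] in
theorem toDiagram_H0_app (T : Cl Z) (V : X.Opens) (s : Γ((H0 Z).obj F, V)) :
    (toDiagram Z ((H0 Z).obj F) T).app V s = res ((H0 Z).obj F) (UV_le T.U V) s := rfl

/-- Lemma B: the restriction maps `Γ(V, H⁰) → Γ(V ∖ T, H⁰)` are bijective for quasi-compact `V`. -/
theorem bijective_toDiagram_H0_app (T : Cl Z) (V : X.Opens) (hV : IsCompact (V : Set X)) :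
    Function.Bijective ((toDiagram Z ((H0 Z).obj F) T).app V) := by
  have hW : IsCompact ((UV T.U V : X.Opens) : Set X) :=
    isCompact_of_le_of_isCompact V _ hV (UV_le T.U V)
  constructor
  · rw [injective_iff_map_eq_zero]
    intro s hs
    rw [toDiagram_H0_app] at hs
    obtain ⟨T₁, hT₁, a, rfl⟩ := exists_ιH_app_eq Z F V hV T s
    rw [← app_res', resPush_map_eq_res] at hs
    obtain ⟨T₂, hT₂, h0⟩ := exists_res_eq_zero_of_ιH_eq_zero Z F _ hW T₁ _ hs
    rw [res_res] at h0
    have hle : UV T₂.U V ≤ UV T₂.U (UV T.U V) := by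
      intro x hx
      obtain ⟨h1, h2⟩ := mem_UV.1 hx
      exact mem_UV.2 ⟨h1, mem_UV.2 ⟨Cl.U_anti (hT₁.trans hT₂) h1, h2⟩⟩
    have h1 : (((diagram Z).obj F).map (homOfLE hT₂)).app V a = 0 := by
      rw [diagram_map_app]
      have := congrArg (res F hle) h0
      rw [res_res, res_zero] at this
      exact this
    rw [← ιH_map_app Z F hT₂ V a, h1]
    exact ιH_app_zero Z F T₂ V
  · intro t
    obtain ⟨T₁, hT₁, a, ha⟩ := exists_ιH_app_eq Z F (UV T.U V) hW T t
    have hle : UV T₁.U V ≤ UV T₁.U (UV T.U V) := by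
      intro x hx
      obtain ⟨h1, h2⟩ := mem_UV.1 hx
      exact mem_UV.2 ⟨h1, mem_UV.2 ⟨Cl.U_anti hT₁ h1, h2⟩⟩
    refine ⟨(ιH Z F T₁).app V (res F hle a), ?_⟩
    rw [toDiagram_H0_app, ← app_res', resPush_map_eq_res, res_res, res_self]
    exact ha


/-- the units `H⁰ ⟶ (i_T)_* (H⁰|_{X∖T})` are isomorphisms. -/
theorem isIso_toDiagram_H0 (T : Cl Z) : IsIso (toDiagram Z ((H0 Z).obj F) T) :=
  isIso_of_isBasis _ X.isBasis_affineOpens (fun V hV ↦
    bijective_toDiagram_H0_app Z F T V (IsAffineOpen.isCompact hV))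

omit [IsLocallyNoetherian X] in
theorem isZClosed_of_forall_isIso_toDiagram (h : ∀ T : Cl Z, IsIso (toDiagram Z F T)) :
    IsZClosed Z F := by
  change IsIso (rhoApp Z F)
  apply isIso_of_bijective_stalk
  intro x
  constructor
  · have hm : Mono (rhoApp Z F) :=
      (isZPure_iff_forall_mono_toDiagram Z F).2 (fun T ↦ by have := h T; infer_instance)
    exact (mono_iff_injective_stalk _).1 hm x
  · intro δ
    obtain ⟨T, γ', rfl⟩ := exists_stalk_ιH_eq Z F x δ
    have := h T
    obtain ⟨γ, rfl⟩ := (bijective_stalk_of_isIso (toDiagram Z F T) x).2 γ'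
    refine ⟨γ, ?_⟩
    rw [rhoApp_eq' Z F T, Functor.map_comp]
    rfl

/-- S5850 -/
theorem isZClosed_H0 : IsZClosed Z ((H0 Z).obj F) :=
  isZClosed_of_forall_isIso_toDiagram Z _ (isIso_toDiagram_H0 Z F)

theorem isIso_toDiagram_of_isZClosed (h : IsZClosed Z F) (T : Cl Z) :
    IsIso (toDiagram Z F T) := by
  have h1 : IsIso (rhoApp Z F) := h
  have h2 := isIso_toDiagram_H0 Z F T
  have nat : rhoApp Z F ≫ toDiagram Z ((H0 Z).obj F) T =
      toDiagram Z F T ≫ (resPush T.U).map (rhoApp Z F) :=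
    (resPushUnit T.U).naturality (rhoApp Z F)
  have h3 : IsIso (toDiagram Z F T ≫ (resPush T.U).map (rhoApp Z F)) := by
    rw [← nat]; exact IsIso.comp_isIso' h1 h2
  have h4 : IsIso ((resPush T.U).map (rhoApp Z F)) := Functor.map_isIso _ _
  exact @IsIso.of_isIso_comp_right _ _ _ _ _ (toDiagram Z F T)
    ((resPush T.U).map (rhoApp Z F)) h4 h3

/-- S5843 -/
theorem isZClosed_iff_forall_isIso_toDiagram :
    IsZClosed Z F ↔ ∀ T : Cl Z, IsIso (toDiagram Z F T) :=
  ⟨isIso_toDiagram_of_isZClosed Z F, isZClosed_of_forall_isIso_toDiagram Z F⟩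

section Congr

omit [IsLocallyNoetherian X]

theorem injective_res_congr {A A' B : X.Opens} (e : A = A') (h : A ≤ B) (h' : A' ≤ B) :
    Function.Injective (res F h) ↔ Function.Injective (res F h') := by
  subst e; rfl

theorem bijective_res_congr {A A' B : X.Opens} (e : A = A') (h : A ≤ B) (h' : A' ≤ B) :
    Function.Bijective (res F h) ↔ Function.Bijective (res F h') := by
  subst e; rfl

theorem UV_eq' (U V : X.Opens) : UV U V = V ⊓ U := by rw [UV_eq, inf_comm]

end Congr

omit [IsLocallyNoetherian X] in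
/-- S5844 -/
theorem isZPure_iff_injective_res_compl :
    IsZPure Z F ↔ ∀ (T : Cl Z) (V : X.Opens), IsCompact (V : Set X) →
      Function.Injective (F.presheaf.map (homOfLE (inf_le_left : V ⊓ T.U ≤ V)).op) := by
  rw [isZPure_iff_forall_mono_toDiagram]
  constructor
  · intro h T V _
    have := h T
    have h1 : Function.Injective (res F (UV_le T.U V)) := injective_app_of_mono (toDiagram Z F T) V
    exact (injective_res_congr F (UV_eq' T.U V) _ _).1 h1
  · intro h T
    refine mono_of_isBasis _ X.isBasis_affineOpens (fun V hV ↦ ?_)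
    have h1 := h T V (IsAffineOpen.isCompact hV)
    exact (injective_res_congr F (UV_eq' T.U V) (UV_le T.U V) _).2 h1

/-- S5845 -/
theorem isZClosed_iff_bijective_res_compl :
    IsZClosed Z F ↔ ∀ (T : Cl Z) (V : X.Opens), IsCompact (V : Set X) →
      Function.Bijective (F.presheaf.map (homOfLE (inf_le_left : V ⊓ T.U ≤ V)).op) := by
  rw [isZClosed_iff_forall_isIso_toDiagram]
  constructor
  · intro h T V _
    have := h T
    have h1 : Function.Bijective (res F (UV_le T.U V)) := bijective_app_of_isIso (toDiagram Z F T) V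
    exact (bijective_res_congr F (UV_eq' T.U V) _ _).1 h1
  · intro h T
    refine isIso_of_isBasis _ X.isBasis_affineOpens (fun V hV ↦ ?_)
    have h1 := h T V (IsAffineOpen.isCompact hV)
    exact (bijective_res_congr F (UV_eq' T.U V) (UV_le T.U V) _).2 h1

/-- the inclusion of index sets for `Z' ⊆ Z`. -/
def clIncl {Z Z' : Set X} (h : Z' ⊆ Z) (T : Cl Z') : Cl Z := ⟨T.1, T.2.trans h⟩

/-- S5848 -/
theorem isZPure_isZClosed_mono_set (Z' : Set X) (h : Z' ⊆ Z) :
    (IsZPure Z F → IsZPure Z' F) ∧ (IsZClosed Z F → IsZClosed Z' F) := by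
  constructor
  · intro hp
    rw [isZPure_iff_forall_mono_toDiagram] at hp ⊢
    intro T
    exact hp (clIncl h T)
  · intro hc
    rw [isZClosed_iff_forall_isIso_toDiagram] at hc ⊢
    intro T
    exact hc (clIncl h T)

omit [IsLocallyNoetherian X] in
theorem resPushUnit_resPush (U : X.Opens) (M : X.Modules) :
    (resPushUnit U).app ((resPush U).obj M) = (resPush U).map ((resPushUnit U).app M) := by
  ext V : 1
  rw [resPush_map_app, resPushUnit_app_app, resPushUnit_app_app, resPush_presheaf_map]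
  exact congrArg (fun k ↦ M.presheaf.map (Quiver.Hom.op k)) (Subsingleton.elim _ _)

/-- S5851 -/
theorem existsUnique_fac_rhoApp (F' : X.Modules) (hF' : IsZClosed Z F') (u : F ⟶ F') :
    ∃! v : (H0 Z).obj F ⟶ F', rhoApp Z F ≫ v = u := by
  have h1 : IsIso (rhoApp Z F') := hF'
  have nat : u ≫ rhoApp Z F' = rhoApp Z F ≫ (H0 Z).map u := (rho Z).naturality u
  refine ⟨(H0 Z).map u ≫ inv (rhoApp Z F'), ?_, ?_⟩
  · change rhoApp Z F ≫ (H0 Z).map u ≫ inv (rhoApp Z F') = u
    rw [← Category.assoc, ← nat, Category.assoc, IsIso.hom_inv_id, Category.comp_id]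
  · intro v hv
    have key : ∀ (v' : (H0 Z).obj F ⟶ F'), rhoApp Z F ≫ v' = u → ∀ T : Cl Z,
        (ιH Z F T ≫ v') ≫ toDiagram Z F' T = (resPush T.U).map u := by
      intro v' hv' T
      have n1 : (ιH Z F T ≫ v') ≫ toDiagram Z F' T =
          (resPushUnit T.U).app ((resPush T.U).obj F) ≫ (resPush T.U).map (ιH Z F T ≫ v') :=
        (resPushUnit T.U).naturality (ιH Z F T ≫ v')
      rw [n1, resPushUnit_resPush, ← Functor.map_comp]
      congr 1
      change toDiagram Z F T ≫ ιH Z F T ≫ v' = u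
      rw [← Category.assoc, ← rhoApp_eq' Z F T]
      exact hv'
    apply colimit.hom_ext
    intro T
    have := isIso_toDiagram_of_isZClosed Z F' hF' T
    have e1 := key v hv T
    have e2 := key ((H0 Z).map u ≫ inv (rhoApp Z F')) (by
      rw [← Category.assoc, ← nat, Category.assoc, IsIso.hom_inv_id, Category.comp_id]) T
    exact (cancel_mono (toDiagram Z F' T)).1 (e1.trans e2.symm)

end Groth.Agent.H7.ZClosSec
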