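import Groth.Agent.H7.ZClosBase
import Groth.Prelude.Def_ZClos

set_option autoImplicit false
universe u

open CategoryTheory CategoryTheory.Limits AlgebraicGeometry TopologicalSpace Opposite
open ZClos Groth.Agent.H7.ZClosBase

namespace Groth.Agent.H7.ZClosMain

variable {X : Scheme.{u}}

section Res

/-- restriction of sections of a module along an inclusion of opens. -/
noncomputable abbrev res (M : X.Modules) {A B : X.Opens} (h : A ≤ B) : Γ(M, B) → Γ(M, A) :=
  fun s ↦ M.presheaf.map (homOfLE h).op s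

theorem res_res (M : X.Modules) {A B C : X.Opens} (h : A ≤ B) (h' : B ≤ C) (s : Γ(M, C)) :
    res M h (res M h' s) = res M (h.trans h') s := by
  change M.presheaf.map (homOfLE h).op (M.presheaf.map (homOfLE h').op s) = _
  rw [← Functor.map_comp_apply, ← op_comp]
  rfl

theorem res_self (M : X.Modules) {A : X.Opens} (h : A ≤ A) (s : Γ(M, A)) : res M h s = s := by
  change M.presheaf.map (homOfLE h).op s = s
  rw [show homOfLE h = 𝟙 A from Subsingleton.elim _ _, op_id, M.presheaf.map_id]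
  rfl

theorem map_eq_res (M : X.Modules) {A B : X.Opens} (i : A ⟶ B) (s : Γ(M, B)) :
    M.presheaf.map i.op s = res M i.le s := by
  rw [show i = homOfLE i.le from Subsingleton.elim _ _]

theorem germ_res' (M : X.Modules) {A B : X.Opens} (h : A ≤ B) (x : X) (hx : x ∈ A) (s : Γ(M, B)) :
    germ M A x hx (res M h s) = germ M B x (h hx) s :=
  germ_res M (homOfLE h) x hx s

theorem app_res' {M N : X.Modules} (φ : M ⟶ N) {A B : X.Opens} (h : A ≤ B) (s : Γ(M, B)) :
    φ.app A (res M h s) = res N h (φ.app B s) :=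
  app_res φ (homOfLE h) s

theorem res_zero (M : X.Modules) {A B : X.Opens} (h : A ≤ B) : res M h 0 = 0 :=
  (M.presheaf.map (homOfLE h).op).hom.map_zero

theorem res_sub (M : X.Modules) {A B : X.Opens} (h : A ≤ B) (s t : Γ(M, B)) :
    res M h (s - t) = res M h s - res M h t :=
  (M.presheaf.map (homOfLE h).op).hom.map_sub s t

end Res

section ResPush

/-- `U ∩ V`, in the form in which it occurs as the sections of `j_* j^* F`. -/
abbrev UV (U V : X.Opens) : X.Opens := U.ι ''ᵁ U.ι ⁻¹ᵁ V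

theorem UV_eq (U V : X.Opens) : UV U V = U ⊓ V := ι_image_preimage U V

theorem UV_le (U V : X.Opens) : UV U V ≤ V := U.ι.image_preimage_le V

theorem UV_le_left (U V : X.Opens) : UV U V ≤ U := by rw [UV_eq]; exact inf_le_left

theorem UV_mono {U U' V V' : X.Opens} (hU : U ≤ U') (hV : V ≤ V') : UV U V ≤ UV U' V' := by
  rw [UV_eq, UV_eq]; exact inf_le_inf hU hV

theorem mem_UV {U V : X.Opens} {x : X} : x ∈ UV U V ↔ x ∈ U ∧ x ∈ V := by
  rw [UV_eq]; rfl

theorem resPush_map_eq_res (U : X.Opens) (M : X.Modules) {V W : X.Opens} (h : W ≤ V)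
    (t : Γ((resPush U).obj M, V)) :
    res ((resPush U).obj M) h t = res M (UV_mono le_rfl h) t := by
  exact map_eq_res M (U.ι.opensFunctor.map ((Opens.map U.ι.base).map (homOfLE h)))
    (show Γ(M, UV U V) from t)

theorem resPushUnit_app_eq_res (U : X.Opens) (M : X.Modules) (V : X.Opens) (s : Γ(M, V)) :
    ((resPushUnit U).app M).app V s = res M (UV_le U V) s := rfl

theorem resPushMapApp_app_eq_res {U U' : X.Opens} (h : U' ≤ U) (M : X.Modules) (V : X.Opens)
    (t : Γ((resPush U).obj M, V)) :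
    (resPushMapApp h M).app V t = res M (UV_mono h le_rfl) t := by
  rw [resPushMapApp_app]
  rfl

/-- the unit `F ⟶ j_* j^* F` is bijective on stalks at points of `U`. -/
theorem bijective_stalk_resPushUnit (U : X.Opens) (M : X.Modules) (x : X) (hx : x ∈ U) :
    Function.Bijective ((stalkF x).map ((resPushUnit U).app M)) := by
  constructor
  · rw [injective_iff_map_eq_zero]
    intro γ hγ
    obtain ⟨V, hxV, s, rfl⟩ := TopCat.Presheaf.exists_germ_eq M.presheaf γ
    have hγ' : germ ((resPush U).obj M) V x hxV (((resPushUnit U).app M).app V s) = 0 :=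
      (stalkF_map_germ ((resPushUnit U).app M) x V hxV s).symm.trans hγ
    obtain ⟨W, hxW, i, hW⟩ := exists_res_eq_zero_of_germ_eq_zero _ _ _ _ _ hγ'
    rw [map_eq_res, resPush_map_eq_res, resPushUnit_app_eq_res, res_res] at hW
    have hxA : x ∈ UV U W := mem_UV.2 ⟨hx, hxW⟩
    have h1 := germ_res' M ((UV_mono le_rfl i.le).trans (UV_le U V)) x hxA s
    have h2 : germ M (UV U W) x hxA (res M ((UV_mono le_rfl i.le).trans (UV_le U V)) s) = 0 := by
      rw [hW]; exact germ_zero M (UV U W) x hxA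
    exact h1.symm.trans h2
  · intro δ
    obtain ⟨V, hxV, t, rfl⟩ := TopCat.Presheaf.exists_germ_eq ((resPush U).obj M).presheaf δ
    have hxA : x ∈ UV U V := mem_UV.2 ⟨hx, hxV⟩
    refine ⟨germ M (UV U V) x hxA t, ?_⟩
    refine (stalkF_map_germ ((resPushUnit U).app M) x (UV U V) hxA t).trans ?_
    have h1 := germ_res' ((resPush U).obj M) (UV_le U V) x hxA t
    refine Eq.trans ?_ h1
    congr 1

end ResPush


section Colim

variable (Z : Set X) (F : X.Modules)

/-- the colimit cocone defining `H⁰_{X/Z}(F)`. -/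
noncomputable abbrev cc : Cocone ((diagram Z).obj F) := colimit.cocone ((diagram Z).obj F)

/-- it is a colimit. -/
noncomputable abbrev hcc : IsColimit (cc Z F) := colimit.isColimit _

/-- the colimit injections `(i_T)_*(F|_{X∖T}) ⟶ H⁰_{X/Z}(F)`. -/
noncomputable abbrev ιH (T : Cl Z) : (resPush T.U).obj F ⟶ (H0 Z).obj F :=
  colimit.ι ((diagram Z).obj F) T

theorem rhoApp_eq' (T : Cl Z) : rhoApp Z F = toDiagram Z F T ≫ ιH Z F T := rhoApp_eq Z F T

theorem diagram_map_app {T T' : Cl Z} (h : T ≤ T') (V : X.Opens)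
    (t : Γ((resPush T.U).obj F, V)) :
    (((diagram Z).obj F).map (homOfLE h)).app V t = res F (UV_mono (Cl.U_anti h) le_rfl) t :=
  resPushMapApp_app_eq_res (Cl.U_anti h) F V t

theorem toDiagram_app (T : Cl Z) (V : X.Opens) (s : Γ(F, V)) :
    (toDiagram Z F T).app V s = res F (UV_le T.U V) s := rfl

theorem rhoStalk_eq (x : X) : rhoStalk Z F x = (stalkF x).map (rhoApp Z F) := rfl

/-- if the germ of `s` dies in `H⁰_{X/Z}(F)_x`, it dies in some `((i_T)_*(F|_{X∖T}))_x`. -/
theorem exists_stalk_toDiagram_eq_zero (x : X) (γ : (stalkF x).obj F)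
    (h : (stalkF x).map (rhoApp Z F) γ = 0) :
    ∃ T : Cl Z, (stalkF x).map (toDiagram Z F T) γ = 0 := by
  rw [rhoApp_eq' Z F ⊥, Functor.map_comp] at h
  obtain ⟨T, f, hf⟩ := stalk_eq_zero (hcc Z F) x ⊥ ((stalkF x).map (toDiagram Z F ⊥) γ) h
  refine ⟨T, ?_⟩
  rw [← toDiagram_map Z F f, Functor.map_comp]
  exact hf

/-- every germ of `H⁰_{X/Z}(F)` comes from some `(i_T)_*(F|_{X∖T})`. -/
theorem exists_stalk_ιH_eq (x : X) (δ : (stalkF x).obj ((H0 Z).obj F)) :
    ∃ (T : Cl Z) (γ' : (stalkF x).obj ((resPush T.U).obj F)),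
      (stalkF x).map (ιH Z F T) γ' = δ :=
  stalk_jointly_surjective (hcc Z F) x δ

theorem mem_U_of_not_mem {Z : Set X} (T : Cl Z) {x : X} (hx : x ∉ Z) : x ∈ T.U :=
  fun h ↦ hx (T.2 h)

/-- S5849: outside `Z`, `ρ_{X/Z}` is bijective on stalks. -/
theorem isZClosedAt_of_not_mem (x : X) (hx : x ∉ Z) : IsZClosedAt Z F x := by
  change Function.Bijective ((stalkF x).map (rhoApp Z F))
  constructor
  · rw [injective_iff_map_eq_zero]
    intro γ hγ
    obtain ⟨T, hT⟩ := exists_stalk_toDiagram_eq_zero Z F x γ hγ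
    have hb := bijective_stalk_resPushUnit T.U F x (mem_U_of_not_mem T hx)
    exact (injective_iff_map_eq_zero _).1 hb.1 γ hT
  · intro δ
    obtain ⟨T, γ', rfl⟩ := exists_stalk_ιH_eq Z F x δ
    obtain ⟨γ, rfl⟩ := (bijective_stalk_resPushUnit T.U F x (mem_U_of_not_mem T hx)).2 γ'
    refine ⟨γ, ?_⟩
    rw [rhoApp_eq' Z F T, Functor.map_comp]
    rfl

/-- S5842 -/
theorem isZPure_iff_forall_mono_toDiagram :
    IsZPure Z F ↔ ∀ T : Cl Z, Mono (toDiagram Z F T) := by
  constructor
  · intro h T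
    have h' : Mono (toDiagram Z F T ≫ ιH Z F T) := by
      rw [← rhoApp_eq' Z F T]; exact h
    exact mono_of_mono (toDiagram Z F T) (ιH Z F T)
  · intro h
    change Mono (rhoApp Z F)
    rw [mono_iff_injective_stalk]
    intro x
    rw [injective_iff_map_eq_zero]
    intro γ hγ
    obtain ⟨T, hT⟩ := exists_stalk_toDiagram_eq_zero Z F x γ hγ
    have := (mono_iff_injective_stalk (toDiagram Z F T)).1 (h T) x
    exact (injective_iff_map_eq_zero _).1 this γ hT

end Colim

end Groth.Agent.H7.ZClosMain
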