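import Groth.Agent.H7.ZClosSec

set_option autoImplicit false
universe u

open CategoryTheory CategoryTheory.Limits AlgebraicGeometry TopologicalSpace Opposite
open ZClos Groth.Agent.H7.ZClosBase Groth.Agent.H7.ZClosMain Groth.Agent.H7.ZClosSec

namespace Groth.Agent.H7.ZClosSupp

variable {X : Scheme.{u}}

/-- a section all of whose germs vanish is zero. -/
theorem eq_zero_of_germ_eq_zero (M : X.Modules) (U : X.Opens) (s : Γ(M, U))
    (h : ∀ (x : X) (hx : x ∈ U), germ M U x hx s = 0) : s = 0 := by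
  apply TopCat.Presheaf.section_ext (shf M) U s 0
  intro x hx
  exact (h x hx).trans (germ_zero M U x hx).symm

theorem mem_Cl_U {Z : Set X} (T : Cl Z) (x : X) : x ∈ T.U ↔ x ∉ (T.1 : Set X) := Iff.rfl

/-- the support of a section. -/
def supp (M : X.Modules) {W : X.Opens} (a : Γ(M, W)) : Set X :=
  {x | ∃ hx : x ∈ W, germ M W x hx a ≠ 0}

theorem supp_subset (M : X.Modules) {W : X.Opens} (a : Γ(M, W)) : supp M a ⊆ W :=
  fun _ hx ↦ hx.1

theorem closure_supp_inter_subset (M : X.Modules) {W : X.Opens} (a : Γ(M, W)) :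
    closure (supp M a) ∩ W ⊆ supp M a := by
  rintro x ⟨hx1, hx2⟩
  by_contra hx3
  have h0 : germ M W x hx2 a = 0 := by
    by_contra h
    exact hx3 ⟨hx2, h⟩
  obtain ⟨W', hxW', i, hW'⟩ := exists_res_eq_zero_of_germ_eq_zero M W x hx2 a h0
  obtain ⟨x', hx'1, hx'2⟩ := mem_closure_iff.1 hx1 W' W'.isOpen hxW'
  obtain ⟨hx'W, hx'ne⟩ := hx'2
  apply hx'ne
  rw [← germ_res M i x' hx'1 a, hW']
  exact germ_zero M W' x' hx'1

variable [IsLocallyNoetherian X] (Z : Set X) (hZ : StableUnderSpecialization Z) (F : X.Modules)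

include hZ in
/-- a section over a quasi-compact open whose support lies in `Z` vanishes outside a closed subset
of `X` contained in `Z`. -/
theorem exists_cl_res_eq_zero (W : X.Opens) (a : Γ(F, W)) (ha : supp F a ⊆ Z) :
    ∃ T : Cl Z, ∀ (A : X.Opens) (hAW : A ≤ W), A ≤ T.U → res F hAW a = 0 := by
  have hcl : closure (supp F a) ⊆ Z :=
    closure_subset_of_stableUnderSpecialization Z hZ W (supp F a) (supp_subset F a)
      (closure_supp_inter_subset F a) ha
  refine ⟨⟨⟨closure (supp F a), isClosed_closure⟩, hcl⟩, ?_⟩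
  intro A hAW hAT
  apply eq_zero_of_germ_eq_zero
  intro x hx
  rw [germ_res' F hAW x hx a]
  by_contra h
  exact hAT hx (subset_closure ⟨hAW hx, h⟩)


omit [IsLocallyNoetherian X] in
theorem section_eq_zero_of_isZero (M : X.Modules) (hM : IsZero M) (U : X.Opens) (s : Γ(M, U)) :
    s = 0 := by
  have h1 : (𝟙 M : M ⟶ M) = 0 := hM.eq_of_src _ _
  have h2 : (𝟙 M : M ⟶ M).app U s = (0 : M ⟶ M).app U s := by rw [h1]
  exact h2

omit [IsLocallyNoetherian X] in
theorem isZero_of_forall_section_eq_zero (M : X.Modules)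
    (h : ∀ (U : X.Opens) (s : Γ(M, U)), s = 0) : IsZero M := by
  rw [IsZero.iff_id_eq_zero]
  ext U s
  exact (h U s).trans (h U _).symm

include hZ in
/-- S5870 -/
theorem isZero_H0_iff_support_subset :
    IsZero ((H0 Z).obj F) ↔ ∀ x : X, x ∉ Z → Subsingleton (F.presheaf.stalk x) := by
  constructor
  · intro h x hx
    have hb : Function.Bijective ((stalkF x).map (rhoApp Z F)) := isZClosedAt_of_not_mem Z F x hx
    constructor
    intro a b
    apply hb.1
    obtain ⟨U, hxU, s, hs⟩ := TopCat.Presheaf.exists_germ_eq ((H0 Z).obj F).presheaf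
      ((stalkF x).map (rhoApp Z F) a)
    obtain ⟨U', hxU', s', hs'⟩ := TopCat.Presheaf.exists_germ_eq ((H0 Z).obj F).presheaf
      ((stalkF x).map (rhoApp Z F) b)
    rw [← hs, ← hs', section_eq_zero_of_isZero _ h U s, section_eq_zero_of_isZero _ h U' s']
    exact (germ_zero _ U x hxU).trans (germ_zero _ U' x hxU').symm
  · intro h
    apply isZero_of_forall_section_eq_zero
    intro U s
    apply eq_zero_of_germ_eq_zero
    intro y hy
    obtain ⟨V, hyV, hV, s', hs'⟩ := TopCat.Presheaf.exists_mem_germ_eq_of_isBasis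
      X.isBasis_affineOpens ((H0 Z).obj F).presheaf y (germ _ U y hy s)
    rw [← hs']
    have hVc : IsCompact (V : Set X) := IsAffineOpen.isCompact hV
    obtain ⟨T, -, a, rfl⟩ := exists_ιH_app_eq Z F V hVc ⊥ s'
    have hsupp : supp F (W := UV T.U V) a ⊆ Z := by
      rintro x ⟨hx, hne⟩
      by_contra hxZ
      have : Subsingleton ((stalkF x).obj F) := h x hxZ
      exact hne (Subsingleton.elim _ _)
    obtain ⟨T', hT'⟩ := exists_cl_res_eq_zero Z hZ F (UV T.U V) a hsupp
    have hle : T ≤ T ⊔ T' := le_sup_left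
    have h0 : (((diagram Z).obj F).map (homOfLE hle)).app V a = 0 := by
      rw [diagram_map_app]
      apply hT'
      exact (UV_le_left _ V).trans (Cl.U_anti (le_sup_right : T' ≤ T ⊔ T'))
    have e1 : (ιH Z F T).app V a = 0 := by
      rw [← ιH_map_app Z F hle V a, h0]
      exact ιH_app_zero Z F (T ⊔ T') V
    exact (congrArg (germ ((H0 Z).obj F) V y hyV) e1).trans (germ_zero _ V y hyV)

end Groth.Agent.H7.ZClosSupp
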