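import Groth.Agent.H7.ZDepthOpen
import Groth.Agent.H8.AssPoints
import Groth.Agent.H8.QcqsPush
import Groth.Agent.H71.QCoh.ExactSections
import Groth.Prelude.Def_FDesc
import Groth.Prelude.Def_Coh

set_option autoImplicit false
universe u

open CategoryTheory CategoryTheory.Limits AlgebraicGeometry TopologicalSpace Opposite
open ZClos Groth.Agent.H7.ZClosBase Groth.Agent.H7.ZClosMain Groth.Agent.H7.ZClosSec
open Groth.Agent.H7.ZClosLoc

namespace Groth.Agent.H7.ZDepthPush

variable {X : Scheme.{u}} (Z : Set X) (F : X.Modules)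

/-- a quasi-coherent module none of whose associated points lies in `Z` is `Z`-pure. -/
theorem isZPure_of_ass_disjoint [F.IsQuasicoherent] (hass : ∀ x ∈ AssSch.Ass F, x ∉ Z) :
    IsZPure Z F := by
  rw [isZPure_iff_injective_res]
  rintro A B h ⟨T, hT⟩
  refine Groth.Agent.H8.restrict_injective_of_weakAssPoints_subset F h ?_
  intro x hxA hx
  apply hT
  refine ⟨hxA, ?_⟩
  have h1 : x ∈ AssSch.Ass F := (Groth.Agent.H8.isAssPoint_iff_isWeakAssPoint F x).2 hx
  have h2 := hass x h1
  by_contra h3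
  exact h2 (T.2 (by simpa [Cl.U] using h3))

/-- for a `Z`-pure module, the canonical maps `i_*(F|X∖T) ⟶ H⁰_{X/Z}(F)` are monomorphisms. -/
theorem mono_ιH (hp : IsZPure Z F) (T : Cl Z) : Mono (ιH Z F T) := by
  apply mono_of_isBasis (ιH Z F T) X.isBasis_affineOpens
  intro W hW
  rw [injective_iff_map_eq_zero]
  intro a ha
  obtain ⟨T', h, h0⟩ := exists_res_eq_zero_of_ιH_eq_zero Z F W hW.isCompact T a ha
  have hinj := (isZPure_iff_injective_res Z F).1 hp (UV T.U W) (UV T'.U W)
    (UV_mono (Cl.U_anti h) (le_refl W)) ⟨T', by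
      rw [UV_eq, UV_eq]
      intro x hx
      exact ⟨hx.2, hx.1.2⟩⟩
  apply hinj
  exact h0.trans (res_zero F _).symm

variable [IsLocallyNoetherian X]

/-- quasi-coherence of `i_*(F|U)` on a locally noetherian scheme. -/
theorem isQuasicoherent_resPush [F.IsQuasicoherent] (U : X.Opens) :
    ((resPush U).obj F).IsQuasicoherent :=
  Groth.Agent.H8.isQuasicoherent_pushforward_of_qcqs U.ι
    ((Scheme.Modules.restrictFunctor U.ι).obj F)

/-- a) ⇒ d). -/
theorem isCoh_resPush (hF : Coh.IsCoh F) (hass : ∀ x ∈ AssSch.Ass F, x ∉ Z)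
    (hH : Coh.IsCoh ((H0 Z).obj F)) (T : Cl Z) : Coh.IsCoh ((resPush T.U).obj F) := by
  have := hF.1
  have := hH.1
  have := hH.2
  have := isQuasicoherent_resPush F T.U
  have := mono_ιH Z F (isZPure_of_ass_disjoint Z F hass) T
  exact ⟨inferInstance, Groth.Agent.H71.QCoh.isFiniteType_of_mono (ιH Z F T)⟩

end Groth.Agent.H7.ZDepthPush
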