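import Groth.Agent.H7.ZDepthS2
import Groth.Agent.H7.ZDepthPush
import Groth.Agent.H7.BadDomain
import Groth.Agent.H72.DepthLocIneq
import Groth.Agent.S2666
import Groth.Agent.S5841

set_option autoImplicit false
set_option linter.unusedSectionVars false
universe u

open CategoryTheory CategoryTheory.Limits AlgebraicGeometry TopologicalSpace Opposite
open ZClos Groth.Agent.H7.ZClosBase Groth.Agent.H7.ZClosMain Groth.Agent.H7.ZClosSec
open Groth.Agent.H7.ZClosLoc Groth.Agent.H7.ZDepthPt Groth.Agent.H7.ZDepthConv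
open Groth.Agent.H7.ZDepthDim Groth.Agent.H7.ZDepthOpen Groth.Agent.H7.ZDepthPush

namespace Groth.Agent.H7.ZCohFamily

section ResPushClosed

variable {X : Scheme.{u}} (F : X.Modules)

theorem bijective_res_of_eq {A B : X.Opens} (h : B ≤ A) (h' : A ≤ B) :
    Function.Bijective (res F h) := by
  refine Function.bijective_iff_has_inverse.2 ⟨res F h', fun s ↦ ?_, fun s ↦ ?_⟩
  · rw [res_res, res_self]
  · rw [res_res, res_self]

variable [IsLocallyNoetherian X] {Z : Set X}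

/-- `i_*(F|X∖T)` is `T`-closed. -/
theorem isZClosed_resPush (T : Cl Z) :
    IsZClosed (T.1 : Set X) ((resPush T.U).obj F) := by
  rw [isZClosed_iff_bijective_res]
  rintro A B h ⟨T', hT'⟩
  have hUU : T.U ≤ T'.U := fun x hx hxT' ↦ hx (T'.2 hxT')
  have hle : UV T.U A ≤ UV T.U B := by
    intro x hx
    rw [mem_UV] at hx ⊢
    exact ⟨hx.1, hT' ⟨hx.2, hUU hx.1⟩⟩
  have h1 := bijective_res_of_eq F (UV_mono le_rfl h : UV T.U B ≤ UV T.U A) hle
  have h2 : res ((resPush T.U).obj F) h = res F (UV_mono le_rfl h) := by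
    funext t
    exact resPush_map_eq_res T.U F h t
  rw [h2]
  exact h1

/-- depth `≥ 2` of `i_*(F|X∖T)` at the points of `T`, when it is coherent. -/
theorem two_le_depth_resPush (T : Cl Z) (hG : Coh.IsCoh ((resPush T.U).obj F)) (y : X)
    (hy : y ∈ (T.1 : Set X)) :
    (2 : ℕ∞) ≤ LocCoh.depth (X.presheaf.stalk y) (((resPush T.U).obj F).presheaf.stalk y) := by
  have := hG.1
  have := hG.2
  have hT : StableUnderSpecialization (T.1 : Set X) := T.1.isClosed.stableUnderSpecialization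
  have h1 : IsIso (rhoApp (T.1 : Set X) ((resPush T.U).obj F)) := isZClosed_resPush F T
  have h2 : IsZClosedAt (T.1 : Set X) ((resPush T.U).obj F) y :=
    bijective_stalk_of_isIso (rhoApp (T.1 : Set X) ((resPush T.U).obj F)) y
  exact (isZClosedAt_iff ((resPush T.U).obj F) (T.1 : Set X) hT y).1 h2 y specializes_rfl hy

end ResPushClosed

section Chart

variable {X : Scheme.{u}} [IsLocallyNoetherian X] (Z : Set X)
  (F : X.Modules) [F.IsQuasicoherent] [SheafOfModules.IsFiniteType (R := X.ringCatSheaf) F]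

/-- the points of `Z` where `F` has depth at most one -/
def badPts : Set X :=
  {z | z ∈ Z ∧ ¬ (2 : ℕ∞) ≤ LocCoh.depth (X.presheaf.stalk z) (F.presheaf.stalk z)}

/-- under the hypotheses of d) ⇒ a), the bad points are finite in number in each affine open. -/
theorem finite_badPts_inter (hass : ∀ x ∈ AssSch.Ass F, x ∉ Z)
    (hX : ∀ (V : X.Opens) (hV : IsAffineOpen V) (x : X) (hxV : x ∈ V), x ∈ AssSch.Ass F →
        CAlg.IsUniversallyCatenary (Γ(X, V) ⧸ (hV.primeIdealOf ⟨x, hxV⟩).asIdeal) ∧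
          CAlg.IsN1 (Γ(X, V) ⧸ (hV.primeIdealOf ⟨x, hxV⟩).asIdeal))
    (𝒯 : Set (Cl Z)) (hcov : ∀ z ∈ Z, ∃ T ∈ 𝒯, z ∈ (T.1 : Set X))
    (hd : ∀ T ∈ 𝒯, Coh.IsCoh ((resPush T.U).obj F))
    {V : X.Opens} (hV : IsAffineOpen V) : (badPts Z F ∩ (V : Set X)).Finite := by
  have := noeth hV
  have := fin F hV
  let ZV : Set (PrimeSpectrum Γ(X, V)) := {P | hV.fromSpec P ∈ Z}
  have hpure : IsZPure Z F := isZPure_of_ass_disjoint Z F hass
  have hgood : Groth.Agent.H7.BadDepth.Good ZV Γ(F, V) := by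
    apply Groth.Agent.H7.BadDepth.good_of_heightOneHullFinite
    · intro P hP
      have hxV := fromSpec_mem hV P
      have hpI : pI hV hxV = P.asIdeal := pI_fromSpec hV P
      have hx : Curv2.IsAssPoint F (hV.fromSpec P) := (isAssPoint_iff F hV hxV).2 (hpI ▸ hP)
      have hPeq : hV.primeIdealOf ⟨hV.fromSpec P, hxV⟩ = P :=
        Groth.Agent.H6.HartogsMod.primeIdealOf_fromSpec hV P hxV
      obtain ⟨huc, hn1⟩ := hX V hV (hV.fromSpec P) hxV hx
      rw [hPeq] at huc hn1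
      exact Groth.Agent.S2666.result _ huc hn1
    · intro P hP z hz hPz
      have hyV := fromSpec_mem hV z
      have hyZ : hV.fromSpec z ∈ Z := hz
      obtain ⟨T, hT𝒯, hyT⟩ := hcov _ hyZ
      have hG := hd T hT𝒯
      have := hG.1
      have := hG.2
      have := fin ((resPush T.U).obj F) hV
      have hdepth := two_le_depth_resPush F T hG _ hyT
      rw [Groth.Agent.H6.HartogsMod.depth_stalk_fromSpec_eq X ((resPush T.U).obj F) V hV z
        Γ((resPush T.U).obj F, V) (LinearEquiv.refl _ _)] at hdepth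
      have hmono : Mono (toDiagram Z F T) := (isZPure_iff_forall_mono_toDiagram Z F).1 hpure T
      have hinj : Function.Injective (Groth.Agent.H92.LocFreeRank.appLin (toDiagram Z F T) V) :=
        injective_app_of_mono (toDiagram Z F T) V
      have hPass : P.asIdeal ∈ associatedPrimes Γ(X, V) Γ((resPush T.U).obj F, V) :=
        associatedPrimes.subset_of_injective hinj hP
      have key := Groth.Agent.H72.DepthLocIneq.depth_localization_le_height_of_mem_associatedPrimes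
        Γ((resPush T.U).obj F, V) P.asIdeal z.asIdeal hPz hPass
      exact hdepth.trans key
  refine (hgood.image (fun P ↦ hV.fromSpec P)).subset ?_
  rintro z ⟨⟨hzZ, hzd⟩, hzV⟩
  have hz' : hV.fromSpec (hV.primeIdealOf ⟨z, hzV⟩) = z := hV.fromSpec_primeIdealOf ⟨z, hzV⟩
  refine ⟨hV.primeIdealOf ⟨z, hzV⟩, ⟨?_, ?_⟩, hz'⟩
  · change hV.fromSpec (hV.primeIdealOf ⟨z, hzV⟩) ∈ Z
    rw [hz']
    exact hzZ
  · rw [depth_eq F hV hzV] at hzd
    exact hzd

end Chart

section Main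

variable {X : Scheme.{u}} [IsLocallyNoetherian X] (Z : Set X) (hZ : StableUnderSpecialization Z)
  (F : X.Modules) [F.IsQuasicoherent] [SheafOfModules.IsFiniteType (R := X.ringCatSheaf) F]

omit [IsLocallyNoetherian X] [F.IsQuasicoherent]
  [SheafOfModules.IsFiniteType (R := X.ringCatSheaf) F] in
/-- a finite subset of `Z` lies in a member of a directed covering family. -/
theorem exists_mem_family_of_finite (𝒯 : Set (Cl Z)) (hdir : DirectedOn (· ≤ ·) 𝒯)
    (hcov : ∀ z ∈ Z, ∃ T ∈ 𝒯, z ∈ (T.1 : Set X)) (S : Set X) (hS : S.Finite) (hSZ : S ⊆ Z)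
    (hne : 𝒯.Nonempty) : ∃ T ∈ 𝒯, S ⊆ (T.1 : Set X) := by
  induction S, hS using Set.Finite.induction_on with
  | empty =>
    obtain ⟨T, hT⟩ := hne
    exact ⟨T, hT, Set.empty_subset _⟩
  | @insert z S hz hS ih =>
    obtain ⟨T₁, hT₁, h1⟩ := ih (fun x hx ↦ hSZ (Set.mem_insert_of_mem z hx))
    obtain ⟨T₂, hT₂, h2⟩ := hcov z (hSZ (Set.mem_insert z S))
    obtain ⟨T, hT, h1T, h2T⟩ := hdir T₁ hT₁ T₂ hT₂
    refine ⟨T, hT, ?_⟩
    rintro x (rfl | hx)
    · exact h2T h2
    · exact h1T (h1 hx)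

/-- sections of `i_*(F|X∖∅)` over an affine open are finitely generated. -/
theorem finite_sections_resPush_bot {V : X.Opens} (hV : IsAffineOpen V) :
    Module.Finite Γ(X, V) Γ((resPush (⊥ : Cl Z).U).obj F, V) := by
  have := fin F hV
  refine Module.Finite.of_surjective
    (Groth.Agent.H92.LocFreeRank.appLin (toDiagram Z F ⊥) V) ?_
  have hle : V ≤ UV (⊥ : Cl Z).U V := by
    intro x hx
    rw [mem_UV]
    exact ⟨fun h ↦ h, hx⟩
  exact (bijective_res_of_eq F (UV_le (⊥ : Cl Z).U V) hle).2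

/-- if `T₂` contains the bad points of `V`, every section of `H⁰_{X/Z}(F)` over `V` comes from
`X ∖ T₂`. -/
theorem surjective_ιH_app {V : X.Opens} (hV : IsAffineOpen V) (T₂ : Cl Z)
    (hT₂ : badPts Z F ∩ (V : Set X) ⊆ (T₂.1 : Set X)) :
    Function.Surjective ((ιH Z F T₂).app V) := by
  intro s
  obtain ⟨T, hT, a, ha⟩ := exists_ιH_app_eq Z F V hV.isCompact T₂ s
  have hb := bijective_res_of_depth F (UV T₂.U V) (UV T.U V)
    (UV_mono (Cl.U_anti hT) le_rfl) (by
      intro x hxA hxB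
      rw [mem_UV] at hxA hxB
      by_contra hcon
      have hxT : x ∈ (T.1 : Set X) := by
        by_contra h
        exact hxB ⟨h, hxA.2⟩
      exact hxA.1 (hT₂ ⟨⟨T.2 hxT, hcon⟩, hxA.2⟩))
  obtain ⟨a', ha'⟩ := hb.2 a
  refine ⟨a', ?_⟩
  rw [← ha, ← ιH_map_app Z F hT V a', diagram_map_app]
  exact congrArg _ ha'

include hZ in
/-- **d) ⇒ a).** -/
theorem isCoh_H0 (hF : Coh.IsCoh F) (hass : ∀ x ∈ AssSch.Ass F, x ∉ Z)
    (hX : ∀ (V : X.Opens) (hV : IsAffineOpen V) (x : X) (hxV : x ∈ V), x ∈ AssSch.Ass F →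
        CAlg.IsUniversallyCatenary (Γ(X, V) ⧸ (hV.primeIdealOf ⟨x, hxV⟩).asIdeal) ∧
          CAlg.IsN1 (Γ(X, V) ⧸ (hV.primeIdealOf ⟨x, hxV⟩).asIdeal))
    (𝒯 : Set (Cl Z)) (hdir : DirectedOn (· ≤ ·) 𝒯)
    (hcov : ∀ z ∈ Z, ∃ T ∈ 𝒯, z ∈ (T.1 : Set X))
    (hd : ∀ T ∈ 𝒯, Coh.IsCoh ((resPush T.U).obj F)) :
    Coh.IsCoh ((H0 Z).obj F) := by
  have hq : ((H0 Z).obj F).IsQuasicoherent := Groth.Agent.S5841.result X Z hZ F hF.1
  refine ⟨hq, Groth.Agent.H71.QCoh.isFiniteType_of_finite_sections _ (fun V ↦ ?_)⟩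
  have hfin := finite_badPts_inter Z F hass hX 𝒯 hcov hd V.2
  -- a closed subset of `Z` containing the bad points of `V`, with finitely generated sections
  obtain ⟨T₂, hT₂, hT₂fin⟩ : ∃ T₂ : Cl Z, badPts Z F ∩ (V.1 : Set X) ⊆ (T₂.1 : Set X) ∧
      Module.Finite Γ(X, V.1) Γ((resPush T₂.U).obj F, V.1) := by
    by_cases hne : 𝒯.Nonempty
    · obtain ⟨T, hT, hST⟩ := exists_mem_family_of_finite Z 𝒯 hdir hcov _ hfin
        (fun x hx ↦ hx.1.1) hne
      have hG := hd T hT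
      have := hG.1
      have := hG.2
      exact ⟨T, hST, fin ((resPush T.U).obj F) V.2⟩
    · refine ⟨⊥, ?_, finite_sections_resPush_bot Z F V.2⟩
      rintro x ⟨⟨hxZ, -⟩, -⟩
      obtain ⟨T, hT, -⟩ := hcov x hxZ
      exact absurd ⟨T, hT⟩ hne
  exact Module.Finite.of_surjective (Groth.Agent.H92.LocFreeRank.appLin (ιH Z F T₂) V.1)
    (surjective_ιH_app Z F V.2 T₂ hT₂)

end Main

end Groth.Agent.H7.ZCohFamily
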