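import Groth.Agent.H7.ZDepthExt
import Groth.Agent.H8.QcqsPush

set_option autoImplicit false
universe u

open CategoryTheory CategoryTheory.Limits AlgebraicGeometry TopologicalSpace Opposite
open ZClos Groth.Agent.H7.ZClosBase Groth.Agent.H7.ZClosMain Groth.Agent.H7.ZClosSupp
open Groth.Agent.H7.ZClosSec Groth.Agent.H7.ZDepthPt Groth.Agent.H7.ZDepthSpread
open Groth.Agent.H7.ZDepthExt

namespace Groth.Agent.H7.ZDepthConv

section Scalars

variable {X : Scheme.{u}} (F : X.Modules)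

/-- restriction of functions. -/
noncomputable abbrev rX {A B : X.Opens} (h : A ≤ B) (a : Γ(X, B)) : Γ(X, A) :=
  X.presheaf.map (homOfLE h).op a

theorem rX_rX {A B C : X.Opens} (h : A ≤ B) (h' : B ≤ C) (a : Γ(X, C)) :
    rX h (rX h' a) = rX (h.trans h') a :=
  Groth.Agent.H8.rres_rres h h' a

theorem res_smul {A B : X.Opens} (h : A ≤ B) (a : Γ(X, B)) (s : Γ(F, B)) :
    res F h (a • s) = rX h a • res F h s :=
  Groth.Agent.H8.res_smul F h a s

theorem rX_mul {A B : X.Opens} (h : A ≤ B) (a b : Γ(X, B)) : rX h (a * b) = rX h a * rX h b :=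
  map_mul _ a b

theorem rX_pow {A B : X.Opens} (h : A ≤ B) (a : Γ(X, B)) (n : ℕ) : rX h (a ^ n) = rX h a ^ n :=
  map_pow _ a n

theorem isUnit_rX {W : X.Opens} (f : Γ(X, W)) {P : X.Opens} (hP : P ≤ X.basicOpen f) :
    IsUnit (rX (hP.trans (X.basicOpen_le f)) f) := by
  rw [← rX_rX hP (X.basicOpen_le f) f]
  exact (X.toRingedSpace.isUnit_res_basicOpen f).map _

/-- dividing a section by a regular function, locally on the locus where it is possible. -/
theorem exists_section_div {W : X.Opens} (I : Ideal Γ(X, W)) (a : Γ(X, W))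
    (ha : IsSMulRegular Γ(F, W) a) (m : Γ(F, W))
    (hm : ∀ f ∈ I, ∃ n : Γ(F, W), a • n = f • m) (O : X.Opens) (hOW : O ≤ W)
    (hO : ∀ y ∈ O, ∃ f ∈ I, y ∈ X.basicOpen f) :
    ∃ σ : Γ(F, O), rX hOW a • σ = res F hOW m := by
  choose n hn using hm
  let U : {f // f ∈ I} → X.Opens := fun i ↦ X.basicOpen i.1 ⊓ O
  have hUW : ∀ i, U i ≤ W := fun i ↦ inf_le_right.trans hOW
  have hunit : ∀ (i : {f // f ∈ I}) (P : X.Opens) (hP : P ≤ U i),
      IsUnit (rX (hP.trans (hUW i)) i.1) :=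
    fun i P hP ↦ isUnit_rX i.1 (hP.trans inf_le_left)
  -- local quotients
  have hτ : ∀ i : {f // f ∈ I}, ∃ τ : Γ(F, U i), rX (hUW i) i.1 • τ = res F (hUW i) (n i.1 i.2) := by
    intro i
    obtain ⟨u, hu⟩ := hunit i (U i) le_rfl
    refine ⟨(↑u⁻¹ : Γ(X, U i)) • res F (hUW i) (n i.1 i.2), ?_⟩
    rw [← hu, smul_smul, Units.mul_inv, one_smul]
  choose τ hτ using hτ
  have hcompat : ∀ i j, F.presheaf.map (Opens.infLELeft (U i) (U j)).op (τ i) =
      F.presheaf.map (Opens.infLERight (U i) (U j)).op (τ j) := by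
    intro i j
    rw [map_eq_res, map_eq_res]
    have hPW : U i ⊓ U j ≤ W := inf_le_left.trans (hUW i)
    have hu : IsUnit (rX hPW i.1 * rX hPW j.1) :=
      (hunit i _ inf_le_left).mul (hunit j _ inf_le_right)
    apply hu.smul_left_cancel.1
    have e1 : (rX hPW i.1 * rX hPW j.1) • res F inf_le_left (τ i) =
        res F hPW (j.1 • n i.1 i.2) := by
      rw [mul_comm, mul_smul, ← rX_rX inf_le_left (hUW i) i.1, ← res_smul, hτ i, res_res,
        res_smul]
    have e2 : (rX hPW i.1 * rX hPW j.1) • res F inf_le_right (τ j) =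
        res F hPW (i.1 • n j.1 j.2) := by
      rw [mul_smul, ← rX_rX inf_le_right (hUW j) j.1, ← res_smul, hτ j, res_res, res_smul]
    rw [e1, e2]
    congr 1
    apply ha
    change a • j.1 • n i.1 i.2 = a • i.1 • n j.1 j.2
    rw [smul_comm a j.1, smul_comm a i.1, hn i.1 i.2, hn j.1 j.2, smul_comm]
  obtain ⟨σ, hσ⟩ := exists_gluing F U O (fun i ↦ homOfLE inf_le_right)
    (fun y hy ↦ by
      obtain ⟨f, hf, hyf⟩ := hO y hy
      exact Opens.mem_iSup.2 ⟨⟨f, hf⟩, ⟨hyf, hy⟩⟩) τ hcompat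
  refine ⟨σ, ?_⟩
  apply eq_of_locally_eq F U O (fun i ↦ homOfLE inf_le_right)
    (fun y hy ↦ by
      obtain ⟨f, hf, hyf⟩ := hO y hy
      exact Opens.mem_iSup.2 ⟨⟨f, hf⟩, ⟨hyf, hy⟩⟩)
  intro i
  rw [map_eq_res, map_eq_res, res_smul, rX_rX, res_res]
  have hσi : res F inf_le_right σ = τ i := by
    rw [← hσ i, map_eq_res]
  rw [hσi]
  apply (hunit i (U i) le_rfl).smul_left_cancel.1
  rw [smul_comm, hτ i, ← res_smul, ← res_smul, hn i.1 i.2]

end Scalars

section Main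

variable {X : Scheme.{u}} [IsLocallyNoetherian X] (F : X.Modules) [F.IsQuasicoherent]
  [SheafOfModules.IsFiniteType (R := X.ringCatSheaf) F] (Z : Set X)
  (hZ : StableUnderSpecialization Z)

include hZ in
/-- if `ρ_{X/Z}` is bijective on stalks at `x`, the depth is at least two at the generizations of
`x` lying in `Z`. -/
theorem two_le_depth_of_isZClosedAt (x : X) (hbij : IsZClosedAt Z F x) (x' : X) (hx'x : x' ⤳ x)
    (hx'Z : x' ∈ Z) :
    (2 : ℕ∞) ≤ LocCoh.depth (X.presheaf.stalk x') (F.presheaf.stalk x') := by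
  have hpure := (isZPureAt_iff F Z hZ x).1 hbij.1
  by_contra hd2
  obtain ⟨W, hW, hxW, -, hWps⟩ := exists_affine_ass_generization F x ⊤ trivial
  have hWpure : ∀ y ∈ W, y ∈ Z →
      (1 : ℕ∞) ≤ LocCoh.depth (X.presheaf.stalk y) (F.presheaf.stalk y) := by
    intro y hy hyZ
    by_contra h
    exact h (hpure y (hWps y hy h) hyZ)
  have hx'W : x' ∈ W := hx'x.mem_open W.isOpen hxW
  have := noeth hW
  have := fin F hW
  obtain ⟨a, hap, ha⟩ := exists_regular F hW hx'W (fun y hy hx'y ↦ hWpure y hy (hZ hx'y hx'Z))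
  have hass : pI hW hx'W ∈ associatedPrimes Γ(X, W) (QuotSMulTop a Γ(F, W)) := by
    by_contra hass
    apply hd2
    rw [depth_eq F hW hx'W]
    exact Groth.Agent.H14.ZClos.two_le_depth_localization_of Γ(F, W) (pI hW hx'W) a hap ha hass
  obtain ⟨-, mbar, hmbar⟩ := isAssociatedPrime_iff.mp (AssociatedPrimes.mem_iff.mp hass)
  obtain ⟨m, rfl⟩ := Submodule.Quotient.mk_surjective _ mbar
  have hdiv : ∀ g : Γ(X, W), g ∈ pI hW hx'W ↔ ∃ n : Γ(F, W), a • n = g • m := by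
    intro g
    rw [hmbar, Submodule.mem_colon_singleton, Submodule.mem_bot, ← Submodule.Quotient.mk_smul,
      Submodule.Quotient.mk_eq_zero, Groth.Agent.H14.ZClos.mem_smul_top_iff]
  let T := clPt Z hZ hx'Z
  obtain ⟨σ, hσ⟩ := exists_section_div F (pI hW hx'W) a ha m (fun f hf ↦ (hdiv f).1 hf)
    (UV T.U W) (UV_le T.U W) (fun y hy ↦ by
      obtain ⟨hy1, hy2⟩ := mem_UV.1 hy
      have hnle : ¬ pI hW hx'W ≤ pI hW hy2 := fun hle ↦
        hy1 ((mem_clPt Z hZ hx'Z y).2 ((le_iff_specializes hW hx'W hy2).1 hle))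
      obtain ⟨f, hf, hfy⟩ := Set.not_subset.1 hnle
      exact ⟨f, hf, (Groth.Agent.H8.notMem_primeIdealOf_iff hW hy2 f).1 hfy⟩)
  have hext : ExtAt Z F T W σ x' :=
    hx'x.mem_open (isOpen_extAt T W σ) (extAt_of_surjective hbij.2 T W hxW σ)
  obtain ⟨V', hx'V', hV'W, T'', hTT'', w, hw⟩ := hext
  have hd : rX hV'W a • w - res F hV'W m = 0 := by
    apply eq_zero_of_res_eq_zero F Z W hWpure V' hV'W T''
    rw [res_sub, res_smul, hw, res_res, sub_eq_zero, rX_rX]
    have := congrArg (res F (UV_mono (Cl.U_anti hTT'') hV'W)) hσ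
    rw [res_smul, res_res, rX_rX] at this
    exact this
  obtain ⟨h, hhV', hx'h⟩ := hW.exists_basicOpen_le ⟨x', hx'V'⟩ hx'W
  obtain ⟨k, w₀, hw₀⟩ := Groth.Agent.H8.exists_res_eq_pow_smul F hW h (res F hhV' w)
  have hw₀' : res F (X.basicOpen_le h) w₀ = rX (X.basicOpen_le h) h ^ k • res F hhV' w := hw₀
  have hzero : res F (X.basicOpen_le h) (a • w₀ - h ^ k • m) = 0 := by
    rw [res_sub, res_smul, res_smul, hw₀', rX_pow, smul_comm, ← smul_sub]
    have := congrArg (res F hhV') hd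
    rw [res_sub, res_smul, res_res, rX_rX, res_zero] at this
    rw [this, smul_zero]
  obtain ⟨j, hj⟩ := Groth.Agent.H8.exists_pow_smul_eq_zero_of_res_basicOpen_eq_zero F hW h _ hzero
  have hmem : h ^ (j + k) ∈ pI hW hx'W := by
    rw [hdiv]
    refine ⟨h ^ j • w₀, ?_⟩
    rw [smul_sub, sub_eq_zero] at hj
    rw [smul_comm, hj, pow_add, mul_smul]
  have hh : h ∈ pI hW hx'W := Ideal.IsPrime.mem_of_pow_mem inferInstance _ hmem
  exact (Groth.Agent.H8.notMem_primeIdealOf_iff hW hx'W h).2 hx'h hh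

include hZ in
/-- S5856 -/
theorem isZClosedAt_iff (x : X) :
    IsZClosedAt Z F x ↔ ∀ x' : X, x' ⤳ x → x' ∈ Z →
      (2 : ℕ∞) ≤ LocCoh.depth (X.presheaf.stalk x') (F.presheaf.stalk x') :=
  ⟨fun h x' hx'x hx'Z ↦ two_le_depth_of_isZClosedAt F Z hZ x h x' hx'x hx'Z,
   fun hd ↦ ⟨(isZPureAt_iff F Z hZ x).2 (fun x' h1 h2 ↦ le_trans (by norm_num) (hd x' h1 h2)),
     surjective_of_extAt (fun T V hxV σ ↦ extAt_of_depth F Z hZ x hd T V hxV σ)⟩⟩

omit [F.IsQuasicoherent] [SheafOfModules.IsFiniteType (R := X.ringCatSheaf) F] in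
include hZ in
/-- S5857 -/
theorem two_le_depth_H0 (hH : Coh.IsCoh ((H0 Z).obj F)) (x : X) (hx : x ∈ Z) :
    (2 : ℕ∞) ≤ LocCoh.depth (X.presheaf.stalk x) (((H0 Z).obj F).presheaf.stalk x) := by
  have : ((H0 Z).obj F).IsQuasicoherent := hH.1
  have : SheafOfModules.IsFiniteType (R := X.ringCatSheaf) ((H0 Z).obj F) := hH.2
  have h1 : IsIso (rhoApp Z ((H0 Z).obj F)) := isZClosed_H0 Z F
  have h2 : IsZClosedAt Z ((H0 Z).obj F) x := bijective_stalk_of_isIso (rhoApp Z ((H0 Z).obj F)) x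
  exact (isZClosedAt_iff ((H0 Z).obj F) Z hZ x).1 h2 x specializes_rfl hx

end Main

end Groth.Agent.H7.ZDepthConv
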