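import Groth.Agent.H7.ZDepthOpen
import Groth.Agent.H38.ModStalk
import Groth.Agent.H29.CM
import Groth.Prelude.Def_FDesc
import Groth.Prelude.Def_Coh

set_option autoImplicit false
universe u

open CategoryTheory CategoryTheory.Limits AlgebraicGeometry TopologicalSpace Opposite
open ZClos Groth.Agent.H7.ZClosBase Groth.Agent.H7.ZClosMain Groth.Agent.H7.ZClosSec
open Groth.Agent.H7.ZClosLoc Groth.Agent.H7.ZDepthPt Groth.Agent.H7.ZDepthConv

namespace Groth.Agent.H7.ZDepthDim

section Dim

variable (X : Scheme.{u})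

theorem stableUnderSpecialization_dimGe (n : ℕ) : StableUnderSpecialization (dimGe X n) := by
  intro x y hxy hx
  change (n : WithBot ℕ∞) ≤ ringKrullDim (X.presheaf.stalk y)
  have hx' : (n : WithBot ℕ∞) ≤ ringKrullDim (X.presheaf.stalk x) := hx
  rw [AlgebraicGeometry.ringKrullDim_stalk_eq_coheight] at hx' ⊢
  refine hx'.trans ?_
  have : Order.coheight x ≤ Order.coheight y := Order.coheight_anti hxy
  exact_mod_cast this

end Dim

section Ass

variable {X : Scheme.{u}} [IsLocallyNoetherian X] (F : X.Modules) [F.IsQuasicoherent]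
variable {W : X.Opens} (hW : IsAffineOpen W)

theorem isAssPoint_iff {x : X} (hx : x ∈ W) :
    Curv2.IsAssPoint F x ↔ pI hW hx ∈ associatedPrimes Γ(X, W) Γ(F, W) := by
  have := noeth hW
  let _ : Algebra Γ(X, W) (X.presheaf.stalk x) :=
    TopCat.Presheaf.algebra_section_stalk X.presheaf ⟨x, hx⟩
  have : IsLocalization.AtPrime (X.presheaf.stalk x) (hW.primeIdealOf ⟨x, hx⟩).asIdeal :=
    hW.isLocalization_stalk ⟨x, hx⟩
  let _ := Groth.Agent.H8.stalkModule F hx
  have : IsScalarTower Γ(X, W) (X.presheaf.stalk x) (F.presheaf.stalk x) :=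
    .of_algebraMap_smul fun _ _ => rfl
  have := Groth.Agent.H8.isLocalizedModule_germₗ F hW hx
  have key := Module.associatedPrimes.preimage_comap_associatedPrimes_eq_associatedPrimes_of_isLocalizedModule
    (pI hW hx).primeCompl (Groth.Agent.H8.germₗ F hx) (R' := X.presheaf.stalk x)
  have hcomap : (IsLocalRing.maximalIdeal (X.presheaf.stalk x)).comap
      (algebraMap Γ(X, W) (X.presheaf.stalk x)) = pI hW hx :=
    IsLocalization.AtPrime.under_maximalIdeal (X.presheaf.stalk x) (pI hW hx)
  have h2 : IsLocalRing.maximalIdeal (X.presheaf.stalk x) ∈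
      associatedPrimes (X.presheaf.stalk x) (F.presheaf.stalk x) ↔
      (IsLocalRing.maximalIdeal (X.presheaf.stalk x)).comap
        (algebraMap Γ(X, W) (X.presheaf.stalk x)) ∈ associatedPrimes Γ(X, W) Γ(F, W) := by
    rw [← key]
    rfl
  rw [hcomap] at h2
  exact h2

omit [IsLocallyNoetherian X] [F.IsQuasicoherent] in
theorem pI_eq_comap {x : X} (hx : x ∈ W) :
    pI hW hx = (IsLocalRing.maximalIdeal (X.presheaf.stalk x)).comap
      (X.presheaf.germ W x hx).hom := by
  ext g
  rw [Ideal.mem_comap, IsLocalRing.mem_maximalIdeal, mem_nonunits_iff]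
  exact Groth.Agent.H8.mem_primeIdealOf_iff hW hx g

/-- an associated point `x` of `F` gives an associated prime of the stalk at any specialization. -/
theorem comap_mem_associatedPrimes_stalk
    [SheafOfModules.IsFiniteType (R := X.ringCatSheaf) F] {x y : X} (h : x ⤳ y)
    (hx : Curv2.IsAssPoint F x) :
    (IsLocalRing.maximalIdeal (X.presheaf.stalk x)).comap (X.presheaf.stalkSpecializes h).hom ∈
      associatedPrimes (X.presheaf.stalk y) (F.presheaf.stalk y) := by
  obtain ⟨W, hW, hyW, -⟩ := exists_isAffineOpen_mem_and_subset (x := y) (U := ⊤) trivial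
  have hxW : x ∈ W := h.mem_open W.2 hyW
  have := noeth hW
  let _ : Algebra Γ(X, W) (X.presheaf.stalk y) :=
    TopCat.Presheaf.algebra_section_stalk X.presheaf ⟨y, hyW⟩
  have : IsLocalization.AtPrime (X.presheaf.stalk y) (hW.primeIdealOf ⟨y, hyW⟩).asIdeal :=
    hW.isLocalization_stalk ⟨y, hyW⟩
  let _ := Groth.Agent.H8.stalkModule F hyW
  have : IsScalarTower Γ(X, W) (X.presheaf.stalk y) (F.presheaf.stalk y) :=
    .of_algebraMap_smul fun _ _ => rfl
  have := Groth.Agent.H8.isLocalizedModule_germₗ F hW hyW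
  apply Module.associatedPrimes.mem_associatedPrimes_of_comap_mem_associatedPrimes_of_isLocalizedModule
    (pI hW hyW).primeCompl (Groth.Agent.H8.germₗ F hyW)
  have h1 := (isAssPoint_iff F hW hxW).1 hx
  have h2 : ((IsLocalRing.maximalIdeal (X.presheaf.stalk x)).comap
      (X.presheaf.stalkSpecializes h).hom).comap (algebraMap Γ(X, W) (X.presheaf.stalk y)) =
      pI hW hxW := by
    rw [pI_eq_comap hW hxW, Ideal.comap_comap]
    congr 1
    have := TopCat.Presheaf.germ_stalkSpecializes X.presheaf hyW h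
    exact congrArg CommRingCat.Hom.hom this
  rw [h2]
  exact h1

end Ass

section Main

variable {X : Scheme.{u}} [IsLocallyNoetherian X] (Z : Set X) (hZ : StableUnderSpecialization Z)
  (F : X.Modules)

omit [IsLocallyNoetherian X] in
/-- the stalk of `ρ` at a point outside `Z`, as a linear equivalence. -/
theorem bijective_stalkMapₗ_rho (x : X) (hx : x ∉ Z) :
    Function.Bijective (Groth.Agent.H38.ModStalk.stalkMapₗ (rhoApp Z F) x) :=
  Groth.Agent.H7.ZClosMain.isZClosedAt_of_not_mem Z F x hx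

omit [IsLocallyNoetherian X] in
theorem isAssPoint_H0 (x : X) (hx : x ∉ Z) (h : Curv2.IsAssPoint F x) :
    Curv2.IsAssPoint ((H0 Z).obj F) x :=
  IsAssociatedPrime.map_of_injective (f := Groth.Agent.H38.ModStalk.stalkMapₗ (rhoApp Z F) x) h
    (bijective_stalkMapₗ_rho Z F x hx).1

omit [IsLocallyNoetherian X] in
theorem finite_stalk [F.IsQuasicoherent] [SheafOfModules.IsFiniteType (R := X.ringCatSheaf) F]
    (y : X) : Module.Finite (X.presheaf.stalk y) (F.presheaf.stalk y) := by
  obtain ⟨W, hW, hyW, -⟩ := exists_isAffineOpen_mem_and_subset (x := y) (U := ⊤) trivial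
  have := fin F hW
  let _ : Algebra Γ(X, W) (X.presheaf.stalk y) :=
    TopCat.Presheaf.algebra_section_stalk X.presheaf ⟨y, hyW⟩
  have : IsLocalization.AtPrime (X.presheaf.stalk y) (hW.primeIdealOf ⟨y, hyW⟩).asIdeal :=
    hW.isLocalization_stalk ⟨y, hyW⟩
  let _ := Groth.Agent.H8.stalkModule F hyW
  have : IsScalarTower Γ(X, W) (X.presheaf.stalk y) (F.presheaf.stalk y) :=
    .of_algebraMap_smul fun _ _ => rfl
  have := Groth.Agent.H8.isLocalizedModule_germₗ F hW hyW
  exact Module.Finite.of_isLocalizedModule (pI hW hyW).primeCompl (Groth.Agent.H8.germₗ F hyW)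

include hZ in
/-- S5858. -/
theorem two_le_dim_quot (hF : Coh.IsCoh F) (hH : Coh.IsCoh ((H0 Z).obj F))
    (x : X) (hx : x ∈ AssSch.Ass F) (hxZ : x ∉ Z) (y : X) (hy : y ∈ Z) (h : x ⤳ y) :
    (2 : WithBot ℕ∞) ≤ ringKrullDim (X.presheaf.stalk y ⧸
      (IsLocalRing.maximalIdeal (X.presheaf.stalk x)).comap
        (X.presheaf.stalkSpecializes h).hom) := by
  have := hF.1
  have := hF.2
  have := hH.1
  have := hH.2
  have h1 : Curv2.IsAssPoint ((H0 Z).obj F) x := isAssPoint_H0 Z F x hxZ hx
  have h2 := comap_mem_associatedPrimes_stalk ((H0 Z).obj F) h h1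
  have := finite_stalk ((H0 Z).obj F) y
  have h3 := Groth.Agent.H29.CML.depth_le_ringKrullDim_quotient
    (((H0 Z).obj F).presheaf.stalk y) _ h2
  have h4 := two_le_depth_H0 F Z hZ hH y hy
  refine le_trans ?_ h3
  exact WithBot.coe_le_coe.2 h4

end Main

end Groth.Agent.H7.ZDepthDim
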