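import Groth.Agent.H7.ZDepthSpread

set_option autoImplicit false
universe u

open CategoryTheory CategoryTheory.Limits AlgebraicGeometry TopologicalSpace Opposite
open ZClos Groth.Agent.H7.ZClosBase Groth.Agent.H7.ZClosMain Groth.Agent.H7.ZClosSupp
open Groth.Agent.H7.ZClosSec Groth.Agent.H7.ZDepthPt Groth.Agent.H7.ZDepthSpread

namespace Groth.Agent.H7.ZDepthExt

section Ext

variable {X : Scheme.{u}} (Z : Set X) (F : X.Modules)

/-- the section `σ` of `F` over `V ∖ T` extends across `T` near `z`, after enlarging `T` inside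
`Z`. -/
def ExtAt (T : Cl Z) (V : X.Opens) (σ : Γ(F, UV T.U V)) (z : X) : Prop :=
  ∃ (V' : X.Opens) (_ : z ∈ V') (hV' : V' ≤ V) (T' : Cl Z) (hT : T ≤ T') (w : Γ(F, V')),
    res F (UV_le T'.U V') w = res F (UV_mono (Cl.U_anti hT) hV') σ

variable {Z F}

theorem isOpen_extAt (T : Cl Z) (V : X.Opens) (σ : Γ(F, UV T.U V)) :
    IsOpen {z | ExtAt Z F T V σ z} := by
  rw [isOpen_iff_forall_mem_open]
  rintro z ⟨V', hzV', hV', T', hT, w, hw⟩
  exact ⟨V', fun z' hz' ↦ ⟨V', hz', hV', T', hT, w, hw⟩, V'.isOpen, hzV'⟩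

/-- the open locus where `σ` extends. -/
def extOpen (T : Cl Z) (V : X.Opens) (σ : Γ(F, UV T.U V)) : X.Opens :=
  ⟨{z | ExtAt Z F T V σ z}, isOpen_extAt T V σ⟩

theorem extAt_of_le {T : Cl Z} {V V₁ : X.Opens} (hV₁ : V₁ ≤ V) (σ : Γ(F, UV T.U V)) {z : X}
    (h : ExtAt Z F T V₁ (res F (UV_mono le_rfl hV₁) σ) z) : ExtAt Z F T V σ z := by
  obtain ⟨V', hzV', hV', T', hT, w, hw⟩ := h
  refine ⟨V', hzV', hV'.trans hV₁, T', hT, w, ?_⟩
  rw [hw, res_res]

theorem extAt_of_mem {T : Cl Z} {V : X.Opens} (σ : Γ(F, UV T.U V)) {z : X}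
    (hz : z ∈ UV T.U V) : ExtAt Z F T V σ z :=
  ⟨UV T.U V, hz, UV_le T.U V, T, le_rfl, σ, rfl⟩

theorem extAt_of_surjective {x : X} (hs : Function.Surjective (rhoStalk Z F x)) (T : Cl Z)
    (V : X.Opens) (hxV : x ∈ V) (σ : Γ(F, UV T.U V)) : ExtAt Z F T V σ x := by
  let σ' : Γ((resPush T.U).obj F, V) := σ
  obtain ⟨γ, hγ⟩ := hs ((stalkF x).map (ιH Z F T) (germ ((resPush T.U).obj F) V x hxV σ'))
  obtain ⟨V₁, hxV₁, w₁, rfl⟩ := TopCat.Presheaf.exists_germ_eq F.presheaf γ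
  let α₁ : (stalkF x).obj ((resPush T.U).obj F) :=
    (stalkF x).map (toDiagram Z F T) (germ F V₁ x hxV₁ w₁)
  let α₂ : (stalkF x).obj ((resPush T.U).obj F) := germ ((resPush T.U).obj F) V x hxV σ'
  have h1 : (stalkF x).map (ιH Z F T) α₁ = (stalkF x).map (ιH Z F T) α₂ := by
    refine Eq.trans ?_ hγ
    change _ = (stalkF x).map (rhoApp Z F) (germ F V₁ x hxV₁ w₁)
    rw [rhoApp_eq' Z F T, Functor.map_comp]
    rfl
  have h2 : (stalkF x).map (ιH Z F T) (α₁ - α₂) = 0 := by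
    rw [((stalkF x).map (ιH Z F T)).hom.map_sub α₁ α₂, sub_eq_zero]
    exact h1
  obtain ⟨T', f, hf⟩ := stalk_eq_zero (hcc Z F) x T (α₁ - α₂) h2
  replace hf : (stalkF x).map (((diagram Z).obj F).map f) α₁ =
      (stalkF x).map (((diagram Z).obj F).map f) α₂ := by
    have := ((stalkF x).map (((diagram Z).obj F).map f)).hom.map_sub α₁ α₂
    exact sub_eq_zero.1 (this.symm.trans hf)
  have hf1 : (stalkF x).map (((diagram Z).obj F).map f) α₁ =
      germ ((resPush T'.U).obj F) V₁ x hxV₁ ((toDiagram Z F T').app V₁ w₁) := by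
    change ((stalkF x).map (toDiagram Z F T) ≫ (stalkF x).map (((diagram Z).obj F).map f))
      (germ F V₁ x hxV₁ w₁) = _
    rw [← Functor.map_comp, toDiagram_map Z F f]
    exact stalkF_map_germ (toDiagram Z F T') x V₁ hxV₁ w₁
  have hf2 : (stalkF x).map (((diagram Z).obj F).map f) α₂ =
      germ ((resPush T'.U).obj F) V x hxV ((((diagram Z).obj F).map f).app V σ') :=
    stalkF_map_germ (((diagram Z).obj F).map f) x V hxV σ'
  rw [hf1, hf2] at hf
  obtain ⟨V₃, hxV₃, i₁, i₂, h3⟩ := TopCat.Presheaf.germ_eq ((resPush T'.U).obj F).presheaf x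
    hxV₁ hxV _ _ hf
  rw [map_eq_res, map_eq_res, resPush_map_eq_res, resPush_map_eq_res, toDiagram_app,
    show f = homOfLE f.le from Subsingleton.elim _ _, diagram_map_app, res_res, res_res] at h3
  refine ⟨V₃, hxV₃, i₂.le, T', f.le, res F i₁.le w₁, ?_⟩
  rw [res_res]
  exact h3

theorem surjective_of_extAt {x : X}
    (h : ∀ (T : Cl Z) (V : X.Opens) (_ : x ∈ V) (σ : Γ(F, UV T.U V)), ExtAt Z F T V σ x) :
    Function.Surjective (rhoStalk Z F x) := by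
  intro δ
  obtain ⟨T, γ', rfl⟩ := exists_stalk_ιH_eq Z F x δ
  obtain ⟨V, hxV, σ', rfl⟩ := TopCat.Presheaf.exists_germ_eq ((resPush T.U).obj F).presheaf γ'
  let σ : Γ(F, UV T.U V) := σ'
  obtain ⟨V', hxV', hV', T', hT, w, hw⟩ := h T V hxV σ
  refine ⟨germ F V' x hxV' w, ?_⟩
  change (stalkF x).map (rhoApp Z F) (germ F V' x hxV' w) = _
  rw [rhoApp_eq' Z F T', Functor.map_comp]
  change (stalkF x).map (ιH Z F T') ((stalkF x).map (toDiagram Z F T') (germ F V' x hxV' w)) = _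
  have e1 : (stalkF x).map (toDiagram Z F T') (germ F V' x hxV' w) =
      germ ((resPush T'.U).obj F) V' x hxV' ((toDiagram Z F T').app V' w) :=
    stalkF_map_germ (toDiagram Z F T') x V' hxV' w
  have e2 : (stalkF x).map (((diagram Z).obj F).map (homOfLE hT))
      (germ ((resPush T.U).obj F) V x hxV σ') =
      germ ((resPush T'.U).obj F) V x hxV ((((diagram Z).obj F).map (homOfLE hT)).app V σ') :=
    stalkF_map_germ (((diagram Z).obj F).map (homOfLE hT)) x V hxV σ'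
  have e3 : germ ((resPush T'.U).obj F) V' x hxV' ((toDiagram Z F T').app V' w) =
      germ ((resPush T'.U).obj F) V x hxV ((((diagram Z).obj F).map (homOfLE hT)).app V σ') := by
    rw [← germ_res' ((resPush T'.U).obj F) hV' x hxV', resPush_map_eq_res, diagram_map_app,
      res_res, toDiagram_app]
    exact congrArg (germ ((resPush T'.U).obj F) V' x hxV') hw
  have e4 : ((diagram Z).obj F).map (homOfLE hT) ≫ ιH Z F T' = ιH Z F T :=
    colimit.w ((diagram Z).obj F) (homOfLE hT)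
  have e5 : (stalkF x).map (ιH Z F T) =
      (stalkF x).map (((diagram Z).obj F).map (homOfLE hT)) ≫ (stalkF x).map (ιH Z F T') :=
    (congrArg (stalkF x).map e4.symm).trans ((stalkF x).map_comp _ _)
  rw [e1, e3, ← e2, e5]
  rfl

end Ext

section Main

variable {X : Scheme.{u}} [IsLocallyNoetherian X] (F : X.Modules) [F.IsQuasicoherent]
  [SheafOfModules.IsFiniteType (R := X.ringCatSheaf) F] (Z : Set X)

/-- purity over an open on which all points of `Z` have depth at least one. -/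
theorem eq_zero_of_res_eq_zero (W : X.Opens)
    (hW : ∀ y ∈ W, y ∈ Z →
      (1 : ℕ∞) ≤ LocCoh.depth (X.presheaf.stalk y) (F.presheaf.stalk y))
    (V' : X.Opens) (hV' : V' ≤ W) (T' : Cl Z) (s : Γ(F, V'))
    (h0 : res F (UV_le T'.U V') s = 0) : s = 0 := by
  apply eq_zero_of_germ_eq_zero
  intro y hy
  by_contra hne
  obtain ⟨Wy, hWy, hyWy, hWyV'⟩ := exists_isAffineOpen_mem_and_subset (x := y) (U := V') hy
  have hne' : germ F Wy y hyWy (res F hWyV' s) ≠ 0 := by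
    rw [germ_res' F hWyV' y hyWy s]; exact hne
  obtain ⟨y', hy'Wy, -, hy's, hy'd⟩ := exists_ass_generization F hWy hyWy (res F hWyV' s) hne'
  have hy'Z : y' ∉ Z := fun h ↦ hy'd (hW y' (hV' (hWyV' hy'Wy)) h)
  have hy'T : y' ∈ T'.U := fun h ↦ hy'Z (T'.2 h)
  apply hy's
  have hy'A : y' ∈ UV T'.U Wy := mem_UV.2 ⟨hy'T, hy'Wy⟩
  rw [← germ_res' F (UV_le T'.U Wy) y' hy'A, res_res]
  have e : res F ((UV_le T'.U Wy).trans hWyV') s = 0 := by
    have := congrArg (res F (UV_mono (le_refl T'.U) hWyV')) h0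
    rw [res_res] at this
    exact this.trans (res_zero F _)
  exact (congrArg (germ F (UV T'.U Wy) y' hy'A) e).trans (germ_zero F _ y' hy'A)

variable (hZ : StableUnderSpecialization Z)

include hZ in
/-- if the depth is at least two at the generizations of `x` in `Z`, every section over the
complement of a closed subset of `Z` extends near `x`. -/
theorem extAt_of_depth (x : X)
    (hd : ∀ x' : X, x' ⤳ x → x' ∈ Z →
      (2 : ℕ∞) ≤ LocCoh.depth (X.presheaf.stalk x') (F.presheaf.stalk x'))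
    (T : Cl Z) (V : X.Opens) (hxV : x ∈ V) (σ : Γ(F, UV T.U V)) : ExtAt Z F T V σ x := by
  classical
  obtain ⟨W, hWaff, hxW, hWV, hWps⟩ := exists_affine_ass_generization F x V hxV
  have hWpure : ∀ y ∈ W, y ∈ Z →
      (1 : ℕ∞) ≤ LocCoh.depth (X.presheaf.stalk y) (F.presheaf.stalk y) := by
    intro y hy hyZ
    by_contra h
    exact h (le_trans (by norm_num) (hd y (hWps y hy h) hyZ))
  apply extAt_of_le hWV σ
  set σW := res F (UV_mono (le_refl T.U) hWV) σ with hσW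
  by_contra hx
  obtain ⟨ξ, hξW, hξG, hξx, O, hξO, hOW, hO⟩ :=
    exists_generic_point W hWaff.isCompact (extOpen T W σW) hxW hx
  have hξT : ξ ∈ (T.1 : Set X) := by
    by_contra h
    exact hξG (extAt_of_mem σW (mem_UV.2 ⟨h, hξW⟩))
  have hξZ : ξ ∈ Z := T.2 hξT
  obtain ⟨W₂, hW₂aff, hξW₂, hW₂O, hW₂d⟩ :=
    exists_affine_two_le_depth F O hξO (hd ξ hξx hξZ)
  have hW₂W : W₂ ≤ W := hW₂O.trans hOW
  let Tξ : Cl Z := clPt Z hZ hξZ
  let U₃ : X.Opens := UV Tξ.U W₂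
  have hU₃W₂ : U₃ ≤ W₂ := UV_le Tξ.U W₂
  have hext : ∀ z : U₃, ExtAt Z F T W σW z.1 := by
    intro z
    obtain ⟨hz1, hz2⟩ := mem_UV.1 z.2
    by_contra hcon
    exact hz1 ((mem_clPt Z hZ hξZ z.1).2 (hO z.1 (hW₂O hz2) hcon))
  choose V' hzV' hV'W T' hTT' w hw using hext
  have hU₃cpt : IsCompact (U₃ : Set X) :=
    isCompact_of_le_of_isCompact W₂ U₃ hW₂aff.isCompact hU₃W₂
  obtain ⟨t, ht⟩ := hU₃cpt.elim_finite_subcover (fun z : U₃ ↦ ((V' z : X.Opens) : Set X))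
    (fun z ↦ (V' z).isOpen) (fun y hy ↦ Set.mem_iUnion.2 ⟨⟨y, hy⟩, hzV' ⟨y, hy⟩⟩)
  let T'' : Cl Z := T ⊔ Tξ ⊔ t.sup T'
  have hT''T : T ≤ T'' := le_sup_left.trans le_sup_left
  have hT''ξ : Tξ ≤ T'' := le_sup_right.trans le_sup_left
  have hT''t : ∀ i : t, T' i.1 ≤ T'' := fun i ↦ (Finset.le_sup i.2).trans le_sup_right
  let Vz : t → X.Opens := fun i ↦ V' i.1 ⊓ U₃
  obtain ⟨sz, hsz⟩ : ∃ sz : ∀ i : t, Γ(F, Vz i), ∀ i, sz i = res F inf_le_left (w i.1) :=
    ⟨_, fun _ ↦ rfl⟩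
  -- key: each `sz i` agrees with `σW` off `T''`
  have hkey : ∀ (i : t) (P : X.Opens) (hP : P ≤ Vz i) (hPT : P ≤ T''.U),
      res F hP (sz i) = res F (show P ≤ UV T.U W from fun y hy ↦
        mem_UV.2 ⟨Cl.U_anti hT''T (hPT hy), hV'W i.1 (inf_le_left (a := V' i.1) (hP hy))⟩) σW := by
    intro i P hP hPT
    have hP' : P ≤ UV (T' i.1).U (V' i.1) := fun y hy ↦
      mem_UV.2 ⟨Cl.U_anti (hT''t i) (hPT hy), inf_le_left (a := V' i.1) (hP hy)⟩
    have := congrArg (res F hP') (hw i.1)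
    rw [res_res, res_res] at this
    rw [hsz i, res_res]
    exact this
  -- compatibility
  have hcompat : ∀ i j : t, F.presheaf.map (Opens.infLELeft (Vz i) (Vz j)).op (sz i) =
      F.presheaf.map (Opens.infLERight (Vz i) (Vz j)).op (sz j) := by
    intro i j
    rw [map_eq_res, map_eq_res, ← sub_eq_zero]
    have hle : Vz i ⊓ Vz j ≤ W := fun y hy ↦ hW₂W (hU₃W₂ hy.1.2)
    apply eq_zero_of_res_eq_zero F Z W hWpure (Vz i ⊓ Vz j) hle T''
    rw [res_sub, res_res, res_res, sub_eq_zero,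
      hkey i _ ((UV_le T''.U _).trans inf_le_left) (UV_le_left T''.U _),
      hkey j _ ((UV_le T''.U _).trans inf_le_right) (UV_le_left T''.U _)]
  -- glue
  obtain ⟨t₀, ht₀⟩ := exists_gluing F Vz U₃ (fun i ↦ homOfLE inf_le_right)
    (fun y hy ↦ by
      obtain ⟨z, hz⟩ := Set.mem_iUnion.1 (ht hy)
      obtain ⟨hzt, hyz⟩ := Set.mem_iUnion.1 hz
      exact Opens.mem_iSup.2 ⟨⟨z, hzt⟩, ⟨hyz, hy⟩⟩) sz hcompat
  -- Hartogs
  have hbij := bijective_res_affine F Tξ.U W₂ hW₂aff (fun y hyW₂ hyU ↦ by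
    have : ξ ⤳ y := by
      by_contra hcon
      exact hyU (fun h ↦ hcon ((mem_clPt Z hZ hξZ y).1 h))
    exact hW₂d y hyW₂ this) U₃ (UV_eq' Tξ.U W₂) hU₃W₂
  obtain ⟨t₁, ht₁⟩ := hbij.2 t₀
  have ht₁' : res F hU₃W₂ t₁ = t₀ := ht₁
  -- conclusion: `σW` extends near `ξ`
  apply hξG
  refine ⟨W₂, hξW₂, hW₂W, T'', hT''T, t₁, ?_⟩
  have hle₃ : UV T''.U W₂ ≤ U₃ := UV_mono (Cl.U_anti hT''ξ) le_rfl
  apply eq_of_locally_eq F (fun i : t ↦ UV T''.U (Vz i)) (UV T''.U W₂)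
    (fun i ↦ homOfLE (UV_mono le_rfl (inf_le_right.trans hU₃W₂)))
  · intro y hy
    obtain ⟨hy1, hy2⟩ := mem_UV.1 hy
    have hy3 : y ∈ U₃ := hle₃ hy
    obtain ⟨z, hz⟩ := Set.mem_iUnion.1 (ht hy3)
    obtain ⟨hzt, hyz⟩ := Set.mem_iUnion.1 hz
    exact Opens.mem_iSup.2 ⟨⟨z, hzt⟩, mem_UV.2 ⟨hy1, ⟨hyz, hy3⟩⟩⟩
  · intro i
    rw [map_eq_res, map_eq_res, res_res, res_res]
    have h1 : res F ((UV_mono (le_refl T''.U) (inf_le_right.trans hU₃W₂)).trans (UV_le T''.U W₂)) t₁ =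
        res F (UV_le T''.U (Vz i)) (sz i) := by
      rw [← ht₀ i, map_eq_res, ← ht₁', res_res, res_res]
    rw [h1, hkey i _ (UV_le T''.U (Vz i)) (UV_le_left T''.U _)]

end Main

end Groth.Agent.H7.ZDepthExt
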