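import Groth.Agent.H7.ZDepthConv
import Groth.Agent.H67.StalkLoc

set_option autoImplicit false
universe u

open CategoryTheory CategoryTheory.Limits AlgebraicGeometry TopologicalSpace Opposite
open ZClos Groth.Agent.H7.ZClosBase Groth.Agent.H7.ZClosMain Groth.Agent.H7.ZClosSupp
open Groth.Agent.H7.ZClosSec Groth.Agent.H7.ZDepthPt Groth.Agent.H7.ZDepthSpread
open Groth.Agent.H7.ZDepthExt Groth.Agent.H7.ZDepthConv Groth.Agent.H7.ZClosLoc

namespace Groth.Agent.H7.ZDepthOpen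

variable {X : Scheme.{u}} [IsLocallyNoetherian X] (F : X.Modules) [F.IsQuasicoherent]
  [SheafOfModules.IsFiniteType (R := X.ringCatSheaf) F]

/-- the affine opens contained in a given open. -/
abbrev AffIn (A : X.Opens) : Type u := {W : X.Opens // IsAffineOpen W ∧ W ≤ A}

omit [IsLocallyNoetherian X] [F.IsQuasicoherent]
  [SheafOfModules.IsFiniteType (R := X.ringCatSheaf) F] in
theorem le_iSup_affIn (A : X.Opens) : A ≤ iSup (fun W : AffIn A ↦ W.1) := by
  intro x hx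
  obtain ⟨W, hW, hxW, hWA⟩ := exists_isAffineOpen_mem_and_subset (x := x) (U := A) hx
  exact Opens.mem_iSup.2 ⟨⟨W, hW, hWA⟩, hxW⟩

/-- Hartogs with local hypotheses: injectivity. -/
theorem injective_res_of_depth (A B : X.Opens) (h : B ≤ A)
    (hd : ∀ x ∈ A, x ∉ B →
      (2 : ℕ∞) ≤ LocCoh.depth (X.presheaf.stalk x) (F.presheaf.stalk x)) :
    Function.Injective (res F h) := by
  intro s₁ s₂ hs
  apply eq_of_locally_eq F (fun W : AffIn A ↦ W.1) A (fun W ↦ homOfLE W.2.2) (le_iSup_affIn A)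
  intro W
  rw [map_eq_res, map_eq_res]
  have hb := bijective_res_affine F B W.1 W.2.1 (fun x hxW hxB ↦ hd x (W.2.2 hxW) hxB)
    (W.1 ⊓ B) rfl inf_le_left
  apply hb.1
  change res F inf_le_left (res F W.2.2 s₁) = res F inf_le_left (res F W.2.2 s₂)
  rw [res_res, res_res]
  have := congrArg (res F (inf_le_right : W.1 ⊓ B ≤ B)) hs
  rw [res_res, res_res] at this
  exact this

/-- Hartogs with local hypotheses. -/
theorem bijective_res_of_depth (A B : X.Opens) (h : B ≤ A)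
    (hd : ∀ x ∈ A, x ∉ B →
      (2 : ℕ∞) ≤ LocCoh.depth (X.presheaf.stalk x) (F.presheaf.stalk x)) :
    Function.Bijective (res F h) := by
  refine ⟨injective_res_of_depth F A B h hd, fun t ↦ ?_⟩
  have hex : ∀ W : AffIn A, ∃ s : Γ(F, W.1),
      res F (inf_le_left : W.1 ⊓ B ≤ W.1) s = res F (inf_le_right : W.1 ⊓ B ≤ B) t := by
    intro W
    have hb := bijective_res_affine F B W.1 W.2.1 (fun x hxW hxB ↦ hd x (W.2.2 hxW) hxB)
      (W.1 ⊓ B) rfl inf_le_left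
    exact hb.2 _
  choose sW hsW using hex
  have hcompat : ∀ W W' : AffIn A, F.presheaf.map (Opens.infLELeft W.1 W'.1).op (sW W) =
      F.presheaf.map (Opens.infLERight W.1 W'.1).op (sW W') := by
    intro W W'
    rw [map_eq_res, map_eq_res]
    apply injective_res_of_depth F (W.1 ⊓ W'.1) (W.1 ⊓ W'.1 ⊓ B) inf_le_left
      (fun x hx hxB ↦ hd x (W.2.2 hx.1) (fun hB ↦ hxB ⟨hx, hB⟩))
    rw [res_res, res_res]
    have h1 := congrArg (res F (show W.1 ⊓ W'.1 ⊓ B ≤ W.1 ⊓ B from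
      fun x hx ↦ ⟨hx.1.1, hx.2⟩)) (hsW W)
    have h2 := congrArg (res F (show W.1 ⊓ W'.1 ⊓ B ≤ W'.1 ⊓ B from
      fun x hx ↦ ⟨hx.1.2, hx.2⟩)) (hsW W')
    rw [res_res, res_res] at h1 h2
    exact h1.trans h2.symm
  obtain ⟨s, hs⟩ := exists_gluing F (fun W : AffIn A ↦ W.1) A (fun W ↦ homOfLE W.2.2)
    (le_iSup_affIn A) sW hcompat
  refine ⟨s, ?_⟩
  apply eq_of_locally_eq F (fun W : AffIn A ↦ W.1 ⊓ B) B (fun W ↦ homOfLE inf_le_right)
    (fun x hx ↦ by
      obtain ⟨W, hW⟩ := Opens.mem_iSup.1 (le_iSup_affIn A (h hx))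
      exact Opens.mem_iSup.2 ⟨W, ⟨hW, hx⟩⟩)
  intro W
  rw [map_eq_res, map_eq_res, res_res, ← hsW W, ← hs W, map_eq_res, res_res]

section Main

variable (Z : Set X) (hZ : StableUnderSpecialization Z)

/-- if `H⁰_{X/Z}(F)` is coherent, the locus where `F` is `Z`-closed is open. -/
theorem isOpen_isZClosedAt (hH : Coh.IsCoh ((H0 Z).obj F)) : IsOpen {x | IsZClosedAt Z F x} := by
  rw [isOpen_iff_forall_mem_open]
  intro x hx
  obtain ⟨V, hV, hxV, -⟩ := exists_isAffineOpen_mem_and_subset (x := x) (U := ⊤) trivial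
  have := noeth hV
  have := fin F hV
  have : ((H0 Z).obj F).IsQuasicoherent := hH.1
  have : SheafOfModules.IsFiniteType (R := X.ringCatSheaf) ((H0 Z).obj F) := hH.2
  have : Module.Finite Γ(X, V) Γ((H0 Z).obj F, V) := fin ((H0 Z).obj F) hV
  have : Module.FinitePresentation Γ(X, V) Γ((H0 Z).obj F, V) :=
    Module.finitePresentation_of_finite _ _
  obtain ⟨g, hxg, hg⟩ :=
    Groth.Agent.H67.StalkLoc.exists_basicOpen_bijective (rhoApp Z F) hV hxV hx
  exact ⟨X.basicOpen g, fun y hy ↦ hg y hy, (X.basicOpen g).isOpen, hxg⟩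

/-- if the depth is at least two at the points of `Z ∩ U`, the restriction of `F` to `U` is
`(Z ∩ U)`-closed. -/
theorem isZClosed_restrict_of_depth (U : X.Opens)
    (hU : ∀ x ∈ U, x ∈ Z →
      (2 : ℕ∞) ≤ LocCoh.depth (X.presheaf.stalk x) (F.presheaf.stalk x)) :
    IsZClosed (U.ι.base ⁻¹' Z) ((Scheme.Modules.restrictFunctor U.ι).obj F) := by
  rw [isZClosed_iff_bijective_res]
  rintro A' B' hBA ⟨T', hT'⟩
  rw [bijective_res_restrict_iff]
  apply bijective_res_of_depth F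
  rintro x hxA hxB
  obtain ⟨u, huA, rfl⟩ := hxA
  have huB : u ∉ B' := fun h ↦ hxB ⟨u, h, rfl⟩
  have huT : u ∈ (T'.1 : Set (U : Scheme.{u})) := by
    by_contra hcon
    exact huB (hT' ⟨huA, hcon⟩)
  exact hU _ u.2 (T'.2 huT)

include hZ in
/-- if the restriction of `F` to `V` is `(Z ∩ V)`-closed, the depth is at least two at the points
of `Z ∩ V`. -/
theorem two_le_depth_of_isZClosed_restrict (V : X.Opens)
    (hV : IsZClosed (V.ι.base ⁻¹' Z) ((Scheme.Modules.restrictFunctor V.ι).obj F)) (x' : X)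
    (hx'V : x' ∈ V) (hx'Z : x' ∈ Z) :
    (2 : ℕ∞) ≤ LocCoh.depth (X.presheaf.stalk x') (F.presheaf.stalk x') := by
  obtain ⟨W, hW, hx'W, hWV⟩ := exists_isAffineOpen_mem_and_subset (x := x') (U := V) hx'V
  let T := clPt Z hZ hx'Z
  rw [isZClosed_iff_bijective_res] at hV
  have h1 := hV (V.ι ⁻¹ᵁ W) (V.ι ⁻¹ᵁ (W ⊓ T.U)) (fun _ hx ↦ hx.1)
    ⟨clRestrict Z V T, fun _ hx ↦ ⟨hx.1, hx.2⟩⟩
  rw [bijective_res_restrict_iff] at h1
  have e1 : V.ι ''ᵁ (V.ι ⁻¹ᵁ (W ⊓ T.U)) = W ⊓ T.U := by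
    rw [ι_image_preimage]
    exact inf_eq_right.2 (inf_le_left.trans hWV)
  have e2 : V.ι ''ᵁ (V.ι ⁻¹ᵁ W) = W := by
    rw [ι_image_preimage]
    exact inf_eq_right.2 hWV
  have hb : Function.Bijective (F.presheaf.map (homOfLE (inf_le_left : W ⊓ T.U ≤ W)).op) :=
    Groth.Agent.H6.HartogsMod.bijective_of_eq F _ _ e1 e2 h1
  have hx' : hW.fromSpec (hW.primeIdealOf ⟨x', hx'W⟩) = x' := hW.fromSpec_primeIdealOf ⟨x', hx'W⟩
  have key := Groth.Agent.H6.HartogsMod.two_le_depth_of_bijective_res_fromSpec X F T.U W hW hb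
    (hW.primeIdealOf ⟨x', hx'W⟩) (by
      rw [hx']
      exact fun h ↦ h ((mem_clPt Z hZ hx'Z x').2 specializes_rfl))
  rw [hx'] at key
  exact key

include hZ in
/-- S5859 -/
theorem exists_maximal_open (hH : Coh.IsCoh ((H0 Z).obj F)) :
    ∃ U : X.Opens, (U : Set X) = {x | ∀ x' : X, x' ⤳ x → x' ∈ Z →
        (2 : ℕ∞) ≤ LocCoh.depth (X.presheaf.stalk x') (F.presheaf.stalk x')} ∧
      (U : Set X)ᶜ ⊆ Z ∧
      IsZClosed (U.ι.base ⁻¹' Z) ((Scheme.Modules.restrictFunctor U.ι).obj F) ∧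
      ∀ V : X.Opens, IsZClosed (V.ι.base ⁻¹' Z) ((Scheme.Modules.restrictFunctor V.ι).obj F) →
        V ≤ U := by
  refine ⟨⟨{x | IsZClosedAt Z F x}, isOpen_isZClosedAt F Z hH⟩, ?_, ?_, ?_, ?_⟩
  · ext x
    exact isZClosedAt_iff F Z hZ x
  · intro x hxU
    by_contra hx
    exact hxU (isZClosedAt_of_not_mem Z F x hx)
  · apply isZClosed_restrict_of_depth
    intro x hxU hxZ
    exact (isZClosedAt_iff F Z hZ x).1 hxU x specializes_rfl hxZ
  · intro V hV x hxV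
    change IsZClosedAt Z F x
    rw [isZClosedAt_iff F Z hZ x]
    intro x' hx'x hx'Z
    exact two_le_depth_of_isZClosed_restrict F Z hZ V hV x' (hx'x.mem_open V.isOpen hxV) hx'Z

end Main

end Groth.Agent.H7.ZDepthOpen
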