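import Groth.Agent.H6.HartogsModConv
import Groth.Agent.H14.ZClos.Main
import Groth.Agent.H7.ZClosSupp
import Groth.Agent.H7.ZClosLoc
import Groth.Agent.H7.ZClosIso

set_option autoImplicit false
universe u

open CategoryTheory CategoryTheory.Limits AlgebraicGeometry TopologicalSpace Opposite
open ZClos Groth.Agent.H7.ZClosBase Groth.Agent.H7.ZClosMain Groth.Agent.H7.ZClosSupp

namespace Groth.Agent.H7.ZDepthPt

variable {X : Scheme.{u}} [IsLocallyNoetherian X] (F : X.Modules) [F.IsQuasicoherent]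
  [SheafOfModules.IsFiniteType (R := X.ringCatSheaf) F]
variable {W : X.Opens} (hW : IsAffineOpen W)

/-- the prime ideal of a point in an affine open -/
noncomputable abbrev pI {x : X} (hx : x ∈ W) : Ideal Γ(X, W) := (hW.primeIdealOf ⟨x, hx⟩).asIdeal

omit [IsLocallyNoetherian X] in
theorem le_iff_specializes {x y : X} (hx : x ∈ W) (hy : y ∈ W) :
    pI hW hx ≤ pI hW hy ↔ x ⤳ y := by
  change hW.primeIdealOf ⟨x, hx⟩ ≤ hW.primeIdealOf ⟨y, hy⟩ ↔ _
  rw [PrimeSpectrum.le_iff_specializes]
  constructor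
  · intro h
    have h1 := h.map hW.fromSpec.continuous
    rwa [hW.fromSpec_primeIdealOf ⟨x, hx⟩, hW.fromSpec_primeIdealOf ⟨y, hy⟩] at h1
  · intro h
    have h1 : (⟨x, hx⟩ : W) ⤳ ⟨y, hy⟩ := (subtype_specializes_iff _ _).mpr h
    exact h1.map hW.isoSpec.hom.continuous

omit [IsLocallyNoetherian X] in
theorem fromSpec_mem (q : PrimeSpectrum Γ(X, W)) : hW.fromSpec q ∈ W := by
  have : hW.fromSpec q ∈ Set.range hW.fromSpec := ⟨q, rfl⟩
  rwa [hW.range_fromSpec] at this

omit [IsLocallyNoetherian X] in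
theorem pI_fromSpec (q : PrimeSpectrum Γ(X, W)) :
    pI hW (fromSpec_mem hW q) = q.asIdeal := by
  have : hW.primeIdealOf ⟨hW.fromSpec q, fromSpec_mem hW q⟩ = q := by
    apply hW.fromSpec.isOpenEmbedding.injective
    exact hW.fromSpec_primeIdealOf ⟨hW.fromSpec q, fromSpec_mem hW q⟩
  exact congrArg PrimeSpectrum.asIdeal this

omit [IsLocallyNoetherian X] [SheafOfModules.IsFiniteType (R := X.ringCatSheaf) F] in
theorem germ_eq_zero_iff {x : X} (hx : x ∈ W) (s : Γ(F, W)) :
    germ F W x hx s = 0 ↔ ∃ g : Γ(X, W), g ∉ pI hW hx ∧ g • s = 0 := by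
  let _ := Groth.Agent.H8.stalkModule F hx
  have hloc := Groth.Agent.H8.isLocalizedModule_germₗ F hW hx
  have h := IsLocalizedModule.eq_zero_iff (pI hW hx).primeCompl (Groth.Agent.H8.germₗ F hx) (m := s)
  rw [Groth.Agent.H8.germₗ_apply] at h
  constructor
  · intro h0
    obtain ⟨c, hc⟩ := h.1 h0
    exact ⟨c.1, c.2, hc⟩
  · rintro ⟨g, hg, hgs⟩
    exact h.2 ⟨⟨g, hg⟩, hgs⟩

theorem depth_eq {x : X} (hx : x ∈ W) :
    LocCoh.depth (X.presheaf.stalk x) (F.presheaf.stalk x) =
      LocCoh.depth (Localization.AtPrime (pI hW hx))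
        (LocalizedModule (pI hW hx).primeCompl Γ(F, W)) := by
  have key := Groth.Agent.H6.HartogsMod.depth_stalk_fromSpec_eq X F W hW
    (hW.primeIdealOf ⟨x, hx⟩) Γ(F, W) (LinearEquiv.refl _ _)
  have hx' : hW.fromSpec (hW.primeIdealOf ⟨x, hx⟩) = x := hW.fromSpec_primeIdealOf ⟨x, hx⟩
  rw [hx'] at key
  exact key

include hW in
theorem noeth : IsNoetherianRing Γ(X, W) := IsLocallyNoetherian.component_noetherian ⟨W, hW⟩

include hW in
omit [IsLocallyNoetherian X] in
theorem fin : Module.Finite Γ(X, W) Γ(F, W) := Groth.Agent.H44.finite_sections_of_isFiniteType F hW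

theorem one_le_depth_iff {x : X} (hx : x ∈ W) :
    (1 : ℕ∞) ≤ LocCoh.depth (X.presheaf.stalk x) (F.presheaf.stalk x) ↔
      pI hW hx ∉ associatedPrimes Γ(X, W) Γ(F, W) := by
  have := noeth hW
  have := fin F hW
  rw [depth_eq F hW hx]
  exact Groth.Agent.H14.ZClos.one_le_depth_localization_iff Γ(F, W) (pI hW hx)

include hW in
/-- a nonzero germ of a section over an affine open is nonzero at some associated generization -/
theorem exists_ass_generization {x : X} (hx : x ∈ W) (s : Γ(F, W)) (hs : germ F W x hx s ≠ 0) :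
    ∃ (y : X) (hy : y ∈ W), y ⤳ x ∧ germ F W y hy s ≠ 0 ∧
      ¬ (1 : ℕ∞) ≤ LocCoh.depth (X.presheaf.stalk y) (F.presheaf.stalk y) := by
  have := noeth hW
  have := fin F hW
  set I : Ideal Γ(X, W) := (Submodule.span Γ(X, W) {s}).annihilator with hI
  have hIle : I ≤ pI hW hx := by
    intro g hg
    by_contra hgp
    apply hs
    rw [germ_eq_zero_iff F hW hx]
    exact ⟨g, hgp, (Submodule.mem_annihilator_span_singleton s g).1 hg⟩
  obtain ⟨q, hq, hqle⟩ := Ideal.exists_minimalPrimes_le hIle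
  have hqprime : q.IsPrime := hq.1.1
  let Q : PrimeSpectrum Γ(X, W) := ⟨q, hqprime⟩
  have hyW := fromSpec_mem hW Q
  have hpq : pI hW hyW = q := pI_fromSpec hW Q
  refine ⟨hW.fromSpec Q, hyW, ?_, ?_, ?_⟩
  · rw [← le_iff_specializes hW hyW hx, hpq]
    exact hqle
  · intro h0
    obtain ⟨g, hg, hgs⟩ := (germ_eq_zero_iff F hW hyW s).1 h0
    apply hg
    rw [hpq]
    exact hq.1.2 ((Submodule.mem_annihilator_span_singleton s g).2 hgs)
  · rw [one_le_depth_iff F hW hyW, not_not, hpq]
    have h1 := Module.associatedPrimes.minimalPrimes_annihilator_subset_associatedPrimes Γ(X, W)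
      (Submodule.span Γ(X, W) {s})
    have h2 : q ∈ associatedPrimes Γ(X, W) (Submodule.span Γ(X, W) {s}) := h1 hq
    exact associatedPrimes.subset_of_injective (Submodule.injective_subtype _) h2
  
include hW in
/-- at a point of depth zero there is a section over any affine neighbourhood whose support is
the closure of the point. -/
theorem exists_section_of_not_one_le_depth {x : X} (hx : x ∈ W)
    (h : ¬ (1 : ℕ∞) ≤ LocCoh.depth (X.presheaf.stalk x) (F.presheaf.stalk x)) :
    ∃ s : Γ(F, W), ∀ (y : X) (hy : y ∈ W), germ F W y hy s = 0 ↔ ¬ x ⤳ y := by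
  have := noeth hW
  have := fin F hW
  rw [one_le_depth_iff F hW hx, not_not] at h
  obtain ⟨-, s, hs⟩ := isAssociatedPrime_iff.mp (AssociatedPrimes.mem_iff.mp h)
  refine ⟨s, fun y hy ↦ ?_⟩
  rw [germ_eq_zero_iff F hW hy, ← le_iff_specializes hW hx hy]
  constructor
  · rintro ⟨g, hg, hgs⟩ hle
    apply hg
    apply hle
    rw [hs, Submodule.mem_colon_singleton, hgs]
    exact Submodule.zero_mem _
  · intro hle
    obtain ⟨g, hg, hgy⟩ := Set.not_subset.1 hle
    refine ⟨g, hgy, ?_⟩
    have : g ∈ pI hW hx := hg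
    rw [hs, Submodule.mem_colon_singleton] at this
    exact (Submodule.mem_bot _).1 this

section Main

variable (Z : Set X) (hZ : StableUnderSpecialization Z)

/-- the closure of a point of `Z`, as an index of the diagram. -/
def clPt {z : X} (hz : z ∈ Z) : Cl Z :=
  ⟨⟨closure {z}, isClosed_closure⟩, fun y hy ↦ hZ (specializes_iff_mem_closure.2 hy) hz⟩

omit [IsLocallyNoetherian X] in
theorem mem_clPt {z : X} (hz : z ∈ Z) (y : X) : y ∈ ((clPt Z hZ hz).1 : Set X) ↔ z ⤳ y :=
  specializes_iff_mem_closure.symm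

include hZ in
/-- S5855 -/
theorem isZPureAt_iff (x : X) :
    IsZPureAt Z F x ↔ ∀ x' : X, x' ⤳ x → x' ∈ Z →
      (1 : ℕ∞) ≤ LocCoh.depth (X.presheaf.stalk x') (F.presheaf.stalk x') := by
  constructor
  · intro hinj x' hx'x hx'Z
    by_contra hd
    obtain ⟨W, hW, hxW, -⟩ := exists_isAffineOpen_mem_and_subset (x := x) (U := ⊤) trivial
    have hx'W : x' ∈ W := hx'x.mem_open W.isOpen hxW
    obtain ⟨s, hs⟩ := exists_section_of_not_one_le_depth F hW hx'W hd
    let T := clPt Z hZ hx'Z
    have h0 : res F (UV_le T.U W) s = 0 := by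
      apply eq_zero_of_germ_eq_zero
      intro y hy
      have hy' := mem_UV.1 hy
      rw [germ_res' F (UV_le T.U W) y hy s, hs y hy'.2]
      exact fun h ↦ hy'.1 ((mem_clPt Z hZ hx'Z y).2 h)
    have h1a : (stalkF x).map (toDiagram Z F T) (germ F W x hxW s) = 0 := by
      refine (stalkF_map_germ (toDiagram Z F T) x W hxW s).trans ?_
      have h0' : (toDiagram Z F T).app W s = 0 := h0
      exact (congrArg (germ ((resPush T.U).obj F) W x hxW) h0').trans (germ_zero _ W x hxW)
    have h1 : (stalkF x).map (rhoApp Z F) (germ F W x hxW s) = 0 := by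
      rw [rhoApp_eq' Z F T, Functor.map_comp]
      change (stalkF x).map (ιH Z F T) ((stalkF x).map (toDiagram Z F T) (germ F W x hxW s)) = 0
      rw [h1a]
      exact ((stalkF x).map (ιH Z F T)).hom.map_zero
    have h2 : germ F W x hxW s = 0 := by
      apply hinj
      exact h1.trans (((stalkF x).map (rhoApp Z F)).hom.map_zero).symm
    exact (hs x hxW).1 h2 hx'x
  · intro hd
    change Function.Injective ((stalkF x).map (rhoApp Z F))
    rw [injective_iff_map_eq_zero]
    intro γ hγ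
    obtain ⟨T, hT⟩ := exists_stalk_toDiagram_eq_zero Z F x γ hγ
    obtain ⟨V, hxV, s, rfl⟩ := TopCat.Presheaf.exists_germ_eq F.presheaf γ
    have hT' : germ ((resPush T.U).obj F) V x hxV ((toDiagram Z F T).app V s) = 0 :=
      (stalkF_map_germ (toDiagram Z F T) x V hxV s).symm.trans hT
    obtain ⟨V', hxV', i, hV'⟩ := exists_res_eq_zero_of_germ_eq_zero _ _ _ _ _ hT'
    rw [map_eq_res, resPush_map_eq_res, toDiagram_app, res_res] at hV'
    obtain ⟨W, hW, hxW, hWV'⟩ := exists_isAffineOpen_mem_and_subset (x := x) (U := V') hxV'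
    have hWV : W ≤ V := le_trans hWV' i.le
    by_contra hne
    have hne' : germ F W x hxW (res F hWV s) ≠ 0 := by
      rw [germ_res' F hWV x hxW s]; exact hne
    obtain ⟨y, hyW, hyx, hys, hyd⟩ := exists_ass_generization F hW hxW (res F hWV s) hne'
    have hyT : y ∈ (T.1 : Set X) := by
      by_contra hyT
      apply hys
      have hyA : y ∈ UV T.U W := mem_UV.2 ⟨hyT, hyW⟩
      rw [← germ_res' F (UV_le T.U W) y hyA, res_res]
      have : res F ((UV_le T.U W).trans hWV) s =
          res F (UV_mono le_rfl hWV') (res F ((UV_mono le_rfl i.le).trans (UV_le T.U V)) s) := by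
        rw [res_res]
      have e : res F ((UV_le T.U W).trans hWV) s = 0 := by
        rw [this, hV']; exact res_zero F _
      exact (congrArg (germ F (UV T.U W) y hyA) e).trans (germ_zero F _ y hyA)
    exact hyd (hd y hyx (T.2 hyT))

end Main

end Groth.Agent.H7.ZDepthPt
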