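import Groth.Agent.H7.ZDepthDim

set_option autoImplicit false
universe u

open CategoryTheory CategoryTheory.Limits AlgebraicGeometry TopologicalSpace Opposite
open ZClos Groth.Agent.H7.ZClosBase Groth.Agent.H7.ZClosMain Groth.Agent.H7.ZClosSec
open Groth.Agent.H7.ZClosLoc Groth.Agent.H7.ZDepthPt Groth.Agent.H7.ZDepthConv
open Groth.Agent.H7.ZDepthDim Groth.Agent.H7.ZDepthOpen

namespace Groth.Agent.H7.ZDepthS2

section Supp

variable {X : Scheme.{u}} [IsLocallyNoetherian X] (F : X.Modules) [F.IsQuasicoherent]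
  [SheafOfModules.IsFiniteType (R := X.ringCatSheaf) F]

omit [IsLocallyNoetherian X] in
/-- if all stalks of a coherent module are nonzero, the support of each stalk is everything. -/
theorem support_stalk_eq_univ (hsupp : ∀ x : X, Nontrivial (F.presheaf.stalk x)) (x : X) :
    Module.support (X.presheaf.stalk x) (F.presheaf.stalk x) = Set.univ := by
  have := finite_stalk F x
  rw [Set.eq_univ_iff_forall]
  intro q'
  rw [Module.mem_support_iff_of_finite]
  intro a ha
  obtain ⟨W, hW, hxW, -⟩ := exists_isAffineOpen_mem_and_subset (x := x) (U := ⊤) trivial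
  let _ : Algebra Γ(X, W) (X.presheaf.stalk x) :=
    TopCat.Presheaf.algebra_section_stalk X.presheaf ⟨x, hxW⟩
  have : IsLocalization.AtPrime (X.presheaf.stalk x) (hW.primeIdealOf ⟨x, hxW⟩).asIdeal :=
    hW.isLocalization_stalk ⟨x, hxW⟩
  let _ := Groth.Agent.H8.stalkModule F hxW
  have : IsScalarTower Γ(X, W) (X.presheaf.stalk x) (F.presheaf.stalk x) :=
    .of_algebraMap_smul fun _ _ => rfl
  have hloc := Groth.Agent.H8.isLocalizedModule_germₗ F hW hxW
  obtain ⟨⟨f, s⟩, hfs⟩ := IsLocalization.surj (pI hW hxW).primeCompl a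
  have hfs' : a * algebraMap Γ(X, W) (X.presheaf.stalk x) s =
      algebraMap Γ(X, W) (X.presheaf.stalk x) f := hfs
  let Q : PrimeSpectrum Γ(X, W) := PrimeSpectrum.comap (algebraMap Γ(X, W) (X.presheaf.stalk x)) q'
  have hzW := fromSpec_mem hW Q
  have hpz : pI hW hzW = Q.asIdeal := pI_fromSpec hW Q
  have hQle : Q.asIdeal ≤ pI hW hxW := by
    have h1 : q'.asIdeal ≤ IsLocalRing.maximalIdeal (X.presheaf.stalk x) :=
      IsLocalRing.le_maximalIdeal q'.2.ne_top
    have h2 := Ideal.comap_mono (f := algebraMap Γ(X, W) (X.presheaf.stalk x)) h1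
    have h3 : (IsLocalRing.maximalIdeal (X.presheaf.stalk x)).comap
        (algebraMap Γ(X, W) (X.presheaf.stalk x)) = pI hW hxW :=
      IsLocalization.AtPrime.under_maximalIdeal (X.presheaf.stalk x) (pI hW hxW)
    exact h2.trans h3.le
  -- `f` lies in `Q`
  have hfQ : f ∈ Q.asIdeal := by
    by_contra hfQ
    have hnt := hsupp (hW.fromSpec Q)
    apply not_subsingleton (F.presheaf.stalk (hW.fromSpec Q))
    refine ⟨fun m₁ m₂ ↦ ?_⟩
    suffices h0 : ∀ m : F.presheaf.stalk (hW.fromSpec Q), m = 0 by rw [h0 m₁, h0 m₂]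
    intro m
    let _ := Groth.Agent.H8.stalkModule F hzW
    have hlocz := Groth.Agent.H8.isLocalizedModule_germₗ F hW hzW
    obtain ⟨⟨n, t⟩, hnt⟩ := IsLocalizedModule.surj (pI hW hzW).primeCompl
      (Groth.Agent.H8.germₗ F hzW) m
    have hn0 : germ F W (hW.fromSpec Q) hzW n = 0 := by
      rw [germ_eq_zero_iff F hW hzW]
      have h1 : germ F W x hxW (f • n) = 0 := by
        have h2 : Groth.Agent.H8.germₗ F hxW (f • n) =
            algebraMap Γ(X, W) (X.presheaf.stalk x) f • Groth.Agent.H8.germₗ F hxW n :=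
          ((Groth.Agent.H8.germₗ F hxW).map_smul f n).trans
            (algebraMap_smul (X.presheaf.stalk x) f _).symm
        have h3 : Groth.Agent.H8.germₗ F hxW (f • n) = 0 := by
          rw [h2, ← hfs', mul_smul]
          exact Module.mem_annihilator.1 ha _
        exact h3
      obtain ⟨g, hg, hgn⟩ := (germ_eq_zero_iff F hW hxW (f • n)).1 h1
      refine ⟨g * f, ?_, by rw [mul_smul]; exact hgn⟩
      rw [hpz]
      intro hgf
      rcases Q.2.mem_or_mem hgf with h | h
      · exact hg (hQle h)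
      · exact hfQ h
    have h3 : t • m = 0 := hnt.trans hn0
    exact IsLocalizedModule.smul_injective (Groth.Agent.H8.germₗ F hzW) t (h3.trans (smul_zero t).symm)
  have h4 : algebraMap Γ(X, W) (X.presheaf.stalk x) f ∈ q'.asIdeal := hfQ
  rw [← hfs'] at h4
  rcases q'.2.mem_or_mem h4 with h | h
  · exact h
  · exfalso
    apply q'.2.ne_top
    exact Ideal.eq_top_of_isUnit_mem _ h (IsLocalization.map_units (X.presheaf.stalk x) s)

omit [IsLocallyNoetherian X] in
theorem supportDim_stalk_eq (hsupp : ∀ x : X, Nontrivial (F.presheaf.stalk x)) (x : X) :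
    Module.supportDim (X.presheaf.stalk x) (F.presheaf.stalk x) =
      ringKrullDim (X.presheaf.stalk x) := by
  unfold Module.supportDim
  rw [support_stalk_eq_univ F hsupp x]
  exact Order.krullDim_eq_of_orderIso OrderIso.Set.univ

/-- depth zero means the point is associated -/
theorem isAssPoint_of_not_one_le_depth (x : X)
    (h : ¬ (1 : ℕ∞) ≤ LocCoh.depth (X.presheaf.stalk x) (F.presheaf.stalk x)) :
    Curv2.IsAssPoint F x := by
  obtain ⟨W, hW, hxW, -⟩ := exists_isAffineOpen_mem_and_subset (x := x) (U := ⊤) trivial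
  rw [one_le_depth_iff F hW hxW, not_not] at h
  exact (isAssPoint_iff F hW hxW).2 h

omit [IsLocallyNoetherian X] [F.IsQuasicoherent]
  [SheafOfModules.IsFiniteType (R := X.ringCatSheaf) F] in
/-- the pointwise criterion for `(S₂)` in terms of the dimension of the local ring -/
theorem s2_of_depth (x : X)
    (h1 : ringKrullDim (X.presheaf.stalk x) = 1 →
      (1 : ℕ∞) ≤ LocCoh.depth (X.presheaf.stalk x) (F.presheaf.stalk x))
    (h2 : (2 : WithBot ℕ∞) ≤ ringKrullDim (X.presheaf.stalk x) →
      (2 : ℕ∞) ≤ LocCoh.depth (X.presheaf.stalk x) (F.presheaf.stalk x)) :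
    min (2 : WithBot ℕ∞) (Module.supportDim (X.presheaf.stalk x) (F.presheaf.stalk x)) ≤
      ((LocCoh.depth (X.presheaf.stalk x) (F.presheaf.stalk x) : ℕ∞) : WithBot ℕ∞) := by
  have hle := Module.supportDim_le_ringKrullDim (X.presheaf.stalk x) (F.presheaf.stalk x)
  by_cases hd : (2 : WithBot ℕ∞) ≤ ringKrullDim (X.presheaf.stalk x)
  · exact (min_le_left _ _).trans (WithBot.coe_le_coe.2 (h2 hd))
  · refine (min_le_right _ _).trans (hle.trans ?_)
    rw [AlgebraicGeometry.ringKrullDim_stalk_eq_coheight] at hd h1 ⊢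
    have hd' : ¬ (2 : ℕ∞) ≤ Order.coheight x := fun h ↦ hd (WithBot.coe_le_coe.2 h)
    apply WithBot.coe_le_coe.2
    have hc : Order.coheight x = 0 ∨ Order.coheight x = 1 := by
      generalize Order.coheight x = c at hd'
      cases c using ENat.recTopCoe with
      | top => exact absurd le_top hd'
      | coe n =>
        have : ¬ 2 ≤ n := fun h ↦ hd' (by exact_mod_cast h)
        rcases (by omega : n = 0 ∨ n = 1) with h | h
        · left; exact_mod_cast h
        · right; exact_mod_cast h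
    rcases hc with hc | hc
    · rw [hc]; exact zero_le
    · rw [hc]
      exact h1 (by rw [hc]; rfl)

end Supp

section Main

variable {X : Scheme.{u}} [IsLocallyNoetherian X] (F : X.Modules)

omit [IsLocallyNoetherian X] in
theorem depth_H0_eq (Z : Set X) (x : X) (hx : x ∉ Z) :
    LocCoh.depth (X.presheaf.stalk x) (((H0 Z).obj F).presheaf.stalk x) =
      LocCoh.depth (X.presheaf.stalk x) (F.presheaf.stalk x) := by
  let e : F.presheaf.stalk x ≃ₗ[X.presheaf.stalk x] ((H0 Z).obj F).presheaf.stalk x :=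
    LinearEquiv.ofBijective (Groth.Agent.H38.ModStalk.stalkMapₗ (rhoApp Z F) x)
      (bijective_stalkMapₗ_rho Z F x hx)
  exact (Groth.Agent.H15.idealDepth_congr e (IsLocalRing.maximalIdeal (X.presheaf.stalk x))).symm

/-- S5860 -/
theorem hasS2_H0 (hF : Coh.IsCoh F)
    (hass : ∀ x ∈ AssSch.Ass F, ringKrullDim (X.presheaf.stalk x) ≠ 1)
    (hH : Coh.IsCoh ((H0 (dimGe X 2)).obj F)) (x : X) :
    min (2 : WithBot ℕ∞) (Module.supportDim (X.presheaf.stalk x)
        (((H0 (dimGe X 2)).obj F).presheaf.stalk x)) ≤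
      ((LocCoh.depth (X.presheaf.stalk x) (((H0 (dimGe X 2)).obj F).presheaf.stalk x) : ℕ∞) :
        WithBot ℕ∞) := by
  have := hF.1
  have := hF.2
  apply s2_of_depth
  · intro h1
    have hxZ : x ∉ dimGe X 2 := by
      intro h2
      have h3 : (2 : WithBot ℕ∞) ≤ ringKrullDim (X.presheaf.stalk x) := h2
      rw [h1] at h3
      exact absurd h3 (by decide)
    rw [depth_H0_eq F _ x hxZ]
    by_contra hd
    exact hass x (isAssPoint_of_not_one_le_depth F x hd) h1
  · intro h2
    exact two_le_depth_H0 F _ (stableUnderSpecialization_dimGe X 2) hH x h2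

/-- S5861 -/
theorem isOpen_S2_locus (hF : Coh.IsCoh F)
    (hsupp : ∀ x : X, Nontrivial (F.presheaf.stalk x))
    (hass : ∀ x ∈ AssSch.Ass F, ringKrullDim (X.presheaf.stalk x) ≠ 1)
    (hH : Coh.IsCoh ((H0 (dimGe X 2)).obj F)) :
    IsOpen {x : X | ∀ x' : X, x' ⤳ x →
        min (2 : WithBot ℕ∞) (Module.supportDim (X.presheaf.stalk x') (F.presheaf.stalk x')) ≤
          ((LocCoh.depth (X.presheaf.stalk x') (F.presheaf.stalk x') : ℕ∞) : WithBot ℕ∞)} ∧
      ∀ x : X, (¬ ∀ x' : X, x' ⤳ x →
        min (2 : WithBot ℕ∞) (Module.supportDim (X.presheaf.stalk x') (F.presheaf.stalk x')) ≤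
          ((LocCoh.depth (X.presheaf.stalk x') (F.presheaf.stalk x') : ℕ∞) : WithBot ℕ∞)) →
        (2 : WithBot ℕ∞) ≤ ringKrullDim (X.presheaf.stalk x) := by
  have := hF.1
  have := hF.2
  obtain ⟨U, hUeq, hUc, -, -⟩ :=
    exists_maximal_open F (dimGe X 2) (stableUnderSpecialization_dimGe X 2) hH
  have key : ∀ x' : X,
      (min (2 : WithBot ℕ∞) (Module.supportDim (X.presheaf.stalk x') (F.presheaf.stalk x')) ≤
        ((LocCoh.depth (X.presheaf.stalk x') (F.presheaf.stalk x') : ℕ∞) : WithBot ℕ∞)) ↔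
      (x' ∈ dimGe X 2 →
        (2 : ℕ∞) ≤ LocCoh.depth (X.presheaf.stalk x') (F.presheaf.stalk x')) := by
    intro x'
    constructor
    · intro h hx'
      have h2 : (2 : WithBot ℕ∞) ≤ ringKrullDim (X.presheaf.stalk x') := hx'
      rw [supportDim_stalk_eq F hsupp x', min_eq_left h2] at h
      exact WithBot.coe_le_coe.1 h
    · intro h
      apply s2_of_depth
      · intro h1
        by_contra hd
        exact hass x' (isAssPoint_of_not_one_le_depth F x' hd) h1
      · exact h
  have hS : {x : X | ∀ x' : X, x' ⤳ x →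
        min (2 : WithBot ℕ∞) (Module.supportDim (X.presheaf.stalk x') (F.presheaf.stalk x')) ≤
          ((LocCoh.depth (X.presheaf.stalk x') (F.presheaf.stalk x') : ℕ∞) : WithBot ℕ∞)} =
      (U : Set X) := by
    rw [hUeq]
    ext x
    exact forall_congr' fun x' ↦ forall_congr' fun _ ↦ key x'
  refine ⟨hS ▸ U.2, fun x hx ↦ ?_⟩
  have hxU : x ∈ (U : Set X)ᶜ := by
    intro hxU
    rw [← hS] at hxU
    exact hx hxU
  exact hUc hxU

end Main

end Groth.Agent.H7.ZDepthS2
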