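import Groth.Agent.H7.ZDepthPt

set_option autoImplicit false
universe u

open CategoryTheory CategoryTheory.Limits AlgebraicGeometry TopologicalSpace Opposite
open ZClos Groth.Agent.H7.ZClosBase Groth.Agent.H7.ZClosMain Groth.Agent.H7.ZClosSupp
open Groth.Agent.H7.ZDepthPt

namespace Groth.Agent.H7.ZDepthSpread

section Alg

variable {A : Type u} [CommRing A]

/-- an element outside a prime `p` lying in finitely many given ideals not contained in `p`. -/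
theorem exists_mem_notMem (p : Ideal A) [p.IsPrime] (S : Set (Ideal A)) (hS : S.Finite)
    (h : ∀ q ∈ S, ¬ q ≤ p) : ∃ g : A, g ∉ p ∧ ∀ q ∈ S, g ∈ q := by
  classical
  have hch : ∀ q : Ideal A, ∃ f : A, q ∈ S → (f ∈ q ∧ f ∉ p) := by
    intro q
    by_cases hq : q ∈ S
    · obtain ⟨f, hfq, hfp⟩ := Set.not_subset.1 (h q hq)
      exact ⟨f, fun _ ↦ ⟨hfq, hfp⟩⟩
    · exact ⟨0, fun h ↦ (hq h).elim⟩
  choose f hf using hch
  refine ⟨∏ q ∈ hS.toFinset, f q, ?_, ?_⟩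
  · rw [Ideal.IsPrime.prod_mem_iff]
    rintro ⟨q, hq, hfq⟩
    exact (hf q (hS.mem_toFinset.1 hq)).2 hfq
  · intro q hq
    obtain ⟨c, hc⟩ := Finset.dvd_prod_of_mem f (hS.mem_toFinset.2 hq)
    rw [hc]
    exact q.mul_mem_right c (hf q hq).1

end Alg

section Top

/-- in a Noetherian quasi-sober space, every point of a closed set `E` is a specialization of a
point `ξ` of `E` near which `E` is contained in the closure of `ξ`. -/
theorem exists_generic_of_mem_isClosed {Y : Type*} [TopologicalSpace Y] [NoetherianSpace Y]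
    [QuasiSober Y] {E : Set Y} (hE : IsClosed E) {x : Y} (hx : x ∈ E) :
    ∃ ξ ∈ E, ξ ⤳ x ∧ ∃ O : Set Y, IsOpen O ∧ ξ ∈ O ∧ E ∩ O ⊆ closure {ξ} := by
  obtain ⟨S, hSf, hSc, hSi, rfl⟩ := NoetherianSpace.exists_finite_set_isClosed_irreducible hE
  obtain ⟨C₀, hC₀, hxC₀⟩ := hx
  obtain ⟨C, hC0C, hCmax⟩ := hSf.exists_le_maximal hC₀
  have hCS : C ∈ S := hCmax.prop
  have hξ : IsGenericPoint (hSi C hCS).genericPoint C :=
    (hSi C hCS).isGenericPoint_genericPoint (hSc C hCS)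
  set ξ := (hSi C hCS).genericPoint with hξdef
  have hξC : ξ ∈ C := hξ.mem
  refine ⟨ξ, ⟨C, hCS, hξC⟩, ?_, (⋃₀ {C' ∈ S | ξ ∉ C'})ᶜ, ?_, ?_, ?_⟩
  · rw [specializes_iff_mem_closure, hξ.def]
    exact hC0C hxC₀
  · rw [isOpen_compl_iff]
    rw [Set.sUnion_eq_biUnion]
    exact (hSf.subset (Set.sep_subset _ _)).isClosed_biUnion fun t ht ↦ hSc t ht.1
  · rintro ⟨C', ⟨-, hC'⟩, h⟩
    exact hC' h
  · rintro z ⟨⟨C', hC'S, hzC'⟩, hzO⟩
    have hξC' : ξ ∈ C' := by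
      by_contra hcon
      exact hzO ⟨C', ⟨hC'S, hcon⟩, hzC'⟩
    have hCC' : C ≤ C' := by
      rw [← hξ.def]
      exact (hSc C' hC'S).closure_subset_iff.2 (Set.singleton_subset_iff.2 hξC')
    have : C' = C := le_antisymm (hCmax.le_of_ge hC'S hCC') hCC'
    rw [hξ.def, ← this]
    exact hzC'

end Top

section Sch

variable {X : Scheme.{u}} [IsLocallyNoetherian X]

/-- generic points of the complement of an open subset inside a quasi-compact open. -/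
theorem exists_generic_point (V : X.Opens) (hV : IsCompact (V : Set X)) (G : X.Opens) {x : X}
    (hxV : x ∈ V) (hxG : x ∉ G) :
    ∃ ξ : X, ξ ∈ V ∧ ξ ∉ G ∧ ξ ⤳ x ∧
      ∃ O : X.Opens, ξ ∈ O ∧ O ≤ V ∧ ∀ z ∈ O, z ∉ G → ξ ⤳ z := by
  have : CompactSpace V := isCompact_iff_compactSpace.1 hV
  have : IsNoetherian (V : Scheme) := ⟨⟩
  have hN : NoetherianSpace {x // x ∈ V} := inferInstanceAs (NoetherianSpace (V : Scheme))
  have hQ : QuasiSober {x // x ∈ V} := inferInstanceAs (QuasiSober (V : Scheme))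
  have hE : IsClosed {z : {x // x ∈ V} | z.1 ∉ G} :=
    (G.isOpen.isClosed_compl).preimage continuous_subtype_val
  obtain ⟨ξ, hξE, hξx, O, hO, hξO, hEO⟩ :=
    exists_generic_of_mem_isClosed hE (x := ⟨x, hxV⟩) hxG
  obtain ⟨O', hO', rfl⟩ := isOpen_induced_iff.1 hO
  refine ⟨ξ.1, ξ.2, hξE, (subtype_specializes_iff _ _).1 hξx, ⟨O', hO'⟩ ⊓ V, ⟨hξO, ξ.2⟩,
    inf_le_right, ?_⟩
  rintro z ⟨hzO, hzV⟩ hzG
  have h1 : (⟨z, hzV⟩ : {x // x ∈ V}) ∈ closure {ξ} := hEO ⟨hzG, hzO⟩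
  exact (subtype_specializes_iff _ _).1 (specializes_iff_mem_closure.2 h1)

variable (F : X.Modules) [F.IsQuasicoherent] [SheafOfModules.IsFiniteType (R := X.ringCatSheaf) F]

omit [IsLocallyNoetherian X] in
theorem exists_basicOpen_avoiding {W : X.Opens} (hW : IsAffineOpen W) {x : X} (hx : x ∈ W)
    (S : Set (Ideal Γ(X, W))) (hS : S.Finite) (h : ∀ q ∈ S, ¬ q ≤ pI hW hx) :
    ∃ g : Γ(X, W), x ∈ X.basicOpen g ∧
      ∀ (y : X) (hy : y ∈ W), y ∈ X.basicOpen g → pI hW hy ∉ S := by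
  obtain ⟨g, hgp, hgS⟩ := exists_mem_notMem (pI hW hx) S hS h
  refine ⟨g, (Groth.Agent.H8.notMem_primeIdealOf_iff hW hx g).1 hgp, fun y hy hyg hyS ↦ ?_⟩
  exact (Groth.Agent.H8.notMem_primeIdealOf_iff hW hy g).2 hyg (hgS _ hyS)

/-- near `x`, all points of depth zero are generizations of `x`. -/
theorem exists_affine_ass_generization (x : X) (V : X.Opens) (hxV : x ∈ V) :
    ∃ W : X.Opens, IsAffineOpen W ∧ x ∈ W ∧ W ≤ V ∧ ∀ y ∈ W,
      ¬ (1 : ℕ∞) ≤ LocCoh.depth (X.presheaf.stalk y) (F.presheaf.stalk y) → y ⤳ x := by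
  obtain ⟨W₀, hW₀, hxW₀, hW₀V⟩ := exists_isAffineOpen_mem_and_subset (x := x) (U := V) hxV
  have := noeth hW₀
  have := fin F hW₀
  obtain ⟨g, hxg, hg⟩ := exists_basicOpen_avoiding hW₀ hxW₀
    {q | q ∈ associatedPrimes Γ(X, W₀) Γ(F, W₀) ∧ ¬ q ≤ pI hW₀ hxW₀}
    ((associatedPrimes.finite _ _).subset (Set.sep_subset _ _)) (fun q hq ↦ hq.2)
  refine ⟨X.basicOpen g, hW₀.basicOpen g, hxg, (X.basicOpen_le g).trans hW₀V, fun y hy hd ↦ ?_⟩
  have hy₀ : y ∈ W₀ := X.basicOpen_le g hy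
  rw [one_le_depth_iff F hW₀ hy₀, not_not] at hd
  have := hg y hy₀ hy
  rw [← le_iff_specializes hW₀ hy₀ hxW₀]
  by_contra hcon
  exact this ⟨hd, hcon⟩

/-- depth at least one spreads along the closure of a point. -/
theorem exists_affine_one_le_depth {x : X} (V : X.Opens) (hxV : x ∈ V)
    (h : (1 : ℕ∞) ≤ LocCoh.depth (X.presheaf.stalk x) (F.presheaf.stalk x)) :
    ∃ W : X.Opens, IsAffineOpen W ∧ x ∈ W ∧ W ≤ V ∧ ∀ y ∈ W, x ⤳ y →
      (1 : ℕ∞) ≤ LocCoh.depth (X.presheaf.stalk y) (F.presheaf.stalk y) := by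
  obtain ⟨W₀, hW₀, hxW₀, hW₀V⟩ := exists_isAffineOpen_mem_and_subset (x := x) (U := V) hxV
  have := noeth hW₀
  have := fin F hW₀
  rw [one_le_depth_iff F hW₀ hxW₀] at h
  obtain ⟨g, hxg, hg⟩ := exists_basicOpen_avoiding hW₀ hxW₀
    {q | q ∈ associatedPrimes Γ(X, W₀) Γ(F, W₀) ∧ pI hW₀ hxW₀ ≤ q}
    ((associatedPrimes.finite _ _).subset (Set.sep_subset _ _)) (fun q hq hle ↦ by
      have : q = pI hW₀ hxW₀ := le_antisymm hle hq.2
      exact h (this ▸ hq.1))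
  refine ⟨X.basicOpen g, hW₀.basicOpen g, hxg, (X.basicOpen_le g).trans hW₀V, fun y hy hxy ↦ ?_⟩
  have hy₀ : y ∈ W₀ := X.basicOpen_le g hy
  rw [one_le_depth_iff F hW₀ hy₀]
  intro hass
  exact hg y hy₀ hy ⟨hass, (le_iff_specializes hW₀ hxW₀ hy₀).2 hxy⟩

/-- if the depth is at least one along the closure of `x` in the affine open `W`, some element of the
prime of `x` is regular on the sections over `W`. -/
theorem exists_regular {W : X.Opens} (hW : IsAffineOpen W) {x : X} (hx : x ∈ W)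
    (h : ∀ y ∈ W, x ⤳ y →
      (1 : ℕ∞) ≤ LocCoh.depth (X.presheaf.stalk y) (F.presheaf.stalk y)) :
    ∃ a ∈ pI hW hx, IsSMulRegular Γ(F, W) a := by
  have := noeth hW
  have := fin F hW
  apply Groth.Agent.H14.D15.exists_isSMulRegular_of_depth_pos Γ(F, W) (pI hW hx)
  intro q hq hle
  let Q : PrimeSpectrum Γ(X, W) := ⟨q, hq⟩
  have hy := fromSpec_mem hW Q
  have hxy : x ⤳ hW.fromSpec Q := by
    rw [← le_iff_specializes hW hx hy, pI_fromSpec hW Q]
    exact hle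
  have key := Groth.Agent.H6.HartogsMod.depth_stalk_fromSpec_eq X F W hW Q Γ(F, W)
    (LinearEquiv.refl _ _)
  rw [← key]
  exact h _ hy hxy

/-- depth at least two spreads along the closure of a point. -/
theorem exists_affine_two_le_depth {x : X} (V : X.Opens) (hxV : x ∈ V)
    (h : (2 : ℕ∞) ≤ LocCoh.depth (X.presheaf.stalk x) (F.presheaf.stalk x)) :
    ∃ W : X.Opens, IsAffineOpen W ∧ x ∈ W ∧ W ≤ V ∧ ∀ y ∈ W, x ⤳ y →
      (2 : ℕ∞) ≤ LocCoh.depth (X.presheaf.stalk y) (F.presheaf.stalk y) := by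
  obtain ⟨W₁, hW₁, hxW₁, hW₁V, hd₁⟩ := exists_affine_one_le_depth F V hxV
    (le_trans (by norm_num) h)
  have := noeth hW₁
  have := fin F hW₁
  obtain ⟨a, hap, ha⟩ := exists_regular F hW₁ hxW₁ hd₁
  rw [depth_eq F hW₁ hxW₁] at h
  have h1 := Groth.Agent.H14.D15.le_depth_localization_quotSMulTop Γ(F, W₁) (pI hW₁ hxW₁) a hap ha 1
    (by simpa using h)
  have h2 := (Groth.Agent.H14.ZClos.one_le_depth_localization_iff (QuotSMulTop a Γ(F, W₁))
    (pI hW₁ hxW₁)).1 (by simpa using h1)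
  obtain ⟨g, hxg, hg⟩ := exists_basicOpen_avoiding hW₁ hxW₁
    {q | q ∈ associatedPrimes Γ(X, W₁) (QuotSMulTop a Γ(F, W₁)) ∧ pI hW₁ hxW₁ ≤ q}
    ((associatedPrimes.finite _ _).subset (Set.sep_subset _ _)) (fun q hq hle ↦ by
      have : q = pI hW₁ hxW₁ := le_antisymm hle hq.2
      exact h2 (this ▸ hq.1))
  refine ⟨X.basicOpen g, hW₁.basicOpen g, hxg, (X.basicOpen_le g).trans hW₁V, fun y hy hxy ↦ ?_⟩
  have hy₁ : y ∈ W₁ := X.basicOpen_le g hy
  have hle : pI hW₁ hxW₁ ≤ pI hW₁ hy₁ := (le_iff_specializes hW₁ hxW₁ hy₁).2 hxy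
  rw [depth_eq F hW₁ hy₁]
  exact Groth.Agent.H14.ZClos.two_le_depth_localization_of Γ(F, W₁) (pI hW₁ hy₁) a (hle hap) ha
    (fun hass ↦ hg y hy₁ hy ⟨hass, hle⟩)

/-- Hartogs over an affine open `W`, with the depth hypothesis only at the points of `W`
(variant of `Groth.Agent.H6.HartogsMod.bijective_res_affine_mod`). -/
theorem bijective_res_affine (U : X.Opens) (W : X.Opens) (hW : IsAffineOpen W)
    (hU : ∀ x : X, x ∈ W → x ∉ U →
      (2 : ℕ∞) ≤ LocCoh.depth (X.presheaf.stalk x) (F.presheaf.stalk x))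
    (W' : X.Opens) (hW' : W' = W ⊓ U) (hle : W' ≤ W) :
    Function.Bijective (F.presheaf.map (homOfLE hle).op) := by
  have hN : IsNoetherianRing Γ(X, W) := noeth hW
  have : Module.Finite Γ(X, W) Γ(F, W) := fin F hW
  let G := F.restrict hW.fromSpec
  let U' : (Spec Γ(X, W)).Opens := hW.fromSpec ⁻¹ᵁ U
  have : Module.Finite Γ(X, W) Γ(G, ⊤) :=
    Module.Finite.of_surjective (Groth.Agent.H6.HartogsMod.eN F hW).symm.toLinearMap
      (Groth.Agent.H6.HartogsMod.eN F hW).symm.surjective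
  have hd : ∀ p : PrimeSpectrum Γ(X, W), (p : (Spec Γ(X, W) : Type u)) ∉ U' →
      (2 : ℕ∞) ≤ LocCoh.depth (Localization.AtPrime p.asIdeal)
        (LocalizedModule p.asIdeal.primeCompl Γ(G, ⊤)) := by
    intro p hp
    rw [← Groth.Agent.H6.HartogsMod.depth_stalk_fromSpec_eq X F W hW p Γ(G, ⊤)
      (Groth.Agent.H6.HartogsMod.eN F hW)]
    exact hU _ (fromSpec_mem hW p) hp
  have hb1 : Function.Bijective
      (Groth.Agent.H6.PuncturedSections.toO (R := Γ(X, W)) Γ(G, ⊤) U') :=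
    Groth.Agent.H6.HartogsMod.toO_bijective_of_depth (R := Γ(X, W)) Γ(G, ⊤) U' hd
  have hb2 : Function.Bijective (G.presheaf.map (homOfLE (le_top : U' ≤ ⊤)).op) :=
    Groth.Agent.H6.HartogsMod.bijective_res_of_bijective_toO G U' hb1
  have hb3 : Function.Bijective
      (F.presheaf.map (hW.fromSpec.opensFunctor.map (homOfLE (le_top : U' ≤ ⊤))).op) := hb2
  refine Groth.Agent.H6.HartogsMod.bijective_of_eq F _ _ ?_
    (Groth.Agent.H6.HartogsMod.image_top_eq hW) hb3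
  show hW.fromSpec ''ᵁ (hW.fromSpec ⁻¹ᵁ U) = W'
  rw [Scheme.Hom.image_preimage_eq_opensRange_inf, hW.opensRange_fromSpec, hW']

end Sch

end Groth.Agent.H7.ZDepthSpread
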