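import Groth.Agent.H71.PushBC.Main
import Groth.Agent.H7.ZClosLoc
import Groth.Agent.H7.ZClosIso
import Groth.Agent.S5841
import Groth.Agent.H5.Stalk.PullbackStalk

/-!
helper7: flat base change for the `Z`-closure `H⁰_{X/Z}` (for S5853/S5854): the pullback of a
quasi-coherent `Z`-closed module along a flat morphism of locally Noetherian schemes is
`f⁻¹(Z)`-closed (`isZClosed_pullback`), and the pullback of a morphism which is bijective on the
stalk at `f x'` is bijective on the stalk at `x'` (`bijective_stalk_pullback_map`).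
-/

set_option autoImplicit false
universe u

open CategoryTheory CategoryTheory.Limits AlgebraicGeometry TopologicalSpace Opposite TensorProduct
open ZClos Groth.Agent.H7.ZClosBase Groth.Agent.H7.ZClosMain Groth.Agent.H7.ZClosSec
open Groth.Agent.H7.ZClosSupp Groth.Agent.H7.ZClosLoc Groth.Agent.H71.PushBC

namespace Groth.Agent.H7.ZFlatBC

variable {X X' : Scheme.{u}} (f : X' ⟶ X)

/-- if `φ` is bijective on the stalk at `f x'`, then `f^* φ` is bijective on the stalk at `x'`. -/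
theorem bijective_stalk_pullback_map {M N : X.Modules} (φ : M ⟶ N) (x' : X')
    (h : Function.Bijective ((stalkF (f.base x')).map φ)) :
    Function.Bijective ((stalkF x').map ((Scheme.Modules.pullback f).map φ)) := by
  have i1 : IsIso ((Groth.Agent.H5.Stalk.stalkFunctor (f.base x')).map φ) :=
    (ConcreteCategory.isIso_iff_bijective _).2 h
  have i2 : IsIso ((Groth.Agent.H5.Stalk.stalkExt f x').map φ) :=
    Functor.map_isIso (Groth.Agent.H5.Stalk.extStalk f x') _
  have i3 : IsIso ((Groth.Agent.H5.Stalk.pullbackStalk f x').map φ) :=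
    (NatIso.isIso_map_iff (Groth.Agent.H5.Stalk.pullbackStalkIso f x') φ).2 i2
  exact (ConcreteCategory.isIso_iff_bijective
    ((Groth.Agent.H5.Stalk.pullbackStalk f x').map φ)).1 i3

theorem bijective_res_congr₂ (M : X.Modules) {A A' B B' : X.Opens} (eA : A = A') (eB : B = B')
    (h : A ≤ B) (h' : A' ≤ B') :
    Function.Bijective (res M h) ↔ Function.Bijective (res M h') := by
  subst eA eB; rfl

/-- the basis of affine opens of `X'` mapping into an affine open of `X`. -/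
def affBasis : Set X'.Opens :=
  {V' | IsAffineOpen V' ∧ ∃ V : X.Opens, IsAffineOpen V ∧ V' ≤ f ⁻¹ᵁ V}

theorem isBasis_affBasis : Opens.IsBasis (affBasis f) := by
  rw [Opens.isBasis_iff_nbhd]
  intro U' x' hx'
  obtain ⟨V, hV, hxV, -⟩ := exists_isAffineOpen_mem_and_subset (X := X) (x := f.base x')
    (U := ⊤) trivial
  obtain ⟨V', hV', hxV', hV'U⟩ := exists_isAffineOpen_mem_and_subset (X := X') (x := x')
    (U := U' ⊓ f ⁻¹ᵁ V) ⟨hx', hxV⟩
  exact ⟨V', ⟨hV', V, hV, hV'U.trans inf_le_right⟩, hxV', hV'U.trans inf_le_left⟩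

theorem exists_cl_of_isCompact [IsLocallyNoetherian X'] (Z : Set X)
    (hZ : StableUnderSpecialization Z) (V' : X'.Opens) (hV' : IsCompact (V' : Set X'))
    (T' : Cl (f.base ⁻¹' Z)) :
    ∃ T : Cl Z, ∀ x' : X', x' ∈ V' → x' ∈ (T'.1 : Set X') → f.base x' ∈ (T.1 : Set X) := by
  have : CompactSpace V' := isCompact_iff_compactSpace.1 hV'
  have : IsNoetherian (V' : Scheme) := ⟨⟩
  have hN : NoetherianSpace {x // x ∈ V'} := inferInstanceAs (NoetherianSpace (V' : Scheme))
  have hQ : QuasiSober {x // x ∈ V'} := inferInstanceAs (QuasiSober (V' : Scheme))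
  have hCcl : IsClosed ((Subtype.val : {x // x ∈ V'} → X') ⁻¹' (T'.1 : Set X')) :=
    T'.1.isClosed.preimage continuous_subtype_val
  obtain ⟨S, hSfin, hScl, hSirr, hC⟩ :=
    NoetherianSpace.exists_finite_set_isClosed_irreducible hCcl
  have hTcl : IsClosed (⋃ t ∈ S, closure ((fun x : {x // x ∈ V'} => f.base x.1) '' t)) :=
    hSfin.isClosed_biUnion (fun _ _ => isClosed_closure)
  refine ⟨⟨⟨_, hTcl⟩, ?_⟩, ?_⟩
  · intro y hy
    obtain ⟨t, ht, hyt⟩ := Set.mem_iUnion₂.1 hy
    obtain ⟨ξ, hξ⟩ := QuasiSober.sober (hSirr t ht) (hScl t ht)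
    have h1 : ξ ∈ (Subtype.val : {x // x ∈ V'} → X') ⁻¹' (T'.1 : Set X') := by
      rw [hC]
      exact Set.mem_sUnion.2 ⟨t, ht, hξ.mem⟩
    have h2 : f.base ξ.1 ∈ Z := T'.2 h1
    have h3 : (fun x : {x // x ∈ V'} => f.base x.1) '' t ⊆ closure {f.base ξ.1} := by
      rintro _ ⟨x, hxt, rfl⟩
      have h4 : ξ ⤳ x := hξ.specializes hxt
      have h5 : ξ.1 ⤳ x.1 := h4.map continuous_subtype_val
      exact specializes_iff_mem_closure.1 (h5.map f.continuous)
    have h6 : y ∈ closure {f.base ξ.1} := closure_minimal h3 isClosed_closure hyt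
    exact hZ (specializes_iff_mem_closure.2 h6) h2
  · intro x' hx' hx'T
    have h1 : (⟨x', hx'⟩ : {x // x ∈ V'}) ∈
        (Subtype.val : {x // x ∈ V'} → X') ⁻¹' (T'.1 : Set X') := hx'T
    rw [hC] at h1
    obtain ⟨t, ht, hxt⟩ := Set.mem_sUnion.1 h1
    exact Set.mem_iUnion₂.2 ⟨t, ht, subset_closure ⟨⟨x', hx'⟩, hxt, rfl⟩⟩

theorem isPullback_id : IsPullback f (𝟙 X') (𝟙 X) f :=
  IsPullback.of_vert_isIso ⟨by simp⟩

/-- transfer of bijectivity of restriction maps along a flat morphism -/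
theorem bijective_res_pullback [Flat f] (M : X.Modules) [M.IsQuasicoherent]
    {V : X.Opens} {V' : X'.Opens} (hV : IsAffineOpen V) (hV' : IsAffineOpen V')
    (e₁ : V' ≤ f ⁻¹ᵁ V) {W₁ W₂ : X.Opens} (hW₁ : W₁ ≤ V) (h : W₂ ≤ W₁)
    (hc₁ : IsCompact (W₁ : Set X)) (hc₂ : IsCompact (W₂ : Set X))
    (hb : Function.Bijective (res M h)) :
    Function.Bijective (res ((Scheme.Modules.pullback f).obj M)
      (pre_mono (g' := f) (f' := 𝟙 X') (V' := V') h)) := by
  have hp := isPullback_id f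
  have hfl : (f.appLE V V' e₁).hom.Flat :=
    HasRingHomProperty.appLE (P := @Flat) f ‹_› ⟨V, hV⟩ ⟨V', hV'⟩ e₁
  have hqs : IsQuasiSeparated (((𝟙 X) ⁻¹ᵁ V : X.Opens) : Set X) := hV.isQuasiSeparated
  have hW₁' : W₁ ≤ (𝟙 X) ⁻¹ᵁ V := hW₁
  have b1 := cmap_bijective_of_isCompact (M := M) e₁ hp hV hV' hfl hqs W₁ hW₁' hc₁
  have b2 := cmap_bijective_of_isCompact (M := M) e₁ hp hV hV' hfl hqs W₂ (h.trans hW₁') hc₂
  have nat := cmap_res hp.w M e₁ hW₁' h
  let _ := algAB (g := f) e₁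
  have : Module.Flat Γ(X, V) Γ(X', V') := hfl
  let _ := modW (f := 𝟙 X) M W₁ hW₁'
  let _ := modW (f := 𝟙 X) M W₂ (h.trans hW₁')
  have hbL : Function.Bijective (resL (f := 𝟙 X) M hW₁' h) := hb
  have hbT : Function.Bijective ((resL (f := 𝟙 X) M hW₁' h).lTensor Γ(X', V')) :=
    ⟨Module.Flat.lTensor_preserves_injective_linearMap _ hbL.1,
      LinearMap.lTensor_surjective _ hbL.2⟩
  have hcomp : Function.Bijective
      (fun t => cmap hp.w M e₁ W₂ (h.trans hW₁')
        ((resL (f := 𝟙 X) M hW₁' h).lTensor Γ(X', V') t)) := b2.comp hbT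
  have heq : (fun t => res ((Scheme.Modules.pullback f).obj M)
      (pre_mono (g' := f) (f' := 𝟙 X') (V' := V') h) (cmap hp.w M e₁ W₁ hW₁' t)) =
      (fun t => cmap hp.w M e₁ W₂ (h.trans hW₁')
        ((resL (f := 𝟙 X) M hW₁' h).lTensor Γ(X', V') t)) := funext nat
  rw [← heq] at hcomp
  exact (Function.Bijective.of_comp_iff _ b1).1 hcomp

variable [Flat f] (Z : Set X) (G : X.Modules) [G.IsQuasicoherent]

theorem bijective_res_pullback_of_isZClosed [IsLocallyNoetherian X] (hG : IsZClosed Z G)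
    {V' : X'.Opens} (hV' : V' ∈ affBasis f) (T : Cl Z) :
    Function.Bijective (res ((Scheme.Modules.pullback f).obj G) (UV_le (f ⁻¹ᵁ T.U) V')) := by
  obtain ⟨hV'a, V, hV, e₁⟩ := hV'
  have hb : Function.Bijective (res G (inf_le_left : V ⊓ T.U ≤ V)) :=
    (isZClosed_iff_bijective_res_compl Z G).1 hG T V hV.isCompact
  have hc₂ : IsCompact ((V ⊓ T.U : X.Opens) : Set X) :=
    isCompact_of_le_of_isCompact V _ hV.isCompact inf_le_left
  have key := bijective_res_pullback f G hV hV'a e₁ le_rfl inf_le_left hV.isCompact hc₂ hb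
  refine (bijective_res_congr₂ _ ?_ ?_ _ _).1 key
  · rw [UV_eq]
    ext x
    constructor
    · rintro ⟨⟨-, h2⟩, h3⟩
      exact ⟨h2, h3⟩
    · rintro ⟨h2, h3⟩
      exact ⟨⟨e₁ h3, h2⟩, h3⟩
  · ext x
    constructor
    · rintro ⟨-, h3⟩
      exact h3
    · intro h3
      exact ⟨e₁ h3, h3⟩

theorem isIso_resPushUnit_pullback [IsLocallyNoetherian X] (hG : IsZClosed Z G) (T : Cl Z) :
    IsIso ((resPushUnit (f ⁻¹ᵁ T.U)).app ((Scheme.Modules.pullback f).obj G)) :=
  isIso_of_isBasis _ (isBasis_affBasis f) (fun _ hV' =>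
    bijective_res_pullback_of_isZClosed f Z G hG hV' T)

theorem bijective_res_pullback_cl [IsLocallyNoetherian X] [IsLocallyNoetherian X']
    (hZ : StableUnderSpecialization Z) (hG : IsZClosed Z G)
    {V' : X'.Opens} (hV' : V' ∈ affBasis f) (T' : Cl (f.base ⁻¹' Z)) :
    Function.Bijective (res ((Scheme.Modules.pullback f).obj G) (UV_le T'.U V')) := by
  obtain ⟨T, hT⟩ := exists_cl_of_isCompact f Z hZ V' hV'.1.isCompact T'
  have ha := bijective_res_pullback_of_isZClosed f Z G hG hV' T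
  have hle : UV (f ⁻¹ᵁ T.U) V' ≤ UV T'.U V' := by
    rw [UV_eq, UV_eq]
    rintro x ⟨hx1, hx2⟩
    exact ⟨fun hxT' => hx1 (hT x hx2 hxT'), hx2⟩
  have hiso := isIso_resPushUnit_pullback f Z G hG T
  have hb0 := bijective_app_of_isIso
    ((resPushUnit (f ⁻¹ᵁ T.U)).app ((Scheme.Modules.pullback f).obj G)) (UV T'.U V')
  have e : UV (f ⁻¹ᵁ T.U) (UV T'.U V') = UV (f ⁻¹ᵁ T.U) V' := by
    apply le_antisymm
    · exact UV_mono le_rfl (UV_le _ _)
    · intro x hx
      exact mem_UV.2 ⟨(mem_UV.1 hx).1, hle hx⟩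
  have hb : Function.Injective (res ((Scheme.Modules.pullback f).obj G) hle) :=
    (injective_res_congr _ e (UV_le _ _) hle).1 hb0.1
  have hcomp : ∀ s, res ((Scheme.Modules.pullback f).obj G) hle
      (res ((Scheme.Modules.pullback f).obj G) (UV_le T'.U V') s) =
      res ((Scheme.Modules.pullback f).obj G) (UV_le (f ⁻¹ᵁ T.U) V') s :=
    fun s => res_res _ _ _ s
  constructor
  · intro s t hst
    apply ha.1
    rw [← hcomp, ← hcomp, hst]
  · intro y
    obtain ⟨x, hx⟩ := ha.2 (res ((Scheme.Modules.pullback f).obj G) hle y)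
    exact ⟨x, hb ((hcomp x).trans hx)⟩

/-- the pullback of a quasi-coherent `Z`-closed module along a flat morphism is `f⁻¹(Z)`-closed. -/
theorem isZClosed_pullback [IsLocallyNoetherian X] [IsLocallyNoetherian X']
    (hZ : StableUnderSpecialization Z) (hG : IsZClosed Z G) :
    IsZClosed (f.base ⁻¹' Z) ((Scheme.Modules.pullback f).obj G) :=
  isZClosed_of_forall_isIso_toDiagram _ _ (fun T' =>
    isIso_of_isBasis _ (isBasis_affBasis f) (fun _ hV' =>
      bijective_res_pullback_cl f Z G hZ hG hV' T'))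

end Groth.Agent.H7.ZFlatBC
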